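import Mathlib
import Cfsg.Statements.S4249
import Cfsg.Agent.Lib.Helper7.Kegel
import Cfsg.Agent.Lib.Helper7.NilpotentSylow

set_option autoImplicit false
set_option linter.style.haveILetI false
open Cfsg
open Cfsg.Agent.Lib.Helper7 Cfsg.Agent.Lib.Helper3

namespace Cfsg.Agent.S4249

/-- conjugation by `x` is a splitting automorphism of a normal subgroup `N` when all elements of
the coset `N x` have `p`-th power `1` -/
theorem spl_conjNormal {G : Type*} [Group G] (N : Subgroup G) [N.Normal] (x : G) (p : ℕ)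
    (hx : x ^ p = 1) (h : ∀ n ∈ N, (n * x) ^ p = 1) :
    Spl (MulAut.conjNormal x : MulAut ↥N) p := by
  have hpow : ∀ k : ℕ, (MulAut.conjNormal x : MulAut ↥N) ^ k = MulAut.conjNormal (x ^ k) :=
    fun k => (map_pow _ _ _).symm
  constructor
  · rw [hpow, hx, map_one]
  · intro n
    have key : ∀ k : ℕ,
        ((tr (MulAut.conjNormal x : MulAut ↥N) k n : ↥N) : G) * x ^ k = ((n : G) * x) ^ k := by
      intro k
      induction k with
      | zero => simp [tr_zero]
      | succ k ih =>
        rw [tr_succ, Subgroup.coe_mul, hpow, MulAut.conjNormal_apply, pow_succ ((n : G) * x), ← ih,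
          pow_succ x]
        group
    have := key p
    rw [hx, mul_one, h n n.2] at this
    exact Subtype.ext this

/-- Let G be a finite group and p a prime such that G is not a p-group, and suppose the Hughes subgroup H_p(G), generated by all elements g with g^p ≠ 1, is a proper subgroup. Then H_p(G) is nilpotent and has index p in G. -/
theorem result {G : Type*} [Group G] [Finite G] (p : ℕ) (hp : p.Prime) (hG : ¬ IsPGroup p G)
    (hH : Subgroup.closure {g : G | g ^ p ≠ 1} ≠ ⊤) :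
    Group.IsNilpotent (Subgroup.closure {g : G | g ^ p ≠ 1}) ∧ (Subgroup.closure {g : G | g ^ p ≠ 1}).index = p := by
  classical
  haveI hp' : Fact p.Prime := ⟨hp⟩
  have hHn : (Subgroup.closure {g : G | g ^ p ≠ 1}).Normal := by
    have : Subgroup.closure {g : G | g ^ p ≠ 1} = Subgroup.normalClosure {g : G | g ^ p ≠ 1} := by
      rw [Subgroup.normalClosure]
      congr 1
      apply Set.Subset.antisymm Group.subset_conjugatesOfSet
      intro y hy
      obtain ⟨a, ha, hay⟩ := Group.mem_conjugatesOfSet_iff.1 hy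
      obtain ⟨c, hc⟩ := isConj_iff.1 hay
      show y ^ p ≠ 1
      rw [← hc, conj_pow]
      intro h
      exact ha (conj_eq_one_iff.1 h)
    rw [this]; infer_instance
  generalize hHdef : Subgroup.closure {g : G | g ^ p ≠ 1} = H at hH hHn ⊢
  haveI := hHn
  have hout : ∀ y : G, y ∉ H → y ^ p = 1 := by
    intro y hy
    by_contra h
    apply hy
    rw [← hHdef]
    exact Subgroup.subset_closure h
  obtain ⟨x, hx⟩ : ∃ x, x ∉ H := by
    by_contra h
    push Not at h
    exact hH (eq_top_iff.2 (fun y _ => h y))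
  have hxp := hout x hx
  have hmul_out : ∀ n ∈ H, ∀ y : G, y ∉ H → n * y ∉ H := by
    intro n hn y hy h
    apply hy
    have := H.mul_mem (H.inv_mem hn) h
    simpa using this
  -- nilpotency by Kegel's theorem
  have hnil : Group.IsNilpotent ↥H :=
    kegel hp _ ↥H rfl (MulAut.conjNormal x)
      (spl_conjNormal H x p hxp (fun n hn => hout _ (hmul_out n hn x hx)))
  refine ⟨hnil, ?_⟩
  -- the quotient is a `p`-group of exponent `p`
  have hexpQ : ∀ y : G ⧸ H, y ^ p = 1 := by
    intro y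
    induction y using QuotientGroup.induction_on with
    | H y =>
      by_cases hy : y ∈ H
      · have : (QuotientGroup.mk y : G ⧸ H) = 1 := (QuotientGroup.eq_one_iff y).2 hy
        rw [this, one_pow]
      · rw [← QuotientGroup.mk_pow, hout y hy]
        rfl
  have hPG : IsPGroup p (G ⧸ H) := fun y => ⟨1, by rw [pow_one]; exact hexpQ y⟩
  obtain ⟨m, hm⟩ := IsPGroup.iff_card.mp hPG
  have hidx : H.index = p ^ m := by rw [Subgroup.index_eq_card]; exact hm
  rw [hidx]
  by_contra hne
  have hm0 : m ≠ 0 := by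
    intro h0
    rw [h0, pow_zero] at hidx
    exact hH (Subgroup.index_eq_one.mp hidx)
  have hm2 : 2 ≤ m := by
    rcases Nat.lt_or_ge m 2 with h | h
    · exfalso
      have : m = 1 := by omega
      rw [this, pow_one] at hne
      exact hne rfl
    · exact h
  -- a prime `q ≠ p` dividing `|H|`
  obtain ⟨q, hq, hqd, hqp⟩ : ∃ q : ℕ, q.Prime ∧ q ∣ Nat.card G ∧ q ≠ p := by
    by_contra hcon
    push Not at hcon
    apply hG
    have : Nat.card G = p ^ (Nat.card G).primeFactorsList.length :=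
      Nat.eq_prime_pow_of_unique_prime_dvd Nat.card_pos.ne' (fun {d} hd hdvd => hcon d hd hdvd)
    exact IsPGroup.of_card this
  haveI : Fact q.Prime := ⟨hq⟩
  have hqH : q ∣ Nat.card ↥H := by
    have h1 : Nat.card G = Nat.card ↥H * H.index := (Subgroup.card_mul_index H).symm
    rw [h1, hidx] at hqd
    have hcop : Nat.Coprime q (p ^ m) := Nat.Coprime.pow_right m ((Nat.coprime_primes hq hp).mpr hqp)
    exact hcop.dvd_of_dvd_mul_right hqd
  -- the subgroup `U`
  let U : Subgroup G :=
    { carrier := {z | z ∈ H ∧ (∀ h ∈ H, h * z = z * h) ∧ ∃ k : ℕ, k.Coprime p ∧ z ^ k = 1}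
      mul_mem' := by
        rintro a b ⟨ha, hac, ma, hma, hae⟩ ⟨hb, hbc, mb, hmb, hbe⟩
        refine ⟨H.mul_mem ha hb, fun h hh => ?_, ma * mb, Nat.Coprime.mul_left hma hmb, ?_⟩
        · rw [← mul_assoc, hac h hh, mul_assoc, hbc h hh, mul_assoc]
        · have hcomm : Commute a b := hbc a ha
          rw [hcomm.mul_pow, pow_mul, hae, one_pow, mul_comm ma mb, pow_mul, hbe, one_pow, one_mul]
      one_mem' := ⟨H.one_mem, fun h _ => by simp, 1, Nat.coprime_one_left p, by simp⟩
      inv_mem' := by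
        rintro a ⟨ha, hac, ma, hma, hae⟩
        refine ⟨H.inv_mem ha, fun h hh => ?_, ma, hma, by rw [inv_pow, hae, inv_one]⟩
        have := hac h hh
        calc h * a⁻¹ = a⁻¹ * (a * h) * a⁻¹ := by group
          _ = a⁻¹ * (h * a) * a⁻¹ := by rw [this]
          _ = a⁻¹ * h := by group }
  have hUmem : ∀ z, z ∈ U ↔ z ∈ H ∧ (∀ h ∈ H, h * z = z * h) ∧ ∃ k : ℕ, k.Coprime p ∧ z ^ k = 1 :=
    fun z => Iff.rfl
  have hUH : U ≤ H := fun z hz => hz.1
  have hUn : U.Normal := by
    refine ⟨fun n hn g => ?_⟩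
    rw [hUmem] at hn ⊢
    obtain ⟨hnH, hnc, k, hk, hnk⟩ := hn
    refine ⟨hHn.conj_mem n hnH g, fun h hh => ?_, k, hk, by rw [conj_pow, hnk]; group⟩
    have hh' : g⁻¹ * h * g ∈ H := by
      have := hHn.conj_mem h hh g⁻¹
      simpa using this
    have h1 := hnc _ hh'
    calc h * (g * n * g⁻¹) = g * ((g⁻¹ * h * g) * n) * g⁻¹ := by group
      _ = g * (n * (g⁻¹ * h * g)) * g⁻¹ := by rw [h1]
      _ = g * n * g⁻¹ * h := by group
  haveI := hUn
  haveI hUc : IsMulCommutative ↥U :=
    ⟨⟨fun a b => Subtype.ext (((hUmem _).1 b.2).2.1 a (hUH a.2))⟩⟩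
  have hUcop : (Nat.card ↥U).Coprime p := by
    rw [Nat.coprime_comm, Nat.Prime.coprime_iff_not_dvd hp]
    intro hd
    obtain ⟨u, hu⟩ := exists_prime_orderOf_dvd_card' (G := ↥U) p hd
    obtain ⟨_, _, k, hk, huk⟩ := (hUmem _).1 u.2
    have h1 : u ^ k = 1 := Subtype.ext (by simpa using huk)
    have h2 : p ∣ k := by rw [← hu]; exact orderOf_dvd_of_pow_eq_one h1
    exact hp.one_lt.ne' (Nat.eq_one_of_dvd_coprimes hk.symm (dvd_refl p) h2)
  -- `U` is nontrivial
  have hU1 : ∃ u₀ : G, u₀ ∈ U ∧ u₀ ≠ 1 := by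
    haveI := hnil
    obtain ⟨Q⟩ : Nonempty (Sylow q ↥H) := inferInstance
    have hQ1 : (Q : Subgroup ↥H) ≠ ⊥ := Q.ne_bot_of_dvd_card hqH
    haveI : Nontrivial ↥(Q : Subgroup ↥H) := (Subgroup.nontrivial_iff_ne_bot _).mpr hQ1
    haveI := Q.isPGroup'.center_nontrivial
    obtain ⟨c, hc⟩ := exists_ne (1 : Subgroup.center ↥(Q : Subgroup ↥H))
    -- `c₀` is central in `H`
    have hcent : Subgroup.centralizer ({((c : ↥(Q : Subgroup ↥H)) : ↥H)} : Set ↥H) = ⊤ := by
      apply eq_top_of_forall_sylow_le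
      intro r hr
      by_cases hrq : r = q
      · subst hrq
        refine ⟨Q, ?_⟩
        intro y hy
        rw [Subgroup.mem_centralizer_iff]
        intro w hw
        rw [Set.mem_singleton_iff] at hw
        rw [hw]
        have h1 := Subgroup.mem_center_iff.mp c.2 ⟨y, hy⟩
        have h2 := congrArg Subtype.val h1
        exact h2.symm
      · obtain ⟨R⟩ : Nonempty (Sylow r ↥H) := inferInstance
        refine ⟨R, ?_⟩
        intro y hy
        rw [Subgroup.mem_centralizer_iff]
        intro w hw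
        rw [Set.mem_singleton_iff] at hw
        rw [hw]
        exact (sylow_commute_of_ne (Ne.symm hrq) Q R _ y (c : ↥(Q : Subgroup ↥H)).2 hy).eq
    refine ⟨(((c : ↥(Q : Subgroup ↥H)) : ↥H) : G), ?_, ?_⟩
    · rw [hUmem]
      refine ⟨(((c : ↥(Q : Subgroup ↥H)) : ↥H)).2, fun h hh => ?_, ?_⟩
      · have h1 : (⟨h, hh⟩ : ↥H) ∈ Subgroup.centralizer
            ({((c : ↥(Q : Subgroup ↥H)) : ↥H)} : Set ↥H) := by rw [hcent]; exact Subgroup.mem_top _
        rw [Subgroup.mem_centralizer_iff] at h1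
        have h2 := h1 _ rfl
        have h3 := congrArg Subtype.val h2
        exact h3.symm
      · obtain ⟨k, hk⟩ := Q.isPGroup' (c : ↥(Q : Subgroup ↥H))
        refine ⟨q ^ k, Nat.Coprime.pow_left k ((Nat.coprime_primes hq hp).mpr hqp), ?_⟩
        have h2 := congrArg Subtype.val (congrArg Subtype.val hk)
        simpa using h2
    · intro h
      apply hc
      apply Subtype.ext
      apply Subtype.ext
      apply Subtype.ext
      exact h
  obtain ⟨u₀, hu₀U, hu₀1⟩ := hU1
  -- `H` acts trivially on `U`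
  have hker : ∀ h ∈ H, (MulAut.conjNormal h : MulAut ↥U) = 1 := by
    intro h hh
    ext u
    rw [MulAut.conjNormal_apply, MulAut.one_apply]
    have := ((hUmem _).1 u.2).2.1 h hh
    rw [this, mul_assoc, mul_inv_cancel, mul_one]
  -- elements outside `H` act fixed-point-freely on `U`
  have hfpf : ∀ y : G, y ∉ H → ∀ u ∈ U, y * u * y⁻¹ = u → u = 1 := by
    intro y hy u hu huy
    have hcomm : Commute u y := by
      have : y * u = u * y := mul_inv_eq_iff_eq_mul.mp huy
      exact this.symm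
    have h1 : (u * y) ^ p = 1 := hout _ (hmul_out u (hUH hu) y hy)
    rw [hcomm.mul_pow, hout y hy, mul_one] at h1
    obtain ⟨_, _, k, hk, huk⟩ := (hUmem _).1 hu
    have h2 : orderOf u ∣ p := orderOf_dvd_of_pow_eq_one h1
    have h3 : orderOf u ∣ k := orderOf_dvd_of_pow_eq_one huk
    exact orderOf_eq_one_iff.mp (Nat.eq_one_of_dvd_coprimes hk h3 h2)
  -- a central element of the quotient
  haveI : Nontrivial (G ⧸ H) := by
    rw [← Finite.one_lt_card_iff_nontrivial, hm]
    exact Nat.one_lt_pow hm0 hp.one_lt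
  haveI := hPG.center_nontrivial
  obtain ⟨zb, hzb⟩ := exists_ne (1 : Subgroup.center (G ⧸ H))
  have hzb1 : (zb : G ⧸ H) ≠ 1 := fun h => hzb (Subtype.ext h)
  have hzbord : orderOf (zb : G ⧸ H) = p := orderOf_eq_prime (hexpQ _) hzb1
  have hzp_ne : Subgroup.zpowers (zb : G ⧸ H) ≠ ⊤ := by
    intro htop
    have h1 : Nat.card (Subgroup.zpowers (zb : G ⧸ H)) = p := by
      rw [Nat.card_zpowers, hzbord]
    rw [htop, Subgroup.card_top, hm] at h1
    have h2 : p ^ m = p ^ 1 := by rw [pow_one]; exact h1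
    have := Nat.pow_right_injective hp.two_le h2
    omega
  obtain ⟨yb, hyb⟩ : ∃ yb : G ⧸ H, yb ∉ Subgroup.zpowers (zb : G ⧸ H) := by
    by_contra h
    push Not at h
    exact hzp_ne (eq_top_iff.2 (fun y _ => h y))
  obtain ⟨z, hz⟩ := QuotientGroup.mk_surjective (zb : G ⧸ H)
  obtain ⟨y, hy⟩ := QuotientGroup.mk_surjective yb
  have hzH : z ∉ H := by
    intro h
    apply hzb1
    rw [← hz]
    exact (QuotientGroup.eq_one_iff z).2 h
  have hzy : ∀ j : ℕ, z ^ j * y ∉ H := by
    intro j h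
    apply hyb
    have h1 : (QuotientGroup.mk (z ^ j * y) : G ⧸ H) = 1 := (QuotientGroup.eq_one_iff _).2 h
    rw [QuotientGroup.mk_mul, QuotientGroup.mk_pow, hz, hy] at h1
    have h2 : yb = ((zb : G ⧸ H) ^ j)⁻¹ := (inv_eq_of_mul_eq_one_right h1).symm
    rw [h2]
    exact Subgroup.inv_mem _ (Subgroup.pow_mem _ (Subgroup.mem_zpowers _) j)
  -- the commutator of `z` and `y` lies in `H`
  have hh₀ : (y * z)⁻¹ * (z * y) ∈ H := by
    rw [← QuotientGroup.eq_one_iff, QuotientGroup.mk_mul, QuotientGroup.mk_inv,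
      QuotientGroup.mk_mul, QuotientGroup.mk_mul, hz, hy]
    have := Subgroup.mem_center_iff.mp zb.2 yb
    rw [this, inv_mul_cancel]
  have hcomm : Commute (MulAut.conjNormal z : MulAut ↥U) (MulAut.conjNormal y) := by
    show (MulAut.conjNormal z : MulAut ↥U) * MulAut.conjNormal y
      = MulAut.conjNormal y * MulAut.conjNormal z
    rw [← map_mul, ← map_mul]
    have h1 : z * y = y * z * ((y * z)⁻¹ * (z * y)) := by group
    rw [h1, map_mul, hker _ hh₀, mul_one]
  have hζp : (MulAut.conjNormal z : MulAut ↥U) ^ p = 1 := by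
    rw [← map_pow, hout z hzH, map_one]
  have htr : ∀ j, j < p → ∀ u : ↥U,
      tr ((MulAut.conjNormal z : MulAut ↥U) ^ j * MulAut.conjNormal y) p u = 1 := by
    intro j _ u
    rw [← map_pow, ← map_mul]
    exact (spl_conjNormal U (z ^ j * y) p (hout _ (hzy j))
      (fun n hn => hout _ (hmul_out n (hUH hn) _ (hzy j)))).split u
  have hfix := rr_trivial' (MulAut.conjNormal z : MulAut ↥U) (MulAut.conjNormal y) hcomm hp hζp
    hUcop htr
  have h1 := congrArg Subtype.val (hfix ⟨u₀, hu₀U⟩)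
  rw [MulAut.conjNormal_apply] at h1
  exact hu₀1 (hfpf z hzH u₀ hu₀U h1)

end Cfsg.Agent.S4249
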