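import Cfsg.Statements.S4251
import Cfsg.Agent.S0116
import Cfsg.Agent.S1946
import Cfsg.Agent.Lib.Helper2.Index

set_option autoImplicit false
open Cfsg

namespace Cfsg.Agent.S4251


/-- If `N_G(H)/C_G(H)` is a `p`-group and `S ≤ N_G(H)` has index prime to `p`, then
`N_G(H) = S C_G(H)`. -/
theorem exists_mul_of_pgroup_quotient {G : Type*} [Group G] [Finite G] {p : ℕ} [Fact p.Prime]
    (H S : Subgroup G) (hSN : S ≤ Subgroup.normalizer (H : Set G))
    (hidx : ¬ p ∣ S.relIndex (Subgroup.normalizer (H : Set G)))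
    (hq : IsPGroup p (Subgroup.normalizer (H : Set G) ⧸
      (Subgroup.centralizer (H : Set G)).subgroupOf (Subgroup.normalizer (H : Set G))))
    (x : G) (hx : x ∈ Subgroup.normalizer (H : Set G)) :
    ∃ t ∈ S, ∃ c ∈ Subgroup.centralizer (H : Set G), x = t * c := by
  have hp : p.Prime := Fact.out
  obtain ⟨N, hNdef⟩ : ∃ N : Subgroup G, N = Subgroup.normalizer (H : Set G) := ⟨_, rfl⟩
  obtain ⟨C, hCdef⟩ : ∃ C : Subgroup G, C = Subgroup.centralizer (H : Set G) := ⟨_, rfl⟩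
  have hn : (C.subgroupOf N).Normal := by rw [hNdef, hCdef]; infer_instance
  rw [← hNdef] at hSN hidx hx
  have hq' : IsPGroup p (N ⧸ C.subgroupOf N) := by
    subst hNdef; subst hCdef; exact hq
  rw [← hCdef]
  have hCN : C ≤ N := by rw [hNdef, hCdef]; exact Subgroup.centralizer_le_normalizer _
  have hSC : S ≤ Subgroup.normalizer (C : Set G) := by
    intro s hs
    have key : ∀ s' ∈ N, ∀ c ∈ C, s' * c * s'⁻¹ ∈ C := by
      intro s' hs' c hc
      have := hn.conj_mem ⟨c, hCN hc⟩ (by rw [Subgroup.mem_subgroupOf]; exact hc) ⟨s', hs'⟩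
      rw [Subgroup.mem_subgroupOf] at this
      simpa using this
    rw [Subgroup.mem_normalizer_iff]
    intro c
    constructor
    · exact key s (hSN hs) c
    · intro hc
      have := key s⁻¹ (N.inv_mem (hSN hs)) _ hc
      have e : s⁻¹ * (s * c * s⁻¹) * s⁻¹⁻¹ = c := by group
      rw [e] at this
      exact this
  have hMN : S ⊔ C ≤ N := sup_le hSN hCN
  have h1 : (S ⊔ C).relIndex N ∣ S.relIndex N := Subgroup.relIndex_dvd_of_le_left N le_sup_left
  have h2 : (S ⊔ C).relIndex N ∣ C.relIndex N := Subgroup.relIndex_dvd_of_le_left N le_sup_right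
  obtain ⟨k, hk⟩ := IsPGroup.iff_card.1 hq'
  have h3 : C.relIndex N = p ^ k := by
    rw [← hk]
    show (C.subgroupOf N).index = _
    exact Subgroup.index_eq_card _
  rw [h3] at h2
  obtain ⟨j, _, hj⟩ := (Nat.dvd_prime_pow hp).1 h2
  have hj0 : j = 0 := by
    by_contra hne
    apply hidx
    refine dvd_trans ?_ h1
    rw [hj]
    exact dvd_pow_self p hne
  rw [hj0, pow_zero, Subgroup.relIndex_eq_one] at hj
  exact Cfsg.Agent.Lib.Helper2.exists_mul_of_mem_sup_of_le_normalizer hSC (hj hx)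

/-- Let P be a Sylow p-subgroup of a finite group G. Call an intersection H = P ∩ Q with a Sylow p-subgroup Q tame when N_P(H) and N_Q(H) are Sylow p-subgroups of N_G(H). If N_G(H)/C_G(H) is a p-group for every nontrivial tame intersection H = P ∩ Q, then G has a normal p-complement. -/
theorem result {G : Type*} [Group G] [Finite G] (p : ℕ) [Fact p.Prime] (P : Sylow p G)
    (h : ∀ Q : Sylow p G, (P : Subgroup G) ⊓ (Q : Subgroup G) ≠ ⊥ → (¬ p ∣ ((P : Subgroup G) ⊓ Subgroup.normalizer (((P : Subgroup G) ⊓ (Q : Subgroup G) : Subgroup G) : Set G)).relIndex (Subgroup.normalizer (((P : Subgroup G) ⊓ (Q : Subgroup G) : Subgroup G) : Set G)) ∧ ¬ p ∣ ((Q : Subgroup G) ⊓ Subgroup.normalizer (((P : Subgroup G) ⊓ (Q : Subgroup G) : Subgroup G) : Set G)).relIndex (Subgroup.normalizer (((P : Subgroup G) ⊓ (Q : Subgroup G) : Subgroup G) : Set G))) →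
      IsPGroup p (Subgroup.normalizer (((P : Subgroup G) ⊓ (Q : Subgroup G) : Subgroup G) : Set G) ⧸
        (Subgroup.centralizer (((P : Subgroup G) ⊓ (Q : Subgroup G) : Subgroup G) : Set G)).subgroupOf
          (Subgroup.normalizer (((P : Subgroup G) ⊓ (Q : Subgroup G) : Subgroup G) : Set G)))) :
    Cfsg.HasNormalPComplement p G := by
  apply (Cfsg.Agent.S1946.result P).2
  intro a ha _ g hg
  by_cases ha1 : a = 1
  · exact ⟨1, Subgroup.one_mem _, by rw [ha1]; group⟩
  have hA : ({a} : Set G) ⊆ (P : Set G) := by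
    intro y hy
    rw [Set.mem_singleton_iff] at hy
    rw [hy]; exact ha
  have hAg : (fun y => (g⁻¹)⁻¹ * y * g⁻¹) '' {a} ⊆ (P : Set G) := by
    rintro _ ⟨y, hy, rfl⟩
    rw [Set.mem_singleton_iff] at hy
    rw [hy, inv_inv]; exact hg
  obtain ⟨n, Q, x, hprod, hx, h0, hstep⟩ := Cfsg.Agent.S0116.result P {a} g⁻¹ hA hAg
  have key : ∀ i : ℕ, i ≤ n → ∃ y ∈ (P : Subgroup G),
      (((List.ofFn x).take i).prod)⁻¹ * a * ((List.ofFn x).take i).prod = y * a * y⁻¹ := by
    intro i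
    induction i with
    | zero => intro _; exact ⟨1, Subgroup.one_mem _, by simp⟩
    | succ i ih =>
      intro hi
      have hi' : i < n := by omega
      obtain ⟨y, hy, hyeq⟩ := ih (by omega)
      have hlen : i < (List.ofFn x).length := by rw [List.length_ofFn]; exact hi'
      rw [List.prod_take_succ _ _ hlen]
      have hget : (List.ofFn x)[i] = x ⟨i, hi'⟩ := by simp
      rw [hget]
      obtain ⟨π, hπ⟩ : ∃ π : G, π = ((List.ofFn x).take i).prod := ⟨_, rfl⟩
      rw [← hπ] at hyeq ⊢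
      obtain ⟨b, hb⟩ : ∃ b : G, b = π⁻¹ * a * π := ⟨_, rfl⟩
      have hbH : b ∈ (P : Subgroup G) ⊓ (Q ⟨i, hi'⟩ : Subgroup G) := by
        rcases Nat.eq_zero_or_pos i with h00 | hpos
        · subst h00
          have h1 := h0 (by omega) (Set.mem_singleton a)
          have hπ1 : π = 1 := by rw [hπ]; simp
          have e : b = a := by rw [hb, hπ1]; group
          rw [e]
          exact h1
        · obtain ⟨j, rfl⟩ : ∃ j, i = j + 1 := ⟨i - 1, by omega⟩
          have h1 := hstep ⟨j, by omega⟩ hi' ⟨a, Set.mem_singleton a, rfl⟩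
          rw [hb, hπ]
          exact h1
      have hb1 : b ≠ 1 := by
        intro h1
        apply ha1
        have : a = π * b * π⁻¹ := by rw [hb]; group
        rw [this, h1]; group
      have hne : (P : Subgroup G) ⊓ (Q ⟨i, hi'⟩ : Subgroup G) ≠ ⊥ := by
        intro hbot
        rw [hbot, Subgroup.mem_bot] at hbH
        exact hb1 hbH
      obtain ⟨hxN, ht1, ht2⟩ := hx ⟨i, hi'⟩
      have hq := h (Q ⟨i, hi'⟩) hne ⟨ht1, ht2⟩
      obtain ⟨t, ht, c, hc, hxtc⟩ := exists_mul_of_pgroup_quotient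
        ((P : Subgroup G) ⊓ (Q ⟨i, hi'⟩ : Subgroup G))
        ((P : Subgroup G) ⊓ Subgroup.normalizer
          ((((P : Subgroup G) ⊓ (Q ⟨i, hi'⟩ : Subgroup G)) : Subgroup G) : Set G))
        inf_le_right ht1 hq (x ⟨i, hi'⟩) hxN
      have htb : t⁻¹ * b * t⁻¹⁻¹ ∈ (P : Subgroup G) ⊓ (Q ⟨i, hi'⟩ : Subgroup G) :=
        (Subgroup.mem_normalizer_iff.1 (Subgroup.inv_mem _ ht.2) b).1 hbH
      have hcb := (Subgroup.mem_centralizer_iff.1 hc) _ htb
      refine ⟨t⁻¹ * y, Subgroup.mul_mem _ (Subgroup.inv_mem _ ht.1) hy, ?_⟩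
      have e1 : (π * x ⟨i, hi'⟩)⁻¹ * a * (π * x ⟨i, hi'⟩)
          = c⁻¹ * ((t⁻¹ * b * t⁻¹⁻¹) * c) := by rw [hxtc, hb]; group
      rw [e1, hcb]
      have e2 : c⁻¹ * (c * (t⁻¹ * b * t⁻¹⁻¹)) = t⁻¹ * (π⁻¹ * a * π) * t := by rw [hb]; group
      rw [e2, hyeq]
      group
  obtain ⟨y, hy, hyeq⟩ := key n le_rfl
  have htake : (List.ofFn x).take n = List.ofFn x := by
    apply List.take_of_length_le
    rw [List.length_ofFn]
  rw [htake, hprod, inv_inv] at hyeq
  exact ⟨y, hy, hyeq⟩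

end Cfsg.Agent.S4251
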