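import Cfsg.Statements.S4253
import Cfsg.Agent.Lib.Helper7.Conj

set_option autoImplicit false
open Cfsg
open scoped Pointwise

namespace Cfsg.Agent.S4253

open Cfsg.Agent.Lib.Helper7

theorem result {G : Type*} [Group G] [Finite G] (H : Subgroup G) (hH : Cfsg.IsFrobeniusComplement H)
    (g : G) (hg : g ≠ 1) (a b : G ⧸ H) (ha : g • a = a) (hb : g • b = b) : a = b := by
  induction a using QuotientGroup.induction_on with
  | H x =>
  induction b using QuotientGroup.induction_on with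
  | H y =>
  by_contra hne
  have hx : x⁻¹ * g⁻¹ * x ∈ H := by
    have : ((g * x : G) : G ⧸ H) = (x : G ⧸ H) := ha
    rw [QuotientGroup.eq] at this
    simpa [mul_assoc] using this
  have hy : y⁻¹ * g⁻¹ * y ∈ H := by
    have : ((g * y : G) : G ⧸ H) = (y : G ⧸ H) := hb
    rw [QuotientGroup.eq] at this
    simpa [mul_assoc] using this
  have hc : x⁻¹ * y ∉ H := by
    intro h
    apply hne
    rw [QuotientGroup.eq]
    exact h
  have hbot := hH.2.2 (x⁻¹ * y) hc
  have hmem : x⁻¹ * g⁻¹ * x ∈ H ⊓ (MulAut.conj (x⁻¹ * y) • H) := by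
    refine Subgroup.mem_inf.2 ⟨hx, ?_⟩
    rw [mem_conj_smul]
    have : (x⁻¹ * y)⁻¹ * (x⁻¹ * g⁻¹ * x) * (x⁻¹ * y) = y⁻¹ * g⁻¹ * y := by group
    rw [this]
    exact hy
  rw [hbot, Subgroup.mem_bot] at hmem
  apply hg
  have : g⁻¹ = 1 := by
    have h2 := congrArg (fun t => x * t * x⁻¹) hmem
    simpa [mul_assoc] using h2
  exact inv_eq_one.mp this

end Cfsg.Agent.S4253
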