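import Cfsg.Statements.S4261
import Cfsg.Agent.S0048

set_option autoImplicit false
open Cfsg

namespace Cfsg.Agent.S4261

/-- Let M be a maximal subgroup of a finite solvable group G such that x^[G : M] lies in M for every x in G. Then M is normal in G. -/
theorem result {G : Type*} [Group G] [Finite G] (hG : Group.IsSolvable G) (M : Subgroup G) (hM : IsCoatom M)
    (hexp : ∀ x : G, x ^ M.index ∈ M) : M.Normal := by
  have := hG
  obtain ⟨p, k, hp, hk, hpk⟩ := Cfsg.Agent.S0048.result M hM
  have hp' : p.Prime := Nat.prime_iff.mpr hp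
  have : Fact p.Prime := ⟨hp'⟩
  set N := M.normalCore with hN
  have : N.Normal := Subgroup.normalCore_normal M
  have hNM : N ≤ M := Subgroup.normalCore_le M
  have hx : ∀ x : G, x ^ (p ^ k) ∈ N := by
    intro x
    show x ^ (p ^ k) ∈ M.normalCore
    intro b
    have := hexp (b * x * b⁻¹)
    rw [conj_pow, ← hpk] at this
    exact this
  have hpg : IsPGroup p (G ⧸ N) := by
    intro y
    obtain ⟨x, rfl⟩ := QuotientGroup.mk_surjective y
    refine ⟨k, ?_⟩
    rw [← QuotientGroup.mk_pow]
    exact (QuotientGroup.eq_one_iff _).mpr (hx x)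
  have : Group.IsNilpotent (G ⧸ N) := hpg.isNilpotent
  have hco := Cfsg.Agent.S0048.isCoatom_map_mk_of_le N hM hNM
  have hnorm : (M.map (QuotientGroup.mk' N)).Normal :=
    Subgroup.NormalizerCondition.normal_of_coatom _ (Group.normalizerCondition_of_isNilpotent (G := G ⧸ N)) hco
  have hcm : (M.map (QuotientGroup.mk' N)).comap (QuotientGroup.mk' N) = M := by
    rw [Subgroup.comap_map_eq, QuotientGroup.ker_mk', sup_of_le_left hNM]
  rw [← hcm]
  exact hnorm.comap _

end Cfsg.Agent.S4261
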