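import Cfsg.Statements.S4262
import Cfsg.Agent.Lib.Helper4.MaxCent

set_option autoImplicit false
open Cfsg

namespace Cfsg.Agent.S4262

/-- Let G be a finite group in which the centralizer of every non-central element is a maximal subgroup of G. Then G is solvable. -/
theorem result {G : Type*} [Group G] [Finite G]
    (h : ∀ g : G, g ∉ Subgroup.center G → IsCoatom (Subgroup.centralizer ({g} : Set G))) :
    Group.IsSolvable G := by
  by_cases hc : IsMulCommutative G
  · exact Group.isSolvable_of_comm (fun a b => hc.is_comm.comm a b)
  · have hQ : Group.IsSolvable (G ⧸ Subgroup.center G) := by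
      rcases Cfsg.Agent.Lib.Helper4.mc_main h hc with ⟨p, hp, hE⟩ | ⟨-, hprop, p, q, a, hp, hq, hpq, hcard, hnorm⟩
      · have hcm := hE.1
        exact Group.isSolvable_of_comm (fun u v =>
          congrArg Subtype.val (hcm.is_comm.comm ⟨u, Subgroup.mem_top u⟩ ⟨v, Subgroup.mem_top v⟩))
      · haveI : Fact p.Prime := ⟨hp⟩
        obtain ⟨P, hP⟩ := Sylow.exists_subgroup_card_pow_prime p
          (show p ^ a ∣ Nat.card (G ⧸ Subgroup.center G) from ⟨q, hcard⟩)
        haveI hPn : P.Normal := hnorm P hP
        have hPtop : P ≠ ⊤ := by
          intro ht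
          rw [ht, Subgroup.card_top, hcard] at hP
          have h1 : 0 < p ^ a := pow_pos hp.pos a
          have h2 := hq.two_le
          nlinarith
        haveI hPc : IsMulCommutative ↥P := hprop P hPtop
        have hPs : Group.IsSolvable ↥P :=
          Group.isSolvable_of_comm (fun u v => hPc.is_comm.comm u v)
        have hqcard : Nat.card ((G ⧸ Subgroup.center G) ⧸ P) = q := by
          have h1 := Subgroup.card_eq_card_quotient_mul_card_subgroup P
          rw [hcard, hP] at h1
          have h2 : 0 < p ^ a := pow_pos hp.pos a
          have h3 : p ^ a * q = p ^ a * Nat.card ((G ⧸ Subgroup.center G) ⧸ P) := by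
            rw [h1]; ring
          exact (Nat.eq_of_mul_eq_mul_left h2 h3).symm
        haveI : Fact q.Prime := ⟨hq⟩
        haveI : IsCyclic ((G ⧸ Subgroup.center G) ⧸ P) := isCyclic_of_prime_card hqcard
        have hQs : Group.IsSolvable ((G ⧸ Subgroup.center G) ⧸ P) :=
          Group.isSolvable_of_comm (fun u v => (IsCyclic.commGroup).mul_comm u v)
        exact Group.isSolvable_of_ker_le_range P.subtype (QuotientGroup.mk' P) (by
          rw [QuotientGroup.ker_mk', Subgroup.range_subtype])
    have hZs : Group.IsSolvable ↥(Subgroup.center G) :=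
      Group.isSolvable_of_comm (fun u v => Subtype.ext ((Subgroup.mem_center_iff.1 v.2) u.1))
    exact Group.isSolvable_of_ker_le_range (Subgroup.center G).subtype
      (QuotientGroup.mk' (Subgroup.center G)) (by
        rw [QuotientGroup.ker_mk', Subgroup.range_subtype])

end Cfsg.Agent.S4262
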