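import Cfsg.Statements.S4263
import Mathlib
import Cfsg.Agent.Lib.Helper1.Fitting2

set_option autoImplicit false
open Cfsg

namespace Cfsg.Agent.S4263

open Cfsg Cfsg.Agent.Lib.Helper1
open scoped Pointwise

/-- in a finite nilpotent group, `x ^ [N : M] ∈ M` -/
theorem nil_pow_index {N : Type*} [Group N] [Finite N] [Group.IsNilpotent N] :
    ∀ (n : ℕ) (M : Subgroup N), M.index = n → ∀ x : N, x ^ M.index ∈ M := by
  intro n
  induction n using Nat.strong_induction_on with
  | _ n ih =>
    intro M hM x
    by_cases htop : M = ⊤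
    · rw [htop]; exact Subgroup.mem_top _
    have hlt : M < Subgroup.normalizer (M : Set N) :=
      Group.normalizerCondition_of_isNilpotent M (lt_top_iff_ne_top.2 htop)
    obtain ⟨M', hM'⟩ : ∃ M', M' = Subgroup.normalizer (M : Set N) := ⟨_, rfl⟩
    rw [← hM'] at hlt
    have hmul : M.relIndex M' * M'.index = M.index := Subgroup.relIndex_mul_index hlt.le
    have hrel : 1 < M.relIndex M' := by
      by_contra hcon
      push Not at hcon
      have hpos : 0 < M.relIndex M' := Nat.pos_of_ne_zero (Subgroup.index_ne_zero_of_finite (H := M.subgroupOf M'))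
      have h1 : M.relIndex M' = 1 := by omega
      rw [Subgroup.relIndex_eq_one] at h1
      exact (not_le_of_gt hlt) h1
    have hidx : M'.index < n := by
      rw [← hM, ← hmul]
      have hpos : 0 < M'.index := Nat.pos_of_ne_zero Subgroup.index_ne_zero_of_finite
      nlinarith
    have h1 : x ^ M'.index ∈ M' := ih _ hidx M' rfl x
    haveI : (M.subgroupOf M').Normal := by
      rw [hM']; exact Subgroup.normal_in_normalizer
    have h2 : ∀ y : M', y ^ M.relIndex M' ∈ M.subgroupOf M' := by
      intro y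
      rw [← QuotientGroup.eq_one_iff, QuotientGroup.mk_pow]
      have : M.relIndex M' = Nat.card (M' ⧸ M.subgroupOf M') := by
        rw [Subgroup.relIndex, Subgroup.index_eq_card]
      rw [this]
      exact pow_card_eq_one'
    have h3 := h2 ⟨x ^ M'.index, h1⟩
    rw [Subgroup.mem_subgroupOf] at h3
    rw [← hmul, mul_comm, pow_mul]
    simpa using h3

/-- for `F` normal, `|F : F ∩ H|` divides `|G : H|` -/
theorem relIndex_dvd_index_of_normal_right {G : Type*} [Group G] [Finite G] (H F : Subgroup G)
    [F.Normal] : H.relIndex F ∣ H.index := by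
  have h1 : F.relIndex (H ⊔ F) = F.relIndex H := Subgroup.relIndex_sup_right H F
  have c1 : Nat.card F * F.relIndex (H ⊔ F) = Nat.card (H ⊔ F : Subgroup G) := by
    have := Subgroup.relIndex_mul_relIndex (⊥ : Subgroup G) F (H ⊔ F) bot_le le_sup_right
    rwa [Subgroup.relIndex_bot_left, Subgroup.relIndex_bot_left] at this
  have c2 : Nat.card H * H.relIndex (H ⊔ F) = Nat.card (H ⊔ F : Subgroup G) := by
    have := Subgroup.relIndex_mul_relIndex (⊥ : Subgroup G) H (H ⊔ F) bot_le le_sup_left
    rwa [Subgroup.relIndex_bot_left, Subgroup.relIndex_bot_left] at this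
  have c3 : Nat.card (H ⊓ F : Subgroup G) * F.relIndex H = Nat.card H := by
    have := Subgroup.relIndex_mul_relIndex (⊥ : Subgroup G) (H ⊓ F) H bot_le inf_le_left
    rwa [Subgroup.relIndex_bot_left, Subgroup.relIndex_bot_left, Subgroup.inf_relIndex_left] at this
  have c4 : Nat.card (H ⊓ F : Subgroup G) * H.relIndex F = Nat.card F := by
    have := Subgroup.relIndex_mul_relIndex (⊥ : Subgroup G) (H ⊓ F) F bot_le inf_le_right
    rwa [Subgroup.relIndex_bot_left, Subgroup.relIndex_bot_left, Subgroup.inf_relIndex_right] at this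
  have hpos1 : 0 < Nat.card (H ⊓ F : Subgroup G) := Nat.card_pos
  have hpos2 : 0 < F.relIndex H := Nat.pos_of_ne_zero (Subgroup.index_ne_zero_of_finite (H := F.subgroupOf H))
  have heq : H.relIndex (H ⊔ F) = H.relIndex F := by
    have e1 : Nat.card (H ⊓ F : Subgroup G) * F.relIndex H * H.relIndex (H ⊔ F) =
        Nat.card (H ⊓ F : Subgroup G) * F.relIndex H * H.relIndex F := by
      calc Nat.card (H ⊓ F : Subgroup G) * F.relIndex H * H.relIndex (H ⊔ F)
          = Nat.card H * H.relIndex (H ⊔ F) := by rw [c3]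
        _ = Nat.card F * F.relIndex (H ⊔ F) := by rw [c2, c1]
        _ = Nat.card (H ⊓ F : Subgroup G) * H.relIndex F * F.relIndex H := by rw [h1, c4]
        _ = Nat.card (H ⊓ F : Subgroup G) * F.relIndex H * H.relIndex F := by ring
    exact Nat.eq_of_mul_eq_mul_left (Nat.mul_pos hpos1 hpos2) e1
  rw [← heq]
  exact Subgroup.relIndex_dvd_index_of_le le_sup_left


theorem main4263 {G : Type*} [Group G] [Finite G] (x : G) :
    x ∈ Cfsg.fittingSubgroup G ↔ ∀ H : Subgroup G, x ^ H.index ∈ H := by
  rw [fitting_eq_pCoreSup]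
  haveI hFn : (pCoreSup G).Normal := pCoreSup_normal
  haveI hFnil : Group.IsNilpotent (pCoreSup G) := pCoreSup_isNilpotent
  constructor
  · intro hx H
    have h1 := nil_pow_index (N := pCoreSup G) _ (H.subgroupOf (pCoreSup G)) rfl ⟨x, hx⟩
    rw [Subgroup.mem_subgroupOf] at h1
    have h2 : x ^ H.relIndex (pCoreSup G) ∈ H := by simpa [Subgroup.relIndex] using h1
    obtain ⟨k, hk⟩ := relIndex_dvd_index_of_normal_right H (pCoreSup G)
    rw [hk, pow_mul]
    exact H.pow_mem h2 k
  · intro hx
    rw [← QuotientGroup.eq_one_iff]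
    by_contra hne
    have hd : orderOf (x : G ⧸ pCoreSup G) ≠ 1 := by
      rw [Ne, orderOf_eq_one_iff]; exact hne
    obtain ⟨p, hp, hpd⟩ := Nat.exists_prime_and_dvd hd
    haveI : Fact p.Prime := ⟨hp⟩
    obtain ⟨P₀⟩ : Nonempty (Sylow p G) := inferInstance
    obtain ⟨m, hm⟩ : ∃ m, m = (P₀ : Subgroup G).index := ⟨_, rfl⟩
    have hidx : ∀ Q : Sylow p G, (Q : Subgroup G).index = m := by
      intro Q
      have h1 := Subgroup.card_mul_index (Q : Subgroup G)
      have h2 := Subgroup.card_mul_index (P₀ : Subgroup G)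
      have h3 : Nat.card (Q : Subgroup G) = Nat.card (P₀ : Subgroup G) := by
        rw [Sylow.card_eq_multiplicity, Sylow.card_eq_multiplicity]
      rw [← h2, h3, ← hm] at h1
      exact Nat.eq_of_mul_eq_mul_left Nat.card_pos h1
    have hy : ∀ Q : Sylow p G, x ^ m ∈ (Q : Subgroup G) := by
      intro Q
      rw [← hidx Q]; exact hx Q
    -- the normal closure of x^m lies in P₀
    have hnc : Subgroup.normalClosure ({x ^ m} : Set G) ≤ (P₀ : Subgroup G) := by
      unfold Subgroup.normalClosure
      rw [Subgroup.closure_le]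
      intro z hz
      rw [Group.mem_conjugatesOfSet_iff] at hz
      obtain ⟨b, hb, hbz⟩ := hz
      rw [Set.mem_singleton_iff] at hb
      subst hb
      rw [isConj_iff] at hbz
      obtain ⟨g, hg⟩ := hbz
      have h1 := hy (g⁻¹ • P₀)
      rw [Sylow.coe_subgroup_smul, Subgroup.mem_pointwise_smul_iff_inv_smul_mem] at h1
      rw [← hg]
      have h2 : g * x ^ m * g⁻¹ ∈ (P₀ : Subgroup G) := by simpa [MulAut.smul_def] using h1
      exact h2
    have hle : Subgroup.normalClosure ({x ^ m} : Set G) ≤ pCoreSup G := by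
      refine le_trans (le_pCore _ Subgroup.normalClosure_normal ?_) (pCore_le_pCoreSup hp)
      exact P₀.isPGroup'.to_le hnc
    have hxm : x ^ m ∈ pCoreSup G := hle (Subgroup.subset_normalClosure (Set.mem_singleton _))
    have h1 : ((x : G ⧸ pCoreSup G)) ^ m = 1 := by
      rw [← QuotientGroup.mk_pow, QuotientGroup.eq_one_iff]; exact hxm
    have h2 : orderOf (x : G ⧸ pCoreSup G) ∣ m := orderOf_dvd_of_pow_eq_one h1
    have h3 : p ∣ (P₀ : Subgroup G).index := by rw [← hm]; exact dvd_trans hpd h2
    exact P₀.not_dvd_index h3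



/-- Let G be a finite group. An element x lies in the Fitting subgroup F(G) if and only if, for every subgroup H of G, the power x^[G : H] lies in H. -/
theorem result {G : Type*} [Group G] [Finite G] (x : G) :
    x ∈ Cfsg.fittingSubgroup G ↔ ∀ H : Subgroup G, x ^ H.index ∈ H := by
  exact main4263 x

end Cfsg.Agent.S4263
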