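import Cfsg.Statements.S4269
import Cfsg.Agent.Lib.Helper4.ConjSub
import Cfsg.Agent.Lib.Helper4.SZ
import Cfsg.Agent.Lib.Helper4.Schmidt
import Cfsg.Agent.Lib.Helper4.CoprimeAct
import Cfsg.Agent.Lib.Helper2.Index
import Cfsg.Agent.Lib.Helper3.PQ

set_option autoImplicit false
open Cfsg

namespace Cfsg.Agent.S4269

open scoped commutatorElement
open Cfsg.Agent.Lib.Helper4 in
/-- Let G be a finite group, V an abelian normal subgroup and H a subgroup with HV = G. Then H is pronormal in G (H and gHg⁻¹ are conjugate inside the subgroup they generate, for every g) if and only if every H-invariant subgroup U of V satisfies U = N_U(H)·[H, U], that is, U is the join of U ∩ N_G(H) and the commutator subgroup [H, U]. -/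
theorem result {G : Type*} [Group G] [Finite G]
    (V : Subgroup G) [V.Normal] (hV : IsMulCommutative ↥V) (H : Subgroup G) (hHV : H ⊔ V = ⊤) :
    Cfsg.IsPronormal H ↔
      ∀ U : Subgroup G, U ≤ V → (∀ h ∈ H, U.map (MulAut.conj h).toMonoidHom = U) →
        U = (U ⊓ Subgroup.normalizer (H : Set G)) ⊔ ⁅H, U⁆ := by
  have hVc : V ≤ Subgroup.centralizer (V : Set G) :=
    Subgroup.le_centralizer_iff_isMulCommutative.mpr hV
  have commV : ∀ x ∈ V, ∀ y ∈ V, x * y = y * x := fun x hx y hy =>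
    ((Subgroup.mem_centralizer_iff.mp (hVc hy)) x hx)
  constructor
  · intro hpro U hUV hUinv
    have hHU : H ≤ Subgroup.normalizer (U : Set G) := fun h hh =>
      mem_normalizer_of_cj_eq (hUinv h hh)
    obtain ⟨W, hW⟩ : ∃ W : Subgroup G, W = ⁅H, U⁆ := ⟨_, rfl⟩
    rw [← hW]
    have hWU : W ≤ U := by
      rw [hW]; exact Subgroup.le_normalizer_iff_commutator_le_right.mp hHU
    have hHW : H ≤ Subgroup.normalizer (W : Set G) := by
      rw [hW]
      exact (le_inf Subgroup.le_normalizer hHU).trans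
        (Cfsg.Agent.Lib.Helper3.normalizer_inf_le_normalizer_commutator H U)
    apply le_antisymm
    · intro u hu
      obtain ⟨x, hx, hxe⟩ := hpro u
      have hle : H ⊔ cj u H ≤ H ⊔ W := by
        refine sup_le le_sup_left ?_
        rintro _ ⟨h, hh, rfl⟩
        have e : (MulAut.conj u).toMonoidHom h = ⁅h, u⁆⁻¹ * h := by
          show u * h * u⁻¹ = _
          rw [commutatorElement_def]; group
        rw [e]
        have h1 : ⁅h, u⁆ ∈ W := hW ▸ Subgroup.commutator_mem_commutator hh hu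
        exact Subgroup.mul_mem _ (Subgroup.mem_sup_right (W.inv_mem h1)) (Subgroup.mem_sup_left hh)
      have hx' : x⁻¹ ∈ H ⊔ W := Subgroup.inv_mem _ (hle hx)
      obtain ⟨h, hh, w, hw, hxhw⟩ :=
        Cfsg.Agent.Lib.Helper2.exists_mul_of_mem_sup_of_le_normalizer hHW hx'
      have hx2 : x = w⁻¹ * h⁻¹ := by rw [← inv_inv x, hxhw, mul_inv_rev]
      have hcj : cj u H = cj w⁻¹ H := by
        have h1 : cj u H = cj x H := hxe
        rw [h1, hx2, cj_mul, cj_self_of_mem' (H.inv_mem hh)]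
      have hn : w * u ∈ Subgroup.normalizer (H : Set G) :=
        mem_normalizer_of_cj_eq (by rw [cj_mul, hcj, ← cj_mul, mul_inv_cancel, cj_one])
      have hwuU : w * u ∈ U := U.mul_mem (hWU hw) hu
      have e : u = w⁻¹ * (w * u) := by group
      rw [e]
      exact Subgroup.mul_mem _ (Subgroup.mem_sup_right (W.inv_mem hw))
        (Subgroup.mem_sup_left (Subgroup.mem_inf.mpr ⟨hwuU, hn⟩))
    · exact sup_le inf_le_left hWU
  · intro hcond g
    have hgtop : g⁻¹ ∈ H ⊔ V := by rw [hHV]; exact Subgroup.mem_top _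
    have hHVn : H ≤ Subgroup.normalizer (V : Set G) := by
      rw [Subgroup.normalizer_eq_top_iff.mpr inferInstance]; exact le_top
    obtain ⟨h, hh, v', hv', hg⟩ :=
      Cfsg.Agent.Lib.Helper2.exists_mul_of_mem_sup_of_le_normalizer hHVn hgtop
    obtain ⟨v, hvdef⟩ : ∃ v : G, v = v'⁻¹ := ⟨_, rfl⟩
    have hvV : v ∈ V := hvdef ▸ V.inv_mem hv'
    have hg' : g = v * h⁻¹ := by rw [← inv_inv g, hg, mul_inv_rev, hvdef]
    have hcjg : cj g H = cj v H := by rw [hg', cj_mul, cj_self_of_mem' (H.inv_mem hh)]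
    obtain ⟨T, hT⟩ : ∃ T : Set G, T = {y | ∃ k ∈ H, y = k * v * k⁻¹} := ⟨_, rfl⟩
    obtain ⟨U, hUdef⟩ : ∃ U : Subgroup G, U = Subgroup.closure T := ⟨_, rfl⟩
    have hnorm : V.Normal := inferInstance
    have hUV : U ≤ V := by
      rw [hUdef, Subgroup.closure_le, hT]
      rintro _ ⟨k, hk, rfl⟩
      exact hnorm.conj_mem v hvV k
    have hUinv : ∀ k ∈ H, U.map (MulAut.conj k).toMonoidHom = U := by
      intro k hk
      rw [hUdef, MonoidHom.map_closure]
      congr 1
      rw [hT]
      ext y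
      constructor
      · rintro ⟨_, ⟨k', hk', rfl⟩, rfl⟩
        refine ⟨k * k', H.mul_mem hk hk', ?_⟩
        show k * (k' * v * k'⁻¹) * k⁻¹ = _
        group
      · rintro ⟨k', hk', rfl⟩
        refine ⟨(k⁻¹ * k') * v * (k⁻¹ * k')⁻¹, ⟨k⁻¹ * k', H.mul_mem (H.inv_mem hk) hk', rfl⟩, ?_⟩
        show k * ((k⁻¹ * k') * v * (k⁻¹ * k')⁻¹) * k⁻¹ = _
        group
    have hU := hcond U hUV hUinv
    have hvU : v ∈ U := by
      rw [hUdef]
      apply Subgroup.subset_closure
      rw [hT]
      exact ⟨1, H.one_mem, by group⟩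
    have hHU : H ≤ Subgroup.normalizer (U : Set G) := fun k hk =>
      mem_normalizer_of_cj_eq (hUinv k hk)
    obtain ⟨W, hW⟩ : ∃ W : Subgroup G, W = ⁅H, U⁆ := ⟨_, rfl⟩
    rw [← hW] at hU
    have hWU : W ≤ U := by
      rw [hW]; exact Subgroup.le_normalizer_iff_commutator_le_right.mp hHU
    obtain ⟨N, hN⟩ : ∃ N : Subgroup G, N = U ⊓ Subgroup.normalizer (H : Set G) := ⟨_, rfl⟩
    rw [← hN] at hU
    have hNV : N ≤ V := hN ▸ inf_le_left.trans hUV
    have hWN : W ≤ Subgroup.normalizer (N : Set G) :=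
      (hWU.trans hUV).trans (hVc.trans ((Subgroup.centralizer_le (by exact_mod_cast hNV)).trans
        (Subgroup.centralizer_le_normalizer _)))
    have hvsup : v ∈ W ⊔ N := by rw [sup_comm, ← hU]; exact hvU
    obtain ⟨w, hw, n, hn, hvwn⟩ :=
      Cfsg.Agent.Lib.Helper2.exists_mul_of_mem_sup_of_le_normalizer hWN hvsup
    have hnH : n ∈ Subgroup.normalizer (H : Set G) := by
      rw [hN] at hn; exact (Subgroup.mem_inf.mp hn).2
    have hcjv : cj v H = cj w H := by
      rw [hvwn, cj_mul, cj_eq_of_mem_normalizer hnH]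
    -- W ≤ J
    have hWJ : W ≤ H ⊔ cj v H := by
      rw [hW, Subgroup.commutator_le]
      intro k hk u hu
      have key : u ∈ V ∧ ∀ k ∈ H, ⁅k, u⁆ ∈ H ⊔ cj v H := by
        rw [hUdef] at hu
        induction hu using Subgroup.closure_induction with
        | mem x hx =>
          rw [hT] at hx
          obtain ⟨k', hk', rfl⟩ := hx
          refine ⟨hnorm.conj_mem v hvV k', ?_⟩
          intro k hk
          have e : ⁅k, k' * v * k'⁻¹⁆ =
              k' * ((k'⁻¹ * k * k') * (v * (k'⁻¹ * k * k')⁻¹ * v⁻¹)) * k'⁻¹ := by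
            rw [commutatorElement_def]; group
          rw [e]
          have hk2 : k'⁻¹ * k * k' ∈ H := H.mul_mem (H.mul_mem (H.inv_mem hk') hk) hk'
          have h1 : v * (k'⁻¹ * k * k')⁻¹ * v⁻¹ ∈ cj v H := conj_mem_cj v H (H.inv_mem hk2)
          have hk'J : k' ∈ H ⊔ cj v H := Subgroup.mem_sup_left hk'
          exact Subgroup.mul_mem _ (Subgroup.mul_mem _ hk'J
            (Subgroup.mul_mem _ (Subgroup.mem_sup_left hk2) (Subgroup.mem_sup_right h1)))
            (Subgroup.inv_mem _ hk'J)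
        | one =>
          refine ⟨V.one_mem, ?_⟩
          intro k hk
          rw [commutatorElement_one_right]
          exact Subgroup.one_mem _
        | mul x y hx hy ihx ihy =>
          obtain ⟨hxV, ihx⟩ := ihx
          obtain ⟨hyV, ihy⟩ := ihy
          refine ⟨V.mul_mem hxV hyV, ?_⟩
          intro k hk
          have hbV : ⁅k, y⁆ ∈ V := by
            have : ⁅k, y⁆ = (k * y * k⁻¹) * y⁻¹ := by rw [commutatorElement_def]
            rw [this]
            exact V.mul_mem (hnorm.conj_mem y hyV k) (V.inv_mem hyV)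
          have hc : ⁅k, y⁆ * x⁻¹ = x⁻¹ * ⁅k, y⁆ := commV _ hbV _ (V.inv_mem hxV)
          have e : ⁅k, x * y⁆ = ⁅k, x⁆ * ⁅k, y⁆ := by
            calc ⁅k, x * y⁆ = (k * x * k⁻¹) * (⁅k, y⁆ * x⁻¹) := by
                  simp only [commutatorElement_def]; group
              _ = (k * x * k⁻¹) * (x⁻¹ * ⁅k, y⁆) := by rw [hc]
              _ = ⁅k, x⁆ * ⁅k, y⁆ := by simp only [commutatorElement_def]; group
          rw [e]
          exact Subgroup.mul_mem _ (ihx k hk) (ihy k hk)
        | inv x hx ih =>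
          obtain ⟨hxV, ih⟩ := ih
          refine ⟨V.inv_mem hxV, ?_⟩
          intro k hk
          have haV : k * x * k⁻¹ ∈ V := hnorm.conj_mem x hxV k
          have hc : (k * x * k⁻¹)⁻¹ * x = x * (k * x * k⁻¹)⁻¹ := commV _ (V.inv_mem haV) _ hxV
          have e : ⁅k, x⁻¹⁆ = ⁅k, x⁆⁻¹ := by
            calc ⁅k, x⁻¹⁆ = (k * x * k⁻¹)⁻¹ * x := by
                  simp only [commutatorElement_def]; group
              _ = x * (k * x * k⁻¹)⁻¹ := hc
              _ = ⁅k, x⁆⁻¹ := by simp only [commutatorElement_def]; group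
          rw [e]
          exact Subgroup.inv_mem _ (ih k hk)
      exact key.2 k hk
    refine ⟨w, ?_, ?_⟩
    · have h1 : H ⊔ H.map (MulAut.conj g).toMonoidHom = H ⊔ cj v H := by
        show H ⊔ cj g H = _
        rw [hcjg]
      rw [h1]
      exact hWJ hw
    · show cj g H = cj w H
      rw [hcjg, hcjv]

end Cfsg.Agent.S4269
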