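import Mathlib
import Cfsg.Statements.S4271

set_option autoImplicit false
set_option maxHeartbeats 800000

open Cfsg

namespace Cfsg.Agent.S4271

variable {G : Type*} [Group G]

/-- conjugate of a subgroup -/
abbrev cj (g : G) (H : Subgroup G) : Subgroup G := H.map (MulAut.conj g).toMonoidHom

theorem mem_cj {g x : G} {H : Subgroup G} : x ∈ cj g H ↔ g⁻¹ * x * g ∈ H := by
  constructor
  · rintro ⟨h, hh, rfl⟩
    have : g⁻¹ * (MulAut.conj g).toMonoidHom h * g = h := by
      simp [MulAut.conj_apply, mul_assoc]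
    rw [this]; exact hh
  · intro h
    refine ⟨g⁻¹ * x * g, h, ?_⟩
    simp [MulAut.conj_apply, mul_assoc]

theorem cj_mul (a b : G) (H : Subgroup G) : cj (a * b) H = cj a (cj b H) := by
  ext x
  rw [mem_cj, mem_cj, mem_cj]
  have : (a * b)⁻¹ * x * (a * b) = b⁻¹ * (a⁻¹ * x * a) * b := by group
  rw [this]

theorem cj_one (H : Subgroup G) : cj 1 H = H := by
  ext x
  rw [mem_cj]
  simp

theorem cj_mono (g : G) {H K : Subgroup G} (h : H ≤ K) : cj g H ≤ cj g K := Subgroup.map_mono h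

theorem cj_sup (g : G) (H K : Subgroup G) : cj g (H ⊔ K) = cj g H ⊔ cj g K :=
  Subgroup.map_sup H K _

theorem cj_self {h : G} {H : Subgroup G} (hh : h ∈ H) : cj h H = H := by
  ext x
  rw [mem_cj]
  constructor
  · intro hx
    have : x = h * (h⁻¹ * x * h) * h⁻¹ := by group
    rw [this]
    exact H.mul_mem (H.mul_mem hh hx) (H.inv_mem hh)
  · intro hx
    exact H.mul_mem (H.mul_mem (H.inv_mem hh) hx) hh

theorem cj_inv_cj (g : G) (H : Subgroup G) : cj g⁻¹ (cj g H) = H := by
  rw [← cj_mul, inv_mul_cancel, cj_one]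

theorem cj_cj_inv (g : G) (H : Subgroup G) : cj g (cj g⁻¹ H) = H := by
  rw [← cj_mul, mul_inv_cancel, cj_one]

theorem cj_le_iff (g : G) (H K : Subgroup G) : cj g H ≤ K ↔ H ≤ cj g⁻¹ K := by
  constructor
  · intro h
    have := cj_mono g⁻¹ h
    rwa [cj_inv_cj] at this
  · intro h
    have := cj_mono g h
    rwa [cj_cj_inv] at this

theorem cj_mem_of_mem {g x : G} {H : Subgroup G} (hx : x ∈ H) : g * x * g⁻¹ ∈ cj g H := by
  rw [mem_cj]
  have : g⁻¹ * (g * x * g⁻¹) * g = x := by group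
  rw [this]; exact hx

/-- `H` and its conjugate by `g` are conjugate inside their join -/
def ConjIn (H : Subgroup G) (g : G) : Prop := ∃ x ∈ H ⊔ cj g H, cj g H = cj x H

theorem pronormal_iff (H : Subgroup G) : IsPronormal H ↔ ∀ g, ConjIn H g := Iff.rfl

/-- reduction on the left by an element of the join -/
theorem ConjIn.red_left {H : Subgroup G} {g u g' : G} (hu : u ∈ H ⊔ cj g H) (hg : g = u * g')
    (h : ConjIn H g') : ConjIn H g := by
  obtain ⟨x, hx, hxe⟩ := h
  have h1 : cj g' H = cj u⁻¹ (cj g H) := by rw [hg, cj_mul, cj_inv_cj]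
  have h2 : cj g' H ≤ H ⊔ cj g H := by
    rw [h1]
    intro y hy
    rw [mem_cj] at hy
    have : y = u⁻¹ * (u⁻¹⁻¹ * y * u⁻¹) * u⁻¹⁻¹ := by group
    rw [this]
    refine Subgroup.mul_mem _ (Subgroup.mul_mem _ (Subgroup.inv_mem _ hu) ?_) ?_
    · exact Subgroup.mem_sup_right hy
    · rw [inv_inv]; exact hu
  have h3 : H ⊔ cj g' H ≤ H ⊔ cj g H := sup_le le_sup_left h2
  refine ⟨u * x, Subgroup.mul_mem _ hu (h3 hx), ?_⟩
  rw [hg, cj_mul, cj_mul, hxe]

/-- reduction on the right by an element normalising `H` -/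
theorem ConjIn.red_right {H : Subgroup G} {g g' h : G} (hh : cj h H = H) (hg : g = g' * h)
    (hc : ConjIn H g') : ConjIn H g := by
  have : cj g H = cj g' H := by rw [hg, cj_mul, hh]
  unfold ConjIn
  rw [this]
  exact hc

theorem pronormal_of_cj (u : G) {H : Subgroup G} (h : IsPronormal (cj u H)) : IsPronormal H := by
  intro g
  obtain ⟨x, hx, hxe⟩ := h (u * g * u⁻¹)
  change x ∈ cj u H ⊔ cj (u * g * u⁻¹) (cj u H) at hx
  change cj (u * g * u⁻¹) (cj u H) = cj x (cj u H) at hxe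
  have h1 : cj (u * g * u⁻¹) (cj u H) = cj u (cj g H) := by
    rw [← cj_mul, ← cj_mul]
    congr 1
    group
  rw [h1, ← cj_sup] at hx
  refine ⟨u⁻¹ * x * u, mem_cj.mp hx, ?_⟩
  change cj g H = cj (u⁻¹ * x * u) H
  have h2 : cj u (cj g H) = cj u (cj (u⁻¹ * x * u) H) := by
    rw [← h1, hxe, ← cj_mul, ← cj_mul]
    congr 1
    group
  have := congrArg (cj u⁻¹) h2
  rwa [cj_inv_cj, cj_inv_cj] at this


/-- `T` is a maximal `p`-subgroup of `L`, everything inside `G` -/
def MaxP (p : ℕ) (L T : Subgroup G) : Prop :=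
  T ≤ L ∧ IsPGroup p T ∧ ∀ Q : Subgroup G, Q ≤ L → IsPGroup p Q → T ≤ Q → Q = T

theorem MaxP.mono {p : ℕ} {L L' T : Subgroup G} (h : MaxP p L T) (h1 : T ≤ L') (h2 : L' ≤ L) :
    MaxP p L' T :=
  ⟨h1, h.2.1, fun Q hQ hp hT => h.2.2 Q (hQ.trans h2) hp hT⟩

theorem maxP_of_sylow {p : ℕ} (S : Sylow p G) : MaxP p ⊤ (S : Subgroup G) :=
  ⟨le_top, S.isPGroup', fun _ _ hp hT => S.is_maximal' hp hT⟩

theorem maxP_of_sylow_sub {p : ℕ} (A : Subgroup G) (P : Sylow p A) :
    MaxP p A ((P : Subgroup A).map A.subtype) := by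
  refine ⟨Subgroup.map_subtype_le _, P.isPGroup'.map _, ?_⟩
  intro Q hQA hQp hTQ
  have h1 : IsPGroup p (Q.subgroupOf A) := hQp.comap_subtype
  have h2 : (P : Subgroup A) ≤ Q.subgroupOf A := by
    intro x hx
    rw [Subgroup.mem_subgroupOf]
    exact hTQ ⟨x, hx, rfl⟩
  have h3 := P.is_maximal' h1 h2
  rw [← h3, Subgroup.map_subgroupOf_eq_of_le hQA]

/-- the Sylow subgroup of `L` attached to a maximal `p`-subgroup -/
def MaxP.toSylow {p : ℕ} {L T : Subgroup G} (h : MaxP p L T) : Sylow p L :=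
  { T.subgroupOf L with
    isPGroup' := h.2.1.comap_subtype
    is_maximal' := by
      intro Q hQ hTQ
      have h1 : IsPGroup p (Q.map L.subtype) := hQ.map _
      have h2 : T ≤ Q.map L.subtype := by
        intro t ht
        exact ⟨⟨t, h.1 ht⟩, hTQ (Subgroup.mem_subgroupOf.mpr ht), rfl⟩
      have h3 := h.2.2 _ (Subgroup.map_subtype_le Q) h1 h2
      ext x
      constructor
      · intro hx
        have : (x : G) ∈ Q.map L.subtype := ⟨x, hx, rfl⟩
        rw [h3] at this
        exact Subgroup.mem_subgroupOf.mpr this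
      · intro hx
        exact hTQ hx }

theorem MaxP.coe_toSylow {p : ℕ} {L T : Subgroup G} (h : MaxP p L T) :
    (h.toSylow : Subgroup L) = T.subgroupOf L := rfl

open scoped Pointwise in
/-- Sylow conjugacy inside `L` -/
theorem MaxP.conj_in [Finite G] {p : ℕ} [Fact p.Prime] {L T : Subgroup G} (h : MaxP p L T)
    (g : G) (hg : cj g T ≤ L) : ∃ l ∈ L, cj g T = cj l T := by
  have hc1 : Nat.card (cj g T) = Nat.card T :=
    Subgroup.card_map_of_injective (MulAut.conj g).injective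
  have hc2 : Nat.card ((cj g T).subgroupOf L) = Nat.card (cj g T) :=
    Nat.card_congr (Subgroup.subgroupOfEquivOfLe hg).toEquiv
  have hc3 : Nat.card (h.toSylow : Subgroup L) = Nat.card T := by
    rw [h.coe_toSylow]
    exact Nat.card_congr (Subgroup.subgroupOfEquivOfLe h.1).toEquiv
  have hc4 : Nat.card ((cj g T).subgroupOf L) = p ^ (Nat.card L).factorization p := by
    rw [hc2, hc1, ← hc3]
    exact Sylow.card_eq_multiplicity h.toSylow
  obtain ⟨l, hl⟩ := MulAction.exists_smul_eq L h.toSylow (Sylow.ofCard _ hc4)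
  refine ⟨(l : G), l.2, ?_⟩
  have h5 : ((l • h.toSylow : Sylow p L) : Subgroup L) = (cj g T).subgroupOf L := by
    rw [hl]; rfl
  rw [Sylow.coe_subgroup_smul] at h5
  have h6 : (MulAut.conj l • (h.toSylow : Subgroup L)) = cj l (T.subgroupOf L) := rfl
  rw [h6] at h5
  ext x
  constructor
  · intro hx
    have hxL : x ∈ L := hg hx
    have : (⟨x, hxL⟩ : L) ∈ (cj g T).subgroupOf L := Subgroup.mem_subgroupOf.mpr hx
    rw [← h5, mem_cj] at this
    rw [mem_cj]
    exact Subgroup.mem_subgroupOf.mp this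
  · intro hx
    rw [mem_cj] at hx
    have hxL : x ∈ L := by
      have : x = (l : G) * ((l : G)⁻¹ * x * (l : G)) * (l : G)⁻¹ := by group
      rw [this]
      exact L.mul_mem (L.mul_mem l.2 (h.1 hx)) (L.inv_mem l.2)
    have : (⟨x, hxL⟩ : L) ∈ cj l (T.subgroupOf L) := by
      rw [mem_cj]
      exact Subgroup.mem_subgroupOf.mpr hx
    rw [h5] at this
    exact Subgroup.mem_subgroupOf.mp this

theorem cj_map {G' : Type*} [Group G'] (f : G →* G') (g : G) (H : Subgroup G) :
    cj (f g) (H.map f) = (cj g H).map f := by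
  ext y
  constructor
  · rintro ⟨_, ⟨h, hh, rfl⟩, rfl⟩
    refine ⟨g * h * g⁻¹, cj_mem_of_mem hh, ?_⟩
    simp [MulAut.conj_apply]
  · rintro ⟨_, ⟨h, hh, rfl⟩, rfl⟩
    refine ⟨f h, ⟨h, hh, rfl⟩, ?_⟩
    simp [MulAut.conj_apply]

theorem pronormal_map {G' : Type*} [Group G'] (f : G →* G') (hf : Function.Surjective f)
    {H : Subgroup G} (h : IsPronormal H) : IsPronormal (H.map f) := by
  intro g'
  obtain ⟨g, rfl⟩ := hf g'
  obtain ⟨x, hx, hxe⟩ := h g
  change x ∈ H ⊔ cj g H at hx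
  change cj g H = cj x H at hxe
  refine ⟨f x, ?_, ?_⟩
  · change f x ∈ H.map f ⊔ cj (f g) (H.map f)
    rw [cj_map, ← Subgroup.map_sup]
    exact Subgroup.mem_map_of_mem f hx
  · change cj (f g) (H.map f) = cj (f x) (H.map f)
    rw [cj_map, cj_map, hxe]

theorem pronormal_subgroupOf {H N : Subgroup G} (hHN : H ≤ N) (h : IsPronormal H) :
    IsPronormal (H.subgroupOf N) := by
  intro g
  obtain ⟨x, hx, hxe⟩ := h (g : G)
  change x ∈ H ⊔ cj (g : G) H at hx
  change cj (g : G) H = cj x H at hxe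
  have hmapH : (H.subgroupOf N).map N.subtype = H := Subgroup.map_subgroupOf_eq_of_le hHN
  have hcjN : cj (g : G) H ≤ N := by
    intro y hy
    rw [mem_cj] at hy
    have : y = (g : G) * ((g : G)⁻¹ * y * (g : G)) * (g : G)⁻¹ := by group
    rw [this]
    exact N.mul_mem (N.mul_mem g.2 (hHN hy)) (N.inv_mem g.2)
  have hxN : x ∈ N := (sup_le hHN hcjN) hx
  have key : ∀ u : N, (cj u (H.subgroupOf N)).map N.subtype = cj (u : G) H := by
    intro u
    have := cj_map N.subtype u (H.subgroupOf N)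
    rw [hmapH] at this
    exact this.symm
  refine ⟨⟨x, hxN⟩, ?_, ?_⟩
  · change (⟨x, hxN⟩ : N) ∈ H.subgroupOf N ⊔ cj g (H.subgroupOf N)
    rw [← Subgroup.mem_map_iff_mem N.subtype_injective, Subgroup.map_sup, hmapH, key]
    exact hx
  · change cj g (H.subgroupOf N) = cj (⟨x, hxN⟩ : N) (H.subgroupOf N)
    apply Subgroup.map_injective N.subtype_injective
    rw [key, key]
    exact hxe


theorem mem_normalizer_of_cj {x : G} {T : Subgroup G} (h : cj x T = T) :
    x ∈ Subgroup.normalizer (T : Set G) := by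
  rw [Subgroup.mem_normalizer_iff]
  intro y
  constructor
  · intro hy
    have : x * y * x⁻¹ ∈ cj x T := cj_mem_of_mem hy
    rw [h] at this
    exact this
  · intro hy
    have hy' : x * y * x⁻¹ ∈ T := hy
    rw [← h, mem_cj] at hy'
    have : x⁻¹ * (x * y * x⁻¹) * x = y := by group
    rw [this] at hy'
    exact hy'

theorem cj_of_mem_normalizer {x : G} {T : Subgroup G}
    (h : x ∈ Subgroup.normalizer (T : Set G)) : cj x T = T := by
  rw [Subgroup.mem_normalizer_iff] at h
  ext y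
  rw [mem_cj]
  have := h (x⁻¹ * y * x)
  have e : x * (x⁻¹ * y * x) * x⁻¹ = y := by group
  rw [e] at this
  exact this

theorem cj_normal (x : G) (A : Subgroup G) [hA : A.Normal] : cj x A = A := by
  ext y
  rw [mem_cj]
  constructor
  · intro h
    have := hA.conj_mem _ h x
    have e : x * (x⁻¹ * y * x) * x⁻¹ = y := by group
    rwa [e] at this
  · intro h
    have := hA.conj_mem _ h x⁻¹
    rwa [inv_inv] at this

theorem cj_inf (x : G) (H K : Subgroup G) : cj x (H ⊓ K) = cj x H ⊓ cj x K := by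
  ext y
  rw [Subgroup.mem_inf, mem_cj, mem_cj, mem_cj, Subgroup.mem_inf]

section main

variable [Finite G] {p : ℕ} [Fact p.Prime] (A : Subgroup G) [hAn : A.Normal] (T : Subgroup G)

include hAn in
theorem inter_eq (hTA : MaxP p A T) (S : Subgroup G) (hS : IsPGroup p S) (hTS : T ≤ S) :
    S ⊓ A = T :=
  hTA.2.2 (S ⊓ A) inf_le_right (hS.to_le inf_le_left) (le_inf hTS hTA.1)

include hAn in
theorem norm_mem (hTA : MaxP p A T) (S : Subgroup G) (hS : IsPGroup p S) (hTS : T ≤ S) (x : G)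
    (hx : cj x S = S) : x ∈ Subgroup.normalizer (T : Set G) := by
  apply mem_normalizer_of_cj
  have h1 := inter_eq A T hTA S hS hTS
  rw [← h1, cj_inf, hx, cj_normal]

include hAn in
/-- the direction from `N_G(T)/T` to `G` -/
theorem back_dir (hTA : MaxP p A T)
    (hA : ∀ K : Subgroup ↥A, (∃ P : Sylow p ↥A, (P : Subgroup ↥A) ≤ K) → Cfsg.IsPronormal K)
    (hQ : ∀ P : Sylow p (G ⧸ A),
      Subgroup.normalizer ((P : Subgroup (G ⧸ A)) : Set (G ⧸ A)) = P)
    (PA : Sylow p ↥A) (hPA : (PA : Subgroup ↥A).map A.subtype = T)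
    [hTn : (T.subgroupOf (Subgroup.normalizer (T : Set G))).Normal]
    (hN : ∀ K : Subgroup (↥(Subgroup.normalizer (T : Set G)) ⧸
        T.subgroupOf (Subgroup.normalizer (T : Set G))),
      (∃ P : Sylow p (↥(Subgroup.normalizer (T : Set G)) ⧸
        T.subgroupOf (Subgroup.normalizer (T : Set G))), (P : Subgroup _) ≤ K) →
      Cfsg.IsPronormal K)
    (H : Subgroup G) (S : Sylow p G) (hTS : T ≤ S) (hSH : (S : Subgroup G) ≤ H) :
    Cfsg.IsPronormal H := by
  have hSp : IsPGroup p (S : Subgroup G) := S.isPGroup'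
  have hSA := inter_eq A T hTA S hSp hTS
  have hSN : (S : Subgroup G) ≤ Subgroup.normalizer (T : Set G) := by
    intro s hs
    exact norm_mem A T hTA S hSp hTS s (cj_self hs)
  have hTN : T ≤ Subgroup.normalizer (T : Set G) := Subgroup.le_normalizer
  intro g
  change ConjIn H g
  -- Step 1
  have hmS : MaxP p (H ⊔ cj g H) (S : Subgroup G) :=
    (maxP_of_sylow S).mono (hSH.trans le_sup_left) le_top
  obtain ⟨y, hy, hye⟩ := hmS.conj_in g ((cj_mono g hSH).trans le_sup_right)
  apply ConjIn.red_left hy (g' := y⁻¹ * g) (by group)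
  have hnS : cj (y⁻¹ * g) (S : Subgroup G) = S := by
    rw [cj_mul, hye, cj_inv_cj]
  obtain ⟨n, hn⟩ : ∃ n : G, n = y⁻¹ * g := ⟨_, rfl⟩
  rw [← hn] at hnS ⊢
  -- Step 2
  have hmk : Function.Surjective (QuotientGroup.mk' A) := QuotientGroup.mk'_surjective A
  have hnbar : QuotientGroup.mk' A n ∈
      Subgroup.normalizer (((S.mapSurjective hmk : Sylow p (G ⧸ A)) : Subgroup (G ⧸ A)) :
        Set (G ⧸ A)) := by
    apply mem_normalizer_of_cj
    rw [Sylow.coe_mapSurjective, cj_map, hnS]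
  rw [hQ, Sylow.coe_mapSurjective] at hnbar
  obtain ⟨s, hs, hse⟩ := hnbar
  have haA : n * s⁻¹ ∈ A := by
    rw [← QuotientGroup.eq_one_iff, ← QuotientGroup.mk'_apply, map_mul, map_inv, hse]
    exact mul_inv_cancel _
  apply ConjIn.red_right (cj_self (hSH hs)) (g' := n * s⁻¹) (by group)
  obtain ⟨a, ha⟩ : ∃ a : G, a = n * s⁻¹ := ⟨_, rfl⟩
  rw [← ha] at haA ⊢
  -- Step 3
  have hTH : T ≤ H := hTS.trans hSH
  have hTH0 : T ≤ H ⊓ A := le_inf hTH hTA.1
  have hH0A : H ⊓ A ≤ A := inf_le_right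
  have hmapH0 : ((H ⊓ A).subgroupOf A).map A.subtype = H ⊓ A :=
    Subgroup.map_subgroupOf_eq_of_le hH0A
  have hpro0 : Cfsg.IsPronormal ((H ⊓ A).subgroupOf A) := by
    apply hA _ ⟨PA, ?_⟩
    intro x hx
    rw [Subgroup.mem_subgroupOf]
    apply hTH0
    rw [← hPA]
    exact ⟨x, hx, rfl⟩
  obtain ⟨x', hx', hxe'⟩ := hpro0 ⟨a, haA⟩
  change x' ∈ (H ⊓ A).subgroupOf A ⊔ cj (⟨a, haA⟩ : A) ((H ⊓ A).subgroupOf A) at hx'
  change cj (⟨a, haA⟩ : A) ((H ⊓ A).subgroupOf A) = cj x' ((H ⊓ A).subgroupOf A) at hxe'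
  have keyA : ∀ u : A, (cj u ((H ⊓ A).subgroupOf A)).map A.subtype = cj (u : G) (H ⊓ A) := by
    intro u
    have := cj_map A.subtype u ((H ⊓ A).subgroupOf A)
    rw [hmapH0] at this
    exact this.symm
  have hxG : (x' : G) ∈ (H ⊓ A) ⊔ cj a (H ⊓ A) := by
    have := Subgroup.mem_map_of_mem A.subtype hx'
    rw [Subgroup.map_sup, hmapH0, keyA] at this
    exact this
  have hxeG : cj a (H ⊓ A) = cj (x' : G) (H ⊓ A) := by
    have := congrArg (Subgroup.map A.subtype) hxe'
    rw [keyA, keyA] at this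
    exact this
  have hxJ : (x' : G) ∈ H ⊔ cj a H :=
    (sup_le_sup inf_le_left (cj_mono a inf_le_left)) hxG
  apply ConjIn.red_left hxJ (g' := (x' : G)⁻¹ * a) (by group)
  obtain ⟨b, hb⟩ : ∃ b : G, b = (x' : G)⁻¹ * a := ⟨_, rfl⟩
  have hbA : b ∈ A := by rw [hb]; exact A.mul_mem (A.inv_mem x'.2) haA
  have hbH0 : cj b (H ⊓ A) = H ⊓ A := by rw [hb, cj_mul, hxeG, cj_inv_cj]
  rw [← hb]
  -- Step 4
  have hmT : MaxP p (H ⊓ A) T := hTA.mono hTH0 hH0A
  have hbT : cj b T ≤ H ⊓ A := by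
    have := cj_mono b hTH0
    rwa [hbH0] at this
  obtain ⟨h, hh, hhe⟩ := hmT.conj_in b hbT
  apply ConjIn.red_left (Subgroup.mem_sup_left hh.1) (g' := h⁻¹ * b) (by group)
  obtain ⟨c, hc⟩ : ∃ c : G, c = h⁻¹ * b := ⟨_, rfl⟩
  have hcT : cj c T = T := by rw [hc, cj_mul, hhe, cj_inv_cj]
  have hcH0 : cj c (H ⊓ A) = H ⊓ A := by
    rw [hc, cj_mul, hbH0]
    exact cj_self ((H ⊓ A).inv_mem hh)
  rw [← hc]
  -- Step 5
  have hcN : c ∈ Subgroup.normalizer (T : Set G) := mem_normalizer_of_cj hcT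
  obtain ⟨N, hNdef⟩ : ∃ N : Subgroup G, N = Subgroup.normalizer (T : Set G) := ⟨_, rfl⟩
  -- Frattini
  have hnormH0 : ∀ w ∈ H, cj w (H ⊓ A) = H ⊓ A := by
    intro w hw
    rw [cj_inf, cj_self hw, cj_normal]
  have hfrat : H = (H ⊓ A) ⊔ (H ⊓ Subgroup.normalizer (T : Set G)) := by
    apply le_antisymm
    · intro w hw
      have h1 : cj w T ≤ H ⊓ A := by
        have := cj_mono w hTH0
        rwa [hnormH0 w hw] at this
      obtain ⟨h0, hh0, hh0e⟩ := hmT.conj_in w h1
      have h2 : cj (h0⁻¹ * w) T = T := by rw [cj_mul, hh0e, cj_inv_cj]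
      have h3 : h0⁻¹ * w ∈ H ⊓ Subgroup.normalizer (T : Set G) :=
        Subgroup.mem_inf.mpr ⟨H.mul_mem (H.inv_mem hh0.1) hw, mem_normalizer_of_cj h2⟩
      have : w = h0 * (h0⁻¹ * w) := by group
      rw [this]
      exact Subgroup.mul_mem _ (Subgroup.mem_sup_left hh0) (Subgroup.mem_sup_right h3)
    · exact sup_le inf_le_left inf_le_left
  -- the quotient
  have hHNle : H ⊓ Subgroup.normalizer (T : Set G) ≤ Subgroup.normalizer (T : Set G) :=
    inf_le_right
  have hmapX : ((H ⊓ Subgroup.normalizer (T : Set G)).subgroupOf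
      (Subgroup.normalizer (T : Set G))).map (Subgroup.normalizer (T : Set G)).subtype
      = H ⊓ Subgroup.normalizer (T : Set G) := Subgroup.map_subgroupOf_eq_of_le hHNle
  have hmk2 : Function.Surjective
      (QuotientGroup.mk' (T.subgroupOf (Subgroup.normalizer (T : Set G)))) :=
    QuotientGroup.mk'_surjective _
  have hproK := hN (((H ⊓ Subgroup.normalizer (T : Set G)).subgroupOf
      (Subgroup.normalizer (T : Set G))).map
      (QuotientGroup.mk' (T.subgroupOf (Subgroup.normalizer (T : Set G)))))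
    ⟨(S.subtype hSN).mapSurjective hmk2, by
      rw [Sylow.coe_mapSurjective, Sylow.coe_subtype]
      apply Subgroup.map_mono
      intro x hx
      rw [Subgroup.mem_subgroupOf] at hx ⊢
      exact Subgroup.mem_inf.mpr ⟨hSH hx, x.2⟩⟩
  obtain ⟨xb, hxb, hxbe⟩ := hproK (QuotientGroup.mk' _ ⟨c, hcN⟩)
  have e1 := cj_map (QuotientGroup.mk' (T.subgroupOf (Subgroup.normalizer (T : Set G))))
    (⟨c, hcN⟩ : ↥(Subgroup.normalizer (T : Set G)))
    ((H ⊓ Subgroup.normalizer (T : Set G)).subgroupOf (Subgroup.normalizer (T : Set G)))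
  replace hxb : xb ∈ (((H ⊓ Subgroup.normalizer (T : Set G)).subgroupOf
      (Subgroup.normalizer (T : Set G))).map
      (QuotientGroup.mk' (T.subgroupOf (Subgroup.normalizer (T : Set G))))) ⊔
      cj (QuotientGroup.mk' (T.subgroupOf (Subgroup.normalizer (T : Set G)))
        (⟨c, hcN⟩ : ↥(Subgroup.normalizer (T : Set G))))
      (((H ⊓ Subgroup.normalizer (T : Set G)).subgroupOf
      (Subgroup.normalizer (T : Set G))).map
      (QuotientGroup.mk' (T.subgroupOf (Subgroup.normalizer (T : Set G))))) := hxb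
  replace hxbe : cj (QuotientGroup.mk' (T.subgroupOf (Subgroup.normalizer (T : Set G)))
        (⟨c, hcN⟩ : ↥(Subgroup.normalizer (T : Set G))))
      (((H ⊓ Subgroup.normalizer (T : Set G)).subgroupOf
      (Subgroup.normalizer (T : Set G))).map
      (QuotientGroup.mk' (T.subgroupOf (Subgroup.normalizer (T : Set G))))) =
      cj xb (((H ⊓ Subgroup.normalizer (T : Set G)).subgroupOf
      (Subgroup.normalizer (T : Set G))).map
      (QuotientGroup.mk' (T.subgroupOf (Subgroup.normalizer (T : Set G))))) := hxbe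
  rw [e1] at hxb hxbe
  rw [← Subgroup.map_sup] at hxb
  obtain ⟨y', hy', rfl⟩ := hxb
  have e2 := cj_map (QuotientGroup.mk' (T.subgroupOf (Subgroup.normalizer (T : Set G))))
    y'
    ((H ⊓ Subgroup.normalizer (T : Set G)).subgroupOf (Subgroup.normalizer (T : Set G)))
  rw [e2] at hxbe
  -- T' is contained in both conjugates
  have hT'le : ∀ u : ↥(Subgroup.normalizer (T : Set G)),
      T.subgroupOf (Subgroup.normalizer (T : Set G)) ≤
        cj u ((H ⊓ Subgroup.normalizer (T : Set G)).subgroupOf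
          (Subgroup.normalizer (T : Set G))) := by
    intro u
    have h1 : T.subgroupOf (Subgroup.normalizer (T : Set G)) ≤
        (H ⊓ Subgroup.normalizer (T : Set G)).subgroupOf (Subgroup.normalizer (T : Set G)) := by
      intro t ht
      rw [Subgroup.mem_subgroupOf] at ht ⊢
      exact Subgroup.mem_inf.mpr ⟨hTH ht, t.2⟩
    have h2 := cj_mono u h1
    rwa [cj_normal] at h2
  have heq' : cj (⟨c, hcN⟩ : ↥(Subgroup.normalizer (T : Set G)))
        ((H ⊓ Subgroup.normalizer (T : Set G)).subgroupOf (Subgroup.normalizer (T : Set G)))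
      = cj y' ((H ⊓ Subgroup.normalizer (T : Set G)).subgroupOf
          (Subgroup.normalizer (T : Set G))) := by
    have h1 := congrArg (Subgroup.comap
      (QuotientGroup.mk' (T.subgroupOf (Subgroup.normalizer (T : Set G))))) hxbe
    rw [Subgroup.comap_map_eq, Subgroup.comap_map_eq, QuotientGroup.ker_mk',
      sup_eq_left.mpr (hT'le _), sup_eq_left.mpr (hT'le _)] at h1
    exact h1
  have keyN : ∀ u : ↥(Subgroup.normalizer (T : Set G)),
      (cj u ((H ⊓ Subgroup.normalizer (T : Set G)).subgroupOf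
        (Subgroup.normalizer (T : Set G)))).map (Subgroup.normalizer (T : Set G)).subtype
      = cj (u : G) (H ⊓ Subgroup.normalizer (T : Set G)) := by
    intro u
    have := cj_map (Subgroup.normalizer (T : Set G)).subtype u
      ((H ⊓ Subgroup.normalizer (T : Set G)).subgroupOf (Subgroup.normalizer (T : Set G)))
    rw [hmapX] at this
    exact this.symm
  have heqG : cj c (H ⊓ Subgroup.normalizer (T : Set G))
      = cj (y' : G) (H ⊓ Subgroup.normalizer (T : Set G)) := by
    have := congrArg (Subgroup.map (Subgroup.normalizer (T : Set G)).subtype) heq'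
    rw [keyN, keyN] at this
    exact this
  have hyG : (y' : G) ∈ (H ⊓ Subgroup.normalizer (T : Set G)) ⊔
      cj c (H ⊓ Subgroup.normalizer (T : Set G)) := by
    have := Subgroup.mem_map_of_mem (Subgroup.normalizer (T : Set G)).subtype hy'
    rw [Subgroup.map_sup, hmapX, keyN] at this
    exact this
  have hyJ : (y' : G) ∈ H ⊔ cj c H :=
    (sup_le_sup inf_le_left (cj_mono c inf_le_left)) hyG
  -- y' normalises H ⊓ A
  have hJnorm : H ⊔ cj c H ≤ Subgroup.normalizer ((H ⊓ A : Subgroup G) : Set G) := by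
    apply sup_le
    · intro w hw
      exact mem_normalizer_of_cj (hnormH0 w hw)
    · intro w hw
      rw [mem_cj] at hw
      apply mem_normalizer_of_cj
      have h1 : w = c * (c⁻¹ * w * c) * c⁻¹ := by group
      rw [h1, cj_mul, cj_mul]
      have h2 : cj c⁻¹ (H ⊓ A) = H ⊓ A := by
        have := congrArg (cj c⁻¹) hcH0
        rw [cj_inv_cj] at this
        exact this.symm
      rw [h2, hnormH0 _ hw, hcH0]
  have hyH0 : cj (y' : G) (H ⊓ A) = H ⊓ A := cj_of_mem_normalizer (hJnorm hyJ)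
  refine ⟨(y' : G), hyJ, ?_⟩
  calc cj c H = cj c ((H ⊓ A) ⊔ (H ⊓ Subgroup.normalizer (T : Set G))) := by rw [← hfrat]
    _ = (H ⊓ A) ⊔ cj (y' : G) (H ⊓ Subgroup.normalizer (T : Set G)) := by
        rw [cj_sup, hcH0, heqG]
    _ = cj (y' : G) ((H ⊓ A) ⊔ (H ⊓ Subgroup.normalizer (T : Set G))) := by
        rw [cj_sup, hyH0]
    _ = cj (y' : G) H := by rw [← hfrat]

include hAn in
/-- the direction from `G` to `N_G(T)/T` -/
theorem fwd_dir (hTA : MaxP p A T)
    [hTn : (T.subgroupOf (Subgroup.normalizer (T : Set G))).Normal]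
    (hG : ∀ K : Subgroup G, (∃ P : Sylow p G, (P : Subgroup G) ≤ K) → Cfsg.IsPronormal K)
    (Kb : Subgroup (↥(Subgroup.normalizer (T : Set G)) ⧸
        T.subgroupOf (Subgroup.normalizer (T : Set G))))
    (Pb : Sylow p (↥(Subgroup.normalizer (T : Set G)) ⧸
        T.subgroupOf (Subgroup.normalizer (T : Set G))))
    (hPK : (Pb : Subgroup _) ≤ Kb) : Cfsg.IsPronormal Kb := by
  have hTN : T ≤ Subgroup.normalizer (T : Set G) := Subgroup.le_normalizer
  have hmk : Function.Surjective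
      (QuotientGroup.mk' (T.subgroupOf (Subgroup.normalizer (T : Set G)))) :=
    QuotientGroup.mk'_surjective _
  obtain ⟨K', hK'⟩ : ∃ K' : Subgroup ↥(Subgroup.normalizer (T : Set G)),
      K' = Kb.comap (QuotientGroup.mk' (T.subgroupOf (Subgroup.normalizer (T : Set G)))) :=
    ⟨_, rfl⟩
  obtain ⟨K, hK⟩ : ∃ K : Subgroup G,
      K = K'.map (Subgroup.normalizer (T : Set G)).subtype := ⟨_, rfl⟩
  have hKN : K ≤ Subgroup.normalizer (T : Set G) := by
    rw [hK]; exact Subgroup.map_subtype_le _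
  have hKsub : K.subgroupOf (Subgroup.normalizer (T : Set G)) = K' := by
    ext x
    rw [Subgroup.mem_subgroupOf, hK]
    exact Subgroup.mem_map_iff_mem (Subgroup.normalizer (T : Set G)).subtype_injective
  have hKb : K'.map (QuotientGroup.mk' (T.subgroupOf (Subgroup.normalizer (T : Set G)))) = Kb := by
    rw [hK']; exact Subgroup.map_comap_eq_self_of_surjective hmk Kb
  -- a Sylow subgroup of G inside K
  have hT'p : IsPGroup p (T.subgroupOf (Subgroup.normalizer (T : Set G))) :=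
    hTA.2.1.comap_subtype
  obtain ⟨Pt', hPt'⟩ : ∃ Pt' : Subgroup ↥(Subgroup.normalizer (T : Set G)),
      Pt' = (Pb : Subgroup _).comap
        (QuotientGroup.mk' (T.subgroupOf (Subgroup.normalizer (T : Set G)))) := ⟨_, rfl⟩
  have hPt'p : IsPGroup p Pt' := by
    rw [hPt']
    apply Pb.isPGroup'.comap_of_ker_isPGroup
    rw [QuotientGroup.ker_mk']
    exact hT'p
  have hPtp : IsPGroup p (Pt'.map (Subgroup.normalizer (T : Set G)).subtype) := hPt'p.map _
  obtain ⟨S1, hS1⟩ := IsPGroup.exists_le_sylow hPtp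
  have hTPt : T ≤ Pt'.map (Subgroup.normalizer (T : Set G)).subtype := by
    intro t ht
    refine ⟨⟨t, hTN ht⟩, ?_, rfl⟩
    rw [hPt']
    apply Subgroup.mem_comap.mpr
    have : QuotientGroup.mk' (T.subgroupOf (Subgroup.normalizer (T : Set G)))
        (⟨t, hTN ht⟩ : ↥(Subgroup.normalizer (T : Set G))) = 1 := by
      rw [QuotientGroup.mk'_apply, QuotientGroup.eq_one_iff, Subgroup.mem_subgroupOf]
      exact ht
    rw [this]
    exact one_mem _
  have hTS1 : T ≤ S1 := hTPt.trans hS1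
  have hS1N : (S1 : Subgroup G) ≤ Subgroup.normalizer (T : Set G) := by
    intro s hs
    exact norm_mem A T hTA S1 S1.isPGroup' hTS1 s (cj_self hs)
  have hS1'p : IsPGroup p (((S1 : Subgroup G).subgroupOf (Subgroup.normalizer (T : Set G))).map
      (QuotientGroup.mk' (T.subgroupOf (Subgroup.normalizer (T : Set G))))) :=
    (S1.isPGroup'.comap_subtype).map _
  have hPt'le : Pt' ≤ (S1 : Subgroup G).subgroupOf (Subgroup.normalizer (T : Set G)) := by
    intro x hx
    rw [Subgroup.mem_subgroupOf]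
    exact hS1 ⟨x, hx, rfl⟩
  have hPb_le : (Pb : Subgroup _) ≤
      ((S1 : Subgroup G).subgroupOf (Subgroup.normalizer (T : Set G))).map
      (QuotientGroup.mk' (T.subgroupOf (Subgroup.normalizer (T : Set G)))) := by
    have h1 : Pt'.map (QuotientGroup.mk' (T.subgroupOf (Subgroup.normalizer (T : Set G))))
        = Pb := by
      rw [hPt']; exact Subgroup.map_comap_eq_self_of_surjective hmk _
    rw [← h1]
    exact Subgroup.map_mono hPt'le
  have heq := Pb.is_maximal' hS1'p hPb_le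
  have hS1K : (S1 : Subgroup G) ≤ K := by
    intro s hs
    rw [hK]
    refine ⟨⟨s, hS1N hs⟩, ?_, rfl⟩
    rw [hK']
    apply Subgroup.mem_comap.mpr
    apply hPK
    have : QuotientGroup.mk' (T.subgroupOf (Subgroup.normalizer (T : Set G)))
        (⟨s, hS1N hs⟩ : ↥(Subgroup.normalizer (T : Set G))) ∈
        ((S1 : Subgroup G).subgroupOf (Subgroup.normalizer (T : Set G))).map
        (QuotientGroup.mk' (T.subgroupOf (Subgroup.normalizer (T : Set G)))) :=
      Subgroup.mem_map_of_mem _ (Subgroup.mem_subgroupOf.mpr hs)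
    rw [heq] at this
    exact this
  have h1 := pronormal_subgroupOf hKN (hG K ⟨S1, hS1K⟩)
  rw [hKsub] at h1
  have h2 := pronormal_map
    (QuotientGroup.mk' (T.subgroupOf (Subgroup.normalizer (T : Set G)))) hmk h1
  rwa [hKb] at h2

open scoped Pointwise in
include hAn in
theorem main4271
    (hA : ∀ K : Subgroup ↥A, (∃ P : Sylow p ↥A, (P : Subgroup ↥A) ≤ K) → Cfsg.IsPronormal K)
    (hQ : ∀ P : Sylow p (G ⧸ A),
      Subgroup.normalizer ((P : Subgroup (G ⧸ A)) : Set (G ⧸ A)) = P)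
    (hT : ∃ P : Sylow p ↥A, (P : Subgroup ↥A).map A.subtype = T)
    [hTn : (T.subgroupOf (Subgroup.normalizer (T : Set G))).Normal] :
    (∀ K : Subgroup G, (∃ P : Sylow p G, (P : Subgroup G) ≤ K) → Cfsg.IsPronormal K) ↔
      (∀ K : Subgroup (↥(Subgroup.normalizer (T : Set G)) ⧸
          T.subgroupOf (Subgroup.normalizer (T : Set G))),
        (∃ P : Sylow p (↥(Subgroup.normalizer (T : Set G)) ⧸
          T.subgroupOf (Subgroup.normalizer (T : Set G))), (P : Subgroup _) ≤ K) →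
        Cfsg.IsPronormal K) := by
  obtain ⟨PA, hPA⟩ := hT
  have hTA : MaxP p A T := hPA ▸ maxP_of_sylow_sub A PA
  constructor
  · rintro hG Kb ⟨Pb, hPb⟩
    exact fwd_dir A T hTA hG Kb Pb hPb
  · rintro hN K ⟨S0, hS0⟩
    obtain ⟨S', hS'⟩ := IsPGroup.exists_le_sylow hTA.2.1
    obtain ⟨u, hu⟩ := MulAction.exists_smul_eq G S0 S'
    have hcoe : (S' : Subgroup G) = cj u (S0 : Subgroup G) := by
      rw [← hu, Sylow.coe_subgroup_smul]
      rfl
    apply pronormal_of_cj u
    apply back_dir A T hTA hA hQ PA hPA hN (cj u K) S' hS'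
    rw [hcoe]
    exact cj_mono u hS0

end main

/-- Let p be a prime and G a finite group with a normal subgroup A such that every subgroup of A containing a Sylow p-subgroup of A is pronormal in A, and the Sylow p-subgroups of G/A are self-normalizing. Let T be a Sylow p-subgroup of A. Then every subgroup of G containing a Sylow p-subgroup of G is pronormal in G if and only if every subgroup of N_G(T)/T containing a Sylow p-subgroup of N_G(T)/T is pronormal in N_G(T)/T. (Pronormal: H and gHg⁻¹ are conjugate inside the subgroup they generate, for every g.) -/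
theorem result {G : Type*} [Group G] [Finite G] {p : ℕ} [Fact p.Prime]
    (A : Subgroup G) [A.Normal] (hA : (∀ K : Subgroup ↥A, (∃ P : Sylow p ↥A, (P : Subgroup ↥A) ≤ K) → Cfsg.IsPronormal K))
    (hQ : ∀ P : Sylow p (G ⧸ A), Subgroup.normalizer ((P : Subgroup (G ⧸ A)) : Set (G ⧸ A)) = P)
    (T : Subgroup G) (hT : ∃ P : Sylow p ↥A, (P : Subgroup ↥A).map A.subtype = T) [(T.subgroupOf (Subgroup.normalizer (T : Set G))).Normal] :
    (∀ K : Subgroup G, (∃ P : Sylow p G, (P : Subgroup G) ≤ K) → Cfsg.IsPronormal K) ↔ (∀ K : Subgroup (↥(Subgroup.normalizer (T : Set G)) ⧸ T.subgroupOf (Subgroup.normalizer (T : Set G))), (∃ P : Sylow p (↥(Subgroup.normalizer (T : Set G)) ⧸ T.subgroupOf (Subgroup.normalizer (T : Set G))), (P : Subgroup (↥(Subgroup.normalizer (T : Set G)) ⧸ T.subgroupOf (Subgroup.normalizer (T : Set G)))) ≤ K) → Cfsg.IsPronormal K) := by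
  exact main4271 A T hA hQ hT

end Cfsg.Agent.S4271
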