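import Mathlib
import Cfsg.Statements.S4270
import Cfsg.Agent.S4271

set_option autoImplicit false
set_option maxHeartbeats 800000

open Cfsg

namespace Cfsg.Agent.S4270

open Cfsg.Agent.S4271

variable {G : Type*} [Group G]

/-- the image of the normaliser of a pronormal subgroup is the normaliser of the image -/
theorem norm_map_of_pronormal {G' : Type*} [Group G'] (f : G →* G') (hf : Function.Surjective f)
    {K : Subgroup G} (h : IsPronormal K) :
    (Subgroup.normalizer (K : Set G)).map f =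
      Subgroup.normalizer ((K.map f : Subgroup G') : Set G') := by
  apply le_antisymm
  · rintro _ ⟨x, hx, rfl⟩
    apply mem_normalizer_of_cj
    rw [cj_map, cj_of_mem_normalizer hx]
  · intro gb hgb
    obtain ⟨g, rfl⟩ := hf gb
    have h1 := cj_of_mem_normalizer hgb
    rw [cj_map] at h1
    obtain ⟨x, hx, hxe⟩ := h g
    change x ∈ K ⊔ cj g K at hx
    change cj g K = cj x K at hxe
    have hn : x⁻¹ * g ∈ Subgroup.normalizer (K : Set G) := by
      apply mem_normalizer_of_cj
      rw [cj_mul, hxe, cj_inv_cj]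
    have hxm : f x ∈ K.map f := by
      have := Subgroup.mem_map_of_mem f hx
      rw [Subgroup.map_sup, h1, sup_idem] at this
      exact this
    obtain ⟨k, hk, hke⟩ := hxm
    refine ⟨k * (x⁻¹ * g), Subgroup.mul_mem _ (Subgroup.le_normalizer hk) hn, ?_⟩
    rw [map_mul, hke, ← map_mul]
    congr 1
    group

section main

variable [Finite G] {p : ℕ} [Fact p.Prime] (A : Subgroup G) [hAn : A.Normal] (T : Subgroup G)

include hAn in
/-- conjugation by elements of `A` -/
theorem conjIn_A (hTA : MaxP p A T)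
    (hA : ∀ K : Subgroup ↥A, (∃ P : Sylow p ↥A, (P : Subgroup ↥A) ≤ K) → Cfsg.IsPronormal K)
    (PA : Sylow p ↥A) (hPA : (PA : Subgroup ↥A).map A.subtype = T)
    [hTn : (T.subgroupOf (Subgroup.normalizer (T : Set G))).Normal]
    (hN : ∀ K : Subgroup (↥(Subgroup.normalizer (T : Set G)) ⧸
        T.subgroupOf (Subgroup.normalizer (T : Set G))),
      (∃ P : Sylow p (↥(Subgroup.normalizer (T : Set G)) ⧸
        T.subgroupOf (Subgroup.normalizer (T : Set G))), (P : Subgroup _) ≤ K) →
      Cfsg.IsPronormal K)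
    (H : Subgroup G) (S : Sylow p G) (hTS : T ≤ S) (hSH : (S : Subgroup G) ≤ H)
    (a : G) (haA : a ∈ A) : ConjIn H a := by
  have hSp : IsPGroup p (S : Subgroup G) := S.isPGroup'
  have hSN : (S : Subgroup G) ≤ Subgroup.normalizer (T : Set G) := by
    intro s hs
    exact norm_mem A T hTA S hSp hTS s (cj_self hs)
  have hTN : T ≤ Subgroup.normalizer (T : Set G) := Subgroup.le_normalizer
  -- Step 3
  have hTH : T ≤ H := hTS.trans hSH
  have hTH0 : T ≤ H ⊓ A := le_inf hTH hTA.1
  have hH0A : H ⊓ A ≤ A := inf_le_right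
  have hmapH0 : ((H ⊓ A).subgroupOf A).map A.subtype = H ⊓ A :=
    Subgroup.map_subgroupOf_eq_of_le hH0A
  have hpro0 : Cfsg.IsPronormal ((H ⊓ A).subgroupOf A) := by
    apply hA _ ⟨PA, ?_⟩
    intro x hx
    rw [Subgroup.mem_subgroupOf]
    apply hTH0
    rw [← hPA]
    exact ⟨x, hx, rfl⟩
  obtain ⟨x', hx', hxe'⟩ := hpro0 ⟨a, haA⟩
  change x' ∈ (H ⊓ A).subgroupOf A ⊔ cj (⟨a, haA⟩ : A) ((H ⊓ A).subgroupOf A) at hx'
  change cj (⟨a, haA⟩ : A) ((H ⊓ A).subgroupOf A) = cj x' ((H ⊓ A).subgroupOf A) at hxe'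
  have keyA : ∀ u : A, (cj u ((H ⊓ A).subgroupOf A)).map A.subtype = cj (u : G) (H ⊓ A) := by
    intro u
    have := cj_map A.subtype u ((H ⊓ A).subgroupOf A)
    rw [hmapH0] at this
    exact this.symm
  have hxG : (x' : G) ∈ (H ⊓ A) ⊔ cj a (H ⊓ A) := by
    have := Subgroup.mem_map_of_mem A.subtype hx'
    rw [Subgroup.map_sup, hmapH0, keyA] at this
    exact this
  have hxeG : cj a (H ⊓ A) = cj (x' : G) (H ⊓ A) := by
    have := congrArg (Subgroup.map A.subtype) hxe'
    rw [keyA, keyA] at this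
    exact this
  have hxJ : (x' : G) ∈ H ⊔ cj a H :=
    (sup_le_sup inf_le_left (cj_mono a inf_le_left)) hxG
  apply ConjIn.red_left hxJ (g' := (x' : G)⁻¹ * a) (by group)
  obtain ⟨b, hb⟩ : ∃ b : G, b = (x' : G)⁻¹ * a := ⟨_, rfl⟩
  have hbA : b ∈ A := by rw [hb]; exact A.mul_mem (A.inv_mem x'.2) haA
  have hbH0 : cj b (H ⊓ A) = H ⊓ A := by rw [hb, cj_mul, hxeG, cj_inv_cj]
  rw [← hb]
  -- Step 4
  have hmT : MaxP p (H ⊓ A) T := hTA.mono hTH0 hH0A
  have hbT : cj b T ≤ H ⊓ A := by
    have := cj_mono b hTH0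
    rwa [hbH0] at this
  obtain ⟨h, hh, hhe⟩ := hmT.conj_in b hbT
  apply ConjIn.red_left (Subgroup.mem_sup_left hh.1) (g' := h⁻¹ * b) (by group)
  obtain ⟨c, hc⟩ : ∃ c : G, c = h⁻¹ * b := ⟨_, rfl⟩
  have hcT : cj c T = T := by rw [hc, cj_mul, hhe, cj_inv_cj]
  have hcH0 : cj c (H ⊓ A) = H ⊓ A := by
    rw [hc, cj_mul, hbH0]
    exact cj_self ((H ⊓ A).inv_mem hh)
  rw [← hc]
  -- Step 5
  have hcN : c ∈ Subgroup.normalizer (T : Set G) := mem_normalizer_of_cj hcT
  obtain ⟨N, hNdef⟩ : ∃ N : Subgroup G, N = Subgroup.normalizer (T : Set G) := ⟨_, rfl⟩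
  -- Frattini
  have hnormH0 : ∀ w ∈ H, cj w (H ⊓ A) = H ⊓ A := by
    intro w hw
    rw [cj_inf, cj_self hw, cj_normal]
  have hfrat : H = (H ⊓ A) ⊔ (H ⊓ Subgroup.normalizer (T : Set G)) := by
    apply le_antisymm
    · intro w hw
      have h1 : cj w T ≤ H ⊓ A := by
        have := cj_mono w hTH0
        rwa [hnormH0 w hw] at this
      obtain ⟨h0, hh0, hh0e⟩ := hmT.conj_in w h1
      have h2 : cj (h0⁻¹ * w) T = T := by rw [cj_mul, hh0e, cj_inv_cj]
      have h3 : h0⁻¹ * w ∈ H ⊓ Subgroup.normalizer (T : Set G) :=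
        Subgroup.mem_inf.mpr ⟨H.mul_mem (H.inv_mem hh0.1) hw, mem_normalizer_of_cj h2⟩
      have : w = h0 * (h0⁻¹ * w) := by group
      rw [this]
      exact Subgroup.mul_mem _ (Subgroup.mem_sup_left hh0) (Subgroup.mem_sup_right h3)
    · exact sup_le inf_le_left inf_le_left
  -- the quotient
  have hHNle : H ⊓ Subgroup.normalizer (T : Set G) ≤ Subgroup.normalizer (T : Set G) :=
    inf_le_right
  have hmapX : ((H ⊓ Subgroup.normalizer (T : Set G)).subgroupOf
      (Subgroup.normalizer (T : Set G))).map (Subgroup.normalizer (T : Set G)).subtype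
      = H ⊓ Subgroup.normalizer (T : Set G) := Subgroup.map_subgroupOf_eq_of_le hHNle
  have hmk2 : Function.Surjective
      (QuotientGroup.mk' (T.subgroupOf (Subgroup.normalizer (T : Set G)))) :=
    QuotientGroup.mk'_surjective _
  have hproK := hN (((H ⊓ Subgroup.normalizer (T : Set G)).subgroupOf
      (Subgroup.normalizer (T : Set G))).map
      (QuotientGroup.mk' (T.subgroupOf (Subgroup.normalizer (T : Set G)))))
    ⟨(S.subtype hSN).mapSurjective hmk2, by
      rw [Sylow.coe_mapSurjective, Sylow.coe_subtype]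
      apply Subgroup.map_mono
      intro x hx
      rw [Subgroup.mem_subgroupOf] at hx ⊢
      exact Subgroup.mem_inf.mpr ⟨hSH hx, x.2⟩⟩
  obtain ⟨xb, hxb, hxbe⟩ := hproK (QuotientGroup.mk' _ ⟨c, hcN⟩)
  have e1 := cj_map (QuotientGroup.mk' (T.subgroupOf (Subgroup.normalizer (T : Set G))))
    (⟨c, hcN⟩ : ↥(Subgroup.normalizer (T : Set G)))
    ((H ⊓ Subgroup.normalizer (T : Set G)).subgroupOf (Subgroup.normalizer (T : Set G)))
  replace hxb : xb ∈ (((H ⊓ Subgroup.normalizer (T : Set G)).subgroupOf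
      (Subgroup.normalizer (T : Set G))).map
      (QuotientGroup.mk' (T.subgroupOf (Subgroup.normalizer (T : Set G))))) ⊔
      cj (QuotientGroup.mk' (T.subgroupOf (Subgroup.normalizer (T : Set G)))
        (⟨c, hcN⟩ : ↥(Subgroup.normalizer (T : Set G))))
      (((H ⊓ Subgroup.normalizer (T : Set G)).subgroupOf
      (Subgroup.normalizer (T : Set G))).map
      (QuotientGroup.mk' (T.subgroupOf (Subgroup.normalizer (T : Set G))))) := hxb
  replace hxbe : cj (QuotientGroup.mk' (T.subgroupOf (Subgroup.normalizer (T : Set G)))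
        (⟨c, hcN⟩ : ↥(Subgroup.normalizer (T : Set G))))
      (((H ⊓ Subgroup.normalizer (T : Set G)).subgroupOf
      (Subgroup.normalizer (T : Set G))).map
      (QuotientGroup.mk' (T.subgroupOf (Subgroup.normalizer (T : Set G))))) =
      cj xb (((H ⊓ Subgroup.normalizer (T : Set G)).subgroupOf
      (Subgroup.normalizer (T : Set G))).map
      (QuotientGroup.mk' (T.subgroupOf (Subgroup.normalizer (T : Set G))))) := hxbe
  rw [e1] at hxb hxbe
  rw [← Subgroup.map_sup] at hxb
  obtain ⟨y', hy', rfl⟩ := hxb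
  have e2 := cj_map (QuotientGroup.mk' (T.subgroupOf (Subgroup.normalizer (T : Set G))))
    y'
    ((H ⊓ Subgroup.normalizer (T : Set G)).subgroupOf (Subgroup.normalizer (T : Set G)))
  rw [e2] at hxbe
  -- T' is contained in both conjugates
  have hT'le : ∀ u : ↥(Subgroup.normalizer (T : Set G)),
      T.subgroupOf (Subgroup.normalizer (T : Set G)) ≤
        cj u ((H ⊓ Subgroup.normalizer (T : Set G)).subgroupOf
          (Subgroup.normalizer (T : Set G))) := by
    intro u
    have h1 : T.subgroupOf (Subgroup.normalizer (T : Set G)) ≤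
        (H ⊓ Subgroup.normalizer (T : Set G)).subgroupOf (Subgroup.normalizer (T : Set G)) := by
      intro t ht
      rw [Subgroup.mem_subgroupOf] at ht ⊢
      exact Subgroup.mem_inf.mpr ⟨hTH ht, t.2⟩
    have h2 := cj_mono u h1
    rwa [cj_normal] at h2
  have heq' : cj (⟨c, hcN⟩ : ↥(Subgroup.normalizer (T : Set G)))
        ((H ⊓ Subgroup.normalizer (T : Set G)).subgroupOf (Subgroup.normalizer (T : Set G)))
      = cj y' ((H ⊓ Subgroup.normalizer (T : Set G)).subgroupOf
          (Subgroup.normalizer (T : Set G))) := by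
    have h1 := congrArg (Subgroup.comap
      (QuotientGroup.mk' (T.subgroupOf (Subgroup.normalizer (T : Set G))))) hxbe
    rw [Subgroup.comap_map_eq, Subgroup.comap_map_eq, QuotientGroup.ker_mk',
      sup_eq_left.mpr (hT'le _), sup_eq_left.mpr (hT'le _)] at h1
    exact h1
  have keyN : ∀ u : ↥(Subgroup.normalizer (T : Set G)),
      (cj u ((H ⊓ Subgroup.normalizer (T : Set G)).subgroupOf
        (Subgroup.normalizer (T : Set G)))).map (Subgroup.normalizer (T : Set G)).subtype
      = cj (u : G) (H ⊓ Subgroup.normalizer (T : Set G)) := by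
    intro u
    have := cj_map (Subgroup.normalizer (T : Set G)).subtype u
      ((H ⊓ Subgroup.normalizer (T : Set G)).subgroupOf (Subgroup.normalizer (T : Set G)))
    rw [hmapX] at this
    exact this.symm
  have heqG : cj c (H ⊓ Subgroup.normalizer (T : Set G))
      = cj (y' : G) (H ⊓ Subgroup.normalizer (T : Set G)) := by
    have := congrArg (Subgroup.map (Subgroup.normalizer (T : Set G)).subtype) heq'
    rw [keyN, keyN] at this
    exact this
  have hyG : (y' : G) ∈ (H ⊓ Subgroup.normalizer (T : Set G)) ⊔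
      cj c (H ⊓ Subgroup.normalizer (T : Set G)) := by
    have := Subgroup.mem_map_of_mem (Subgroup.normalizer (T : Set G)).subtype hy'
    rw [Subgroup.map_sup, hmapX, keyN] at this
    exact this
  have hyJ : (y' : G) ∈ H ⊔ cj c H :=
    (sup_le_sup inf_le_left (cj_mono c inf_le_left)) hyG
  -- y' normalises H ⊓ A
  have hJnorm : H ⊔ cj c H ≤ Subgroup.normalizer ((H ⊓ A : Subgroup G) : Set G) := by
    apply sup_le
    · intro w hw
      exact mem_normalizer_of_cj (hnormH0 w hw)
    · intro w hw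
      rw [mem_cj] at hw
      apply mem_normalizer_of_cj
      have h1 : w = c * (c⁻¹ * w * c) * c⁻¹ := by group
      rw [h1, cj_mul, cj_mul]
      have h2 : cj c⁻¹ (H ⊓ A) = H ⊓ A := by
        have := congrArg (cj c⁻¹) hcH0
        rw [cj_inv_cj] at this
        exact this.symm
      rw [h2, hnormH0 _ hw, hcH0]
  have hyH0 : cj (y' : G) (H ⊓ A) = H ⊓ A := cj_of_mem_normalizer (hJnorm hyJ)
  refine ⟨(y' : G), hyJ, ?_⟩
  calc cj c H = cj c ((H ⊓ A) ⊔ (H ⊓ Subgroup.normalizer (T : Set G))) := by rw [← hfrat]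
    _ = (H ⊓ A) ⊔ cj (y' : G) (H ⊓ Subgroup.normalizer (T : Set G)) := by
        rw [cj_sup, hcH0, heqG]
    _ = cj (y' : G) ((H ⊓ A) ⊔ (H ⊓ Subgroup.normalizer (T : Set G))) := by
        rw [cj_sup, hyH0]
    _ = cj (y' : G) H := by rw [← hfrat]

include hAn in
theorem back_dir' (hTA : MaxP p A T)
    (hA : ∀ K : Subgroup ↥A, (∃ P : Sylow p ↥A, (P : Subgroup ↥A) ≤ K) → Cfsg.IsPronormal K)
    (hQ : ∀ K : Subgroup (G ⧸ A), (∃ P : Sylow p (G ⧸ A), (P : Subgroup (G ⧸ A)) ≤ K) →
      Cfsg.IsPronormal K)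
    (PA : Sylow p ↥A) (hPA : (PA : Subgroup ↥A).map A.subtype = T)
    [hTn : (T.subgroupOf (Subgroup.normalizer (T : Set G))).Normal]
    (hN : ∀ K : Subgroup (↥(Subgroup.normalizer (T : Set G)) ⧸
        T.subgroupOf (Subgroup.normalizer (T : Set G))),
      (∃ P : Sylow p (↥(Subgroup.normalizer (T : Set G)) ⧸
        T.subgroupOf (Subgroup.normalizer (T : Set G))), (P : Subgroup _) ≤ K) →
      Cfsg.IsPronormal K)
    (hii : ∀ K : Subgroup G, (∃ P : Sylow p G, (P : Subgroup G) ≤ K) →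
      (Subgroup.normalizer (K : Set G)).map (QuotientGroup.mk' A) =
        Subgroup.normalizer ((K.map (QuotientGroup.mk' A) : Subgroup (G ⧸ A)) : Set (G ⧸ A)))
    (H : Subgroup G) (S : Sylow p G) (hTS : T ≤ S) (hSH : (S : Subgroup G) ≤ H) :
    Cfsg.IsPronormal H := by
  intro g
  change ConjIn H g
  have hmk : Function.Surjective (QuotientGroup.mk' A) := QuotientGroup.mk'_surjective A
  have hproQ : Cfsg.IsPronormal (H.map (QuotientGroup.mk' A)) := by
    apply hQ _ ⟨S.mapSurjective hmk, ?_⟩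
    rw [Sylow.coe_mapSurjective]
    exact Subgroup.map_mono hSH
  obtain ⟨xb, hxb, hxbe⟩ := hproQ (QuotientGroup.mk' A g)
  replace hxb : xb ∈ H.map (QuotientGroup.mk' A) ⊔
      cj (QuotientGroup.mk' A g) (H.map (QuotientGroup.mk' A)) := hxb
  replace hxbe : cj (QuotientGroup.mk' A g) (H.map (QuotientGroup.mk' A)) =
      cj xb (H.map (QuotientGroup.mk' A)) := hxbe
  have e1 := cj_map (QuotientGroup.mk' A) g H
  rw [e1] at hxb hxbe
  rw [← Subgroup.map_sup] at hxb
  obtain ⟨x, hx, rfl⟩ := hxb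
  have e2 := cj_map (QuotientGroup.mk' A) x H
  rw [e2] at hxbe
  apply ConjIn.red_left hx (g' := x⁻¹ * g) (by group)
  have h1 : (cj (x⁻¹ * g) H).map (QuotientGroup.mk' A) = H.map (QuotientGroup.mk' A) := by
    rw [cj_mul, ← cj_map, hxbe, cj_map, cj_inv_cj]
  have h2 : QuotientGroup.mk' A (x⁻¹ * g) ∈
      Subgroup.normalizer ((H.map (QuotientGroup.mk' A) : Subgroup (G ⧸ A)) : Set (G ⧸ A)) := by
    apply mem_normalizer_of_cj
    rw [cj_map, h1]
  rw [← hii H ⟨S, hSH⟩] at h2
  obtain ⟨m, hm, hme⟩ := h2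
  have haA : (x⁻¹ * g) * m⁻¹ ∈ A := by
    rw [← QuotientGroup.eq_one_iff, ← QuotientGroup.mk'_apply, map_mul, map_inv, hme]
    exact mul_inv_cancel _
  apply ConjIn.red_right (cj_of_mem_normalizer hm) (g' := (x⁻¹ * g) * m⁻¹) (by group)
  exact conjIn_A A T hTA hA PA hPA hN H S hTS hSH _ haA

open scoped Pointwise in
include hAn in
theorem main4270
    (hA : ∀ K : Subgroup ↥A, (∃ P : Sylow p ↥A, (P : Subgroup ↥A) ≤ K) → Cfsg.IsPronormal K)
    (hQ : ∀ K : Subgroup (G ⧸ A), (∃ P : Sylow p (G ⧸ A), (P : Subgroup (G ⧸ A)) ≤ K) →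
      Cfsg.IsPronormal K)
    (hT : ∃ P : Sylow p ↥A, (P : Subgroup ↥A).map A.subtype = T)
    [hTn : (T.subgroupOf (Subgroup.normalizer (T : Set G))).Normal] :
    (∀ K : Subgroup G, (∃ P : Sylow p G, (P : Subgroup G) ≤ K) → Cfsg.IsPronormal K) ↔
      ((∀ K : Subgroup (↥(Subgroup.normalizer (T : Set G)) ⧸
          T.subgroupOf (Subgroup.normalizer (T : Set G))),
        (∃ P : Sylow p (↥(Subgroup.normalizer (T : Set G)) ⧸
          T.subgroupOf (Subgroup.normalizer (T : Set G))), (P : Subgroup _) ≤ K) →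
        Cfsg.IsPronormal K) ∧
        ∀ K : Subgroup G, (∃ P : Sylow p G, (P : Subgroup G) ≤ K) →
          (Subgroup.normalizer (K : Set G)).map (QuotientGroup.mk' A) =
            Subgroup.normalizer ((K.map (QuotientGroup.mk' A) : Subgroup (G ⧸ A)) :
              Set (G ⧸ A))) := by
  obtain ⟨PA, hPA⟩ := hT
  have hTA : MaxP p A T := hPA ▸ maxP_of_sylow_sub A PA
  constructor
  · intro hG
    refine ⟨?_, ?_⟩
    · rintro Kb ⟨Pb, hPb⟩
      exact fwd_dir A T hTA hG Kb Pb hPb
    · intro K hK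
      exact norm_map_of_pronormal _ (QuotientGroup.mk'_surjective A) (hG K hK)
  · rintro ⟨hN, hii⟩ K ⟨S0, hS0⟩
    obtain ⟨S', hS'⟩ := IsPGroup.exists_le_sylow hTA.2.1
    obtain ⟨u, hu⟩ := MulAction.exists_smul_eq G S0 S'
    have hcoe : (S' : Subgroup G) = cj u (S0 : Subgroup G) := by
      rw [← hu, Sylow.coe_subgroup_smul]
      rfl
    apply pronormal_of_cj u
    apply back_dir' A T hTA hA hQ PA hPA hN hii (cj u K) S' hS'
    rw [hcoe]
    exact cj_mono u hS0

end main

/-- Let p be a prime and G a finite group with a normal subgroup A such that, both in A and in G/A, every subgroup containing a Sylow p-subgroup of that group is pronormal in that group. Let T be a Sylow p-subgroup of A. Then every subgroup of G containing a Sylow p-subgroup of G is pronormal in G if and only if (i) every subgroup of N_G(T)/T containing a Sylow p-subgroup of N_G(T)/T is pronormal there, and (ii) for every subgroup H of G containing a Sylow p-subgroup of G, the image of N_G(H)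 in G/A is the full normalizer of the image of H. (Pronormal: H and gHg⁻¹ are conjugate inside the subgroup they generate, for every g.) -/
theorem result {G : Type*} [Group G] [Finite G] {p : ℕ} [Fact p.Prime]
    (A : Subgroup G) [A.Normal] (hA : (∀ K : Subgroup ↥A, (∃ P : Sylow p ↥A, (P : Subgroup ↥A) ≤ K) → Cfsg.IsPronormal K)) (hQ : (∀ K : Subgroup (G ⧸ A), (∃ P : Sylow p (G ⧸ A), (P : Subgroup (G ⧸ A)) ≤ K) → Cfsg.IsPronormal K))
    (T : Subgroup G) (hT : ∃ P : Sylow p ↥A, (P : Subgroup ↥A).map A.subtype = T) [(T.subgroupOf (Subgroup.normalizer (T : Set G))).Normal] :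
    (∀ K : Subgroup G, (∃ P : Sylow p G, (P : Subgroup G) ≤ K) → Cfsg.IsPronormal K) ↔
      ((∀ K : Subgroup (↥(Subgroup.normalizer (T : Set G)) ⧸ T.subgroupOf (Subgroup.normalizer (T : Set G))), (∃ P : Sylow p (↥(Subgroup.normalizer (T : Set G)) ⧸ T.subgroupOf (Subgroup.normalizer (T : Set G))), (P : Subgroup (↥(Subgroup.normalizer (T : Set G)) ⧸ T.subgroupOf (Subgroup.normalizer (T : Set G)))) ≤ K) → Cfsg.IsPronormal K) ∧
        ∀ K : Subgroup G, (∃ P : Sylow p G, (P : Subgroup G) ≤ K) →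
          (Subgroup.normalizer (K : Set G)).map (QuotientGroup.mk' A) = Subgroup.normalizer ((K.map (QuotientGroup.mk' A) : Subgroup (G ⧸ A)) : Set (G ⧸ A))) := by
  exact main4270 A T hA hQ hT

end Cfsg.Agent.S4270
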