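import Cfsg.Statements.S4275
import Mathlib

set_option autoImplicit false
open Cfsg

namespace Cfsg.Agent.S4275

/-- Let G be a transitive group of permutations of a finite set Ω, let o ∈ Ω, and let α be an automorphism of G. Then α is induced by conjugation by a permutation of Ω normalizing G if and only if the image under α of the stabilizer of o fixes some point of Ω. -/
theorem result {Ω : Type*} [Fintype Ω] (G : Subgroup (Equiv.Perm Ω)) (htr : MulAction.IsPretransitive G Ω) (o : Ω) (α : G ≃* G) : (∃ σ : Equiv.Perm Ω, σ ∈ Subgroup.normalizer (G : Set (Equiv.Perm Ω)) ∧ ∀ g : G, ((α g : G) : Equiv.Perm Ω) = σ * (g : Equiv.Perm Ω) * σ⁻¹) ↔ ∃ ω : Ω, ∀ g ∈ (MulAction.stabilizer G o).map α.toMonoidHom, g • ω = ω := by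
  classical
  constructor
  · rintro ⟨σ, hσN, hσ⟩
    refine ⟨σ o, ?_⟩
    rintro g ⟨h, hh, rfl⟩
    have h1 : (h : Equiv.Perm Ω) o = o := hh
    show ((α.toMonoidHom h : G) : Equiv.Perm Ω) (σ o) = σ o
    have h2 : ((α h : G) : Equiv.Perm Ω) = σ * (h : Equiv.Perm Ω) * σ⁻¹ := hσ h
    show ((α h : G) : Equiv.Perm Ω) (σ o) = σ o
    rw [h2]
    simp [h1]
  · rintro ⟨ω, hω⟩
    -- the function σ
    let f : Ω → Ω := fun x => ((α (Classical.choose (MulAction.exists_smul_eq G o x)) : G) :
      Equiv.Perm Ω) ω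
    have hf : ∀ g : G, f ((g : Equiv.Perm Ω) o) = ((α g : G) : Equiv.Perm Ω) ω := by
      intro g
      set g' := Classical.choose (MulAction.exists_smul_eq G o ((g : Equiv.Perm Ω) o)) with hg'
      have hspec : g' • o = (g : Equiv.Perm Ω) o :=
        Classical.choose_spec (MulAction.exists_smul_eq G o ((g : Equiv.Perm Ω) o))
      have hstab : g⁻¹ * g' ∈ MulAction.stabilizer G o := by
        rw [MulAction.mem_stabilizer_iff, mul_smul, hspec]
        show (g⁻¹ : G) • ((g : Equiv.Perm Ω) o) = o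
        show ((g⁻¹ : G) : Equiv.Perm Ω) ((g : Equiv.Perm Ω) o) = o
        simp
      have h1 := hω (α.toMonoidHom (g⁻¹ * g')) ⟨_, hstab, rfl⟩
      have h2 : ((α (g⁻¹ * g') : G) : Equiv.Perm Ω) ω = ω := h1
      rw [map_mul, map_inv] at h2
      have h3 : ((α g)⁻¹ * α g' : G) = (α g)⁻¹ * α g' := rfl
      have h4 : (((α g)⁻¹ * α g' : G) : Equiv.Perm Ω) ω =
          ((α g : G) : Equiv.Perm Ω)⁻¹ (((α g' : G) : Equiv.Perm Ω) ω) := by
        simp
      rw [h4] at h2
      show ((α g' : G) : Equiv.Perm Ω) ω = ((α g : G) : Equiv.Perm Ω) ω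
      have := congrArg ((α g : G) : Equiv.Perm Ω) h2
      simpa using this
    have hsurj : Function.Surjective f := by
      intro y
      obtain ⟨k, hk⟩ := MulAction.exists_smul_eq G ω y
      obtain ⟨g, rfl⟩ := α.surjective k
      exact ⟨(g : Equiv.Perm Ω) o, by rw [hf]; exact hk⟩
    have hbij : Function.Bijective f := ⟨Finite.injective_iff_surjective.2 hsurj, hsurj⟩
    let σ : Equiv.Perm Ω := Equiv.ofBijective f hbij
    have hσf : ∀ x, σ x = f x := fun x => rfl
    have hconj : ∀ g : G, ((α g : G) : Equiv.Perm Ω) = σ * (g : Equiv.Perm Ω) * σ⁻¹ := by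
      intro g
      ext y
      obtain ⟨x, rfl⟩ := σ.surjective y
      obtain ⟨h, rfl⟩ := MulAction.exists_smul_eq G o x
      have e1 : σ (h • o) = ((α h : G) : Equiv.Perm Ω) ω := hf h
      have e2 : σ ((g : Equiv.Perm Ω) (h • o)) = ((α (g * h) : G) : Equiv.Perm Ω) ω := by
        have : (g : Equiv.Perm Ω) (h • o) = ((g * h : G) : Equiv.Perm Ω) o := by
          simp [Subgroup.coe_mul, Equiv.Perm.mul_apply]; rfl
        rw [this]; exact hf (g * h)
      simp only [Equiv.Perm.mul_apply, Equiv.symm_apply_apply,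
        Equiv.Perm.inv_def]
      rw [e2, e1, map_mul]
      simp [Subgroup.coe_mul, Equiv.Perm.mul_apply]
    refine ⟨σ, ?_, hconj⟩
    rw [Subgroup.mem_normalizer_iff]
    intro h
    constructor
    · intro hh
      have := hconj ⟨h, hh⟩
      rw [← this]
      exact (α ⟨h, hh⟩).2
    · intro hh
      obtain ⟨g, hg⟩ := α.surjective ⟨σ * h * σ⁻¹, hh⟩
      have h1 := hconj g
      rw [hg] at h1
      have h2 : σ * h * σ⁻¹ = σ * (g : Equiv.Perm Ω) * σ⁻¹ := h1
      have h3 : h = (g : Equiv.Perm Ω) := by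
        have := congrArg (fun t => σ⁻¹ * t * σ) h2
        simpa [mul_assoc] using this
      rw [h3]; exact g.2

end Cfsg.Agent.S4275
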