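import Mathlib
import Cfsg.Statements.S4283
import Cfsg.Agent.Lib.Helper1.Frob
import Cfsg.Agent.Lib.Lead.ConjUnion
import Cfsg.Agent.Lib.Helper2.FrobCount

set_option autoImplicit false
open Cfsg
open scoped Pointwise
open Cfsg.Agent.Lib.Helper1

namespace Cfsg.Agent.S4283

/-- TI property for a conjugate of a Frobenius complement -/
lemma ti_conj {Γ : Type*} [Group Γ] (Hb : Subgroup Γ)
    (hTI : ∀ g : Γ, g ∉ Hb → Hb ⊓ (MulAut.conj g • Hb) = ⊥)
    (a g u : Γ) (hu1 : u ≠ 1) (hu : u ∈ MulAut.conj a • Hb)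
    (hgu : g * u * g⁻¹ ∈ MulAut.conj a • Hb) : g ∈ MulAut.conj a • Hb := by
  rw [mem_conj_smul_iff] at hu hgu ⊢
  by_contra hg
  have h1 := hTI _ hg
  have hv : a⁻¹ * (g * u * g⁻¹) * a ∈ Hb ⊓ (MulAut.conj (a⁻¹ * g * a) • Hb) := by
    refine Subgroup.mem_inf.2 ⟨hgu, ?_⟩
    rw [mem_conj_smul_iff]
    have : (a⁻¹ * g * a)⁻¹ * (a⁻¹ * (g * u * g⁻¹) * a) * (a⁻¹ * g * a) = a⁻¹ * u * a := by group
    rw [this]; exact hu
  rw [h1, Subgroup.mem_bot] at hv
  apply hu1
  have : u = g⁻¹ * (a * (a⁻¹ * (g * u * g⁻¹) * a) * a⁻¹) * g := by group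
  rw [this, hv]; group

/-- Let G be a finite group with centre Z and let K, H be abelian subgroups of G containing Z such that G/Z is a Frobenius group with complement H/Z and kernel K/Z. Then the conjugacy class sizes of G are exactly 1, [G : K] and [G : H], and these two indices are coprime. (This is the converse half of the characterization of finite groups whose conjugacy class sizes are exactly 1, m and n with m and n coprime.) -/
theorem result {G : Type*} [Group G] [Finite G] (K H : Subgroup G) (hZK : Subgroup.center G ≤ K) (hZH : Subgroup.center G ≤ H) (hK : IsMulCommutative K) (hH : IsMulCommutative H) (hFrob : Cfsg.IsFrobeniusComplement (H.map (QuotientGroup.mk' (Subgroup.center G)))) (hker : Cfsg.frobeniusKernel (H.map (QuotientGroup.mk' (Subgroup.center G))) = (K.map (QuotientGroup.mk' (Subgroup.center G)) : Set (G ⧸ Subgroup.center G))) : Set.range (fun x : G => (Subgroup.centralizer ({x} : Set G)).index) = ({1, K.index, H.index} : Set ℕ) ∧ K.index.Coprime H.index := by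
  classical
  obtain ⟨π, hπdef⟩ : ∃ π : G →* G ⧸ Subgroup.center G, π = QuotientGroup.mk' (Subgroup.center G) :=
    ⟨_, rfl⟩
  rw [← hπdef] at hFrob hker
  have hπsurj : Function.Surjective π := by rw [hπdef]; exact QuotientGroup.mk'_surjective _
  have hπker : π.ker = Subgroup.center G := by rw [hπdef]; exact QuotientGroup.ker_mk' _
  obtain ⟨hHb1, hHbtop, hTI⟩ := hFrob
  have hKcomm : ∀ a ∈ K, ∀ b ∈ K, a * b = b * a := fun a ha b hb =>
    congrArg Subtype.val (hK.is_comm.comm (⟨a, ha⟩ : ↥K) ⟨b, hb⟩)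
  have hHcomm : ∀ a ∈ H, ∀ b ∈ H, a * b = b * a := fun a ha b hb =>
    congrArg Subtype.val (hH.is_comm.comm (⟨a, ha⟩ : ↥H) ⟨b, hb⟩)
  -- preimage facts
  have hKpre : ∀ x : G, π x ∈ K.map π ↔ x ∈ K := by
    intro x
    rw [← Subgroup.mem_comap, Subgroup.comap_map_eq_self (by rw [hπker]; exact hZK)]
  have hHpre : ∀ x : G, π x ∈ H.map π ↔ x ∈ H := by
    intro x
    rw [← Subgroup.mem_comap, Subgroup.comap_map_eq_self (by rw [hπker]; exact hZH)]
  have hHcpre : ∀ a x : G, π x ∈ MulAut.conj (π a) • H.map π ↔ a⁻¹ * x * a ∈ H := by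
    intro a x
    rw [mem_conj_smul_iff, ← map_inv, ← map_mul, ← map_mul, hHpre]
  have hπ1 : ∀ x : G, π x = 1 ↔ x ∈ Subgroup.center G := by
    intro x; rw [← MonoidHom.mem_ker, hπker]
  -- kernel membership
  have hmemker : ∀ u : G ⧸ Subgroup.center G, u ∈ K.map π ↔
      (u = 1 ∨ ∀ g : G ⧸ Subgroup.center G, u ∉ MulAut.conj g • H.map π) := by
    intro u
    have : u ∈ (K.map π : Set (G ⧸ Subgroup.center G)) ↔ u ∈ Cfsg.frobeniusKernel (H.map π) := by
      rw [hker]
    exact this
  -- centralizer in kernel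
  have hkercent : ∀ k g : G ⧸ Subgroup.center G, k ∈ K.map π → k ≠ 1 → g * k = k * g →
      g ∈ K.map π := by
    intro k g hk hk1 hgk
    by_contra hg
    rw [hmemker] at hg
    push Not at hg
    obtain ⟨hg1, a, hga⟩ := hg
    have hkk : k * g * k⁻¹ ∈ MulAut.conj a • H.map π := by
      have : k * g * k⁻¹ = g := by rw [← hgk]; group
      rw [this]; exact hga
    have hka := ti_conj (H.map π) hTI a k g hg1 hga hkk
    rcases (hmemker k).1 hk with h | h
    · exact hk1 h
    · exact h a hka
  -- (1) central elements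
  have hcase1 : ∀ x ∈ Subgroup.center G, (Subgroup.centralizer ({x} : Set G)).index = 1 := by
    intro x hx
    rw [Subgroup.index_eq_one, Subgroup.centralizer_eq_top_iff_subset]
    intro z hz
    rw [Set.mem_singleton_iff] at hz
    rw [hz]; exact hx
  -- (2) elements of K outside Z
  have hcase2 : ∀ x ∈ K, x ∉ Subgroup.center G → Subgroup.centralizer ({x} : Set G) = K := by
    intro x hxK hxZ
    apply le_antisymm
    · intro g hg
      rw [Subgroup.mem_centralizer_singleton_iff] at hg
      rw [← hKpre]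
      apply hkercent (π x) (π g) ((hKpre x).2 hxK)
      · intro h; exact hxZ ((hπ1 x).1 h)
      · rw [← map_mul, ← map_mul, hg]
    · intro k hk
      rw [Subgroup.mem_centralizer_singleton_iff]
      exact hKcomm k hk x hxK
  -- (3) elements outside K
  have hcase3 : ∀ x : G, x ∉ K → ∃ a : G, Subgroup.centralizer ({x} : Set G) =
      H.map (MulAut.conj a).toMonoidHom := by
    intro x hxK
    have hx' : π x ∉ K.map π := fun h => hxK ((hKpre x).1 h)
    rw [hmemker] at hx'
    push Not at hx'
    obtain ⟨hx1, ab, hab⟩ := hx'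
    obtain ⟨a, rfl⟩ := hπsurj ab
    have hxa : a⁻¹ * x * a ∈ H := (hHcpre a x).1 hab
    refine ⟨a, ?_⟩
    ext g
    rw [Subgroup.mem_centralizer_singleton_iff]
    constructor
    · intro hg
      have hgg : π g * π x * (π g)⁻¹ ∈ MulAut.conj (π a) • H.map π := by
        have : π g * π x * (π g)⁻¹ = π x := by
          rw [← map_mul, hg, map_mul]; group
        rw [this]; exact hab
      have := ti_conj (H.map π) hTI (π a) (π g) (π x) hx1 hab hgg
      rw [hHcpre] at this
      refine ⟨a⁻¹ * g * a, this, ?_⟩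
      simp [MulAut.conj_apply]
      group
    · rintro ⟨h, hh, rfl⟩
      have h1 := hHcomm h hh _ hxa
      simp only [MulEquiv.coe_toMonoidHom, MulAut.conj_apply]
      calc a * h * a⁻¹ * x = a * (h * (a⁻¹ * x * a)) * a⁻¹ := by group
        _ = a * ((a⁻¹ * x * a) * h) * a⁻¹ := by rw [h1]
        _ = x * (a * h * a⁻¹) := by group
  -- existence of elements
  obtain ⟨k0, hk0K, hk0Z⟩ : ∃ k ∈ K, k ∉ Subgroup.center G := by
    obtain ⟨u, hu⟩ := Cfsg.Agent.Lib.Lead.exists_forall_conj_notMem (H.map π) hHbtop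
    have hu1 : u ≠ 1 := by
      intro h
      apply hu 1
      rw [h]; simp
    have huK : u ∈ K.map π := by
      rw [hmemker]
      right
      intro g hg
      rw [mem_conj_smul_iff] at hg
      exact hu g hg
    obtain ⟨k, hk, rfl⟩ := huK
    exact ⟨k, hk, fun h => hu1 ((hπ1 k).2 h)⟩
  obtain ⟨h0, hh0H, hh0K⟩ : ∃ h ∈ H, h ∉ K := by
    obtain ⟨hb, hhb⟩ := (Subgroup.ne_bot_iff_exists_ne_one).1 hHb1
    obtain ⟨h, hh, hhe⟩ := hb.2
    refine ⟨h, hh, ?_⟩
    intro hK'
    have h1 : π h ∈ K.map π := (hKpre h).2 hK'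
    rw [hmemker] at h1
    rcases h1 with h1 | h1
    · apply hhb
      apply Subtype.ext
      rw [← hhe]; exact h1
    · apply h1 1
      rw [mem_conj_smul_iff]
      simp only [inv_one, one_mul, mul_one]
      exact (hHpre h).2 hh
  constructor
  · ext n
    simp only [Set.mem_range, Set.mem_insert_iff, Set.mem_singleton_iff]
    constructor
    · rintro ⟨x, rfl⟩
      by_cases hxZ : x ∈ Subgroup.center G
      · left; exact hcase1 x hxZ
      · by_cases hxK : x ∈ K
        · right; left; rw [hcase2 x hxK hxZ]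
        · right; right
          obtain ⟨a, ha⟩ := hcase3 x hxK
          rw [ha]
          exact Subgroup.index_map_equiv H (MulAut.conj a)
    · rintro (h | h | h)
      · exact ⟨1, by rw [h]; exact hcase1 1 (Subgroup.one_mem _)⟩
      · exact ⟨k0, by rw [h, hcase2 k0 hk0K hk0Z]⟩
      · obtain ⟨a, ha⟩ := hcase3 h0 hh0K
        refine ⟨h0, ?_⟩
        show (Subgroup.centralizer ({h0} : Set G)).index = n
        rw [h, ha]
        exact Subgroup.index_map_equiv H (MulAut.conj a)
  · -- coprimality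
    have hKi : (K.map π).index = K.index :=
      Subgroup.index_map_eq K hπsurj (by rw [hπker]; exact hZK)
    have hHi : (H.map π).index = H.index :=
      Subgroup.index_map_eq H hπsurj (by rw [hπker]; exact hZH)
    rw [← hKi, ← hHi]
    have hcop := Cfsg.Agent.Lib.Helper2.frob_coprime_index (H.map π) ⟨hHb1, hHbtop, hTI⟩
    apply Nat.Coprime.symm
    rw [Nat.coprime_iff_gcd_eq_one]
    by_contra hne
    obtain ⟨p, hp, hpdvd⟩ := Nat.exists_prime_and_dvd hne
    haveI := Fact.mk hp
    have hp1 : p ∣ (H.map π).index := hpdvd.trans (Nat.gcd_dvd_left _ _)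
    have hp2 : p ∣ (K.map π).index := hpdvd.trans (Nat.gcd_dvd_right _ _)
    have hpH : ¬ p ∣ Nat.card (H.map π) := by
      intro h
      have := Nat.Coprime.eq_one_of_dvd (Nat.Coprime.coprime_dvd_left h hcop) hp1
      exact hp.one_lt.ne' this
    obtain ⟨P⟩ : Nonempty (Sylow p (G ⧸ Subgroup.center G)) := inferInstance
    have hPK : (P : Subgroup (G ⧸ Subgroup.center G)) ≤ K.map π := by
      intro u hu
      rw [hmemker]
      by_cases hu1 : u = 1
      · left; exact hu1
      · right
        intro g hg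
        rw [mem_conj_smul_iff] at hg
        -- g⁻¹ u g is a nonidentity p-element in Hb
        apply hpH
        obtain ⟨k, hk⟩ := (IsPGroup.iff_orderOf.1 P.isPGroup') ⟨u, hu⟩
        have hou : orderOf u = p ^ k := by rw [← hk, ← Subgroup.orderOf_coe]
        have hk0 : k ≠ 0 := by
          rintro rfl
          rw [pow_zero, orderOf_eq_one_iff] at hou
          exact hu1 hou
        have hoc : orderOf (g⁻¹ * u * g) = p ^ k := by
          rw [← hou]
          have : g⁻¹ * u * g = g⁻¹ * u * g⁻¹⁻¹ := by rw [inv_inv]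
          rw [this]; exact (MulAut.conj g⁻¹).orderOf_eq u
        have hdvd : orderOf (g⁻¹ * u * g) ∣ Nat.card (H.map π) := by
          have := orderOf_dvd_natCard (⟨g⁻¹ * u * g, hg⟩ : ↥(H.map π))
          rwa [← Subgroup.orderOf_coe] at this
        rw [hoc] at hdvd
        exact (dvd_pow_self p hk0).trans hdvd
    have := Subgroup.index_dvd_of_le hPK
    exact P.not_dvd_index (hp2.trans this)

end Cfsg.Agent.S4283
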