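import Cfsg.Statements.S4293
import Cfsg.Agent.Lib.Helper4.DivRingFrob

set_option autoImplicit false
open Cfsg

namespace Cfsg.Agent.S4293

open Cfsg.Agent.Lib.Helper4 in
/-- A nontrivial finite subgroup of the multiplicative group of a division ring occurs as a Frobenius complement of some finite Frobenius group. -/
theorem result {D : Type*} [DivisionRing D] (H : Subgroup Dˣ) [Finite H] (hH : H ≠ ⊥) :
    ∃ (L : Type) (_ : Group L) (_ : Finite L) (C : Subgroup L), Cfsg.IsFrobeniusComplement C ∧ Nonempty (H ≃* C) := by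
  classical
  have key : ∀ p : ℕ, p.Prime → ¬ p ∣ Nat.card H → Nontrivial (drfSpan H ⧸ drfP H p) →
      ∃ (L : Type) (_ : Group L) (_ : Finite L) (C : Subgroup L),
        Cfsg.IsFrobeniusComplement C ∧ Nonempty (H ≃* C) := by
    intro p hp hpH hnt
    haveI := drf_finite H p hp.ne_zero
    haveI : Finite (Multiplicative (drfSpan H ⧸ drfP H p)) :=
      Finite.of_equiv _ Multiplicative.ofAdd
    haveI : Nontrivial (Multiplicative (drfSpan H ⧸ drfP H p)) := hnt
    haveI : Nontrivial H := (Subgroup.nontrivial_iff_ne_bot H).mpr hH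
    have hfpf : ∀ x : H, x ≠ 1 → ∀ v : Multiplicative (drfSpan H ⧸ drfP H p),
        drfAut H p x v = v → v = 1 := by
      intro x hx v hv
      have h1 : drfAct H p x (Multiplicative.toAdd v) = Multiplicative.toAdd v := by
        have := congrArg Multiplicative.toAdd hv
        rw [drfAut_apply] at this
        exact this
      have h2 := drf_fpf H p hp hpH x hx _ h1
      exact Multiplicative.toAdd.injective h2
    obtain ⟨C, hC, ⟨e⟩, -⟩ := frob_of_fpf (drfAut H p) hfpf
    haveI : Finite (Multiplicative (drfSpan H ⧸ drfP H p) ⋊[drfAut H p] H) :=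
      Finite.of_equiv _ SemidirectProduct.equivProd.symm
    obtain ⟨L', iG, iF, C', hC', ⟨e'⟩⟩ := frb_shrink C hC
    exact ⟨L', iG, iF, C', hC', ⟨e.trans e'⟩⟩
  obtain ⟨c, hc⟩ := CharP.exists D
  rcases CharP.char_is_prime_or_zero D c with hprime | hzero
  · haveI : Fact c.Prime := ⟨hprime⟩
    apply key c hprime
    · intro hdvd
      obtain ⟨x, hx⟩ := exists_prime_orderOf_dvd_card' (G := H) c hdvd
      have hx1 : (((x : H) : Dˣ) : D) ^ c = 1 := by
        have : x ^ c = 1 := by rw [← hx]; exact pow_orderOf_eq_one x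
        have h2 := congrArg (fun t : H => ((t : Dˣ) : D)) this
        simpa using h2
      have h3 : ((((x : H) : Dˣ) : D) - 1) ^ c = 0 := by
        rw [sub_pow_char_of_commute c (Commute.one_right _), hx1, one_pow, sub_self]
      have h4 : (((x : H) : Dˣ) : D) - 1 = 0 := by
        exact (pow_eq_zero_iff hprime.ne_zero).mp h3
      have h5 : x = 1 := by
        apply Subtype.ext
        apply Units.ext
        rw [sub_eq_zero.mp h4]; rfl
      rw [h5, orderOf_one] at hx
      exact hprime.one_lt.ne hx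
    · refine ⟨⟨QuotientAddGroup.mk ⟨1, drfSpan_one_mem H⟩, 0, ?_⟩⟩
      intro h
      rw [QuotientAddGroup.eq_zero_iff] at h
      obtain ⟨y, hy⟩ := h
      have h1 := congrArg Subtype.val hy
      have h2 : ((c • y : drfSpan H) : D) = 0 := by
        rw [AddSubgroup.coe_nsmul, nsmul_eq_mul, CharP.cast_eq_zero, zero_mul]
      have h3 : (1 : D) = 0 := by
        rw [← h2]; exact h1.symm
      exact one_ne_zero h3
  · subst hzero
    haveI : CharZero D := CharP.charP_to_charZero D
    obtain ⟨p, hpge, hp⟩ := Nat.exists_infinite_primes (Nat.card H + 1)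
    apply key p hp
    · intro hdvd
      have := Nat.le_of_dvd Nat.card_pos hdvd
      omega
    · by_contra hnt
      rw [not_nontrivial_iff_subsingleton] at hnt
      have hdiv : ∀ r : drfSpan H, ∃ r' : drfSpan H, p • r' = r := by
        intro r
        have h0 : (QuotientAddGroup.mk r : drfSpan H ⧸ drfP H p) = 0 := Subsingleton.elim _ _
        rw [QuotientAddGroup.eq_zero_iff] at h0
        obtain ⟨y, hy⟩ := h0
        exact ⟨y, hy⟩
      obtain ⟨N, hN⟩ : ∃ N : Submodule ℤ D, N = AddSubgroup.toIntSubmodule (drfSpan H) := ⟨_, rfl⟩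
      have hmemN : ∀ x : D, x ∈ N ↔ x ∈ drfSpan H := by
        intro x; rw [hN]; rfl
      have hNfg : N.FG := by
        rw [Submodule.fg_iff_addSubgroup_fg, hN, AddSubgroup.toIntSubmodule_toAddSubgroup,
          AddSubgroup.fg_iff]
        refine ⟨{x | ∃ h ∈ H, ((h : Dˣ) : D) = x}, rfl, ?_⟩
        have : {x | ∃ h ∈ H, ((h : Dˣ) : D) = x} = Set.range (fun h : H => ((h : Dˣ) : D)) := by
          ext x
          constructor
          · rintro ⟨h, hh, rfl⟩; exact ⟨⟨h, hh⟩, rfl⟩
          · rintro ⟨h, rfl⟩; exact ⟨h, h.2, rfl⟩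
        rw [this]
        exact Set.finite_range _
      have hNne : N ≠ ⊥ := by
        intro hbot
        have h1 : (1 : D) ∈ N := (hmemN 1).mpr (drfSpan_one_mem H)
        rw [hbot, Submodule.mem_bot] at h1
        exact one_ne_zero h1
      have hp0 : (p : ℚ) ≠ 0 := by exact_mod_cast hp.ne_zero
      have hx : ∀ n ∈ N, ((p : ℚ)⁻¹) • n ∈ N := by
        intro n hn
        obtain ⟨r', hr'⟩ := hdiv ⟨n, (hmemN n).mp hn⟩
        have h1 : n = p • (r' : D) := by
          have := congrArg Subtype.val hr'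
          rw [AddSubgroup.coe_nsmul] at this
          exact this.symm
        rw [h1, ← Nat.cast_smul_eq_nsmul ℚ p (r' : D), smul_smul, inv_mul_cancel₀ hp0, one_smul]
        exact (hmemN _).mpr r'.2
      have hint : IsIntegral ℤ ((p : ℚ)⁻¹) :=
        isIntegral_of_smul_mem_submodule (R := ℤ) (A := ℚ) N hNne hNfg ((p : ℚ)⁻¹) hx
      obtain ⟨y, hy⟩ := IsIntegrallyClosed.algebraMap_eq_of_integral hint
      have h1 : (y : ℚ) * (p : ℚ) = 1 := by
        have : (algebraMap ℤ ℚ) y = (y : ℚ) := rfl
        rw [← this, hy, inv_mul_cancel₀ hp0]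
      have h2 : y * (p : ℤ) = 1 := by exact_mod_cast h1
      have h3 : (p : ℤ) ∣ 1 := ⟨y, by rw [mul_comm]; exact h2.symm⟩
      have h4 : p ∣ 1 := by exact_mod_cast h3
      exact hp.one_lt.ne' (Nat.dvd_one.mp h4)

end Cfsg.Agent.S4293
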