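import Cfsg.Statements.S4296
import Cfsg.Agent.Lib.Helper4.QuatSquare
import Cfsg.Agent.Lib.Helper4.FrobBasic
import Cfsg.Agent.S0039
import Cfsg.Agent.S0040
import Cfsg.Agent.S0069

set_option autoImplicit false
open Cfsg

namespace Cfsg.Agent.S4296

/-- the quaternion relations inside a generalized quaternion group. -/
theorem quat_rel (k : ℕ) :
    ∃ u w z : QuaternionGroup (2 ^ (k + 1)), u * u = z ∧ w * w = z ∧ z * z = 1 ∧ z ≠ 1 ∧
      w * u = z * u * w := by
  obtain ⟨m, hm⟩ : ∃ m : ℕ, m = 2 ^ (k + 1) := ⟨_, rfl⟩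
  rw [← hm]
  have hmpos : 0 < m := by rw [hm]; positivity
  have h2k : 2 ^ k + 2 ^ k = m := by rw [hm, pow_succ]; ring
  refine ⟨QuaternionGroup.a ((2 ^ k : ℕ) : ZMod (2 * m)), QuaternionGroup.xa 0,
    QuaternionGroup.a ((m : ℕ) : ZMod (2 * m)), ?_, ?_, ?_, ?_, ?_⟩
  · rw [QuaternionGroup.a_mul_a, ← Nat.cast_add, h2k]
  · rw [QuaternionGroup.xa_mul_xa]; simp
  · rw [QuaternionGroup.a_mul_a, QuaternionGroup.one_def, ← Nat.cast_add]
    congr 1
    have : m + m = 2 * m := by ring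
    rw [this]; exact ZMod.natCast_self (2 * m)
  · rw [QuaternionGroup.one_def]
    intro h
    have h1 : ((m : ℕ) : ZMod (2 * m)) = 0 := by
      injection h
    rw [ZMod.natCast_eq_zero_iff] at h1
    have := Nat.le_of_dvd hmpos h1
    omega
  · rw [QuaternionGroup.xa_mul_a, QuaternionGroup.a_mul_a, QuaternionGroup.a_mul_xa]
    congr 1
    have h4 : ((m : ℕ) : ZMod (2 * m)) + ((2 ^ k : ℕ) : ZMod (2 * m)) + ((2 ^ k : ℕ) : ZMod (2 * m)) = 0 := by
      rw [add_assoc, ← Nat.cast_add, h2k, ← Nat.cast_add]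
      have : m + m = 2 * m := by ring
      rw [this]; exact ZMod.natCast_self (2 * m)
    rw [zero_add, zero_sub]
    rw [eq_neg_iff_add_eq_zero]
    rw [← h4]; ring

open Cfsg.Agent.Lib.Helper4 in
/-- Let H be a Frobenius complement in a finite group, and suppose some Sylow subgroup of H is not cyclic. Then the number of elements of the Frobenius kernel (the identity together with the elements lying in no conjugate of H) is an odd perfect square. -/
theorem result {L : Type*} [Group L] [Finite L] (H : Subgroup L) (hF : Cfsg.IsFrobeniusComplement H)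
    (hZ : ∃ (p : ℕ) (_ : Fact p.Prime) (P : Sylow p H), ¬ IsCyclic P) :
    Odd (Nat.card (Cfsg.frobeniusKernel H)) ∧ IsSquare (Nat.card (Cfsg.frobeniusKernel H)) := by
  classical
  obtain ⟨N, hNset, hNn, hNc⟩ := Cfsg.Agent.Lib.Helper8.frobenius_kernel_thm H hF
  haveI := hNn
  have hN : N ≠ ⊥ := by
    intro h; apply hF.2.1
    have := hNc.sup_eq_top
    rwa [h, bot_sup_eq] at this
  have hfpf := (Cfsg.Agent.S0039.result N H hNc hN hF.1).mp hF
  have hcardN : Nat.card (Cfsg.frobeniusKernel H) = Nat.card N := by rw [← hNset]; rfl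
  rw [hcardN]
  obtain ⟨p, hp, P, hPnc⟩ := hZ
  haveI := hp
  rcases Cfsg.Agent.S0040.result N H hNc hN hfpf p P with hcyc | ⟨n, ⟨e⟩⟩
  · exact absurd hcyc hPnc
  rcases n with _ | k
  · exfalso
    apply hPnc
    haveI : IsCyclic (QuaternionGroup (2 ^ 0)) :=
      (show IsCyclic (QuaternionGroup 1) from QuaternionGroup.quaternionGroup_one_isCyclic)
    exact isCyclic_of_surjective e.symm e.symm.surjective
  obtain ⟨u₀, w₀, z₀, huu, hww, hzz, hz1, hwu⟩ := quat_rel k
  obtain ⟨ι, hι⟩ : ∃ ι : QuaternionGroup (2 ^ (k + 1)) →* L,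
      ι = (H.subtype.comp (P : Subgroup H).subtype).comp e.symm.toMonoidHom := ⟨_, rfl⟩
  have hιinj : Function.Injective ι := by
    rw [hι]
    intro a b hab
    have h1 : ((e.symm a : (P : Subgroup H)) : H) = ((e.symm b : (P : Subgroup H)) : H) :=
      Subtype.ext hab
    have h2 : e.symm a = e.symm b := Subtype.ext h1
    exact e.symm.injective h2
  have hιH : ∀ q, ι q ∈ H := by
    intro q; rw [hι]; exact ((e.symm q : (P : Subgroup H)) : H).2
  obtain ⟨u, hu⟩ : ∃ u : L, u = ι u₀ := ⟨_, rfl⟩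
  obtain ⟨w, hw⟩ : ∃ w : L, w = ι w₀ := ⟨_, rfl⟩
  obtain ⟨z, hz⟩ : ∃ z : L, z = ι z₀ := ⟨_, rfl⟩
  have huu' : u * u = z := by rw [hu, hz, ← map_mul, huu]
  have hww' : w * w = z := by rw [hw, hz, ← map_mul, hww]
  have hzz' : z * z = 1 := by rw [hz, ← map_mul, hzz, map_one]
  have hz1' : z ≠ 1 := by
    rw [hz]; intro h; apply hz1; apply hιinj; rw [h, map_one]
  have hwu' : w * u = z * u * w := by rw [hw, hu, hz, ← map_mul, ← map_mul, ← map_mul, hwu]
  have hzH : z ∈ H := hz ▸ hιH z₀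
  have hzinv : z⁻¹ = z := inv_eq_of_mul_eq_one_left hzz'
  have hinv : ∀ v ∈ N, z * v * z = v⁻¹ := fun v hv =>
    Cfsg.Agent.S0069.inv_of_involution N H hfpf z hzH hzz' hz1' v hv
  have hcomm : ∀ a b : N, a * b = b * a := by
    intro a b
    apply Subtype.ext
    rw [Subgroup.coe_mul, Subgroup.coe_mul]
    have h1 := hinv _ (N.mul_mem a.2 b.2)
    have h2 := hinv _ a.2
    have h3 := hinv _ b.2
    have h4 : z * ((a : L) * (b : L)) * z = (z * (a : L) * z) * (z * (b : L) * z) := by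
      have e1 : (z * (a : L) * z) * (z * (b : L) * z) = z * (a : L) * (z * z) * (b : L) * z := by group
      rw [e1, hzz']; group
    rw [h1, h2, h3, mul_inv_rev] at h4
    have h5 := congrArg (fun t => t⁻¹) h4
    simp only [mul_inv_rev, inv_inv] at h5
    exact h5
  have hoddN : Odd (Nat.card N) := by
    by_contra hne
    rw [Nat.not_odd_iff_even, even_iff_two_dvd] at hne
    haveI : Fact (Nat.Prime 2) := ⟨Nat.prime_two⟩
    obtain ⟨t, ht⟩ := exists_prime_orderOf_dvd_card' (G := N) 2 hne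
    have ht1 : (t : L) ≠ 1 := by
      intro h
      have : t = 1 := Subtype.ext h
      rw [this, orderOf_one] at ht
      omega
    have htt : (t : L) * (t : L) = 1 := by
      have := pow_orderOf_eq_one t
      rw [ht, pow_two] at this
      have h2 := congrArg Subtype.val this
      simpa using h2
    have htinv : (t : L)⁻¹ = (t : L) := inv_eq_of_mul_eq_one_left htt
    have h1 := hinv _ t.2
    rw [htinv] at h1
    have h2 : (t : L) ∈ N ⊓ Subgroup.centralizer {z} := by
      refine Subgroup.mem_inf.mpr ⟨t.2, ?_⟩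
      rw [Subgroup.mem_centralizer_iff]
      intro y hy
      rw [Set.mem_singleton_iff] at hy
      rw [hy]
      have e1 : z * (t : L) = z * (t : L) * z * z⁻¹ := by group
      rw [e1, h1, hzinv]
    rw [hfpf z hzH hz1', Subgroup.mem_bot] at h2
    exact ht1 h2
  refine ⟨hoddN, ?_⟩
  obtain ⟨α, hα⟩ : ∃ α : N →* N, α = (MulAut.conjNormal u : MulAut N).toMonoidHom := ⟨_, rfl⟩
  obtain ⟨β, hβ⟩ : ∃ β : N →* N, β = (MulAut.conjNormal w : MulAut N).toMonoidHom := ⟨_, rfl⟩
  have hαapply : ∀ v : N, ((α v : N) : L) = u * (v : L) * u⁻¹ := by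
    intro v; rw [hα]; rfl
  have hβapply : ∀ v : N, ((β v : N) : L) = w * (v : L) * w⁻¹ := by
    intro v; rw [hβ]; rfl
  apply quat_card_sq hcomm α β
  · intro v
    apply Subtype.ext
    rw [hαapply, hαapply, Subgroup.coe_inv, ← hinv _ v.2]
    have e1 : u * (u * (v : L) * u⁻¹) * u⁻¹ = (u * u) * (v : L) * (u * u)⁻¹ := by group
    rw [e1, huu', hzinv]
  · intro v
    apply Subtype.ext
    rw [hβapply, hβapply, Subgroup.coe_inv, ← hinv _ v.2]
    have e1 : w * (w * (v : L) * w⁻¹) * w⁻¹ = (w * w) * (v : L) * (w * w)⁻¹ := by group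
    rw [e1, hww', hzinv]
  · intro v
    apply Subtype.ext
    rw [Subgroup.coe_inv, hαapply, hβapply, hβapply, hαapply]
    have hX : u * (w * (v : L) * w⁻¹) * u⁻¹ ∈ N := by
      rw [← hβapply, ← hαapply]; exact (α (β v)).2
    have h1 := hinv _ hX
    have e1 : w * (u * (v : L) * u⁻¹) * w⁻¹ = (w * u) * (v : L) * (w * u)⁻¹ := by group
    rw [e1, hwu']
    have e2 : z * u * w * (v : L) * (z * u * w)⁻¹ = z * (u * (w * (v : L) * w⁻¹) * u⁻¹) * z⁻¹ := by
      group
    rw [e2, hzinv, h1, inv_inv]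
  · exact hoddN

end Cfsg.Agent.S4296
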