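import Cfsg.Statements.S4295
import Cfsg.Agent.Lib.Helper4.QuatData
import Cfsg.Agent.Lib.Helper4.FrobConstruct
import Cfsg.Agent.S4296

set_option autoImplicit false
open Cfsg

namespace Cfsg.Agent.S4295

theorem q8_sq (g : QuaternionGroup 2) (hg : g ≠ 1) :
    g = QuaternionGroup.a 2 ∨ g * g = QuaternionGroup.a 2 := by
  revert g
  decide

theorem q8_not_comm : (QuaternionGroup.a 1 : QuaternionGroup 2) * QuaternionGroup.xa 0 ≠
    QuaternionGroup.xa 0 * QuaternionGroup.a 1 := by
  decide

open Cfsg.Agent.Lib.Helper4 Cfsg.Agent.Lib.Helper6 in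
/-- the quaternion group acts without fixed points on a group of order `k * k`, `k > 1` odd. -/
theorem q8_action (k : ℕ) (hk : Odd k) (hk1 : 1 < k) :
    ∃ (W : Type) (_ : Group W) (_ : Finite W) (_ : Nontrivial W)
      (f : QuaternionGroup 2 →* MulAut W), Nat.card W = k * k ∧
      ∀ x : QuaternionGroup 2, x ≠ 1 → ∀ w : W, f x w = w → w = 1 := by
  obtain ⟨V, iV, fV, A, B, hcard, hA, hB, hBA⟩ := quat_data k hk
  have hcardW : Nat.card (Multiplicative V) = k * k := hcard
  have hoddW : Odd (Nat.card (Multiplicative V)) := by rw [hcardW]; exact hk.mul hk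
  haveI : Nontrivial (Multiplicative V) := by
    apply (Finite.one_lt_card_iff_nontrivial).mp
    rw [hcardW]; nlinarith
  obtain ⟨Ae, hAe⟩ : ∃ Ae : V ≃+ V, ∀ v, Ae v = A v :=
    ⟨{ toFun := A, invFun := fun v => -(A v), left_inv := fun v => by simp [hA],
       right_inv := fun v => by simp [hA], map_add' := A.map_add }, fun v => rfl⟩
  obtain ⟨Be, hBe⟩ : ∃ Be : V ≃+ V, ∀ v, Be v = B v :=
    ⟨{ toFun := B, invFun := fun v => -(B v), left_inv := fun v => by simp [hB],
       right_inv := fun v => by simp [hB], map_add' := B.map_add }, fun v => rfl⟩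
  obtain ⟨α, hα⟩ : ∃ α : MulAut (Multiplicative V), α = AddEquiv.toMultiplicative Ae := ⟨_, rfl⟩
  obtain ⟨β, hβ⟩ : ∃ β : MulAut (Multiplicative V), β = AddEquiv.toMultiplicative Be := ⟨_, rfl⟩
  have hαapply : ∀ w : Multiplicative V, α w = Multiplicative.ofAdd (A (Multiplicative.toAdd w)) := by
    intro w; rw [hα]; show Multiplicative.ofAdd (Ae (Multiplicative.toAdd w)) = _; rw [hAe]
  have hβapply : ∀ w : Multiplicative V, β w = Multiplicative.ofAdd (B (Multiplicative.toAdd w)) := by
    intro w; rw [hβ]; show Multiplicative.ofAdd (Be (Multiplicative.toAdd w)) = _; rw [hBe]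
  have hαα : ∀ w : Multiplicative V, α (α w) = w⁻¹ := by
    intro w; rw [hαapply, hαapply]; simp only [toAdd_ofAdd, hA]; rfl
  have hββ : ∀ w : Multiplicative V, β (β w) = w⁻¹ := by
    intro w; rw [hβapply, hβapply]; simp only [toAdd_ofAdd, hB]; rfl
  have hαβα : ∀ w : Multiplicative V, α (β (α w)) = β w := by
    intro w
    rw [hαapply, hβapply, hαapply, hβapply]
    simp only [toAdd_ofAdd, hBA, map_neg, hA, neg_neg]
  have hα2 : α ^ 2 = β ^ 2 := by
    ext w
    rw [pow_two, pow_two, MulAut.mul_apply, MulAut.mul_apply, hαα, hββ]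
  have hα2ne : ¬ α ^ 2 ^ 1 = 1 := by
    intro h
    obtain ⟨w, hw⟩ := exists_ne (1 : Multiplicative V)
    apply hw
    apply eq_one_of_inv_eq_of_odd hoddW
    have := congrArg (fun g : MulAut (Multiplicative V) => g w) h
    simp only [pow_one, pow_two, MulAut.mul_apply, hαα, MulAut.one_apply] at this
    exact this
  have hα4 : α ^ 2 ^ (1 + 1) = 1 := by
    ext w
    have e : (2 : ℕ) ^ (1 + 1) = 4 := by norm_num
    rw [e]
    have e4 : α ^ 4 = α * α * (α * α) := by
      rw [show (4 : ℕ) = 2 + 2 from rfl, pow_add, pow_two]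
    rw [e4, MulAut.mul_apply, MulAut.mul_apply, MulAut.mul_apply, hαα, hαα, inv_inv,
      MulAut.one_apply]
  have hord : orderOf α = 2 * 2 := by
    have := orderOf_eq_prime_pow hα2ne hα4
    rw [this]; norm_num
  have hαβα' : α * β * α = β := by
    ext w
    rw [MulAut.mul_apply, MulAut.mul_apply, hαβα]
  have hconj : β * α * β⁻¹ = α⁻¹ := by
    have e : β * α * β⁻¹ = α⁻¹ * (α * β * α) * β⁻¹ := by group
    rw [e, hαβα']; group
  have hβnot : β ∉ Subgroup.zpowers α := by
    intro hmem
    obtain ⟨i, hi⟩ := hmem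
    have hcomm : α * β = β * α := by
      rw [← hi]
      exact (Commute.zpow_right (Commute.refl α) i).eq
    apply hα2ne
    rw [pow_one]
    have e1 : β * α * α = β := by rw [← hcomm]; exact hαβα'
    have e2 : α ^ 2 = β⁻¹ * (β * α * α) := by
      rw [pow_two, mul_assoc, inv_mul_cancel_left]
    rw [e2, e1, inv_mul_cancel]
  obtain ⟨f, hfa, hfxa, hfinj⟩ := quat_lift 2 α β hord hα2.symm hconj
  have hf2 : f (QuaternionGroup.a 2) = α ^ 2 := by
    rw [hfa]
    have : (2 : ZMod (2 * 2)) = ((2 : ℕ) : ZMod (2 * 2)) := by norm_cast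
    rw [this, zpN_natCast hord]
  refine ⟨Multiplicative V, inferInstance, inferInstance, inferInstance, f, hcardW, ?_⟩
  intro x hx w hw
  apply eq_one_of_inv_eq_of_odd hoddW
  rcases q8_sq x hx with h | h
  · rw [h, hf2, pow_two, MulAut.mul_apply, hαα] at hw
    exact hw
  · have h1 : f x (f x w) = w⁻¹ := by
      rw [← MulAut.mul_apply, ← map_mul, h, hf2, pow_two, MulAut.mul_apply, hαα]
    rw [hw, hw] at h1
    exact h1.symm

open Cfsg.Agent.Lib.Helper4 in
/-- For a natural number m the following are equivalent: (a) some finite group has a Frobenius complement isomorphic to the quaternion group of order 8 whose Frobenius kernel (the identity together with the elements lying in no conjugate of the complement) has exactly m elements; (b) m is an odd perfect square greater than 1. -/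
theorem result (m : ℕ) :
    (∃ (L : Type) (_ : Group L) (_ : Finite L) (H : Subgroup L), Cfsg.IsFrobeniusComplement H ∧
        Nonempty (H ≃* QuaternionGroup 2) ∧ Nat.card (Cfsg.frobeniusKernel H) = m) ↔
    (Odd m ∧ IsSquare m ∧ 1 < m) := by
  constructor
  · rintro ⟨L, iG, iF, H, hF, ⟨e⟩, hm⟩
    haveI : Fact (Nat.Prime 2) := ⟨Nat.prime_two⟩
    obtain ⟨P⟩ : Nonempty (Sylow 2 H) := inferInstance
    have hcardH : Nat.card H = 2 ^ 3 := by
      rw [Nat.card_congr e.toEquiv, Nat.card_eq_fintype_card, QuaternionGroup.card]; norm_num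
    have hPtop : (P : Subgroup H) = ⊤ := by
      apply Subgroup.eq_top_of_card_eq
      rw [Sylow.card_eq_multiplicity, hcardH, Nat.Prime.factorization_pow Nat.prime_two]
      simp
    have hnc : ¬ IsCyclic P := by
      intro hcyc
      have hcm : IsMulCommutative (P : Subgroup H) := IsCyclic.isMulCommutative
      have h1 : e.symm (QuaternionGroup.a 1) ∈ (P : Subgroup H) := by rw [hPtop]; trivial
      have h2 : e.symm (QuaternionGroup.xa 0) ∈ (P : Subgroup H) := by rw [hPtop]; trivial
      have h3 := hcm.is_comm.comm (⟨_, h1⟩ : (P : Subgroup H)) ⟨_, h2⟩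
      have h4 : e.symm (QuaternionGroup.a 1) * e.symm (QuaternionGroup.xa 0) =
          e.symm (QuaternionGroup.xa 0) * e.symm (QuaternionGroup.a 1) := congrArg Subtype.val h3
      rw [← map_mul, ← map_mul] at h4
      exact q8_not_comm (e.symm.injective h4)
    have h1 := Cfsg.Agent.S4296.result H hF ⟨2, inferInstance, P, hnc⟩
    rw [hm] at h1
    refine ⟨h1.1, h1.2, ?_⟩
    obtain ⟨N, hNset, -, hNc⟩ := Cfsg.Agent.Lib.Helper8.frobenius_kernel_thm H hF
    have hmN : m = Nat.card N := by rw [← hm, ← hNset]; rfl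
    have hm1 : m ≠ 1 := by
      intro h
      rw [hmN] at h
      have hbot := Subgroup.card_eq_one.mp h
      apply hF.2.1
      have := hNc.sup_eq_top
      rwa [hbot, bot_sup_eq] at this
    have hmpos : 0 < m := by rcases h1.1 with ⟨t, ht⟩; omega
    omega
  · rintro ⟨hodd, ⟨k, hk⟩, hm1⟩
    have hkodd : Odd k := by
      rw [hk] at hodd
      exact (Nat.odd_mul.mp hodd).1
    have hk1 : 1 < k := by
      by_contra hle
      push Not at hle
      have : k * k ≤ 1 := by nlinarith
      omega
    obtain ⟨W, iW, fW, nW, f, hcardW, hfpf⟩ := q8_action k hkodd hk1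
    obtain ⟨H, hF, ⟨e⟩, hker⟩ := frob_of_fpf f hfpf
    haveI : Finite (W ⋊[f] QuaternionGroup 2) := Finite.of_equiv _ SemidirectProduct.equivProd.symm
    exact ⟨W ⋊[f] QuaternionGroup 2, inferInstance, inferInstance, H, hF, ⟨e.symm⟩,
      by rw [hker, hcardW, hk]⟩

end Cfsg.Agent.S4295
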