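import Cfsg.Statements.S4297
import Cfsg.Agent.Lib.Helper4.QuatData
import Cfsg.Agent.Lib.Helper4.FrobConstruct

set_option autoImplicit false
open Cfsg

namespace Cfsg.Agent.S4297

/-- the diagonal action of a unit on the plane. -/
noncomputable def diagAut (p : ℕ) : (ZMod p)ˣ →* MulAut (Multiplicative (ZMod p × ZMod p)) where
  toFun u := AddEquiv.toMultiplicative
    { toFun := fun v => ((u : ZMod p) * v.1, ((u⁻¹ : (ZMod p)ˣ) : ZMod p) * v.2)
      invFun := fun v => (((u⁻¹ : (ZMod p)ˣ) : ZMod p) * v.1, (u : ZMod p) * v.2)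
      left_inv := fun v => by ext <;> simp
      right_inv := fun v => by ext <;> simp
      map_add' := fun a b => by ext <;> simp [mul_add] }
  map_one' := by
    ext v
    · show (((1 : (ZMod p)ˣ) : ZMod p) * (Multiplicative.toAdd v).1) = (Multiplicative.toAdd v).1
      simp
    · show ((((1 : (ZMod p)ˣ)⁻¹ : (ZMod p)ˣ) : ZMod p) * (Multiplicative.toAdd v).2) = (Multiplicative.toAdd v).2
      simp
  map_mul' := fun u w => by
    ext v
    · show (((u * w : (ZMod p)ˣ) : ZMod p) * (Multiplicative.toAdd v).1) =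
        (u : ZMod p) * ((w : ZMod p) * (Multiplicative.toAdd v).1)
      rw [Units.val_mul, mul_assoc]
    · show ((((u * w)⁻¹ : (ZMod p)ˣ) : ZMod p) * (Multiplicative.toAdd v).2) =
        ((u⁻¹ : (ZMod p)ˣ) : ZMod p) * (((w⁻¹ : (ZMod p)ˣ) : ZMod p) * (Multiplicative.toAdd v).2)
      rw [mul_inv, Units.val_mul, mul_assoc]

theorem diagAut_apply (p : ℕ) (u : (ZMod p)ˣ) (v : Multiplicative (ZMod p × ZMod p)) :
    Multiplicative.toAdd (diagAut p u v) =
      ((u : ZMod p) * (Multiplicative.toAdd v).1, ((u⁻¹ : (ZMod p)ˣ) : ZMod p) * (Multiplicative.toAdd v).2) := rfl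

/-- the swap with a sign. -/
noncomputable def swapAut (p : ℕ) : MulAut (Multiplicative (ZMod p × ZMod p)) :=
  AddEquiv.toMultiplicative
    { toFun := fun v => (v.2, -v.1)
      invFun := fun v => (-v.2, v.1)
      left_inv := fun v => by ext <;> simp
      right_inv := fun v => by ext <;> simp
      map_add' := fun a b => by ext <;> simp [add_comm] }

theorem swapAut_apply (p : ℕ) (v : Multiplicative (ZMod p × ZMod p)) :
    Multiplicative.toAdd (swapAut p v) = ((Multiplicative.toAdd v).2, -(Multiplicative.toAdd v).1) := rfl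

open Cfsg.Agent.Lib.Helper4 Cfsg.Agent.Lib.Helper6 in
/-- For every n ≥ 2 the dicyclic group of order 4n (generated by an element a of order 2n and an element x with x² = aⁿ and x a x⁻¹ = a⁻¹) occurs as a Frobenius complement of some finite Frobenius group. -/
theorem result (n : ℕ) (hn : 2 ≤ n) :
    ∃ (L : Type) (_ : Group L) (_ : Finite L) (H : Subgroup L), Cfsg.IsFrobeniusComplement H ∧ Nonempty (H ≃* QuaternionGroup n) := by
  classical
  haveI : NeZero n := ⟨by omega⟩
  obtain ⟨p, hp, hnp, hpmod⟩ := Nat.exists_prime_gt_modEq_one (k := 2 * n) (2 * n) (by omega)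
  haveI : Fact p.Prime := ⟨hp⟩
  have hdvd : 2 * n ∣ p - 1 := (Nat.modEq_iff_dvd' hp.one_lt.le).mp hpmod.symm
  have hp1 : p - 1 ≠ 0 := by have := hp.one_lt; omega
  have hp2 : p ≠ 2 := by omega
  obtain ⟨u, hu⟩ := IsCyclic.exists_generator (α := (ZMod p)ˣ)
  have hou : orderOf u = p - 1 := by
    rw [orderOf_eq_card_of_forall_mem_zpowers hu, Nat.card_eq_fintype_card, ZMod.card_units]
  obtain ⟨ζ, hζ⟩ : ∃ ζ : (ZMod p)ˣ, ζ = u ^ ((p - 1) / (2 * n)) := ⟨_, rfl⟩
  have hq0 : (p - 1) / (2 * n) ≠ 0 := by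
    intro h
    rw [Nat.div_eq_zero_iff] at h
    rcases h with h | h
    · omega
    · have := Nat.le_of_dvd (by omega) hdvd
      omega
  have hoζ : orderOf ζ = 2 * n := by
    rw [hζ, orderOf_pow' _ hq0, hou, Nat.gcd_eq_right (Nat.div_dvd_of_dvd hdvd),
      Nat.div_div_self hdvd hp1]
  -- ζ^n = -1
  have hζn : ((ζ ^ n : (ZMod p)ˣ) : ZMod p) = -1 := by
    have h1 : (ζ ^ n) ^ 2 = 1 := by
      rw [← pow_mul, mul_comm, ← hoζ, pow_orderOf_eq_one]
    have h2 : ζ ^ n ≠ 1 := by
      intro h
      have := orderOf_dvd_of_pow_eq_one h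
      rw [hoζ] at this
      have := Nat.le_of_dvd (by omega) this
      omega
    have h3 : ((ζ ^ n : (ZMod p)ˣ) : ZMod p) ^ 2 = 1 := by
      rw [← Units.val_pow_eq_pow_val, h1, Units.val_one]
    rw [pow_two] at h3
    rcases mul_self_eq_one_iff.mp h3 with h | h
    · exact absurd (Units.ext h) h2
    · exact h
  obtain ⟨W, hW⟩ : ∃ W : Type, W = Multiplicative (ZMod p × ZMod p) := ⟨_, rfl⟩
  have hcardW : Nat.card (Multiplicative (ZMod p × ZMod p)) = p * p := by
    show Nat.card (ZMod p × ZMod p) = p * p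
    rw [Nat.card_prod, Nat.card_zmod]
  have hoddp : Odd p := hp.odd_of_ne_two hp2
  have hoddW : Odd (Nat.card (Multiplicative (ZMod p × ZMod p))) := by
    rw [hcardW]; exact hoddp.mul hoddp
  haveI : Nontrivial (Multiplicative (ZMod p × ZMod p)) := by
    apply (Finite.one_lt_card_iff_nontrivial).mp
    rw [hcardW]; have := hp.one_lt; nlinarith
  obtain ⟨α, hα⟩ : ∃ α : MulAut (Multiplicative (ZMod p × ZMod p)), α = diagAut p ζ := ⟨_, rfl⟩
  obtain ⟨β, hβ⟩ : ∃ β : MulAut (Multiplicative (ZMod p × ZMod p)), β = swapAut p := ⟨_, rfl⟩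
  -- fixed points of the diagonal action
  have hDfix : ∀ w : (ZMod p)ˣ, w ≠ 1 → ∀ v, diagAut p w v = v → v = 1 := by
    intro w hw v hv
    have h1 := congrArg Multiplicative.toAdd hv
    rw [diagAut_apply] at h1
    have h2 := congrArg Prod.fst h1
    have h3 := congrArg Prod.snd h1
    simp only at h2 h3
    have hw1 : (w : ZMod p) - 1 ≠ 0 := by
      intro h
      apply hw
      apply Units.ext
      rw [Units.val_one]
      exact sub_eq_zero.mp h
    have hw2 : ((w⁻¹ : (ZMod p)ˣ) : ZMod p) - 1 ≠ 0 := by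
      intro h
      apply hw
      have : w⁻¹ = 1 := by
        apply Units.ext
        rw [Units.val_one]
        exact sub_eq_zero.mp h
      exact inv_eq_one.mp this
    have e1 : (Multiplicative.toAdd v).1 = 0 := by
      have : ((w : ZMod p) - 1) * (Multiplicative.toAdd v).1 = 0 := by rw [sub_mul, h2]; ring
      rcases mul_eq_zero.mp this with h | h
      · exact absurd h hw1
      · exact h
    have e2 : (Multiplicative.toAdd v).2 = 0 := by
      have : (((w⁻¹ : (ZMod p)ˣ) : ZMod p) - 1) * (Multiplicative.toAdd v).2 = 0 := by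
        rw [sub_mul, h3]; ring
      rcases mul_eq_zero.mp this with h | h
      · exact absurd h hw2
      · exact h
    show v = Multiplicative.ofAdd 0
    apply Multiplicative.toAdd.injective
    exact Prod.ext e1 e2
  have hDinj : Function.Injective (diagAut p) := by
    rw [injective_iff_map_eq_one]
    intro w hw
    by_contra hne
    obtain ⟨v, hv⟩ := exists_ne (1 : Multiplicative (ZMod p × ZMod p))
    apply hv
    apply hDfix w hne v
    rw [hw]; rfl
  have hord : orderOf α = 2 * n := by rw [hα, orderOf_injective (diagAut p) hDinj, hoζ]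
  -- β² = inversion
  have hββ : ∀ v, β (β v) = v⁻¹ := by
    intro v
    rw [hβ]
    apply Multiplicative.toAdd.injective
    rw [swapAut_apply, swapAut_apply]
    simp only [neg_neg]
    rfl
  have hαn : ∀ v, (α ^ n) v = v⁻¹ := by
    intro v
    rw [hα, ← map_pow]
    apply Multiplicative.toAdd.injective
    rw [diagAut_apply, ← inv_pow, Units.val_pow_eq_pow_val, Units.val_pow_eq_pow_val]
    have h1 : ((ζ⁻¹ : (ZMod p)ˣ) : ZMod p) ^ n = -1 := by
      have : ((ζ⁻¹ : (ZMod p)ˣ) ^ n : (ZMod p)ˣ) = (ζ ^ n)⁻¹ := by rw [inv_pow]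
      rw [← Units.val_pow_eq_pow_val, this]
      have h2 : ((ζ ^ n : (ZMod p)ˣ)) = -1 := by
        apply Units.ext; rw [hζn]; simp
      rw [h2]; simp
    rw [Units.val_pow_eq_pow_val] at hζn
    rw [hζn, h1]
    ext <;> simp
  have hβ2 : β ^ 2 = α ^ n := by
    apply MulEquiv.ext
    intro v
    rw [pow_two, MulAut.mul_apply, hββ, hαn]
  have hconjD : ∀ w : (ZMod p)ˣ, β * diagAut p w * β⁻¹ = diagAut p w⁻¹ := by
    intro w
    rw [mul_inv_eq_iff_eq_mul]
    apply MulEquiv.ext
    intro v
    rw [MulAut.mul_apply, MulAut.mul_apply, hβ]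
    apply Multiplicative.toAdd.injective
    rw [swapAut_apply, diagAut_apply, diagAut_apply, swapAut_apply, inv_inv]
    refine Prod.ext rfl ?_
    exact (mul_neg _ _).symm
  have hconj : β * α * β⁻¹ = α⁻¹ := by rw [hα, hconjD, map_inv]
  have hα2ne : α ^ 2 ≠ 1 := by
    intro h
    have := orderOf_dvd_of_pow_eq_one h
    rw [hord] at this
    have := Nat.le_of_dvd (by omega) this
    omega
  have hβnot : β ∉ Subgroup.zpowers α := by
    intro hmem
    obtain ⟨i, hi⟩ := hmem
    have hcomm : β * α = α * β := by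
      rw [← hi]
      exact ((Commute.refl α).zpow_left i).eq
    apply hα2ne
    have e1 : α = α⁻¹ := by
      rw [← hconj, hcomm, mul_inv_cancel_right]
    rw [pow_two]
    nth_rewrite 1 [e1]
    exact inv_mul_cancel α
  obtain ⟨f, hfa, hfxa, hfinj⟩ := quat_lift n α β hord hβ2 hconj
  have hfinj' := hfinj hβnot
  have hzD : ∀ i : ZMod (2 * n), zpN (2 * n) α i = diagAut p (ζ ^ (ZMod.cast i : ℤ)) := by
    intro i
    unfold zpN
    rw [hα, map_zpow]
  have hfpf : ∀ x : QuaternionGroup n, x ≠ 1 →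
      ∀ v : Multiplicative (ZMod p × ZMod p), f x v = v → v = 1 := by
    intro x hx v hv
    rcases x with i | i
    · rw [hfa, hzD] at hv
      apply hDfix _ _ v hv
      intro h
      apply hx
      have h1 : f (QuaternionGroup.a i) = 1 := by rw [hfa, hzD, h, map_one]
      have := hfinj' (h1.trans (map_one f).symm)
      exact this
    · rw [hfxa, hzD] at hv
      apply eq_one_of_inv_eq_of_odd hoddW
      obtain ⟨w, hw⟩ : ∃ w : (ZMod p)ˣ, w = ζ ^ (ZMod.cast i : ℤ) := ⟨_, rfl⟩
      rw [← hw] at hv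
      have h1 : (β * diagAut p w) * (β * diagAut p w) = β * β := by
        have e1 : diagAut p w * β = β * diagAut p w⁻¹ := by
          have e0 : diagAut p w = β * diagAut p w⁻¹ * β⁻¹ := by rw [hconjD, inv_inv]
          nth_rewrite 1 [e0]
          group
        calc (β * diagAut p w) * (β * diagAut p w)
            = β * (diagAut p w * β) * diagAut p w := by group
          _ = β * (β * diagAut p w⁻¹) * diagAut p w := by rw [e1]
          _ = β * β * (diagAut p w⁻¹ * diagAut p w) := by group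
          _ = β * β := by rw [← map_mul, inv_mul_cancel, map_one, mul_one]
      have h2 : (β * diagAut p w) ((β * diagAut p w) v) = v⁻¹ := by
        rw [← MulAut.mul_apply, h1, MulAut.mul_apply, hββ]
      rw [hv, hv] at h2
      exact h2.symm
  obtain ⟨H, hF, ⟨e⟩, -⟩ := frob_of_fpf f hfpf
  haveI : Finite (Multiplicative (ZMod p × ZMod p) ⋊[f] QuaternionGroup n) :=
    Finite.of_equiv _ SemidirectProduct.equivProd.symm
  exact ⟨Multiplicative (ZMod p × ZMod p) ⋊[f] QuaternionGroup n, inferInstance, inferInstance,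
    H, hF, ⟨e.symm⟩⟩

end Cfsg.Agent.S4297
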