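import Cfsg.Statements.S4298
import Mathlib
import Cfsg.Agent.Lib.Helper1.FrobFpf

set_option autoImplicit false
open Cfsg

namespace Cfsg.Agent.S4298


open Cfsg.Agent.Lib.Helper1.FrobFpf

/-- table of a faithful representation of `SL(2,3)` in `GL(2,5)` -/
def fTab (a b c d : Fin 3) : Matrix (Fin 2) (Fin 2) (ZMod 5) :=
  match a, b, c, d with
  | 0, 1, 2, 0 => !![3, 0; 4, 2]
  | 0, 1, 2, 1 => !![2, 3; 4, 4]
  | 0, 1, 2, 2 => !![0, 2; 2, 4]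
  | 0, 2, 1, 0 => !![2, 0; 1, 3]
  | 0, 2, 1, 1 => !![0, 3; 3, 1]
  | 0, 2, 1, 2 => !![3, 2; 1, 1]
  | 1, 0, 0, 1 => !![1, 0; 0, 1]
  | 1, 0, 1, 1 => !![2, 4; 2, 2]
  | 1, 0, 2, 1 => !![2, 1; 3, 2]
  | 1, 1, 0, 1 => !![0, 4; 1, 4]
  | 1, 1, 1, 2 => !![4, 4; 2, 1]
  | 1, 1, 2, 0 => !![1, 2; 2, 0]
  | 1, 2, 0, 1 => !![4, 1; 4, 0]
  | 1, 2, 1, 0 => !![4, 2; 1, 2]
  | 1, 2, 2, 2 => !![2, 2; 0, 3]
  | 2, 0, 0, 2 => !![4, 0; 0, 4]
  | 2, 0, 1, 2 => !![3, 4; 2, 3]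
  | 2, 0, 2, 2 => !![3, 1; 3, 3]
  | 2, 1, 0, 2 => !![1, 4; 1, 0]
  | 2, 1, 1, 1 => !![3, 3; 0, 2]
  | 2, 1, 2, 0 => !![1, 3; 4, 3]
  | 2, 2, 0, 2 => !![0, 1; 4, 1]
  | 2, 2, 1, 0 => !![4, 3; 3, 0]
  | 2, 2, 2, 1 => !![1, 1; 3, 4]
  | _, _, _, _ => 1

/-- the same table on `ZMod 3` -/
def fTabZ (a b c d : ZMod 3) : Matrix (Fin 2) (Fin 2) (ZMod 5) := fTab a b c d

set_option maxRecDepth 1000000 in
theorem fTab_mul : ∀ a b c d a' b' c' d' : ZMod 3, a * d - b * c = 1 → a' * d' - b' * c' = 1 →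
    fTabZ (a * a' + b * c') (a * b' + b * d') (c * a' + d * c') (c * b' + d * d') =
      fTabZ a b c d * fTabZ a' b' c' d' := by
  decide

set_option maxRecDepth 1000000 in
theorem fTab_fpf : ∀ a b c d : ZMod 3, a * d - b * c = 1 → ¬ (a = 1 ∧ b = 0 ∧ c = 0 ∧ d = 1) →
    ∀ x y : ZMod 5, (fTabZ a b c d).mulVec ![x, y] = ![x, y] → x = 0 ∧ y = 0 := by
  decide

theorem fTab_one : fTabZ 1 0 0 1 = 1 := by decide

/-- the representation as a monoid homomorphism -/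
def fHom : Matrix.SpecialLinearGroup (Fin 2) (ZMod 3) →* Matrix (Fin 2) (Fin 2) (ZMod 5) where
  toFun A := fTabZ (A.1 0 0) (A.1 0 1) (A.1 1 0) (A.1 1 1)
  map_one' := by
    show fTabZ ((1 : Matrix (Fin 2) (Fin 2) (ZMod 3)) 0 0) ((1 : Matrix (Fin 2) (Fin 2) (ZMod 3)) 0 1)
      ((1 : Matrix (Fin 2) (Fin 2) (ZMod 3)) 1 0) ((1 : Matrix (Fin 2) (Fin 2) (ZMod 3)) 1 1) = 1
    simp only [Matrix.one_apply_eq, Matrix.one_apply_ne, ne_eq, zero_ne_one, one_ne_zero,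
      not_false_eq_true]
    exact fTab_one
  map_mul' := by
    intro A B
    have hA : A.1 0 0 * A.1 1 1 - A.1 0 1 * A.1 1 0 = 1 := by
      rw [← Matrix.det_fin_two]; exact A.2
    have hB : B.1 0 0 * B.1 1 1 - B.1 0 1 * B.1 1 0 = 1 := by
      rw [← Matrix.det_fin_two]; exact B.2
    have := fTab_mul _ _ _ _ _ _ _ _ hA hB
    rw [← this]
    show fTabZ ((A.1 * B.1) 0 0) ((A.1 * B.1) 0 1) ((A.1 * B.1) 1 0) ((A.1 * B.1) 1 1) = _
    simp only [Matrix.mul_apply, Fin.sum_univ_two]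


/-- The group SL(2,3) of order 24 (the binary tetrahedral group) occurs as a Frobenius complement of some finite Frobenius group. -/
theorem result :
    ∃ (L : Type) (_ : Group L) (_ : Finite L) (H : Subgroup L), Cfsg.IsFrobeniusComplement H ∧ Nonempty (H ≃* Matrix.SpecialLinearGroup (Fin 2) (ZMod 3)) := by
  haveI : Nontrivial (Matrix.SpecialLinearGroup (Fin 2) (ZMod 3)) := by
    refine ⟨⟨1, ⟨!![1, 1; 0, 1], by simp [Matrix.det_fin_two]⟩, ?_⟩⟩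
    intro h
    have := congrArg (fun A : Matrix.SpecialLinearGroup (Fin 2) (ZMod 3) => A.1 0 1) h
    revert this
    simp
  haveI : Fact (1 < 5) := ⟨by norm_num⟩
  apply frobenius_of_matrix_rep fHom
  intro A hA v hv
  have hdet : A.1 0 0 * A.1 1 1 - A.1 0 1 * A.1 1 0 = 1 := by
    rw [← Matrix.det_fin_two]; exact A.2
  have hne : ¬ (A.1 0 0 = 1 ∧ A.1 0 1 = 0 ∧ A.1 1 0 = 0 ∧ A.1 1 1 = 1) := by
    rintro ⟨h1, h2, h3, h4⟩
    apply hA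
    ext i j
    fin_cases i <;> fin_cases j
    · simpa using h1
    · simpa using h2
    · simpa using h3
    · simpa using h4
  have hv2 : v = ![v 0, v 1] := by
    ext i; fin_cases i <;> rfl
  have hv' : (fTabZ (A.1 0 0) (A.1 0 1) (A.1 1 0) (A.1 1 1)).mulVec ![v 0, v 1] = ![v 0, v 1] := by
    rw [← hv2]; exact hv
  obtain ⟨h0, h1⟩ := fTab_fpf _ _ _ _ hdet hne _ _ hv'
  ext i
  fin_cases i
  · exact h0
  · exact h1

end Cfsg.Agent.S4298
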