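import Cfsg.Statements.S4299

set_option autoImplicit false
open Cfsg

namespace Cfsg.Agent.S4299

open scoped Pointwise

noncomputable def unitAut (p : ℕ) : (ZMod p)ˣ →* MulAut (Multiplicative (ZMod p)) :=
  (MulAutMultiplicative (ZMod p)).symm.toMonoidHom.comp AddAut.mulLeft

theorem unitAut_apply (p : ℕ) (u : (ZMod p)ˣ) (x : Multiplicative (ZMod p)) :
    Multiplicative.toAdd (unitAut p u x) = (u : ZMod p) * Multiplicative.toAdd x := rfl

/-- Every nontrivial finite cyclic group occurs as a Frobenius complement of some finite Frobenius group. -/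
theorem result {C : Type*} [Group C] [Finite C] [IsCyclic C] [Nontrivial C] :
    ∃ (L : Type) (_ : Group L) (_ : Finite L) (H : Subgroup L), Cfsg.IsFrobeniusComplement H ∧ Nonempty (C ≃* H) := by
  classical
  have hn2 : 2 ≤ Nat.card C := Finite.one_lt_card
  obtain ⟨p, hp, hnp, hpmod⟩ := Nat.exists_prime_gt_modEq_one (k := Nat.card C) (Nat.card C) (by omega)
  have : Fact p.Prime := ⟨hp⟩
  have hdvd : Nat.card C ∣ p - 1 := (Nat.modEq_iff_dvd' hp.one_lt.le).mp hpmod.symm
  have hp1 : p - 1 ≠ 0 := by have := hp.one_lt; omega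
  obtain ⟨u, hu⟩ := IsCyclic.exists_generator (α := (ZMod p)ˣ)
  have hou : orderOf u = p - 1 := by
    rw [orderOf_eq_card_of_forall_mem_zpowers hu, Nat.card_eq_fintype_card, ZMod.card_units]
  obtain ⟨v, hv⟩ : ∃ v : (ZMod p)ˣ, v = u ^ ((p - 1) / Nat.card C) := ⟨_, rfl⟩
  have hq0 : (p - 1) / Nat.card C ≠ 0 := by
    intro h
    rw [Nat.div_eq_zero_iff] at h
    rcases h with h | h
    · omega
    · have := Nat.le_of_dvd (by omega) hdvd
      omega
  have hov : orderOf v = Nat.card C := by
    rw [hv, orderOf_pow' _ hq0, hou, Nat.gcd_eq_right (Nat.div_dvd_of_dvd hdvd),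
      Nat.div_div_self hdvd hp1]
  have hcardH0 : Nat.card (Subgroup.zpowers v) = Nat.card C := by rw [Nat.card_zpowers, hov]
  let φ : Subgroup.zpowers v →* MulAut (Multiplicative (ZMod p)) :=
    (unitAut p).comp (Subgroup.zpowers v).subtype
  have hfin : Finite (Multiplicative (ZMod p) ⋊[φ] Subgroup.zpowers v) :=
    Finite.of_equiv _ SemidirectProduct.equivProd.symm
  have hleft : ∀ g : Multiplicative (ZMod p) ⋊[φ] Subgroup.zpowers v,
      g ∈ (SemidirectProduct.inr : Subgroup.zpowers v →* _).range ↔ g.left = 1 := by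
    intro g
    constructor
    · rintro ⟨h, rfl⟩
      rfl
    · intro h
      refine ⟨g.right, ?_⟩
      apply SemidirectProduct.ext
      · rw [SemidirectProduct.left_inr, h]
      · rw [SemidirectProduct.right_inr]
  refine ⟨Multiplicative (ZMod p) ⋊[φ] Subgroup.zpowers v, inferInstance, hfin,
    (SemidirectProduct.inr : Subgroup.zpowers v →* _).range, ⟨?_, ?_, ?_⟩, ?_⟩
  · intro hbot
    have hvmem : (SemidirectProduct.inr ⟨v, Subgroup.mem_zpowers v⟩ :
        Multiplicative (ZMod p) ⋊[φ] Subgroup.zpowers v) ∈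
        (SemidirectProduct.inr : Subgroup.zpowers v →* _).range := ⟨_, rfl⟩
    rw [hbot, Subgroup.mem_bot] at hvmem
    have h1 : (⟨v, Subgroup.mem_zpowers v⟩ : Subgroup.zpowers v) = 1 := by
      apply SemidirectProduct.inr_injective (φ := φ)
      rw [hvmem, map_one]
    have h2 : v = 1 := congrArg Subtype.val h1
    rw [h2, orderOf_one] at hov
    omega
  · intro htop
    have hmem : (SemidirectProduct.inl (Multiplicative.ofAdd (1 : ZMod p)) :
        Multiplicative (ZMod p) ⋊[φ] Subgroup.zpowers v) ∈
        (SemidirectProduct.inr : Subgroup.zpowers v →* _).range := by rw [htop]; trivial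
    rw [hleft, SemidirectProduct.left_inl] at hmem
    have : (1 : ZMod p) = 0 := by
      have := congrArg Multiplicative.toAdd hmem
      simp at this
    exact one_ne_zero this
  · intro g hg
    rw [hleft] at hg
    rw [Subgroup.eq_bot_iff_forall]
    intro y hy
    rw [Subgroup.mem_inf] at hy
    obtain ⟨hy1, hy2⟩ := hy
    rw [Subgroup.mem_pointwise_smul_iff_inv_smul_mem] at hy2
    obtain ⟨c1, rfl⟩ := hy1
    obtain ⟨c2, hc2⟩ := hy2
    have heq : (SemidirectProduct.inr c1 : Multiplicative (ZMod p) ⋊[φ] Subgroup.zpowers v) * g =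
        g * SemidirectProduct.inr c2 := by
      rw [hc2]
      simp [MulAut.smul_def, mul_assoc]
    have hl := congrArg SemidirectProduct.left heq
    rw [SemidirectProduct.mul_left, SemidirectProduct.mul_left, SemidirectProduct.left_inr,
      SemidirectProduct.left_inr, SemidirectProduct.right_inr, one_mul, map_one, mul_one] at hl
    -- φ c1 g.left = g.left
    have hl2 := congrArg Multiplicative.toAdd hl
    have hφ : Multiplicative.toAdd (φ c1 g.left) = ((c1 : (ZMod p)ˣ) : ZMod p) * Multiplicative.toAdd g.left :=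
      unitAut_apply p (c1 : (ZMod p)ˣ) g.left
    rw [hφ] at hl2
    have hb : Multiplicative.toAdd g.left ≠ 0 := by
      intro h
      apply hg
      have : g.left = Multiplicative.ofAdd (Multiplicative.toAdd g.left) := rfl
      rw [this, h]; rfl
    have hc1 : ((c1 : (ZMod p)ˣ) : ZMod p) = 1 := by
      have : (((c1 : (ZMod p)ˣ) : ZMod p) - 1) * Multiplicative.toAdd g.left = 0 := by
        rw [sub_mul, one_mul, hl2, sub_self]
      rcases mul_eq_zero.mp this with h | h
      · exact sub_eq_zero.mp h
      · exact absurd h hb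
    have hc1' : c1 = 1 := by
      apply Subtype.ext
      apply Units.ext
      exact hc1
    rw [hc1', map_one]
  · have hcyc : IsCyclic (Subgroup.zpowers v) := inferInstance
    have e1 : C ≃* Subgroup.zpowers v := mulEquivOfCyclicCardEq hcardH0.symm
    exact ⟨e1.trans (MonoidHom.ofInjective (SemidirectProduct.inr_injective (φ := φ)))⟩

end Cfsg.Agent.S4299
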