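import Cfsg.Statements.S4300

set_option autoImplicit false
open Cfsg

namespace Cfsg.Agent.S4300

/-- Let G act faithfully and primitively on a set X, and suppose the stabilizer of some point is a simple group. Then either G is simple, or G has a normal subgroup, neither trivial nor the whole group, that acts regularly on X (transitively with trivial point stabilizers). -/
theorem result {G : Type*} [Group G] {X : Type*} [MulAction G X] [FaithfulSMul G X]
    (hprim : MulAction.IsPreprimitive G X) (x : X) (hsimple : IsSimpleGroup (MulAction.stabilizer G x)) :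
    IsSimpleGroup G ∨ ∃ N : Subgroup G, N.Normal ∧ N ≠ ⊥ ∧ N ≠ ⊤ ∧
      MulAction.IsPretransitive N X ∧ ∀ y : X, MulAction.stabilizer N y = ⊥ := by
  classical
  have hst_nt : Nontrivial (MulAction.stabilizer G x) := hsimple.toNontrivial
  -- G is nontrivial
  have hGnt : Nontrivial G := by
    obtain ⟨a, b, hab⟩ := hst_nt
    exact ⟨⟨(a : G), (b : G), fun h => hab (Subtype.ext h)⟩⟩
  by_cases hS : IsSimpleGroup G
  · exact Or.inl hS
  right
  -- there is a proper nontrivial normal subgroup
  have hex : ∃ N : Subgroup G, N.Normal ∧ N ≠ ⊥ ∧ N ≠ ⊤ := by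
    by_contra hcon
    apply hS
    refine ⟨fun N hN => ?_⟩
    by_contra h2
    apply hcon
    refine ⟨N, hN, fun h => h2 (Or.inl h), fun h => h2 (Or.inr h)⟩
  obtain ⟨N, hNn, hNbot, hNtop⟩ := hex
  have := hNn
  have : MulAction.IsPretransitive G X := hprim.toIsPretransitive
  -- stabilizer G x is nontrivial, so X is nontrivial
  have hXnt : Nontrivial X := by
    by_contra hX
    rw [not_nontrivial_iff_subsingleton] at hX
    -- then G acts trivially so G is trivial
    obtain ⟨a, b, hab⟩ := hGnt
    apply hab
    apply FaithfulSMul.eq_of_smul_eq_smul (α := X)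
    intro y
    exact Subsingleton.elim _ _
  -- N acts nontrivially
  have hfix : MulAction.fixedPoints N X ≠ Set.univ := by
    intro hfix
    apply hNbot
    rw [Subgroup.eq_bot_iff_forall]
    intro n hn
    apply FaithfulSMul.eq_of_smul_eq_smul (α := X)
    intro y
    have hy : y ∈ MulAction.fixedPoints N X := by rw [hfix]; exact Set.mem_univ y
    have := hy ⟨n, hn⟩
    simpa using this
  have hNtrans : MulAction.IsPretransitive N X :=
    (MulAction.IsPreprimitive.isQuasiPreprimitive (M := G) (α := X)).isPretransitive_of_normal hfix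
  -- N ∩ G_x
  have hnorm : (N.subgroupOf (MulAction.stabilizer G x)).Normal := inferInstance
  have hcase := hsimple.eq_bot_or_eq_top_of_normal _ hnorm
  have hcoatom : IsCoatom (MulAction.stabilizer G x) :=
    MulAction.IsPreprimitive.isCoatom_stabilizer_of_isPreprimitive (G := G) (X := X) x
  rcases hcase with hbot | htop
  · -- regular case
    refine ⟨N, hNn, hNbot, hNtop, hNtrans, ?_⟩
    intro y
    obtain ⟨g, rfl⟩ := MulAction.exists_smul_eq G x y
    rw [Subgroup.eq_bot_iff_forall]
    intro n hn
    rw [MulAction.mem_stabilizer_iff] at hn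
    -- g⁻¹ n g ∈ N ∩ G_x
    have h1 : g⁻¹ * (n : G) * g ∈ N := by
      have := hNn.conj_mem (n : G) n.2 g⁻¹
      simpa using this
    have h2 : g⁻¹ * (n : G) * g ∈ MulAction.stabilizer G x := by
      rw [MulAction.mem_stabilizer_iff]
      have : (n : G) • (g • x) = g • x := hn
      rw [mul_smul, mul_smul, this, inv_smul_smul]
    have h3 : (⟨g⁻¹ * (n : G) * g, h2⟩ : MulAction.stabilizer G x) ∈
        N.subgroupOf (MulAction.stabilizer G x) := by
      rw [Subgroup.mem_subgroupOf]; exact h1
    rw [hbot, Subgroup.mem_bot] at h3
    have h4 : g⁻¹ * (n : G) * g = 1 := congrArg Subtype.val h3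
    have h5 : (n : G) = 1 := by
      have : (n : G) = g * (g⁻¹ * (n : G) * g) * g⁻¹ := by group
      rw [this, h4]; group
    exact Subtype.ext h5
  · -- G_x ≤ N, impossible
    exfalso
    have hle : MulAction.stabilizer G x ≤ N := by
      rw [Subgroup.subgroupOf_eq_top] at htop
      exact htop
    have hNeq : N = MulAction.stabilizer G x := by
      rcases eq_or_lt_of_le hle with h | h
      · exact h.symm
      · exact absurd (hcoatom.2 N h) hNtop
    -- stabilizer normal → fixes everything → trivial
    have hall : ∀ n ∈ N, n = 1 := by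
      intro n hn
      apply FaithfulSMul.eq_of_smul_eq_smul (α := X)
      intro y
      obtain ⟨g, rfl⟩ := MulAction.exists_smul_eq G x y
      have h1 : g⁻¹ * n * g ∈ N := by
        have := hNn.conj_mem n hn g⁻¹
        simpa using this
      rw [hNeq, MulAction.mem_stabilizer_iff] at h1
      rw [one_smul]
      have : n • g • x = g • ((g⁻¹ * n * g) • x) := by
        simp [mul_smul]
      rw [this, h1]
    apply hNbot
    rw [Subgroup.eq_bot_iff_forall]
    exact hall

end Cfsg.Agent.S4300
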