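import Cfsg.Statements.S4301
import Mathlib

set_option autoImplicit false
open Cfsg

namespace Cfsg.Agent.S4301

set_option maxRecDepth 100000
open Cfsg

def emb1 {X : Type*} (u : X) : Fin 1 ↪ X := ⟨fun _ => u, fun i j _ => Subsingleton.elim i j⟩

def emb2 {X : Type*} (u v : X) (h : u ≠ v) : Fin 2 ↪ X :=
  ⟨![u, v], by
    intro i j hij
    fin_cases i <;> fin_cases j <;> simp_all⟩

theorem perm_apply_inv {α : Type*} (f : Equiv.Perm α) (a : α) : f (f⁻¹ a) = a :=
  f.apply_symm_apply a

theorem perm_inv_apply {α : Type*} (f : Equiv.Perm α) (a : α) : f⁻¹ (f a) = a :=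
  f.symm_apply_apply a

theorem lower_trans {X : Type*} (G : Subgroup (Equiv.Perm (Option X)))
    (k : ℕ) (hkX : Nonempty (Fin k ↪ X))
    (htrans : ∀ a b : Fin k ↪ X, ∃ f ∈ G, ∀ i, f (some (a i)) = some (b i))
    (m : ℕ) (hm : m ≤ k) (a b : Fin m ↪ X) : ∃ f ∈ G, ∀ i, f (some (a i)) = some (b i) := by
  have hcard : (k : ℕ∞) ≤ ENat.card X := by
    obtain ⟨a⟩ := hkX
    have := ENat.card_le_card_of_injective a.injective
    simpa using this
  obtain ⟨a', ha'⟩ := Fin.Embedding.restrictSurjective_of_le_ENatCard hm hcard a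
  obtain ⟨b', hb'⟩ := Fin.Embedding.restrictSurjective_of_le_ENatCard hm hcard b
  obtain ⟨f, hf, hfab⟩ := htrans a' b'
  refine ⟨f, hf, fun i => ?_⟩
  rw [← ha', ← hb']
  exact hfab _


theorem main4301 {X : Type*} (G : Subgroup (Equiv.Perm (Option X))) (hfix : ∀ f ∈ G, f none = none)
    (k : ℕ) (hk : 2 ≤ k) (hkX : Nonempty (Fin k ↪ X))
    (htrans : ∀ a b : Fin k ↪ X, ∃ f ∈ G, ∀ i, f (some (a i)) = some (b i))
    (h g : Equiv.Perm (Option X)) (hg : g ∈ G) (x y : X)
    (h1 : h none = some x) (h2 : h (some x) = none) (h3 : h (some y) = some y)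
    (h4 : g (some x) = some y) (h5 : g (some y) = some x)
    (h6 : (g * h) ^ 3 ∈ G) (h7 : h ^ 2 ∈ G)
    (h8 : ∀ f ∈ G, f (some x) = some x → h * f * h ∈ G ∧ (h * f * h) (some x) = some x) :
    (∀ f ∈ Subgroup.closure ((G : Set (Equiv.Perm (Option X))) ∪ {h}), f none = none ↔ f ∈ G) ∧
      MulAction.IsMultiplyPretransitive (Subgroup.closure ((G : Set (Equiv.Perm (Option X))) ∪ {h})) (Option X) (k + 1) := by
  classical
  have hyx : y ≠ x := by
    intro hyx
    rw [hyx, h2] at h3
    exact Option.some_ne_none x h3.symm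
  have T1 : ∀ z w : X, ∃ f ∈ G, f (some z) = some w := by
    intro z w
    obtain ⟨f, hf, hfz⟩ := lower_trans G k hkX htrans 1 (by omega) (emb1 z) (emb1 w)
    exact ⟨f, hf, hfz 0⟩
  have T2 : ∀ z w : X, z ≠ x → w ≠ x → ∃ f ∈ G, f (some x) = some x ∧ f (some z) = some w := by
    intro z w hz hw
    obtain ⟨f, hf, hfz⟩ := lower_trans G k hkX htrans 2 hk (emb2 x z (Ne.symm hz))
      (emb2 x w (Ne.symm hw))
    exact ⟨f, hf, hfz 0, hfz 1⟩
  -- the set S = G ∪ G h G
  let S : Set (Equiv.Perm (Option X)) := {f | f ∈ G ∨ ∃ a ∈ G, ∃ b ∈ G, f = a * h * b}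
  have hs : (h ^ 2)⁻¹ ∈ G := G.inv_mem h7
  have hGS : ∀ f ∈ G, f ∈ S := fun f hf => Or.inl hf
  have hlS : ∀ c ∈ G, ∀ f ∈ S, c * f ∈ S := by
    rintro c hc f (hf | ⟨a, ha, b, hb, rfl⟩)
    · exact Or.inl (G.mul_mem hc hf)
    · exact Or.inr ⟨c * a, G.mul_mem hc ha, b, hb, by simp only [mul_assoc]⟩
  have hrS : ∀ c ∈ G, ∀ f ∈ S, f * c ∈ S := by
    rintro c hc f (hf | ⟨a, ha, b, hb, rfl⟩)
    · exact Or.inl (G.mul_mem hf hc)
    · exact Or.inr ⟨a, ha, b * c, G.mul_mem hb hc, by simp only [mul_assoc]⟩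
  have key : ∀ c ∈ G, h * c * h ∈ S := by
    intro c hc
    by_cases hcx : c (some x) = some x
    · exact Or.inl (h8 c hc hcx).1
    · -- w = c⁻¹ x ≠ x
      have hcinv : c⁻¹ ∈ G := G.inv_mem hc
      have hwne : c⁻¹ (some x) ≠ none := by
        intro hw
        have := hfix _ hcinv
        rw [← this] at hw
        exact Option.some_ne_none x (c⁻¹.injective hw)
      obtain ⟨w, hw⟩ := Option.ne_none_iff_exists'.1 hwne
      have hwx : w ≠ x := by
        intro hwx
        apply hcx
        rw [hwx] at hw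
        have := congrArg c hw
        rw [perm_apply_inv] at this
        exact this.symm
      obtain ⟨b, hb, hbx, hbw⟩ := T2 w y hwx hyx
      -- a := c b⁻¹ g⁻¹
      have ha : c * b⁻¹ * g⁻¹ ∈ G := G.mul_mem (G.mul_mem hc (G.inv_mem hb)) (G.inv_mem hg)
      have hax : (c * b⁻¹ * g⁻¹) (some x) = some x := by
        have e1 : g⁻¹ (some x) = some y := by
          rw [Equiv.Perm.inv_eq_iff_eq]; exact h5.symm
        have e2 : b⁻¹ (some y) = some w := by
          rw [Equiv.Perm.inv_eq_iff_eq]; exact hbw.symm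
        have e3 : c (some w) = some x := by
          rw [← hw, perm_apply_inv]
        simp only [Equiv.Perm.mul_apply, e1, e2, e3]
      have hA := (h8 _ ha hax).1
      have hB := (h8 _ hb hbx).1
      have h63 : (g * h) ^ 3 = g * h * (g * h) * (g * h) := by rw [pow_succ, pow_two]
      have hid : h * c * h =
          (h * (c * b⁻¹ * g⁻¹) * h) * (h ^ 2)⁻¹ * (g⁻¹ * (g * h) ^ 3 * (h ^ 2)⁻¹) * h *
            (g⁻¹ * (h ^ 2)⁻¹ * (h * b * h)) := by
        rw [h63]
        group
      rw [hid]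
      refine Or.inr ⟨_, ?_, _, ?_, rfl⟩
      · exact G.mul_mem (G.mul_mem hA hs) (G.mul_mem (G.mul_mem (G.inv_mem hg) h6) hs)
      · exact G.mul_mem (G.mul_mem (G.inv_mem hg) hs) hB
  have hmulS : ∀ f₁ ∈ S, ∀ f₂ ∈ S, f₁ * f₂ ∈ S := by
    rintro f₁ (hf₁ | ⟨a, ha, b, hb, rfl⟩) f₂ hf₂
    · exact hlS f₁ hf₁ f₂ hf₂
    · rcases hf₂ with hf₂ | ⟨a', ha', b', hb', rfl⟩
      · exact hrS f₂ hf₂ _ (Or.inr ⟨a, ha, b, hb, rfl⟩)
      · have e : a * h * b * (a' * h * b') = a * (h * (b * a') * h) * b' := by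
          simp only [mul_assoc]
        rw [e]
        exact hrS b' hb' _ (hlS a ha _ (key _ (G.mul_mem hb ha')))
  have hinvS : ∀ f ∈ S, f⁻¹ ∈ S := by
    rintro f (hf | ⟨a, ha, b, hb, rfl⟩)
    · exact Or.inl (G.inv_mem hf)
    · refine Or.inr ⟨b⁻¹ * (h ^ 2)⁻¹, G.mul_mem (G.inv_mem hb) hs, a⁻¹, G.inv_mem ha, ?_⟩
      group
  let K : Subgroup (Equiv.Perm (Option X)) :=
    { carrier := S
      mul_mem' := fun {a b} ha hb => hmulS a ha b hb
      one_mem' := Or.inl G.one_mem
      inv_mem' := fun {a} ha => hinvS a ha }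
  have hcl : Subgroup.closure ((G : Set (Equiv.Perm (Option X))) ∪ {h}) ≤ K := by
    rw [Subgroup.closure_le]
    rintro f (hf | hf)
    · exact Or.inl hf
    · rw [Set.mem_singleton_iff] at hf
      rw [hf]
      exact Or.inr ⟨1, G.one_mem, 1, G.one_mem, by simp⟩
  have hGcl : ∀ f ∈ G, f ∈ Subgroup.closure ((G : Set (Equiv.Perm (Option X))) ∪ {h}) :=
    fun f hf => Subgroup.subset_closure (Or.inl hf)
  have hhcl : h ∈ Subgroup.closure ((G : Set (Equiv.Perm (Option X))) ∪ {h}) :=
    Subgroup.subset_closure (Or.inr rfl)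
  constructor
  · intro f hf
    rcases hcl hf with hfG | ⟨a, ha, b, hb, rfl⟩
    · exact ⟨fun _ => hfG, fun _ => hfix f hfG⟩
    · have hne : (a * h * b) none ≠ none := by
        simp only [Equiv.Perm.mul_apply, hfix b hb, h1]
        intro hcon
        rw [← hfix a ha] at hcon
        exact Option.some_ne_none x (a.injective hcon)
      exact ⟨fun hcon => absurd hcon hne, fun hcon => absurd (hfix _ hcon) hne⟩
  · -- (k+1)-transitivity
    have stepA : ∀ w : Option X, ∃ f ∈ Subgroup.closure ((G : Set (Equiv.Perm (Option X))) ∪ {h}),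
        f w = none := by
      intro w
      cases w with
      | none => exact ⟨1, Subgroup.one_mem _, rfl⟩
      | some z =>
        obtain ⟨f₁, hf₁, hf₁z⟩ := T1 z x
        refine ⟨h * f₁, Subgroup.mul_mem _ hhcl (hGcl _ hf₁), ?_⟩
        rw [Equiv.Perm.mul_apply, hf₁z, h2]
    have stepB : ∀ u v : Fin (k + 1) → Option X, Function.Injective u → Function.Injective v →
        u 0 = none → v 0 = none → ∃ f ∈ G, ∀ i, f (u i) = v i := by
      intro u v hu hv hu0 hv0
      have hne : ∀ (t : Fin (k + 1) → Option X), Function.Injective t → t 0 = none →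
          ∃ a : Fin k ↪ X, ∀ i, some (a i) = t i.succ := by
        intro t ht ht0
        have h' : ∀ i : Fin k, ∃ z, t i.succ = some z := by
          intro i
          apply Option.ne_none_iff_exists'.1
          intro hcon
          rw [← ht0] at hcon
          exact Fin.succ_ne_zero i (ht hcon)
        choose a ha using h'
        refine ⟨⟨a, ?_⟩, fun i => (ha i).symm⟩
        intro i j hij
        have : t i.succ = t j.succ := by rw [ha i, ha j, hij]
        exact Fin.succ_injective _ (ht this)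
      obtain ⟨a, ha⟩ := hne u hu hu0
      obtain ⟨b, hb⟩ := hne v hv hv0
      obtain ⟨f, hf, hfab⟩ := htrans a b
      refine ⟨f, hf, ?_⟩
      intro i
      refine Fin.cases ?_ (fun i => ?_) i
      · rw [hu0, hv0]; exact hfix f hf
      · rw [← ha, ← hb]; exact hfab i
    rw [MulAction.isMultiplyPretransitive_iff]
    intro u v
    obtain ⟨fu, hfu, hfu0⟩ := stepA (u 0)
    obtain ⟨fv, hfv, hfv0⟩ := stepA (v 0)
    obtain ⟨f, hf, hfuv⟩ := stepB (fun i => fu (u i)) (fun i => fv (v i))
      (fu.injective.comp u.injective) (fv.injective.comp v.injective) hfu0 hfv0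
    refine ⟨⟨fv⁻¹ * f * fu, Subgroup.mul_mem _ (Subgroup.mul_mem _ (Subgroup.inv_mem _ hfv)
      (hGcl f hf)) hfu⟩, ?_⟩
    apply Function.Embedding.ext
    intro i
    show (fv⁻¹ * f * fu) (u i) = v i
    rw [Equiv.Perm.mul_apply, Equiv.Perm.mul_apply, hfuv i, perm_inv_apply]


/-- One-point extension of a multiply transitive group. Let X be a set and G a group of permutations of Option X (the set X with one extra point ∗ = none) all of whose elements fix ∗, such that G is k-transitive on the points of X for some k ≥ 2, X having at least k points. Suppose a permutation h of Option X and an element g of G satisfy: h interchanges ∗ with a point x of X and fixes a point y of X; g interchanges x and y; (g h)³ and h² lie in G; and for every f in G fixing x, the product h f h lies in G and fixes x. Then an element of the group generated by G and h fixes ∗ exactly when it lies in G, and that group acts (k+1)-transitively on Option X. -/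
theorem result {X : Type*} (G : Subgroup (Equiv.Perm (Option X))) (hfix : ∀ f ∈ G, f none = none)
    (k : ℕ) (hk : 2 ≤ k) (hkX : Nonempty (Fin k ↪ X))
    (htrans : ∀ a b : Fin k ↪ X, ∃ f ∈ G, ∀ i, f (some (a i)) = some (b i))
    (h g : Equiv.Perm (Option X)) (hg : g ∈ G) (x y : X)
    (h1 : h none = some x) (h2 : h (some x) = none) (h3 : h (some y) = some y)
    (h4 : g (some x) = some y) (h5 : g (some y) = some x)
    (h6 : (g * h) ^ 3 ∈ G) (h7 : h ^ 2 ∈ G)
    (h8 : ∀ f ∈ G, f (some x) = some x → h * f * h ∈ G ∧ (h * f * h) (some x) = some x) :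
    (∀ f ∈ Subgroup.closure ((G : Set (Equiv.Perm (Option X))) ∪ {h}), f none = none ↔ f ∈ G) ∧
      MulAction.IsMultiplyPretransitive (Subgroup.closure ((G : Set (Equiv.Perm (Option X))) ∪ {h})) (Option X) (k + 1) := by
  exact main4301 G hfix k hk hkX htrans h g hg x y h1 h2 h3 h4 h5 h6 h7 h8

end Cfsg.Agent.S4301
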