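import Cfsg.Statements.S4309

set_option autoImplicit false
open Cfsg

namespace Cfsg.Agent.S4309

/-- Let `π` be a set of primes, `G` a finite group with a Hall `π`-subgroup `H` (every prime divisor of the order of `H` lies in `π` and no prime of `π` divides its index), and `A` a normal subgroup of `G`. Then `H ∩ A` is a Hall `π`-subgroup of `A` and the image of `H` in `G/A` is a Hall `π`-subgroup of `G/A`. -/
theorem result {G : Type*} [Group G] [Finite G] (π : Set ℕ)
    (H A : Subgroup G) [A.Normal] (hH : Cfsg.IsPiHall π H) :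
    Cfsg.IsPiHall π ((H ⊓ A).subgroupOf A) ∧ Cfsg.IsPiHall π (H.map (QuotientGroup.mk' A)) := by
  classical
  obtain ⟨hH1, hH2⟩ := hH
  -- key: H.relIndex A ∣ H.index
  have key : H.relIndex A ∣ H.index := by
    have ha := Subgroup.relIndex_mul_relIndex (⊥ : Subgroup G) (H ⊓ A) A bot_le inf_le_right
    have hb := Subgroup.relIndex_mul_relIndex (⊥ : Subgroup G) (H ⊓ A) H bot_le inf_le_left
    have hc := Subgroup.relIndex_mul_relIndex (⊥ : Subgroup G) A (H ⊔ A) bot_le le_sup_right
    have hd := Subgroup.relIndex_mul_relIndex (⊥ : Subgroup G) H (H ⊔ A) bot_le le_sup_left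
    have he : A.relIndex (H ⊔ A) = A.relIndex H := Subgroup.relIndex_sup_right H A
    have hf : (H ⊓ A).relIndex H = A.relIndex H := Subgroup.inf_relIndex_left H A
    have hg : (H ⊓ A).relIndex A = H.relIndex A := Subgroup.inf_relIndex_right H A
    have hpos : 0 < (⊥ : Subgroup G).relIndex H := by
      rw [Subgroup.relIndex_bot_left]; exact Nat.card_pos
    have hz : H.relIndex (H ⊔ A) = H.relIndex A := by
      rw [he, ← hf] at hc
      rw [hg] at ha
      -- |J| = |A| * y = d * x * y ; |J| = |H| * z = d * y * z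
      have h1 : (⊥ : Subgroup G).relIndex H * H.relIndex (H ⊔ A) =
          (⊥ : Subgroup G).relIndex H * H.relIndex A := by
        rw [hd, ← hc, ← ha, ← hb]; ring
      exact Nat.eq_of_mul_eq_mul_left hpos h1
    rw [← hz]
    exact Subgroup.relIndex_dvd_index_of_le le_sup_left
  refine ⟨⟨?_, ?_⟩, ⟨?_, ?_⟩⟩
  · intro p hp hdvd
    apply hH1 p hp
    have e : ((H ⊓ A).subgroupOf A) ≃* (H ⊓ A : Subgroup G) :=
      Subgroup.subgroupOfEquivOfLe inf_le_right
    rw [Nat.card_congr e.toEquiv] at hdvd
    exact hdvd.trans (Subgroup.card_dvd_of_le inf_le_left)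
  · intro p hp hpi hdvd
    apply hH2 p hp hpi
    have : ((H ⊓ A).subgroupOf A).index = H.relIndex A := Subgroup.inf_relIndex_right H A
    rw [this] at hdvd
    exact hdvd.trans key
  · intro p hp hdvd
    exact hH1 p hp (hdvd.trans (Subgroup.card_map_dvd H _))
  · intro p hp hpi hdvd
    apply hH2 p hp hpi
    exact hdvd.trans (Subgroup.index_map_dvd H (QuotientGroup.mk'_surjective A))

end Cfsg.Agent.S4309
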