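import Cfsg.Statements.S4365
import Cfsg.Agent.Lib.Helper4.NormTrick
import Cfsg.Agent.Lib.Helper2.Index

set_option autoImplicit false
open Cfsg

namespace Cfsg.Agent.S4365


open Cfsg.Agent.Lib.Helper4

section
variable {P : Type*} [Group P]

/-- centralizer of an element -/
abbrev cz (g : P) : Subgroup P := Subgroup.centralizer ({g} : Set P)

theorem mem_cz {g k : P} : k ∈ cz g ↔ k * g = g * k := Subgroup.mem_centralizer_singleton_iff

theorem self_mem_cz (g : P) : g ∈ cz g := mem_cz.2 rfl

theorem center_le_cz (g : P) : Subgroup.center P ≤ cz g := by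
  intro z hz
  rw [mem_cz]
  exact ((Subgroup.mem_center_iff.1 hz) g).symm

theorem index_one_iff (g : P) : (cz g).index = 1 ↔ g ∈ Subgroup.center P := by
  rw [Subgroup.index_eq_one, Subgroup.eq_top_iff', Subgroup.mem_center_iff]
  constructor
  · intro h k; exact mem_cz.1 (h k)
  · intro h k; exact mem_cz.2 (h k)

theorem cz_mul_central (g z : P) (hz : z ∈ Subgroup.center P) : cz (g * z) = cz g := by
  ext k
  rw [mem_cz, mem_cz]
  have hzk : k * z = z * k := (Subgroup.mem_center_iff.1 hz) k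
  constructor
  · intro h
    have h1 : k * g * z = g * k * z := by
      calc k * g * z = k * (g * z) := by group
        _ = g * z * k := h
        _ = g * (z * k) := by group
        _ = g * (k * z) := by rw [hzk]
        _ = g * k * z := by group
    exact mul_right_cancel h1
  · intro h
    calc k * (g * z) = k * g * z := by group
      _ = g * k * z := by rw [h]
      _ = g * (k * z) := by group
      _ = g * (z * k) := by rw [hzk]
      _ = g * z * k := by group

variable [Finite P]

theorem cz_eq_of_le {n : ℕ} (hd : ∀ g : P, (cz g).index = 1 ∨ (cz g).index = n)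
    {g h : P} (hg : g ∉ Subgroup.center P) (hh : h ∉ Subgroup.center P) (hle : cz g ≤ cz h) :
    cz g = cz h := by
  have hig : (cz g).index = n := by
    rcases hd g with h1 | h1
    · exact absurd ((index_one_iff g).1 h1) hg
    · exact h1
  have hih : (cz h).index = n := by
    rcases hd h with h1 | h1
    · exact absurd ((index_one_iff h).1 h1) hh
    · exact h1
  have h1 := Subgroup.card_mul_index (cz g)
  have h2 := Subgroup.card_mul_index (cz h)
  rw [hig] at h1
  rw [hih] at h2
  have hn : 0 < n := by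
    rcases Nat.eq_zero_or_pos n with h0 | h0
    · rw [h0, mul_zero] at h1
      exact absurd h1.symm (Nat.card_pos (α := P)).ne'
    · exact h0
  have hcard : Nat.card (cz h) = Nat.card (cz g) :=
    Nat.eq_of_mul_eq_mul_right hn (h2.trans h1.symm)
  exact Subgroup.eq_of_le_of_card_ge hle (le_of_eq hcard)

/-- Lemma A: elements whose `p`-th power is not central have the same centralizer as `u`. -/
theorem lemmaA {n p : ℕ} (hd : ∀ g : P, (cz g).index = 1 ∨ (cz g).index = n)
    (u : P) (hu : u ∉ Subgroup.center P)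
    (hpow : ∀ g : P, ∃ z ∈ Subgroup.center P, (g * u) ^ p = g ^ p * z)
    (g : P) (hg : g ^ p ∉ Subgroup.center P) : cz g = cz u := by
  obtain ⟨z, hz, hgz⟩ := hpow g
  have hg' : g ∉ Subgroup.center P := fun h => hg (Subgroup.pow_mem _ h p)
  have h1 : cz g ≤ cz (g ^ p) := by
    intro k hk
    rw [mem_cz] at hk ⊢
    exact (Commute.pow_right (show Commute k g from hk) p)
  have e1 : cz g = cz (g ^ p) := cz_eq_of_le hd hg' hg h1
  have hgu : (g * u) ^ p ∉ Subgroup.center P := by
    rw [hgz]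
    intro h
    apply hg
    have : g ^ p = g ^ p * z * z⁻¹ := by group
    rw [this]
    exact Subgroup.mul_mem _ h (Subgroup.inv_mem _ hz)
  have hgu' : g * u ∉ Subgroup.center P := fun h => hgu (Subgroup.pow_mem _ h p)
  have h2 : cz (g * u) ≤ cz ((g * u) ^ p) := by
    intro k hk
    rw [mem_cz] at hk ⊢
    exact (Commute.pow_right (show Commute k (g * u) from hk) p)
  have e2 : cz (g * u) = cz ((g * u) ^ p) := cz_eq_of_le hd hgu' hgu h2
  have e3 : cz ((g * u) ^ p) = cz (g ^ p) := by rw [hgz, cz_mul_central _ _ hz]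
  have e4 : cz (g * u) = cz g := e2.trans (e3.trans e1.symm)
  have hcomm : g * u = u * g := by
    have h := self_mem_cz g
    rw [← e4, mem_cz] at h
    have h' : g * (g * u) = g * (u * g) := by rw [h]; group
    exact mul_left_cancel h'
  have h5 : cz g ≤ cz u := by
    intro k hk
    have hk1 : k * g = g * k := mem_cz.1 hk
    have hk2 : k * (g * u) = g * u * k := by rw [← e4] at hk; exact mem_cz.1 hk
    rw [mem_cz]
    have : g * (k * u) = g * (u * k) := by
      calc g * (k * u) = g * k * u := by group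
        _ = k * g * u := by rw [hk1]
        _ = k * (g * u) := by group
        _ = g * u * k := hk2
        _ = g * (u * k) := by group
    exact mul_left_cancel this
  exact cz_eq_of_le hd hg' hu h5

/-- If some `p`-th power is not central, the common centralizer is abelian. -/
theorem cz_abelian {n p : ℕ} (hd : ∀ g : P, (cz g).index = 1 ∨ (cz g).index = n)
    (u : P) (hu : u ∉ Subgroup.center P)
    (hpow : ∀ g : P, ∃ z ∈ Subgroup.center P, (g * u) ^ p = g ^ p * z)
    (x : P) (hx : x ^ p ∉ Subgroup.center P) :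
    ∀ c ∈ cz u, ∀ d ∈ cz u, c * d = d * c := by
  have hCx : cz x = cz u := lemmaA hd u hu hpow x hx
  intro c hc d hd'
  by_cases hcp : c ^ p ∈ Subgroup.center P
  · have hcx : c * x = x * c := by rw [← hCx] at hc; exact mem_cz.1 hc
    have h1 : (c * x) ^ p = c ^ p * x ^ p := (show Commute c x from hcx).mul_pow p
    have h2 : (c * x) ^ p ∉ Subgroup.center P := by
      rw [h1]
      intro h
      apply hx
      have : x ^ p = (c ^ p)⁻¹ * (c ^ p * x ^ p) := by group
      rw [this]
      exact Subgroup.mul_mem _ (Subgroup.inv_mem _ hcp) h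
    have h3 : cz (c * x) = cz u := lemmaA hd u hu hpow (c * x) h2
    have hd1 : d * (c * x) = c * x * d := by rw [← h3] at hd'; exact mem_cz.1 hd'
    have hd2 : d * x = x * d := by rw [← hCx] at hd'; exact mem_cz.1 hd'
    have : c * d * x = d * c * x := by
      calc c * d * x = c * (d * x) := by group
        _ = c * (x * d) := by rw [hd2]
        _ = c * x * d := by group
        _ = d * (c * x) := hd1.symm
        _ = d * c * x := by group
    exact mul_right_cancel this
  · have h3 : cz c = cz u := lemmaA hd u hu hpow c hcp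
    rw [← h3] at hd'
    exact (mem_cz.1 hd').symm

/-- fixed points of an outside element on the abelian centralizer are central. -/
theorem fix_central {n : ℕ} (hd : ∀ g : P, (cz g).index = 1 ∨ (cz g).index = n)
    (u : P) (hu : u ∉ Subgroup.center P)
    (habel : ∀ c ∈ cz u, ∀ d ∈ cz u, c * d = d * c)
    (y : P) (hy : y ∉ cz u) (c : P) (hc : c ∈ cz u) (hcy : c * y = y * c) :
    c ∈ Subgroup.center P := by
  by_contra hcn
  have hle : cz u ≤ cz c := by
    intro d hd'
    rw [mem_cz]
    exact habel d hd' c hc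
  have he : cz u = cz c := cz_eq_of_le hd hu hcn hle
  apply hy
  rw [he, mem_cz]
  exact hcy.symm

/-- the commutator-with-`u` homomorphism into the center. -/
def zetaHom (u : P) (h : ∀ g : P, g * u * g⁻¹ * u⁻¹ ∈ Subgroup.center P) :
    P →* Subgroup.center P where
  toFun g := ⟨g * u * g⁻¹ * u⁻¹, h g⟩
  map_one' := by
    apply Subtype.ext
    show 1 * u * 1⁻¹ * u⁻¹ = 1
    group
  map_mul' := by
    intro g k
    apply Subtype.ext
    show g * k * u * (g * k)⁻¹ * u⁻¹ = (g * u * g⁻¹ * u⁻¹) * (k * u * k⁻¹ * u⁻¹)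
    have hz : g * (k * u * k⁻¹ * u⁻¹) = (k * u * k⁻¹ * u⁻¹) * g :=
      (Subgroup.mem_center_iff.1 (h k)) g
    have hz2 : (g * u * g⁻¹ * u⁻¹) * (k * u * k⁻¹ * u⁻¹) =
        (k * u * k⁻¹ * u⁻¹) * (g * u * g⁻¹ * u⁻¹) :=
      (Subgroup.mem_center_iff.1 (h k)) _
    calc g * k * u * (g * k)⁻¹ * u⁻¹
        = g * (k * u * k⁻¹ * u⁻¹) * (u * g⁻¹ * u⁻¹) := by group
      _ = (k * u * k⁻¹ * u⁻¹) * g * (u * g⁻¹ * u⁻¹) := by rw [hz]
      _ = (k * u * k⁻¹ * u⁻¹) * (g * u * g⁻¹ * u⁻¹) := by group
      _ = (g * u * g⁻¹ * u⁻¹) * (k * u * k⁻¹ * u⁻¹) := hz2.symm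

theorem zetaHom_ker (u : P) (h : ∀ g : P, g * u * g⁻¹ * u⁻¹ ∈ Subgroup.center P) :
    (zetaHom u h).ker = cz u := by
  ext g
  rw [MonoidHom.mem_ker, mem_cz]
  constructor
  · intro hg
    have h1 : g * u * g⁻¹ * u⁻¹ = 1 := congrArg Subtype.val hg
    calc g * u = (g * u * g⁻¹ * u⁻¹) * (u * g) := by group
      _ = u * g := by rw [h1, one_mul]
  · intro hg
    apply Subtype.ext
    show g * u * g⁻¹ * u⁻¹ = 1
    rw [hg]; group

end


section cases
variable {P : Type*} [Group P] [Finite P]

/-- the case of index `p`. -/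
theorem case_index_p (p : ℕ) [Fact p.Prime] (hP : IsPGroup p P)
    (hd : ∀ g : P, (cz g).index = 1 ∨ (cz g).index = p)
    (u : P) (hu : u ∉ Subgroup.center P) [hCn : (cz u).Normal]
    (habel : ∀ c ∈ cz u, ∀ d ∈ cz u, c * d = d * c) (x : P) (hx : x ∈ cz u) :
    x ^ p ∈ Subgroup.center P := by
  have hp : p.Prime := Fact.out
  have hidx : (cz u).index = p := by
    rcases hd u with h1 | h1
    · exact absurd ((index_one_iff u).1 h1) hu
    · exact h1
  have hCtop : cz u ≠ ⊤ := by
    intro h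
    rw [h, Subgroup.index_top] at hidx
    exact hp.one_lt.ne hidx
  obtain ⟨y, hy⟩ : ∃ y, y ∉ cz u := by
    by_contra h
    apply hCtop
    rw [Subgroup.eq_top_iff']
    intro z
    by_contra hz
    exact h ⟨z, hz⟩
  have hyc : y ∉ Subgroup.center P := fun h => hy (center_le_cz u h)
  have hidy : (cz y).index = p := by
    rcases hd y with h1 | h1
    · exact absurd ((index_one_iff y).1 h1) hyc
    · exact h1
  have h1 := Subgroup.card_mul_index (cz u)
  have h2 := Subgroup.card_mul_index (cz y)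
  rw [hidx] at h1
  rw [hidy] at h2
  have hcard : Nat.card (cz y) = Nat.card (cz u) :=
    Nat.eq_of_mul_eq_mul_right hp.pos (h2.trans h1.symm)
  have hinf : cz y ⊓ cz u = Subgroup.center P := by
    apply le_antisymm
    · rintro k ⟨hk1, hk2⟩
      exact fix_central hd u hu habel y hy k hk2 (mem_cz.1 hk1)
    · exact le_inf (center_le_cz y) (center_le_cz u)
  have hprod := Cfsg.Agent.Lib.Helper2.card_sup_mul_card_inf (cz y) (cz u)
    (by rw [Subgroup.normalizer_eq_top]; exact le_top)
  rw [hinf, hcard] at hprod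
  have hle : Nat.card (cz y ⊔ cz u : Subgroup P) ≤ Nat.card P := Subgroup.card_le_card_group _
  have hCpos : 0 < Nat.card (cz u) := Nat.card_pos
  have hZle : Nat.card (cz u) ≤ p * Nat.card (Subgroup.center P) := by
    have h3 : Nat.card (cz u) * Nat.card (cz u) ≤
        Nat.card (cz u) * (p * Nat.card (Subgroup.center P)) := by
      calc Nat.card (cz u) * Nat.card (cz u)
          = Nat.card (cz y ⊔ cz u : Subgroup P) * Nat.card (Subgroup.center P) := hprod.symm
        _ ≤ Nat.card P * Nat.card (Subgroup.center P) := Nat.mul_le_mul_right _ hle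
        _ = Nat.card (cz u) * (p * Nat.card (Subgroup.center P)) := by rw [← h1]; ring
    exact Nat.le_of_mul_le_mul_left h3 hCpos
  -- the quotient of `C` by the center
  set Z' : Subgroup (cz u) := (Subgroup.center P).subgroupOf (cz u) with hZ'
  have hcZ' : Nat.card Z' = Nat.card (Subgroup.center P) :=
    Nat.card_congr (Subgroup.subgroupOfEquivOfLe (center_le_cz u)).toEquiv
  have h4 := Subgroup.card_mul_index Z'
  rw [hcZ'] at h4
  have hZpos : 0 < Nat.card (Subgroup.center P) := Nat.card_pos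
  have hidxle : Z'.index ≤ p := by
    have : Nat.card (Subgroup.center P) * Z'.index ≤ Nat.card (Subgroup.center P) * p := by
      rw [h4, mul_comm]; exact hZle
    exact Nat.le_of_mul_le_mul_left this hZpos
  have hQp : IsPGroup p ((cz u) ⧸ Z') := (hP.to_subgroup (cz u)).to_quotient Z'
  obtain ⟨k, hk⟩ := IsPGroup.iff_card.1 hQp
  have hcq : Nat.card ((cz u) ⧸ Z') = Z'.index := (Subgroup.index_eq_card Z').symm
  have hk1 : k ≤ 1 := by
    by_contra hk2
    have hk3 : 2 ≤ k := by omega
    have h5 : p ^ 2 ≤ p ^ k := Nat.pow_le_pow_right hp.pos hk3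
    have h6 : p ^ k ≤ p := by rw [← hk, hcq]; exact hidxle
    have h7 : p < p ^ 2 := by nlinarith [hp.one_lt]
    omega
  have hdvd : Nat.card ((cz u) ⧸ Z') ∣ p := by
    rw [hk]
    calc p ^ k ∣ p ^ 1 := pow_dvd_pow p hk1
      _ = p := pow_one p
  have hq : (QuotientGroup.mk (⟨x, hx⟩ : cz u) : (cz u) ⧸ Z') ^ p = 1 := by
    obtain ⟨m, hm⟩ := hdvd
    rw [hm, pow_mul, pow_card_eq_one', one_pow]
  rw [← QuotientGroup.mk_pow, QuotientGroup.eq_one_iff, hZ', Subgroup.mem_subgroupOf] at hq
  exact hq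

/-- the case of index at least `p²`, via the norm trick. -/
theorem case_big (p : ℕ) [Fact p.Prime] (a : ℕ) (ha : 2 ≤ a)
    (hd : ∀ g : P, (cz g).index = 1 ∨ (cz g).index = p ^ a)
    (u : P) (hu : u ∉ Subgroup.center P) [hCn : (cz u).Normal]
    (habel : ∀ c ∈ cz u, ∀ d ∈ cz u, c * d = d * c)
    (hcomm : ∀ y₁ y₂ : P, y₁ * y₂ * y₁⁻¹ * y₂⁻¹ ∈ cz u)
    (hpowZ : ∀ y : P, y ∉ cz u → y ^ p ∈ Subgroup.center P)
    (x : P) (hx : x ∈ cz u) : x ^ p ∈ Subgroup.center P := by
  classical
  have hp : p.Prime := Fact.out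
  have hidx : (cz u).index = p ^ a := by
    rcases hd u with h1 | h1
    · exact absurd ((index_one_iff u).1 h1) hu
    · exact h1
  have hpa : 1 < p ^ a := Nat.one_lt_pow (by omega) hp.one_lt
  have hCtop : cz u ≠ ⊤ := by
    intro h
    rw [h, Subgroup.index_top] at hidx
    exact hpa.ne hidx
  obtain ⟨y₁, hy₁⟩ : ∃ y, y ∉ cz u := by
    by_contra h
    apply hCtop
    rw [Subgroup.eq_top_iff']
    intro z
    by_contra hz
    exact h ⟨z, hz⟩
  have hQcard : Nat.card (P ⧸ cz u) = p ^ a := by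
    rw [← Subgroup.index_eq_card]; exact hidx
  have hQexp : ∀ q : P ⧸ cz u, q ^ p = 1 := by
    intro q
    induction q using QuotientGroup.induction_on with
    | H y =>
      rw [← QuotientGroup.mk_pow, QuotientGroup.eq_one_iff]
      by_cases hy : y ∈ cz u
      · exact Subgroup.pow_mem _ hy p
      · exact center_le_cz u (hpowZ y hy)
  have hzp : Subgroup.zpowers (QuotientGroup.mk y₁ : P ⧸ cz u) ≠ ⊤ := by
    intro h
    have h1 : Nat.card (Subgroup.zpowers (QuotientGroup.mk y₁ : P ⧸ cz u)) = p ^ a := by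
      rw [h, Subgroup.card_top, hQcard]
    rw [Nat.card_zpowers] at h1
    have h2 : orderOf (QuotientGroup.mk y₁ : P ⧸ cz u) ∣ p :=
      orderOf_dvd_of_pow_eq_one (hQexp _)
    have h3 : p ^ a ≤ p := h1 ▸ Nat.le_of_dvd hp.pos h2
    have h4 : p ^ 2 ≤ p ^ a := Nat.pow_le_pow_right hp.pos ha
    have h5 : p < p ^ 2 := by nlinarith [hp.one_lt]
    omega
  obtain ⟨q₂, hq₂⟩ : ∃ q, q ∉ Subgroup.zpowers (QuotientGroup.mk y₁ : P ⧸ cz u) := by
    by_contra h
    apply hzp
    rw [Subgroup.eq_top_iff']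
    intro z
    by_contra hz
    exact h ⟨z, hz⟩
  obtain ⟨y₂, rfl⟩ := QuotientGroup.mk_surjective q₂
  have hy₂ : ∀ k : ℕ, y₂ * y₁ ^ k ∉ cz u := by
    intro k hk
    apply hq₂
    have h1 : (QuotientGroup.mk (y₂ * y₁ ^ k) : P ⧸ cz u) = 1 := (QuotientGroup.eq_one_iff _).2 hk
    rw [QuotientGroup.mk_mul, QuotientGroup.mk_pow] at h1
    have h2 : (QuotientGroup.mk y₂ : P ⧸ cz u) = (QuotientGroup.mk y₁ : P ⧸ cz u) ^ (-(k : ℤ)) := by
      rw [zpow_neg, zpow_natCast, eq_inv_iff_mul_eq_one]; exact h1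
    rw [h2]
    exact Subgroup.zpow_mem_zpowers _ _
  -- the endomorphism ring
  letI : CommGroup (cz u) := { (inferInstance : Group (cz u)) with
    mul_comm := fun c d => Subtype.ext (habel c c.2 d d.2) }
  let κ : P → AddMonoid.End (Additive (cz u)) := fun g =>
    MonoidHom.toAdditive ((MulAut.conjNormal g : MulAut (cz u)).toMonoidHom)
  have κ_val : ∀ (g : P) (m : Additive (cz u)),
      ((Additive.toMul (κ g m) : cz u) : P) = g * ((Additive.toMul m : cz u) : P) * g⁻¹ := by
    intro g m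
    exact MulAut.conjNormal_apply g (Additive.toMul m)
  have κ_ext : ∀ f h : AddMonoid.End (Additive (cz u)),
      (∀ m, ((Additive.toMul (f m) : cz u) : P) = ((Additive.toMul (h m) : cz u) : P)) → f = h := by
    intro f h hfh
    apply AddMonoidHom.ext
    intro m
    have := hfh m
    exact Additive.toMul.injective (Subtype.ext this)
  have κ_mul : ∀ g h : P, κ (g * h) = κ g * κ h := by
    intro g h
    apply κ_ext
    intro m
    show _ = ((Additive.toMul (κ g (κ h m)) : cz u) : P)
    rw [κ_val, κ_val, κ_val]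
    group
  have κ_one_of_mem : ∀ g ∈ cz u, κ g = 1 := by
    intro g hg
    apply κ_ext
    intro m
    show _ = ((Additive.toMul m : cz u) : P)
    rw [κ_val, habel g hg _ (Additive.toMul m : cz u).2]
    group
  have κ_pow : ∀ (g : P) (n : ℕ), κ g ^ n = κ (g ^ n) := by
    intro g n
    induction n with
    | zero => rw [pow_zero, pow_zero]; exact (κ_one_of_mem 1 (Subgroup.one_mem _)).symm
    | succ n ih => rw [pow_succ, pow_succ, κ_mul, ih]
  have hs : κ y₁ ^ p = 1 := by
    rw [κ_pow]; exact κ_one_of_mem _ (center_le_cz u (hpowZ y₁ hy₁))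
  have hst : Commute (κ y₁) (κ y₂) := by
    show κ y₁ * κ y₂ = κ y₂ * κ y₁
    rw [← κ_mul, ← κ_mul]
    have e : y₁ * y₂ = (y₁ * y₂ * y₁⁻¹ * y₂⁻¹) * (y₂ * y₁) := by group
    rw [e, κ_mul, κ_one_of_mem _ (hcomm y₁ y₂), one_mul]
  let Zt : AddSubgroup (Additive (cz u)) :=
    { carrier := {m | ((Additive.toMul m : cz u) : P) ∈ Subgroup.center P}
      zero_mem' := by
        show ((Additive.toMul (0 : Additive (cz u)) : cz u) : P) ∈ Subgroup.center P
        rw [toMul_zero, Subgroup.coe_one]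
        exact Subgroup.one_mem _
      add_mem' := fun {a b} ha hb => by
        show ((Additive.toMul (a + b) : cz u) : P) ∈ Subgroup.center P
        rw [toMul_add, Subgroup.coe_mul]
        exact Subgroup.mul_mem _ ha hb
      neg_mem' := fun {a} ha => by
        show ((Additive.toMul (-a) : cz u) : P) ∈ Subgroup.center P
        rw [toMul_neg, Subgroup.coe_inv]
        exact Subgroup.inv_mem _ ha }
  have hZt : ∀ m, m ∈ Zt ↔ ((Additive.toMul m : cz u) : P) ∈ Subgroup.center P := fun m => Iff.rfl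
  have hgen : ∀ g : P, g ∉ cz u → ∀ m, (∑ i ∈ Finset.range p, κ g ^ i) m ∈ Zt := by
    intro g hg m
    have hgp : κ g ^ p = 1 := by
      rw [κ_pow]; exact κ_one_of_mem _ (center_le_cz u (hpowZ g hg))
    have h1 : (κ g - 1) * ∑ i ∈ Finset.range p, κ g ^ i = 0 := by
      rw [mul_geom_sum, hgp, sub_self]
    have h2 : κ g * ∑ i ∈ Finset.range p, κ g ^ i = ∑ i ∈ Finset.range p, κ g ^ i := by
      rw [sub_mul, one_mul, sub_eq_zero] at h1; exact h1
    have h3 : κ g ((∑ i ∈ Finset.range p, κ g ^ i) m) = (∑ i ∈ Finset.range p, κ g ^ i) m := by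
      conv_rhs => rw [← h2]
      rfl
    rw [hZt]
    have h4 := κ_val g ((∑ i ∈ Finset.range p, κ g ^ i) m)
    rw [h3] at h4
    apply fix_central hd u hu habel g hg _ (Additive.toMul ((∑ i ∈ Finset.range p, κ g ^ i) m)).2
    set c : P := ((Additive.toMul ((∑ i ∈ Finset.range p, κ g ^ i) m) : cz u) : P) with hc
    calc c * g = (g * c * g⁻¹) * g := by rw [← h4]
      _ = g * c := by group
  have h2 : ∀ k, ∀ m, (∑ i ∈ Finset.range p, (κ y₂ * κ y₁ ^ k) ^ i) m ∈ Zt := by
    intro k m
    have e : κ y₂ * κ y₁ ^ k = κ (y₂ * y₁ ^ k) := by rw [κ_pow, κ_mul]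
    rw [e]
    exact hgen _ (hy₂ k) m
  have h3 : ∀ z ∈ Zt, κ y₂ z = z := by
    intro z hz
    rw [hZt] at hz
    apply Additive.toMul.injective
    apply Subtype.ext
    rw [κ_val]
    have := (Subgroup.mem_center_iff.1 hz) y₂
    rw [this]; group
  have hfin := norm_trick p hp (κ y₁) (κ y₂) hst hs Zt (hgen y₁ hy₁) h2 h3
    (Additive.ofMul (⟨x, hx⟩ : cz u))
  rw [hZt] at hfin
  have e : ((Additive.toMul (p • Additive.ofMul (⟨x, hx⟩ : cz u)) : cz u) : P) = x ^ p := by
    rw [toMul_nsmul, toMul_ofMul, Subgroup.coe_pow]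
  rw [e] at hfin
  exact hfin

end cases

/-- Let P be a finite p-group whose conjugacy class sizes are exactly 1 and pᵃ for some a ≥ 1. Then every element of P has its p-th power in the center of P (P/Z(P) has exponent p). -/
theorem result {P : Type*} [Group P] [Finite P] (p : ℕ) [Fact p.Prime]
    (hP : IsPGroup p P) (a : ℕ) (ha : 1 ≤ a)
    (hcs : {k : ℕ | ∃ x : P, (Subgroup.centralizer ({x} : Set P)).index = k} = {1, p ^ a}) (x : P) :
    x ^ p ∈ Subgroup.center P := by
  classical
  have hp : p.Prime := Fact.out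
  have hd : ∀ g : P, (cz g).index = 1 ∨ (cz g).index = p ^ a := by
    intro g
    have h1 : (cz g).index ∈ ({1, p ^ a} : Set ℕ) := by
      rw [← hcs]; exact ⟨g, rfl⟩
    rcases h1 with h1 | h1
    · exact Or.inl h1
    · exact Or.inr h1
  have hpa : 1 < p ^ a := Nat.one_lt_pow (by omega) hp.one_lt
  have hex : ∃ x₀ : P, x₀ ∉ Subgroup.center P := by
    have h1 : p ^ a ∈ ({1, p ^ a} : Set ℕ) := Or.inr rfl
    rw [← hcs] at h1
    obtain ⟨x₀, hx₀⟩ := h1
    refine ⟨x₀, fun h => ?_⟩
    have h2 : (cz x₀).index = 1 := (index_one_iff x₀).2 h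
    have h3 : (cz x₀).index = p ^ a := hx₀
    rw [h2] at h3
    exact hpa.ne h3
  by_contra hx
  haveI hQnt : Nontrivial (P ⧸ Subgroup.center P) := by
    obtain ⟨x₀, hx₀⟩ := hex
    refine ⟨⟨QuotientGroup.mk x₀, 1, ?_⟩⟩
    rw [Ne, QuotientGroup.eq_one_iff]; exact hx₀
  have hQp : IsPGroup p (P ⧸ Subgroup.center P) := hP.to_quotient _
  haveI hcn := hQp.center_nontrivial
  have hdvd : p ∣ Nat.card (Subgroup.center (P ⧸ Subgroup.center P)) := by
    rcases (hQp.to_subgroup (Subgroup.center (P ⧸ Subgroup.center P))).card_eq_or_dvd with h | h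
    · exfalso
      have := Finite.one_lt_card (α := Subgroup.center (P ⧸ Subgroup.center P))
      omega
    · exact h
  obtain ⟨ub, hub⟩ := exists_prime_orderOf_dvd_card' p hdvd
  obtain ⟨u, hu_eq⟩ := QuotientGroup.mk_surjective (ub : P ⧸ Subgroup.center P)
  have hord : orderOf (QuotientGroup.mk u : P ⧸ Subgroup.center P) = p := by
    rw [hu_eq, Subgroup.orderOf_coe]; exact hub
  have hu1 : u ∉ Subgroup.center P := by
    intro h
    have h1 : (QuotientGroup.mk u : P ⧸ Subgroup.center P) = 1 := (QuotientGroup.eq_one_iff _).2 h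
    rw [h1, orderOf_one] at hord
    exact hp.one_lt.ne hord
  have hup : (QuotientGroup.mk u : P ⧸ Subgroup.center P) ^ p = 1 := by
    rw [← hord]; exact pow_orderOf_eq_one _
  have hucent : ∀ q : P ⧸ Subgroup.center P, q * QuotientGroup.mk u = QuotientGroup.mk u * q := by
    intro q
    have := ub.2
    rw [← hu_eq, Subgroup.mem_center_iff] at this
    exact this q
  have hpow : ∀ g : P, ∃ z ∈ Subgroup.center P, (g * u) ^ p = g ^ p * z := by
    intro g
    refine ⟨(g ^ p)⁻¹ * (g * u) ^ p, ?_, by group⟩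
    rw [← QuotientGroup.eq, QuotientGroup.mk_pow, QuotientGroup.mk_pow, QuotientGroup.mk_mul,
      (show Commute (QuotientGroup.mk g : P ⧸ Subgroup.center P) (QuotientGroup.mk u) from
        hucent _).mul_pow, hup, mul_one]
  have hconj : ∀ g : P, g * u * g⁻¹ * u⁻¹ ∈ Subgroup.center P := by
    intro g
    rw [← QuotientGroup.eq_one_iff]
    simp only [QuotientGroup.mk_mul, QuotientGroup.mk_inv]
    rw [hucent (QuotientGroup.mk g)]
    group
  have habel := cz_abelian hd u hu1 hpow x hx
  have hker := zetaHom_ker u hconj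
  haveI hCn : (cz u).Normal := by rw [← hker]; exact MonoidHom.normal_ker _
  have hcomm : ∀ y₁ y₂ : P, y₁ * y₂ * y₁⁻¹ * y₂⁻¹ ∈ cz u := by
    intro y₁ y₂
    rw [← hker, MonoidHom.mem_ker]
    have hzc : ∀ a b : Subgroup.center P, a * b = b * a :=
      fun a b => Subtype.ext ((Subgroup.mem_center_iff.1 b.2) a)
    rw [map_mul, map_mul, map_mul, map_inv, map_inv,
      hzc ((zetaHom u hconj) y₁) ((zetaHom u hconj) y₂)]
    group
  have hpowZ : ∀ y : P, y ∉ cz u → y ^ p ∈ Subgroup.center P := by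
    intro y hy
    by_contra hyp
    exact hy ((lemmaA hd u hu1 hpow y hyp) ▸ self_mem_cz y)
  have hxC : x ∈ cz u := (lemmaA hd u hu1 hpow x hx) ▸ self_mem_cz x
  rcases Nat.lt_or_ge a 2 with h | h
  · have ha1 : a = 1 := by omega
    subst ha1
    rw [pow_one] at hd
    exact hx (case_index_p p hP hd u hu1 habel x hxC)
  · exact hx (case_big p a h hd u hu1 habel hcomm hpowZ x hxC)

end Cfsg.Agent.S4365
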