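import Cfsg.Statements.S4381
import Cfsg.Agent.Lib.Helper4.ActBridge2
import Cfsg.Agent.Lib.Helper4.ElemAbCompl
import Cfsg.Agent.Lib.Helper2.Maschke
import Cfsg.Agent.Lib.Lead.AutElemAb
import Cfsg.Agent.S0012

set_option autoImplicit false
open Pointwise
open Cfsg

namespace Cfsg.Agent.S4381


open Cfsg.Agent.Lib.Helper4
open scoped Pointwise commutatorElement

section
variable {A G : Type*} [Group A] [Group G] [MulDistribMulAction A G]

/-- invariance of a subgroup -/
def Inv (A : Type*) {G : Type*} [Group A] [Group G] [MulDistribMulAction A G]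
    (L : Subgroup G) : Prop := ∀ a : A, ∀ x ∈ L, a • x ∈ L

/-- maximal invariant subgroup -/
def MaxInv (A : Type*) {G : Type*} [Group A] [Group G] [MulDistribMulAction A G]
    (M : Subgroup G) : Prop :=
  M ≠ ⊤ ∧ (∀ a : A, ∀ x ∈ M, a • x ∈ M) ∧
    ∀ L : Subgroup G, M < L → (∀ a : A, ∀ x ∈ L, a • x ∈ L) → L = ⊤

theorem inv_of_char (L : Subgroup G) [hL : L.Characteristic] : Inv A L := by
  intro a d hd
  have h1 := (Subgroup.characteristic_iff_map_eq.1 hL) (MulDistribMulAction.toMulEquiv G a)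
  rw [← h1]
  exact ⟨d, hd, rfl⟩

theorem inv_sup {L₁ L₂ : Subgroup G} (h1 : Inv A L₁) (h2 : Inv A L₂) : Inv A (L₁ ⊔ L₂) := by
  intro a
  have : L₁ ⊔ L₂ ≤ (L₁ ⊔ L₂).comap (MulDistribMulAction.toMonoidHom G a) := by
    apply sup_le
    · intro x hx
      exact (le_sup_left : L₁ ≤ L₁ ⊔ L₂) (h1 a x hx)
    · intro x hx
      exact (le_sup_right : L₂ ≤ L₁ ⊔ L₂) (h2 a x hx)
  intro x hx
  exact this hx

theorem frattini_le_of_maxInv [Finite G] {M : Subgroup G} (hM : MaxInv A M) : frattini G ≤ M := by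
  obtain ⟨hne, hinv, hmax⟩ := hM
  have hΦ : Inv A (frattini G) := inv_of_char _
  by_cases hlt : M < M ⊔ frattini G
  · exfalso
    exact hne (frattini_nongenerating (hmax _ hlt (inv_sup hinv hΦ)))
  · have : M = M ⊔ frattini G := by
      by_contra hne'
      exact hlt (lt_of_le_of_ne le_sup_left hne')
    rw [this]; exact le_sup_right

theorem exists_maxInv_ge [Finite G] {L : Subgroup G} (hL : Inv A L) (hne : L ≠ ⊤) :
    ∃ M : Subgroup G, MaxInv A M ∧ L ≤ M := by
  classical
  haveI : Nonempty {M : Subgroup G // L ≤ M ∧ Inv A M ∧ M ≠ ⊤} := ⟨⟨L, le_refl L, hL, hne⟩⟩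
  obtain ⟨⟨M, hLM, hMinv, hMne⟩, hmax⟩ :=
    Finite.exists_max (fun M : {M : Subgroup G // L ≤ M ∧ Inv A M ∧ M ≠ ⊤} => Nat.card (M.1))
  refine ⟨M, ⟨hMne, hMinv, ?_⟩, hLM⟩
  intro L' hlt hL'
  by_contra hne'
  have h2 := hmax ⟨L', le_trans hLM hlt.le, hL', hne'⟩
  exact hlt.ne (Subgroup.eq_of_le_of_card_ge hlt.le h2)

theorem conj_smul_eq_of_normal (M : Subgroup G) [hM : M.Normal] (c : G) :
    MulAut.conj c • M = M := by
  ext x
  rw [Subgroup.mem_pointwise_smul_iff_inv_smul_mem]
  have : (MulAut.conj c)⁻¹ • x = c⁻¹ * x * c⁻¹⁻¹ := by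
    rw [← map_inv, MulAut.smul_def, MulAut.conj_apply]
  rw [this]
  constructor
  · intro h
    have := hM.conj_mem _ h c
    have e : c * (c⁻¹ * x * c⁻¹⁻¹) * c⁻¹ = x := by group
    rwa [e] at this
  · intro h
    exact hM.conj_mem _ h c⁻¹

theorem normal_of_commutator_le (M : Subgroup G) (h : commutator G ≤ M) : M.Normal := by
  constructor
  intro m hm g
  have h1 : ⁅g, m⁆ ∈ commutator G :=
    Subgroup.commutator_mem_commutator (Subgroup.mem_top g) (Subgroup.mem_top m)
  have e : g * m * g⁻¹ = ⁅g, m⁆ * m := by rw [commutatorElement_def]; group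
  rw [e]
  exact M.mul_mem (h h1) hm

theorem card_conj_smul (M : Subgroup G) (c : G) :
    Nat.card (MulAut.conj c • M : Subgroup G) = Nat.card M := by
  exact (Nat.card_congr (Subgroup.equivSMul (MulAut.conj c) M).toEquiv).symm

/-- irreducibility on the Frattini quotient when there is a unique maximal invariant subgroup. -/
theorem irred_of_unique [Finite A] [Finite G] (hcop : (Nat.card A).Coprime (Nat.card G))
    (p : ℕ) [Fact p.Prime] (hG : IsPGroup p G) (M₀ : Subgroup G)
    (huniq : ∀ N : Subgroup G, MaxInv A N → N = M₀) (hM₀ : M₀ ≠ ⊤)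
    (L : Subgroup G) (hΦL : frattini G < L) (hL : Inv A L) : L = ⊤ := by
  classical
  by_contra hLne
  obtain ⟨hcomm, hpow⟩ := Cfsg.Agent.S0012.result p hG
  have hLM : L ≤ M₀ := by
    obtain ⟨M, hM, hLM⟩ := exists_maxInv_ge hL hLne
    rw [← huniq M hM]; exact hLM
  letI : CommGroup (G ⧸ frattini G) :=
    { (inferInstance : Group (G ⧸ frattini G)) with
      mul_comm := by
        intro x y
        induction x using QuotientGroup.induction_on with
        | H a =>
          induction y using QuotientGroup.induction_on with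
          | H b =>
            rw [← QuotientGroup.mk_mul, ← QuotientGroup.mk_mul, QuotientGroup.eq]
            apply hcomm
            have e : (a * b)⁻¹ * (b * a) = ⁅b⁻¹, a⁻¹⁆ := by
              rw [commutatorElement_def]; group
            rw [e]
            exact Subgroup.commutator_mem_commutator (Subgroup.mem_top _) (Subgroup.mem_top _) }
  have hexp : ∀ x : G ⧸ frattini G, x ^ p = 1 := by
    intro x
    induction x using QuotientGroup.induction_on with
    | H a =>
      rw [← QuotientGroup.mk_pow, QuotientGroup.eq_one_iff]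
      exact hpow a
  set φ : A →* MulAut (G ⧸ frattini G) :=
    (Cfsg.Agent.Lib.Lead.frattiniQuotAut G).comp (MulDistribMulAction.toMulAut A G) with hφ
  have hφmk : ∀ (a : A) (x : G), φ a (QuotientGroup.mk x) = QuotientGroup.mk (a • x) := by
    intro a x
    rfl
  set π : G →* G ⧸ frattini G := QuotientGroup.mk' (frattini G) with hπ
  have hπsurj : Function.Surjective π := QuotientGroup.mk'_surjective _
  have hπker : π.ker = frattini G := QuotientGroup.ker_mk' _
  set U : Subgroup (G ⧸ frattini G) := L.map π with hU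
  have hUinv : ∀ a : A, ∀ u ∈ U, φ a u ∈ U := by
    rintro a u ⟨x, hx, rfl⟩
    exact ⟨a • x, hL a x hx, (hφmk a x).symm⟩
  obtain ⟨W₀, hW₀1, hW₀2⟩ := elemab_exists_complement (Fact.out : p.Prime) hexp U
  have hcopV : (Nat.card A).Coprime (Nat.card (G ⧸ frattini G)) :=
    Nat.Coprime.coprime_dvd_right (Subgroup.card_quotient_dvd_card _) hcop
  obtain ⟨W', hW'inv, hW'1, hW'2⟩ :=
    Cfsg.Agent.Lib.Helper2.exists_invariant_complement φ hcopV U W₀ hUinv hW₀1 hW₀2
  set L' : Subgroup G := W'.comap π with hL'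
  have hL'inv : Inv A L' := by
    intro a x hx
    rw [hL', Subgroup.mem_comap] at hx ⊢
    have := hW'inv a _ hx
    rwa [hπ, QuotientGroup.mk'_apply, hφmk] at this
  have hL'ne : L' ≠ ⊤ := by
    intro h
    have hW'top : W' = ⊤ := by
      rw [← Subgroup.map_comap_eq_self_of_surjective hπsurj W', ← hL', h,
        ← MonoidHom.range_eq_map, MonoidHom.range_eq_top]
      exact hπsurj
    rw [hW'top, inf_top_eq] at hW'1
    have : L ≤ frattini G := by
      rw [← hπker, ← Subgroup.map_eq_bot_iff]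
      exact hW'1
    exact (not_le_of_gt hΦL) this
  have hL'M : L' ≤ M₀ := by
    obtain ⟨M, hM, hLM'⟩ := exists_maxInv_ge hL'inv hL'ne
    rw [← huniq M hM]; exact hLM'
  have htop : L ⊔ L' = ⊤ := by
    have h1 : (L ⊔ L').map π = ⊤ := by
      rw [Subgroup.map_sup, hL', Subgroup.map_comap_eq_self_of_surjective hπsurj]
      exact hW'2
    have h2 : ((L ⊔ L').map π).comap π = L ⊔ L' := by
      rw [Subgroup.comap_map_eq, hπker]
      apply sup_eq_left.2
      exact le_trans hΦL.le le_sup_left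
    rw [← h2, h1, Subgroup.comap_top]
  apply hM₀
  rw [eq_top_iff, ← htop]
  exact sup_le hLM hL'M

end

/-- Let the finite group A act by automorphisms on the finite group G with the orders of A and G coprime, and assume that A or G is solvable. Call a proper A-invariant subgroup of G maximal A-invariant when no A-invariant subgroup lies strictly between it and G. Then all maximal A-invariant subgroups of G are conjugate under elements of the fixed-point subgroup C_G(A) if and only if G is a p-group for some prime p and A leaves invariant no subgroup strictly between the Frattini subgroup of G and G. In that case, if G is nontrivial, the Frattini subgroup is the only maximal A-invariant subgroup (a trivial G has none). -/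
theorem result {A G : Type*} [Group A] [Finite A]
    [Group G] [Finite G] [MulDistribMulAction A G] (hcop : (Nat.card A).Coprime (Nat.card G)) (hsol : Group.IsSolvable A ∨ Group.IsSolvable G) :
    ((∀ M N : Subgroup G, (M ≠ ⊤ ∧ (∀ a : A, ∀ x ∈ M, a • x ∈ M) ∧ ∀ L : Subgroup G, M < L → (∀ a : A, ∀ x ∈ L, a • x ∈ L) → L = ⊤) → (N ≠ ⊤ ∧ (∀ a : A, ∀ x ∈ N, a • x ∈ N) ∧ ∀ L : Subgroup G, N < L → (∀ a : A, ∀ x ∈ L, a • x ∈ L) → L = ⊤) →
        ∃ c : G, (∀ a : A, a • c = c) ∧ N = MulAut.conj c • M) ↔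
      ((∃ p : ℕ, p.Prime ∧ IsPGroup p G) ∧ ∀ L : Subgroup G, frattini G < L → (∀ a : A, ∀ x ∈ L, a • x ∈ L) → L = ⊤)) ∧
    (((∃ p : ℕ, p.Prime ∧ IsPGroup p G) ∧ ∀ L : Subgroup G, frattini G < L → (∀ a : A, ∀ x ∈ L, a • x ∈ L) → L = ⊤) →
      ∀ M : Subgroup G, (M ≠ ⊤ ∧ (∀ a : A, ∀ x ∈ M, a • x ∈ M) ∧ ∀ L : Subgroup G, M < L → (∀ a : A, ∀ x ∈ L, a • x ∈ L) → L = ⊤) ↔ (M = frattini G ∧ M ≠ ⊤)) := by
  classical
  have hΦinv : Inv A (frattini G) := inv_of_char _
  -- claim 2, forward direction (no hypothesis needed beyond irreducibility)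
  have hC2 : ((∃ p : ℕ, p.Prime ∧ IsPGroup p G) ∧ ∀ L : Subgroup G, frattini G < L → (∀ a : A, ∀ x ∈ L, a • x ∈ L) → L = ⊤) →
      ∀ M : Subgroup G, (M ≠ ⊤ ∧ (∀ a : A, ∀ x ∈ M, a • x ∈ M) ∧ ∀ L : Subgroup G, M < L → (∀ a : A, ∀ x ∈ L, a • x ∈ L) → L = ⊤) ↔ (M = frattini G ∧ M ≠ ⊤) := by
    rintro ⟨-, hirr⟩ M
    constructor
    · intro hM
      have hle : frattini G ≤ M := frattini_le_of_maxInv (A := A) hM
      refine ⟨?_, hM.1⟩
      by_contra hne
      have hlt : frattini G < M := lt_of_le_of_ne hle (fun h => hne h.symm)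
      exact hM.1 (hirr M hlt hM.2.1)
    · rintro ⟨rfl, hne⟩
      exact ⟨hne, hΦinv, hirr⟩
  refine ⟨⟨?_, ?_⟩, hC2⟩
  · -- all maximal invariant conjugate ⇒ p-group and irreducible
    intro hconj
    rcases subsingleton_or_nontrivial G with hsub | hnt
    · refine ⟨⟨2, Nat.prime_two, ?_⟩, ?_⟩
      · apply IsPGroup.of_card (n := 0)
        rw [pow_zero]; exact Nat.card_of_subsingleton 1
      · intro L _ _
        exact Subsingleton.elim _ _
    · have hbotne : (⊥ : Subgroup G) ≠ ⊤ := bot_ne_top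
      have hbotinv : Inv A (⊥ : Subgroup G) := by
        intro a x hx
        rw [Subgroup.mem_bot] at hx ⊢
        rw [hx, smul_one]
      obtain ⟨M₀, hM₀, -⟩ := exists_maxInv_ge hbotinv hbotne
      -- step A: G is a p-group
      have hpg : ∃ p : ℕ, p.Prime ∧ IsPGroup p G := by
        by_contra hno
        apply hM₀.1
        apply (Subgroup.card_eq_iff_eq_top M₀).1
        apply Nat.dvd_antisymm (Subgroup.card_subgroup_dvd_card M₀)
        rw [← Nat.factorization_prime_le_iff_dvd Nat.card_pos.ne' Nat.card_pos.ne']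
        intro r hr
        haveI : Fact r.Prime := ⟨hr⟩
        obtain ⟨R, hR⟩ := ab_exists_inv_sylow (A := A) hcop hsol r
        have hRne : (R : Subgroup G) ≠ ⊤ := by
          intro h
          apply hno
          refine ⟨r, hr, ?_⟩
          have h1 : IsPGroup r (⊤ : Subgroup G) := h ▸ R.2
          exact IsPGroup.of_surjective h1 (Subgroup.topEquiv : (⊤ : Subgroup G) ≃* G).toMonoidHom
            (Subgroup.topEquiv : (⊤ : Subgroup G) ≃* G).surjective
        obtain ⟨Mr, hMr, hRM⟩ := exists_maxInv_ge (A := A) hR hRne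
        obtain ⟨c, -, hc⟩ := hconj M₀ Mr hM₀ hMr
        have hcard : Nat.card Mr = Nat.card M₀ := by rw [hc, card_conj_smul]
        have hdvd : r ^ (Nat.card G).factorization r ∣ Nat.card M₀ := by
          rw [← hcard, ← Sylow.card_eq_multiplicity R]
          exact Subgroup.card_dvd_of_le hRM
        exact (Nat.Prime.pow_dvd_iff_le_factorization hr Nat.card_pos.ne').1 hdvd
      refine ⟨hpg, ?_⟩
      obtain ⟨p, hp, hG⟩ := hpg
      haveI : Fact p.Prime := ⟨hp⟩
      obtain ⟨hcomm, -⟩ := Cfsg.Agent.S0012.result p hG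
      have huniq : ∀ N : Subgroup G, MaxInv A N → N = M₀ := by
        intro N hN
        obtain ⟨c, -, hc⟩ := hconj M₀ N hM₀ hN
        haveI : M₀.Normal :=
          normal_of_commutator_le M₀ (le_trans hcomm (frattini_le_of_maxInv (A := A) hM₀))
        rw [hc, conj_smul_eq_of_normal]
      intro L hΦL hL
      exact irred_of_unique (A := A) hcop p hG M₀ huniq hM₀.1 L hΦL hL
  · -- converse
    intro hR M N hM hN
    have h1 := ((hC2 hR) M).1 hM
    have h2 := ((hC2 hR) N).1 hN
    refine ⟨1, fun a => smul_one a, ?_⟩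
    rw [h2.1, h1.1, map_one, one_smul]

end Cfsg.Agent.S4381
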