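import Cfsg.Statements.S4314
import Cfsg.Agent.S4365
import Cfsg.Agent.S4381

set_option autoImplicit false
open Cfsg

namespace Cfsg.Agent.S4314

open Cfsg.Agent.S4365

set_option linter.unusedSectionVars false

section
variable {G : Type*} [Group G] [Finite G]

theorem commutator_le_of_prime_index (N : Subgroup G) [N.Normal] (hp : N.index.Prime) :
    commutator G ≤ N := by
  haveI : Fact N.index.Prime := ⟨hp⟩
  haveI : IsCyclic (G ⧸ N) := isCyclic_of_prime_card (Subgroup.index_eq_card N).symm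
  exact Subgroup.Normal.quotient_commutative_iff_commutator_le.1 inferInstance

theorem class_two_of_normal
    (h : ∀ x : G, (cz x).index = 1 ∨ (cz x).index.Prime)
    (hn : ∀ x : G, x ∉ Subgroup.center G → (cz x).Normal) :
    Subgroup.upperCentralSeries G 2 = ⊤ := by
  rw [Subgroup.eq_top_iff']
  intro x
  rw [show (2 : ℕ) = 1 + 1 from rfl, Subgroup.mem_upperCentralSeries_succ_iff]
  intro y
  rw [Subgroup.upperCentralSeries_one, Subgroup.mem_center_iff]
  intro z
  by_cases hz : z ∈ Subgroup.center G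
  · exact ((Subgroup.mem_center_iff.1 hz) _).symm
  · haveI := hn z hz
    have hp : (cz z).index.Prime := by
      rcases h z with h1 | h1
      · exact absurd ((index_one_iff z).1 h1) hz
      · exact h1
    have hm := commutator_le_of_prime_index (cz z) hp
      (Subgroup.commutator_mem_commutator (Subgroup.mem_top x) (Subgroup.mem_top y))
    exact (mem_cz.1 hm).symm

theorem mem_of_pow_mem_coprime (H : Subgroup G) (t : G) (a b : ℕ) (hab : a.Coprime b)
    (ha : t ^ a ∈ H) (hb : t ^ b ∈ H) : t ∈ H := by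
  have hbez := Nat.gcd_eq_gcd_ab a b
  rw [hab.gcd_eq_one] at hbez
  have h1 : t = t ^ ((a : ℤ) * Nat.gcdA a b + (b : ℤ) * Nat.gcdB a b) := by
    rw [← hbez]; simp
  rw [h1, zpow_add, zpow_mul, zpow_mul, zpow_natCast, zpow_natCast]
  exact H.mul_mem (H.zpow_mem ha _) (H.zpow_mem hb _)

theorem comm_of_center_ne (Q : Type*) [Group Q] [Finite Q] (r q : ℕ) (hr : r.Prime)
    (hq : q.Prime) (hcard : Nat.card Q = r * q) (hz : ∃ z ∈ Subgroup.center Q, z ≠ 1) :
    IsMulCommutative Q := by
  obtain ⟨z, hz, hz1⟩ := hz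
  have h1 := Subgroup.card_mul_index (Subgroup.center Q)
  rw [hcard] at h1
  have hcne : Nat.card (Subgroup.center Q) ≠ 1 := by
    intro hc
    rw [Subgroup.card_eq_one] at hc
    rw [hc, Subgroup.mem_bot] at hz
    exact hz1 hz
  have hdvd : (Subgroup.center Q).index ∣ r * q := Dvd.intro_left _ h1
  have hcyc : IsCyclic (Q ⧸ Subgroup.center Q) := by
    obtain ⟨d1, d2, hd1, hd2, hd⟩ := (Nat.dvd_mul).1 hdvd
    have hcq : Nat.card (Q ⧸ Subgroup.center Q) = (Subgroup.center Q).index :=
      (Subgroup.index_eq_card _).symm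
    rcases (Nat.dvd_prime hr).1 hd1 with e1 | e1 <;> rcases (Nat.dvd_prime hq).1 hd2 with e2 | e2
    · rw [e1, e2, mul_one] at hd
      haveI : Subsingleton (Q ⧸ Subgroup.center Q) := by
        rw [← hd] at hcq
        exact (Nat.card_eq_one_iff_unique.1 hcq).1
      exact isCyclic_of_subsingleton
    · rw [e1, e2, one_mul] at hd
      haveI : Fact q.Prime := ⟨hq⟩
      exact isCyclic_of_prime_card (hcq.trans hd.symm)
    · rw [e1, e2, mul_one] at hd
      haveI : Fact r.Prime := ⟨hr⟩
      exact isCyclic_of_prime_card (hcq.trans hd.symm)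
    · exfalso
      rw [e1, e2] at hd
      rw [← hd] at h1
      apply hcne
      have hpos : 0 < r * q := Nat.mul_pos hr.pos hq.pos
      exact Nat.eq_of_mul_eq_mul_right hpos (h1.trans (one_mul _).symm)
  exact isMulCommutative_of_isCyclic_quotient_center_self Q

theorem main (h : ∀ x : G, (cz x).index = 1 ∨ (cz x).index.Prime) (C : Subgroup G)
    (hCn : ¬ C.Normal) (hZC : Subgroup.center G ≤ C) (q : ℕ) (hq : q.Prime)
    (hCq : C.index = q) :
    ∃ p q : ℕ, p.Prime ∧ q.Prime ∧ p ≠ q ∧ Nat.card (G ⧸ Subgroup.center G) = p * q ∧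
      ¬ IsMulCommutative (G ⧸ Subgroup.center G) := by
  classical
  have hprime : ∀ x : G, x ∉ Subgroup.center G → (cz x).index.Prime := by
    intro x hx
    rcases h x with h1 | h1
    · exact absurd ((index_one_iff x).1 h1) hx
    · exact h1
  obtain ⟨K, hKdef⟩ : ∃ K : Subgroup G, K = C.normalCore := ⟨_, rfl⟩
  haveI hKn : K.Normal := by rw [hKdef]; infer_instance
  have hKmem : ∀ a : G, a ∈ K ↔ ∀ b : G, b * a * b⁻¹ ∈ C := by
    intro a; rw [hKdef]; exact Iff.rfl
  have hKC : K ≤ C := by rw [hKdef]; exact Subgroup.normalCore_le C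
  have hZK : Subgroup.center G ≤ K := by
    rw [hKdef]; exact Subgroup.normal_le_normalCore.2 hZC
  have hCK : K ≠ C := by
    intro e; apply hCn; rw [← e]; exact hKn
  have hcomm : ¬ commutator G ≤ C :=
    fun hle => hCn (Cfsg.Agent.S4381.normal_of_commutator_le C hle)
  haveI : Fact q.Prime := ⟨hq⟩
  have hqK : q ∣ K.index := by rw [← hCq]; exact Subgroup.index_dvd_of_le hKC
  have hcardQ : Nat.card (G ⧸ K) = K.index := (Subgroup.index_eq_card K).symm
  obtain ⟨gbar0, hgbar0⟩ :=
    exists_prime_orderOf_dvd_card' (G := G ⧸ K) q (by rw [hcardQ]; exact hqK)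
  obtain ⟨g0, rfl⟩ := QuotientGroup.mk_surjective gbar0
  have hg0K : g0 ∉ K := by
    intro hg
    have e1 : ((g0 : G) : G ⧸ K) = 1 := (QuotientGroup.eq_one_iff g0).2 hg
    rw [e1, orderOf_one] at hgbar0
    exact hq.one_lt.ne hgbar0
  have hg0q : g0 ^ q ∈ K := by
    rw [← QuotientGroup.eq_one_iff, QuotientGroup.mk_pow, ← hgbar0]
    exact pow_orderOf_eq_one _
  obtain ⟨b, hb⟩ : ∃ b : G, b * g0 * b⁻¹ ∉ C := by
    by_contra hno
    apply hg0K
    rw [hKmem]
    intro b
    by_contra hb
    exact hno ⟨b, hb⟩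
  obtain ⟨g, hgdef⟩ : ∃ g : G, g = b * g0 * b⁻¹ := ⟨_, rfl⟩
  have hgC : g ∉ C := by rw [hgdef]; exact hb
  have hgK : g ∉ K := fun hg => hgC (hKC hg)
  have hgq : g ^ q ∈ K := by
    rw [hgdef, conj_pow]
    exact hKn.conj_mem _ hg0q b
  have hgqC : g ^ q ∈ C := hKC hgq
  have hord : orderOf ((g : G) : G ⧸ K) = q := by
    have h1 : ((g : G) : G ⧸ K) ^ q = 1 := by
      rw [← QuotientGroup.mk_pow]; exact (QuotientGroup.eq_one_iff _).2 hgq
    have h2 := orderOf_dvd_of_pow_eq_one h1
    rcases (Nat.dvd_prime hq).1 h2 with h3 | h3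
    · exfalso
      apply hgK
      rw [orderOf_eq_one_iff] at h3
      exact (QuotientGroup.eq_one_iff g).1 h3
    · exact h3
  have hdecomp : ∀ c : G, ∃ i : ℕ, (g ^ i)⁻¹ * c ∈ C := by
    have key : ∀ a b : ℕ, a < b → b < q → (g ^ a)⁻¹ * g ^ b ∈ C → False := by
      intro a b hab hbq hm
      have e : g ^ b = g ^ a * g ^ (b - a) := by
        rw [← pow_add, Nat.add_sub_cancel' hab.le]
      have hd : g ^ (b - a) ∈ C := by
        rw [e, inv_mul_cancel_left] at hm; exact hm
      have hcop : Nat.Coprime (b - a) q := by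
        have h1 : Nat.Coprime q (b - a) := (Nat.Prime.coprime_iff_not_dvd hq).2
          (Nat.not_dvd_of_pos_of_lt (Nat.sub_pos_of_lt hab)
            (lt_of_le_of_lt (Nat.sub_le _ _) hbq))
        exact h1.symm
      exact hgC (mem_of_pow_mem_coprime C g (b - a) q hcop hd hgqC)
    let f : Fin q → G ⧸ C := fun i => ((g ^ (i : ℕ) : G) : G ⧸ C)
    have hinj : Function.Injective f := by
      intro i j hij
      by_contra hne
      have hm1 : (g ^ (i : ℕ))⁻¹ * g ^ (j : ℕ) ∈ C := QuotientGroup.eq.1 hij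
      have hm2 : (g ^ (j : ℕ))⁻¹ * g ^ (i : ℕ) ∈ C := QuotientGroup.eq.1 hij.symm
      rcases lt_trichotomy (i : ℕ) (j : ℕ) with hlt | heq | hlt
      · exact key _ _ hlt j.isLt hm1
      · exact hne (Fin.ext heq)
      · exact key _ _ hlt i.isLt hm2
    have hbij : Function.Bijective f := by
      apply Function.Injective.bijective_of_nat_card_le hinj
      rw [Nat.card_fin, ← Subgroup.index_eq_card, hCq]
    intro c
    obtain ⟨i, hi⟩ := hbij.2 ((c : G) : G ⧸ C)
    exact ⟨i, QuotientGroup.eq.1 hi⟩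
  obtain ⟨L, hLdef⟩ : ∃ L : Subgroup G,
      L = (Subgroup.zpowers ((g : G) : G ⧸ K)).comap (QuotientGroup.mk' K) := ⟨_, rfl⟩
  have hLidx : L.index = (Subgroup.zpowers ((g : G) : G ⧸ K)).index := by
    rw [hLdef]; exact Subgroup.index_comap_of_surjective _ (QuotientGroup.mk'_surjective K)
  have hKidx : K.index = L.index * q := by
    have h1 := Subgroup.card_mul_index (Subgroup.zpowers ((g : G) : G ⧸ K))
    rw [Nat.card_zpowers, hord, hcardQ, ← hLidx] at h1
    rw [← h1, mul_comm]
  have hczL : cz g ≤ L := by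
    intro c hc
    rw [mem_cz] at hc
    obtain ⟨i, hi⟩ := hdecomp c
    obtain ⟨c0, hc0def⟩ : ∃ c0 : G, c0 = (g ^ i)⁻¹ * c := ⟨_, rfl⟩
    rw [← hc0def] at hi
    have hc0g : Commute c0 g := by
      rw [hc0def]
      exact Commute.mul_left ((Commute.refl g).pow_left i).inv_left hc
    have hc0K : c0 ∈ K := by
      rw [hKmem]
      intro b
      obtain ⟨j, hj⟩ := hdecomp b⁻¹
      obtain ⟨c', hc'def⟩ : ∃ c' : G, c' = (g ^ j)⁻¹ * b⁻¹ := ⟨_, rfl⟩
      rw [← hc'def] at hj
      have hbe : b = c'⁻¹ * (g ^ j)⁻¹ := by rw [hc'def]; group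
      have hbinv : b⁻¹ = g ^ j * c' := by rw [hc'def]; group
      have hcj : (g ^ j)⁻¹ * c0 * g ^ j = c0 := by
        have h1 := (hc0g.pow_right j)
        rw [mul_assoc, h1.eq, inv_mul_cancel_left]
      have e : b * c0 * b⁻¹ = c'⁻¹ * c0 * c' := by
        calc b * c0 * b⁻¹ = (c'⁻¹ * (g ^ j)⁻¹) * c0 * (g ^ j * c') := by rw [← hbe, ← hbinv]
          _ = c'⁻¹ * ((g ^ j)⁻¹ * c0 * g ^ j) * c' := by group
          _ = c'⁻¹ * c0 * c' := by rw [hcj]
      rw [e]
      exact C.mul_mem (C.mul_mem (C.inv_mem hj) hi) hj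
    have hce : c = g ^ i * c0 := by rw [hc0def]; group
    rw [hLdef, Subgroup.mem_comap, hce, map_mul, map_pow]
    have h1 : (QuotientGroup.mk' K) c0 = 1 := (QuotientGroup.eq_one_iff c0).2 hc0K
    rw [h1, mul_one]
    exact Subgroup.pow_mem _ (Subgroup.mem_zpowers _) i
  have hgZ : g ∉ Subgroup.center G := fun hg => hgK (hZK hg)
  obtain ⟨r, hrdef⟩ : ∃ r : ℕ, r = (cz g).index := ⟨_, rfl⟩
  have hr : r.Prime := by rw [hrdef]; exact hprime g hgZ
  have hLr : L.index ∣ r := by rw [hrdef]; exact Subgroup.index_dvd_of_le hczL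
  have hLr' : L.index = r := by
    rcases (Nat.dvd_prime hr).1 hLr with h1 | h1
    · exfalso
      rw [h1, one_mul] at hKidx
      apply hCK
      have h2 := Subgroup.relIndex_mul_index hKC
      rw [hCq, hKidx] at h2
      have h3 : K.relIndex C = 1 :=
        Nat.eq_of_mul_eq_mul_right hq.pos (h2.trans (one_mul q).symm)
      exact le_antisymm hKC (Subgroup.relIndex_eq_one.1 h3)
    · exact h1
  rw [hLr'] at hKidx
  have hQnc : ¬ IsMulCommutative (G ⧸ K) := by
    intro hc
    exact hcomm ((Subgroup.Normal.quotient_commutative_iff_commutator_le.1 hc).trans hKC)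
  have hrq : r ≠ q := by
    intro e
    apply hQnc
    have h1 : Nat.card (G ⧸ K) = q ^ 2 := by rw [hcardQ, hKidx, e, sq]
    exact IsPGroup.isMulCommutative_of_card_eq_prime_sq h1
  have hKcz : ∀ x : G, x ∉ K → K ≤ cz x := by
    intro x hx
    have hxZ : x ∉ Subgroup.center G := fun hxz => hx (hZK hxz)
    have hs := hprime x hxZ
    have hle : cz x ≤ cz x ⊔ K := le_sup_left
    have hdvd := Subgroup.index_dvd_of_le hle
    rcases (Nat.dvd_prime hs).1 hdvd with h1 | h1
    · exfalso
      rw [Subgroup.index_eq_one] at h1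
      have hxc : ((x : G) : G ⧸ K) ∈ Subgroup.center (G ⧸ K) := by
        rw [Subgroup.mem_center_iff]
        intro ubar
        obtain ⟨u, rfl⟩ := QuotientGroup.mk_surjective ubar
        have hu : u ∈ cz x ⊔ K := by rw [h1]; exact Subgroup.mem_top u
        rw [← SetLike.mem_coe, Subgroup.mul_normal, Set.mem_mul] at hu
        obtain ⟨a, ha, k, hk, rfl⟩ := hu
        have hk1 : ((k : G) : G ⧸ K) = 1 := (QuotientGroup.eq_one_iff k).2 hk
        rw [QuotientGroup.mk_mul, hk1, mul_one, ← QuotientGroup.mk_mul, ← QuotientGroup.mk_mul,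
          mem_cz.1 ha]
      have hxne : ((x : G) : G ⧸ K) ≠ 1 := fun e => hx ((QuotientGroup.eq_one_iff x).1 e)
      apply hQnc
      exact comm_of_center_ne (G ⧸ K) r q hr hq (by rw [hcardQ, hKidx]) ⟨_, hxc, hxne⟩
    · have h2 := Subgroup.relIndex_mul_index hle
      rw [h1] at h2
      have h3 : (cz x).relIndex (cz x ⊔ K) = 1 :=
        Nat.eq_of_mul_eq_mul_right hs.pos (h2.trans (one_mul _).symm)
      exact le_sup_right.trans (Subgroup.relIndex_eq_one.1 h3)
  have hKZ : K ≤ Subgroup.center G := by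
    intro k hk
    rw [Subgroup.mem_center_iff]
    intro x
    by_cases hx : x ∈ K
    · have hxg : x * g ∉ K := by
        intro hxg
        apply hgK
        have e1 : g = x⁻¹ * (x * g) := by group
        rw [e1]; exact K.mul_mem (K.inv_mem hx) hxg
      have h1 := mem_cz.1 (hKcz g hgK hk)
      have h2 := mem_cz.1 (hKcz (x * g) hxg hk)
      have h3 : k * x * g = x * k * g := by
        calc k * x * g = k * (x * g) := by group
          _ = x * g * k := h2
          _ = x * (g * k) := by group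
          _ = x * (k * g) := by rw [h1]
          _ = x * k * g := by group
      exact (mul_right_cancel h3).symm
    · exact (mem_cz.1 (hKcz x hx hk)).symm
  have hKeq : K = Subgroup.center G := le_antisymm hKZ hZK
  refine ⟨r, q, hr, hq, hrq, ?_, ?_⟩
  · rw [← Subgroup.index_eq_card, ← hKeq]; exact hKidx
  · intro hc
    apply hcomm
    exact ((Subgroup.Normal.quotient_commutative_iff_commutator_le.1 hc).trans hZC)

end


/-- Let `G` be a finite group every conjugacy class of which has size 1 or a prime. Then either `G` is nilpotent of class at most 2, or `G/Z(G)` is a non-abelian group of order `pq` for distinct primes `p, q` (a Frobenius group of order `pq`). -/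
theorem result {G : Type*} [Group G] [Finite G]
    (h : ∀ x : G, (Subgroup.centralizer ({x} : Set G)).index = 1 ∨ ((Subgroup.centralizer ({x} : Set G)).index).Prime) :
    Subgroup.upperCentralSeries G 2 = ⊤ ∨
      ∃ p q : ℕ, p.Prime ∧ q.Prime ∧ p ≠ q ∧ Nat.card (G ⧸ Subgroup.center G) = p * q ∧ ¬ IsMulCommutative (G ⧸ Subgroup.center G) := by
  by_cases hn : ∀ x : G, x ∉ Subgroup.center G → (cz x).Normal
  · left; exact class_two_of_normal h hn
  · right
    have hex : ∃ y : G, y ∉ Subgroup.center G ∧ ¬ (cz y).Normal := by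
      by_contra hno
      apply hn
      intro x hx
      by_contra hxn
      exact hno ⟨x, hx, hxn⟩
    obtain ⟨y, hy, hyn⟩ := hex
    have hq : (cz y).index.Prime := by
      rcases h y with h1 | h1
      · exact absurd ((index_one_iff y).1 h1) hy
      · exact h1
    exact main h (cz y) hyn (center_le_cz y) _ hq rfl

end Cfsg.Agent.S4314
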