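import Cfsg.Statements.S4325
import Mathlib

set_option autoImplicit false
open Cfsg

namespace Cfsg.Agent.S4325

/-- Let r be a prime and m a natural number with m + 1 < r, and let π be a set of primes containing every prime below r but not r itself. Then in the symmetric group of degree r any m transpositions generate a π-subgroup, while O_π of the symmetric group is trivial. (So no bound on the number of conjugates that works for all π exists in the π-radical analogue of the Baer–Suzuki Theorem.) -/
theorem result (r m : ℕ) (hr : r.Prime)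
    (hm : m + 1 < r) (π : Set ℕ) (hπ : ∀ q : ℕ, q.Prime → q < r → q ∈ π) (hrπ : r ∉ π)
    (t : Fin m → Equiv.Perm (Fin r)) (ht : ∀ i, (t i).IsSwap) :
    Cfsg.IsPiSubgroup π (Subgroup.closure (Set.range t)) ∧ Cfsg.piCore π (Equiv.Perm (Fin r)) = ⊥ := by
  classical
  haveI : Fact r.Prime := ⟨hr⟩
  have hr2 : 2 ≤ r := hr.two_le
  constructor
  · intro q hq hqd
    have hcard : Nat.card (Equiv.Perm (Fin r)) = r.factorial := by
      rw [Nat.card_eq_fintype_card, Fintype.card_perm, Fintype.card_fin]
    have h1 : q ∣ r.factorial := by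
      rw [← hcard]; exact dvd_trans hqd (Subgroup.card_subgroup_dvd_card _)
    have hqr : q ≤ r := (hq.dvd_factorial).1 h1
    rcases lt_or_eq_of_le hqr with hlt | heq
    · exact hπ q hq hlt
    · exfalso
      rw [heq] at hqd
      set H := Subgroup.closure (Set.range t) with hH
      obtain ⟨y, hy⟩ := exists_prime_orderOf_dvd_card' (G := ↥H) r hqd
      have hg : orderOf (y : Equiv.Perm (Fin r)) = r := by rw [Subgroup.orderOf_coe]; exact hy
      have hcyc : (y : Equiv.Perm (Fin r)).IsCycle :=
        Equiv.Perm.isCycle_of_prime_order'' (by rw [Fintype.card_fin]; exact hr)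
          (by rw [Fintype.card_fin]; exact hg)
      have hsupp : (y : Equiv.Perm (Fin r)).support = Finset.univ := by
        apply Finset.eq_univ_of_card
        rw [← hcyc.orderOf, hg, Fintype.card_fin]
      have hmove : ∀ x : Fin r, (y : Equiv.Perm (Fin r)) x ≠ x := fun x =>
        Equiv.Perm.mem_support.1 (hsupp ▸ Finset.mem_univ x)
      choose a b hab htab using ht
      let L : (Fin r → ℚ) →ₗ[ℚ] (Fin m → ℚ) :=
        { toFun := fun f i => f (a i) - f (b i)
          map_add' := by intro f g; ext i; simp only [Pi.add_apply]; ring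
          map_smul' := by
            intro c f; ext i
            simp only [Pi.smul_apply, smul_eq_mul, RingHom.id_apply, mul_sub] }
      have hker : 2 ≤ Module.finrank ℚ ↥(LinearMap.ker L) := by
        have h1 := LinearMap.finrank_range_add_finrank_ker L
        rw [Module.finrank_fin_fun] at h1
        have h2 : Module.finrank ℚ ↥(LinearMap.range L) ≤ m := by
          have h5 := Submodule.finrank_le (LinearMap.range L)
          rwa [Module.finrank_fin_fun] at h5
        omega
      have hnot : ¬ LinearMap.ker L ≤ Submodule.span ℚ {(1 : Fin r → ℚ)} := by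
        intro hle
        have h3 := Submodule.finrank_mono hle
        have h4 : Module.finrank ℚ ↥(Submodule.span ℚ {(1 : Fin r → ℚ)}) ≤ 1 := by
          have h6 := finrank_span_le_card (R := ℚ) ({(1 : Fin r → ℚ)} : Set (Fin r → ℚ))
          simpa using h6
        omega
      obtain ⟨f, hfker, hfspan⟩ := SetLike.not_le_iff_exists.1 hnot
      have hfab : ∀ i, f (a i) = f (b i) := by
        intro i
        have h7 := congrFun (LinearMap.mem_ker.1 hfker) i
        exact sub_eq_zero.1 h7
      let K : Subgroup (Equiv.Perm (Fin r)) :=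
        { carrier := {σ | ∀ x, f (σ x) = f x}
          one_mem' := fun x => rfl
          mul_mem' := by
            intro σ τ hσ hτ x
            show f (σ (τ x)) = f x
            rw [hσ, hτ]
          inv_mem' := by
            intro σ hσ x
            have h8 := hσ (σ⁻¹ x)
            have h12 : σ (σ⁻¹ x) = x := by
              rw [← Equiv.Perm.mul_apply, mul_inv_cancel, Equiv.Perm.one_apply]
            rw [h12] at h8
            exact h8.symm }
      have hHK : H ≤ K := by
        rw [hH, Subgroup.closure_le]
        rintro _ ⟨i, rfl⟩ x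
        show f (t i x) = f x
        rw [htab i]
        by_cases hxa : x = a i
        · rw [hxa, Equiv.swap_apply_left]; exact (hfab i).symm
        · by_cases hxb : x = b i
          · rw [hxb, Equiv.swap_apply_right]; exact hfab i
          · rw [Equiv.swap_apply_of_ne_of_ne hxa hxb]
      have hyK : (y : Equiv.Perm (Fin r)) ∈ K := hHK y.2
      have hconst : ∀ x z : Fin r, f x = f z := by
        intro x z
        obtain ⟨i, hi⟩ := hcyc.exists_zpow_eq (hmove x) (hmove z)
        have h9 : (y : Equiv.Perm (Fin r)) ^ i ∈ K := K.zpow_mem hyK i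
        rw [← hi]; exact (h9 x).symm
      apply hfspan
      rw [Submodule.mem_span_singleton]
      refine ⟨f ⟨0, by omega⟩, ?_⟩
      ext x
      simp only [Pi.smul_apply, Pi.one_apply, smul_eq_mul, mul_one]
      exact hconst _ _
  · unfold Cfsg.piCore
    rw [sSup_eq_bot]
    rintro N ⟨hNn, hNπ⟩
    by_contra hN1
    obtain ⟨⟨n, hn⟩, hn1⟩ := (Subgroup.ne_bot_iff_exists_ne_one).1 hN1
    have hn1' : n ≠ 1 := fun h => hn1 (Subtype.ext h)
    obtain ⟨a0, ha0⟩ : ∃ a0, n a0 ≠ a0 := by
      by_contra hcon
      push Not at hcon
      exact hn1' (Equiv.ext hcon)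
    have htrans : ∀ c : Fin r, ∃ n' ∈ N, n' a0 = c := by
      intro c
      by_cases hca : c = a0
      · exact ⟨1, N.one_mem, by rw [hca]; rfl⟩
      · refine ⟨Equiv.swap (n a0) c * n * (Equiv.swap (n a0) c)⁻¹, hNn.conj_mem n hn _, ?_⟩
        have hfix : (Equiv.swap (n a0) c)⁻¹ a0 = a0 := by
          rw [Equiv.swap_inv]
          exact Equiv.swap_apply_of_ne_of_ne (Ne.symm ha0) (Ne.symm hca)
        rw [Equiv.Perm.mul_apply, Equiv.Perm.mul_apply, hfix, Equiv.swap_apply_left]
    have hdvd : r ∣ Nat.card N := by
      have h1 := MulAction.index_stabilizer (↥N) a0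
      have h2 : MulAction.orbit (↥N) a0 = Set.univ := by
        ext c
        simp only [Set.mem_univ, iff_true]
        obtain ⟨n', hn', hc⟩ := htrans c
        exact ⟨⟨n', hn'⟩, hc⟩
      rw [h2, Set.ncard_univ, Nat.card_eq_fintype_card, Fintype.card_fin] at h1
      have h3 := Subgroup.index_dvd_card (MulAction.stabilizer (↥N) a0)
      rw [h1] at h3
      exact h3
    exact hrπ (hNπ r hr hdvd)

end Cfsg.Agent.S4325
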