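import Cfsg.Statements.S4326

set_option autoImplicit false
open Pointwise
open Cfsg

namespace Cfsg.Agent.S4326

open scoped Pointwise

/-- Let G be a finite group, p a prime, x an automorphism of G of p-power order and M the subgroup of fixed points of x. Suppose that p divides the index of M and that either M is self-normalizing or M has trivial center. Then some conjugate of M is mapped onto itself by x but is not fixed elementwise by x. -/
theorem result {G : Type*} [Group G] [Finite G]
    (p : ℕ) [Fact p.Prime] (x : MulAut G) (hx : ∃ k : ℕ, orderOf x = p ^ k) (M : Subgroup G)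
    (hM : ∀ g : G, g ∈ M ↔ x g = g) (hp : p ∣ M.index)
    (hself : Subgroup.normalizer (M : Set G) = M ∨ Subgroup.center M = ⊥) :
    ∃ g : G, (∀ y ∈ MulAut.conj g • M, x y ∈ MulAut.conj g • M) ∧ ∃ y ∈ MulAut.conj g • M, x y ≠ y := by
  classical
  obtain ⟨k, hk⟩ := hx
  set A : Subgroup (MulAut G) := Subgroup.zpowers x with hA
  have hAp : IsPGroup p A := IsPGroup.of_card (n := k) (by rw [Nat.card_zpowers, hk])
  -- every element of A fixes M pointwise
  have hfix : ∀ a : A, ∀ m ∈ M, (a : MulAut G) m = m := by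
    rintro ⟨a, ha⟩ m hm
    have hxm : x m = m := (hM m).mp hm
    have hst : x ∈ MulAction.stabilizer (MulAut G) m := by
      rw [MulAction.mem_stabilizer_iff]; exact hxm
    have hle : A ≤ MulAction.stabilizer (MulAut G) m := by
      rw [hA, Subgroup.zpowers_le]; exact hst
    have := hle ha
    rw [MulAction.mem_stabilizer_iff] at this
    exact this
  have hsm : ∀ (b : A) (a : G), b • a = (b : MulAut G) a := fun b a => rfl
  have : MulAction.QuotientAction A M := ⟨by
    intro b a a' h
    have : (b • a)⁻¹ * b • a' = (b : MulAut G) (a⁻¹ * a') := by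
      rw [hsm, hsm, map_mul, map_inv]
    rw [this, hfix b _ h]; exact h⟩
  have hdvd : p ∣ Nat.card (G ⧸ M) := hp
  have h1 : (QuotientGroup.mk 1 : G ⧸ M) ∈ MulAction.fixedPoints A (G ⧸ M) := by
    intro a
    rw [MulAction.Quotient.smul_mk, hsm, map_one]
  obtain ⟨b, hb, hne⟩ := hAp.exists_fixed_point_of_prime_dvd_card_of_fixed_point (G ⧸ M) hdvd h1
  obtain ⟨g, rfl⟩ := QuotientGroup.mk_surjective b
  have hgM : g ∉ M := by
    intro hg; apply hne
    rw [QuotientGroup.eq]; simpa using hg
  have hm0 : g⁻¹ * x g ∈ M := by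
    have := hb ⟨x, Subgroup.mem_zpowers x⟩
    rw [MulAction.Quotient.smul_mk] at this
    have h2 := QuotientGroup.eq.mp this.symm
    exact h2
  have hxg : x g = g * (g⁻¹ * x g) := by group
  have hconj : ∀ m : G, m ∈ M → x (g * m * g⁻¹) = g * ((g⁻¹ * x g) * m * (g⁻¹ * x g)⁻¹) * g⁻¹ := by
    intro m hm
    have hxm : x m = m := (hM m).mp hm
    rw [map_mul, map_mul, map_inv, hxm]
    group
  refine ⟨g, ?_, ?_⟩
  · intro y hy
    rw [Subgroup.mem_pointwise_smul_iff_inv_smul_mem] at hy
    have hy' : g⁻¹ * y * g ∈ M := by simpa [MulAut.smul_def] using hy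
    have hyeq : y = g * (g⁻¹ * y * g) * g⁻¹ := by group
    rw [hyeq, hconj _ hy']
    rw [Subgroup.mem_pointwise_smul_iff_inv_smul_mem]
    have : (MulAut.conj g)⁻¹ • (g * ((g⁻¹ * x g) * (g⁻¹ * y * g) * (g⁻¹ * x g)⁻¹) * g⁻¹) =
        (g⁻¹ * x g) * (g⁻¹ * y * g) * (g⁻¹ * x g)⁻¹ := by
      simp [MulAut.smul_def, mul_assoc]
    rw [this]
    exact M.mul_mem (M.mul_mem hm0 hy') (M.inv_mem hm0)
  · by_contra hcon
    push Not at hcon
    -- all of g M g⁻¹ is fixed by x
    have hall : ∀ m ∈ M, x (g * m * g⁻¹) = g * m * g⁻¹ := by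
      intro m hm
      apply hcon
      rw [Subgroup.mem_pointwise_smul_iff_inv_smul_mem]
      simpa [MulAut.smul_def, mul_assoc] using hm
    -- so g M g⁻¹ ≤ M
    have hsub : ∀ m ∈ M, g * m * g⁻¹ ∈ M := fun m hm => (hM _).mpr (hall m hm)
    -- m0 central in M
    have hcent : ∀ m ∈ M, (g⁻¹ * x g) * m = m * (g⁻¹ * x g) := by
      intro m hm
      have h2 := hall m hm
      rw [hconj m hm] at h2
      have h3 : (g⁻¹ * x g) * m * (g⁻¹ * x g)⁻¹ = m := by
        have := congrArg (fun z => g⁻¹ * z * g) h2
        simpa [mul_assoc] using this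
      calc (g⁻¹ * x g) * m = ((g⁻¹ * x g) * m * (g⁻¹ * x g)⁻¹) * (g⁻¹ * x g) := by group
        _ = m * (g⁻¹ * x g) := by rw [h3]
    rcases hself with hN | hZ
    · -- g normalizes M
      apply hgM
      rw [← hN, Subgroup.mem_normalizer_iff]
      intro h
      refine ⟨hsub h, ?_⟩
      intro hh
      -- conjugation by g is an injective self-map of the finite set M, hence surjective
      let f : M → M := fun m => ⟨g * m * g⁻¹, hsub m m.2⟩
      have hinj : Function.Injective f := by
        intro a b hab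
        have : g * (a : G) * g⁻¹ = g * (b : G) * g⁻¹ := congrArg Subtype.val hab
        apply Subtype.ext
        have := congrArg (fun z => g⁻¹ * z * g) this
        simpa [mul_assoc] using this
      have hsurj : Function.Surjective f := Finite.surjective_of_injective hinj
      obtain ⟨m, hm⟩ := hsurj ⟨g * h * g⁻¹, hh⟩
      have : g * (m : G) * g⁻¹ = g * h * g⁻¹ := congrArg Subtype.val hm
      have hmh : (m : G) = h := by
        have := congrArg (fun z => g⁻¹ * z * g) this
        simpa [mul_assoc] using this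
      rw [← hmh]; exact m.2
    · -- m0 ∈ Z(M) = ⊥
      have hmem : (⟨g⁻¹ * x g, hm0⟩ : M) ∈ Subgroup.center M := by
        rw [Subgroup.mem_center_iff]
        intro m
        apply Subtype.ext
        exact (hcent m m.2).symm
      rw [hZ, Subgroup.mem_bot] at hmem
      have h1' : g⁻¹ * x g = 1 := congrArg Subtype.val hmem
      apply hgM
      rw [hM]
      have : x g = g * (g⁻¹ * x g) := hxg
      rw [this, h1', mul_one]

end Cfsg.Agent.S4326
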