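import Mathlib
import Cfsg.Statements.S4331
import Cfsg.Agent.Lib.Helper5.SubnClosure
import Cfsg.Agent.Lib.Helper5.PCore

set_option autoImplicit false
open Cfsg

namespace Cfsg.Agent.S4331

/-- the plane over the field with three elements, seen as the field with nine elements -/
abbrev V9 := ZMod 3 × ZMod 3

def cmul (a b : V9) : V9 := (a.1 * b.1 - a.2 * b.2, a.1 * b.2 + a.2 * b.1)

def cconj (s : ZMod 2) (v : V9) : V9 := if s = 0 then v else (v.1, -v.2)

def zpw (k : ZMod 8) : V9 := (fun v => cmul (1, 1) v)^[k.val] (1, 0)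

/-- semidihedral group of order 16 -/
structure SD where
  k : ZMod 8
  s : ZMod 2
deriving DecidableEq, Fintype

def tw (s : ZMod 2) (k : ZMod 8) : ZMod 8 := if s = 0 then k else 3 * k

instance : Mul SD := ⟨fun x y => ⟨x.k + tw x.s y.k, x.s + y.s⟩⟩
instance : One SD := ⟨⟨0, 0⟩⟩
instance : Inv SD := ⟨fun x => ⟨- tw x.s x.k, x.s⟩⟩

set_option maxRecDepth 100000 in
theorem sd_assoc : ∀ x y z : SD, x * y * z = x * (y * z) := by decide

set_option maxRecDepth 100000 in
theorem sd_one_mul : ∀ x : SD, 1 * x = x := by decide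

set_option maxRecDepth 100000 in
theorem sd_mul_one : ∀ x : SD, x * 1 = x := by decide

set_option maxRecDepth 100000 in
theorem sd_inv_mul : ∀ x : SD, x⁻¹ * x = 1 := by decide

instance : Group SD where
  mul_assoc := sd_assoc
  one_mul := sd_one_mul
  mul_one := sd_mul_one
  inv_mul_cancel := sd_inv_mul

def act (h : SD) (v : V9) : V9 := cmul (zpw h.k) (cconj h.s v)

set_option maxRecDepth 100000 in
theorem act_one : ∀ v : V9, act 1 v = v := by decide

set_option maxRecDepth 100000 in
theorem act_mul : ∀ x y : SD, ∀ v : V9, act (x * y) v = act x (act y v) := by decide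

set_option maxRecDepth 100000 in
theorem act_add : ∀ x : SD, ∀ v w : V9, act x (v + w) = act x v + act x w := by decide

set_option maxRecDepth 100000 in
theorem act_zero : ∀ x : SD, act x 0 = 0 := by decide

abbrev N9 := Multiplicative V9

instance : MulDistribMulAction SD N9 where
  smul h v := Multiplicative.ofAdd (act h (Multiplicative.toAdd v))
  one_smul v := congrArg Multiplicative.ofAdd (act_one _)
  mul_smul x y v := congrArg Multiplicative.ofAdd (act_mul x y _)
  smul_mul x v w := congrArg Multiplicative.ofAdd (act_add x _ _)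
  smul_one x := congrArg Multiplicative.ofAdd (act_zero x)

def phi : SD →* MulAut N9 := MulDistribMulAction.toMulAut SD N9

abbrev G144 := N9 ⋊[phi] SD

instance : Fintype G144 := Fintype.ofEquiv (N9 × SD) SemidirectProduct.equivProd.symm

def a0 : G144 := ⟨1, ⟨0, 1⟩⟩

def z0 : G144 := ⟨Multiplicative.ofAdd (0, 1), 1⟩

def good (g : G144) : Prop := g.left = 1 ∨ g * a0 = a0 * g

instance : DecidablePred good := fun g => by unfold good; infer_instance

set_option maxRecDepth 100000 in
theorem a0_sq : a0 * a0 = 1 := by decide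

set_option maxRecDepth 100000 in
theorem a0_ne : a0 ≠ 1 := by decide

set_option maxRecDepth 100000 in
theorem a0_z0 : a0 * z0 * a0⁻¹ = z0⁻¹ := by decide

set_option maxRecDepth 100000 in
theorem z0_ne : z0 ≠ 1 := by decide

set_option maxRecDepth 100000 in
theorem z0_cube : z0 ^ 3 = 1 := by decide

set_option maxRecDepth 1000000 in
theorem all_good : ∀ n : V9, ∀ h : SD, ∃ m : V9, ∃ k : SD,
    good ((⟨Multiplicative.ofAdd m, k⟩ : G144) * ⟨Multiplicative.ofAdd n, h⟩ * (⟨Multiplicative.ofAdd m, k⟩ : G144)⁻¹) := by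
  decide

theorem card_SD : Nat.card SD = 2 ^ 4 := by
  rw [Nat.card_eq_fintype_card]
  rfl

theorem isPGroup_SD : IsPGroup 2 SD := IsPGroup.of_card card_SD

instance : Group.IsSolvable SD := by
  haveI : Group.IsNilpotent SD := isPGroup_SD.isNilpotent
  infer_instance

instance : Group.IsSolvable G144 :=
  solvable_of_ker_le_range (SemidirectProduct.inl : N9 →* G144)
    (SemidirectProduct.rightHom : G144 →* SD)
    (by rw [SemidirectProduct.range_inl_eq_ker_rightHom])

theorem subn_of_good (g : G144) (hg : good g) :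
    ((Subgroup.zpowers a0).subgroupOf (Subgroup.zpowers a0 ⊔ Subgroup.zpowers g)).IsSubnormal := by
  rcases hg with hg | hg
  · -- inside the Sylow 2-subgroup
    let T : Subgroup G144 := (SemidirectProduct.inr : SD →* G144).range
    have hT : IsPGroup 2 T := by
      have e : SD ≃* T := MonoidHom.ofInjective SemidirectProduct.inr_injective
      exact IsPGroup.of_card (n := 4) (by rw [← Nat.card_congr e.toEquiv, card_SD])
    have ha : a0 ∈ T := ⟨⟨0, 1⟩, rfl⟩
    have hgT : g ∈ T := ⟨g.right, by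
      apply SemidirectProduct.ext
      · simp [hg]
      · simp⟩
    have hKT : Subgroup.zpowers a0 ⊔ Subgroup.zpowers g ≤ T :=
      sup_le ((Subgroup.zpowers_le).2 ha) ((Subgroup.zpowers_le).2 hgT)
    have hK : IsPGroup 2 ↥(Subgroup.zpowers a0 ⊔ Subgroup.zpowers g) := hT.to_le hKT
    haveI : Group.IsNilpotent ↥(Subgroup.zpowers a0 ⊔ Subgroup.zpowers g) := hK.isNilpotent
    exact Cfsg.Agent.Lib.Helper5.isSubnormal_of_isNilpotent _
  · apply Subgroup.Normal.isSubnormal
    rw [Subgroup.normal_subgroupOf_iff_le_normalizer le_sup_left]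
    have h1 : Subgroup.zpowers a0 ⊔ Subgroup.zpowers g ≤
        Subgroup.centralizer ((Subgroup.zpowers a0 : Subgroup G144) : Set G144) := by
      apply sup_le
      · rw [Subgroup.zpowers_le, Subgroup.mem_centralizer_iff]
        rintro x ⟨k, rfl⟩
        exact ((Commute.refl a0).zpow_left k).eq
      · rw [Subgroup.zpowers_le, Subgroup.mem_centralizer_iff]
        rintro x ⟨k, rfl⟩
        have : Commute a0 g := hg.symm
        exact (this.zpow_left k).eq
    exact h1.trans (Subgroup.centralizer_le_normalizer _)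

theorem result :
    ∃ (G : Type) (_ : Group G) (_ : Finite G) (A : Subgroup G), Group.IsSolvable G ∧ Nat.card A = 2 ∧
      (∀ c : G, ∃ g : G, IsConj c g ∧ (A.subgroupOf (A ⊔ Subgroup.zpowers g)).IsSubnormal) ∧
      ¬ A ≤ Cfsg.pCore 2 G := by
  classical
  refine ⟨G144, inferInstance, inferInstance, Subgroup.zpowers a0, inferInstance, ?_, ?_, ?_⟩
  · rw [Nat.card_zpowers]
    exact orderOf_eq_prime (by rw [sq]; exact a0_sq) a0_ne
  · intro c
    obtain ⟨m, k, hmk⟩ := all_good (Multiplicative.toAdd c.left) c.right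
    refine ⟨_, isConj_iff.2 ⟨(⟨Multiplicative.ofAdd m, k⟩ : G144), rfl⟩, ?_⟩
    exact subn_of_good _ hmk
  · intro hle
    have ha : a0 ∈ Cfsg.pCore 2 G144 := hle (Subgroup.mem_zpowers a0)
    haveI hn : (Cfsg.pCore 2 G144).Normal := Cfsg.pCore_normal 2 G144
    have h1 : z0 * a0⁻¹ * z0⁻¹ ∈ Cfsg.pCore 2 G144 :=
      hn.conj_mem _ ((Cfsg.pCore 2 G144).inv_mem ha) z0
    have h2 : a0 * (z0 * a0⁻¹ * z0⁻¹) ∈ Cfsg.pCore 2 G144 := (Cfsg.pCore 2 G144).mul_mem ha h1
    have h3 : a0 * (z0 * a0⁻¹ * z0⁻¹) = z0 := by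
      have : a0 * (z0 * a0⁻¹ * z0⁻¹) = (a0 * z0 * a0⁻¹) * z0⁻¹ := by group
      rw [this, a0_z0]
      have h4 : z0⁻¹ * z0⁻¹ = z0 := by
        have h5 : z0 * z0 * z0 = 1 := by
          have := z0_cube
          rwa [pow_succ, pow_succ, pow_one] at this
        calc z0⁻¹ * z0⁻¹ = z0⁻¹ * z0⁻¹ * (z0 * z0 * z0) := by rw [h5, mul_one]
          _ = z0 := by group
      exact h4
    rw [h3] at h2
    have hp := Cfsg.Agent.Lib.Helper5.isPGroup_pCore 2 G144
    obtain ⟨j, hj⟩ := hp ⟨z0, h2⟩
    have hj' : z0 ^ 2 ^ j = 1 := by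
      have := congrArg Subtype.val hj
      simpa using this
    have hd : orderOf z0 ∣ 2 ^ j := orderOf_dvd_of_pow_eq_one hj'
    have ho : orderOf z0 = 3 := orderOf_eq_prime z0_cube z0_ne
    rw [ho] at hd
    have h6 : 3 ∣ 2 := Nat.Prime.dvd_of_dvd_pow Nat.prime_three hd
    omega

end Cfsg.Agent.S4331
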