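import Mathlib
import Cfsg.Statements.S4332
import Cfsg.Agent.Lib.Helper5.PCore

set_option autoImplicit false
open Pointwise
open Cfsg
open Equiv

namespace Cfsg.Agent.S4332

abbrev cy (l : List (Fin 8)) : Perm (Fin 8) := l.formPerm

def reps : Fin 22 → Perm (Fin 8) :=
  ![1, cy [3, 4], cy [3, 4] * cy [5, 6], cy [3, 4, 5], cy [3, 4, 5] * cy [6, 7], cy [3, 4, 5, 6], cy [3, 4, 5, 6, 7],
   cy [0, 1, 2] * cy [3, 4, 5], cy [0, 1, 2] * cy [3, 4] * cy [5, 6], cy [0, 1, 2] * cy [3, 4, 5, 6],
   cy [0, 1, 2] * cy [3, 4, 5] * cy [6, 7], cy [0, 1, 2] * cy [3, 4, 5, 6, 7],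
   cy [0, 3] * cy [1, 4] * cy [2, 5], cy [0, 3, 1, 4] * cy [2, 5], cy [0, 3, 1, 4, 2, 5],
   cy [0, 3, 1, 4, 6] * cy [2, 5], cy [0, 3, 1, 4, 2, 5, 6],
   cy [0, 3] * cy [1, 4] * cy [2, 5] * cy [6, 7], cy [0, 3] * cy [1, 4] * cy [2, 5, 6, 7],
   cy [6, 7] * cy [0, 3, 1, 4, 2, 5], cy [0, 3, 1, 4] * cy [2, 5, 6, 7], cy [0, 3, 1, 4, 2, 5, 6, 7]]

def repTypes : Fin 22 → Multiset ℕ :=
  ![0, {2}, {2, 2}, {3}, {3, 2}, {4}, {5},
    {3, 3}, {3, 2, 2}, {3, 4}, {3, 3, 2}, {3, 5},
    {2, 2, 2}, {4, 2}, {6}, {5, 2}, {7},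
    {2, 2, 2, 2}, {2, 2, 4}, {2, 6}, {4, 4}, {8}]

def sig0 : Perm (Fin 8) := cy [0, 1, 2]

set_option maxRecDepth 100000 in
theorem reps_P : ∀ i : Fin 22, (∀ x : Fin 8, reps i (sig0 x) = sig0 (reps i x)) ∨
    (∀ x : Fin 8, x < 3 → 3 ≤ reps i x) := by
  decide

set_option maxRecDepth 100000 in
theorem reps_types : ∀ i : Fin 22, (reps i).cycleType = repTypes i := by
  decide

theorem enum (m : Multiset ℕ) (h2 : ∀ a ∈ m, 2 ≤ a) (hs : m.sum ≤ 8) : ∃ i : Fin 22, repTypes i = m := by
  have hc : Multiset.card m * 2 ≤ m.sum := by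
    have := Multiset.card_nsmul_le_sum h2
    simpa using this
  have hc4 : Multiset.card m ≤ 4 := by omega
  rcases Nat.lt_or_ge (Multiset.card m) 4 with h4 | h4
  · interval_cases hk : Multiset.card m
    · rw [Multiset.card_eq_zero] at hk
      subst hk
      exact ⟨0, rfl⟩
    · obtain ⟨a, rfl⟩ := Multiset.card_eq_one.1 hk
      have ha := h2 a (by simp)
      simp at hs
      interval_cases a <;> decide
    · obtain ⟨a, b, rfl⟩ := Multiset.card_eq_two.1 hk
      have ha := h2 a (by simp)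
      have hb := h2 b (by simp)
      simp at hs
      have ha' : a ≤ 6 := by omega
      have hb' : b ≤ 6 := by omega
      interval_cases a <;> interval_cases b <;> first | omega | decide
    · obtain ⟨a, b, c, rfl⟩ := Multiset.card_eq_three.1 hk
      have ha := h2 a (by simp)
      have hb := h2 b (by simp)
      have hc := h2 c (by simp)
      simp at hs
      have ha' : a ≤ 4 := by omega
      have hb' : b ≤ 4 := by omega
      have hc' : c ≤ 4 := by omega
      interval_cases a <;> interval_cases b <;> interval_cases c <;> first | omega | decide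
  · have hk : Multiset.card m = 4 := by omega
    have hall : ∀ a ∈ m, a = 2 := by
      intro a ha
      by_contra hne
      have h3 : 3 ≤ a := by have := h2 a ha; omega
      obtain ⟨t, rfl⟩ := Multiset.exists_cons_of_mem ha
      have ht : Multiset.card t = 3 := by simpa using hk
      have h2t : ∀ b ∈ t, 2 ≤ b := fun b hb => h2 b (Multiset.mem_cons_of_mem hb)
      have := Multiset.card_nsmul_le_sum h2t
      simp at this hs
      omega
    have : m = Multiset.replicate 4 2 := by
      rw [Multiset.eq_replicate]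
      exact ⟨hk, hall⟩
    rw [this]
    exact ⟨17, by decide⟩

set_option maxRecDepth 100000 in
theorem sig0_fix : ∀ x : Fin 8, 3 ≤ x → sig0 x = x := by decide

set_option maxRecDepth 100000 in
theorem sig0_three : sig0.cycleType = {3} := by decide

theorem P_commute (i : Fin 22) : Commute (reps i * sig0 * (reps i)⁻¹) sig0 := by
  rcases reps_P i with h | h
  · have hc : reps i * sig0 = sig0 * reps i := Equiv.ext h
    have : reps i * sig0 * (reps i)⁻¹ = sig0 := by rw [hc, mul_inv_cancel_right]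
    rw [this]
  · apply Equiv.Perm.Disjoint.commute
    intro x
    have e : reps i ((reps i)⁻¹ x) = x := by simp
    by_cases hx : x < 3
    · left
      have hy : 3 ≤ (reps i)⁻¹ x := by
        by_contra hlt
        have h1 := h ((reps i)⁻¹ x) (not_le.1 hlt)
        rw [e] at h1
        exact absurd hx (not_lt.2 h1)
      show reps i (sig0 ((reps i)⁻¹ x)) = x
      rw [sig0_fix _ hy, e]
    · right
      exact sig0_fix x (not_lt.1 hx)

theorem result
    (σ : Equiv.Perm (Fin 8)) (hσ : σ.IsThreeCycle) :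
    (∀ c : Equiv.Perm (Fin 8), ∃ g : Equiv.Perm (Fin 8), IsConj c g ∧
      ((Subgroup.zpowers σ).subgroupOf (Subgroup.zpowers σ ⊔ MulAut.conj g • Subgroup.zpowers σ)).IsSubnormal) ∧
    Cfsg.pCore 3 (Equiv.Perm (Fin 8)) = ⊥ := by
  classical
  have hσ0 : sig0.IsThreeCycle := sig0_three
  obtain ⟨h, hh⟩ := isConj_iff.1
    ((Equiv.Perm.isConj_iff_cycleType_eq).2 (hσ0.trans hσ.symm))
  constructor
  · intro c
    obtain ⟨i, hi⟩ := enum (h⁻¹ * c * h).cycleType
      (fun a ha => Equiv.Perm.two_le_of_mem_cycleType ha)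
      (by
        rw [Equiv.Perm.sum_cycleType]
        exact (Finset.card_le_univ _).trans (by simp))
    have hconj : IsConj (h⁻¹ * c * h) (reps i) :=
      (Equiv.Perm.isConj_iff_cycleType_eq).2 (by rw [reps_types, hi])
    refine ⟨h * reps i * h⁻¹, ?_, ?_⟩
    · have h1 : IsConj c (h⁻¹ * c * h) := isConj_iff.2 ⟨h⁻¹, by simp⟩
      have h2 : IsConj (reps i) (h * reps i * h⁻¹) := isConj_iff.2 ⟨h, rfl⟩
      exact h1.trans (hconj.trans h2)
    · have hcomm : Commute ((h * reps i * h⁻¹) * σ * (h * reps i * h⁻¹)⁻¹) σ := by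
        have hP := (P_commute i).eq
        have e1 : (h * reps i * h⁻¹) * σ * (h * reps i * h⁻¹)⁻¹ =
            h * (reps i * sig0 * (reps i)⁻¹) * h⁻¹ := by
          rw [← hh]
          group
        show _ * _ = _ * _
        rw [e1, ← hh]
        calc h * (reps i * sig0 * (reps i)⁻¹) * h⁻¹ * (h * sig0 * h⁻¹)
            = h * ((reps i * sig0 * (reps i)⁻¹) * sig0) * h⁻¹ := by group
          _ = h * (sig0 * (reps i * sig0 * (reps i)⁻¹)) * h⁻¹ := by rw [hP]
          _ = h * sig0 * h⁻¹ * (h * (reps i * sig0 * (reps i)⁻¹) * h⁻¹) := by group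
      apply Subgroup.Normal.isSubnormal
      rw [Subgroup.normal_subgroupOf_iff_le_normalizer le_sup_left]
      refine le_trans ?_ (Subgroup.centralizer_le_normalizer _)
      apply sup_le
      · rw [Subgroup.zpowers_le, Subgroup.mem_centralizer_iff]
        rintro x ⟨k, rfl⟩
        exact ((Commute.refl σ).zpow_left k).eq
      · intro x hx
        obtain ⟨y, ⟨k, rfl⟩, rfl⟩ := (Subgroup.mem_smul_pointwise_iff_exists _ _ _).1 hx
        rw [Subgroup.mem_centralizer_iff]
        rintro z ⟨j, rfl⟩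
        have e2 : MulAut.conj (h * reps i * h⁻¹) • σ ^ k =
            ((h * reps i * h⁻¹) * σ * (h * reps i * h⁻¹)⁻¹) ^ k := by
          rw [MulAut.smul_def, MulAut.conj_apply, conj_zpow]
        rw [e2]
        exact ((hcomm.zpow_left k).zpow_right j).eq.symm
  · rw [eq_bot_iff]
    intro x hx
    have hp := Cfsg.Agent.Lib.Helper5.isPGroup_pCore 3 (Perm (Fin 8))
    haveI hn := Cfsg.pCore_normal 3 (Perm (Fin 8))
    have hQA : Cfsg.pCore 3 (Perm (Fin 8)) ≤ alternatingGroup (Fin 8) := by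
      intro y hy
      obtain ⟨k, hk⟩ := hp ⟨y, hy⟩
      have hk' : y ^ 3 ^ k = 1 := by simpa using congrArg Subtype.val hk
      rw [Equiv.Perm.mem_alternatingGroup]
      have h1 : (Equiv.Perm.sign y) ^ 3 ^ k = 1 := by rw [← map_pow, hk', map_one]
      rcases Int.units_eq_one_or (Equiv.Perm.sign y) with h | h
      · exact h
      · rw [h] at h1
        have hodd : Odd (3 ^ k) := Odd.pow (by decide)
        rw [hodd.neg_one_pow] at h1
        exact absurd h1 (by decide)
    haveI : IsSimpleGroup (alternatingGroup (Fin 8)) := alternatingGroup.isSimpleGroup (by simp)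
    haveI hsn : ((Cfsg.pCore 3 (Perm (Fin 8))).subgroupOf (alternatingGroup (Fin 8))).Normal :=
      inferInstance
    rcases hsn.eq_bot_or_eq_top with hb | ht
    · have hm : (⟨x, hQA hx⟩ : alternatingGroup (Fin 8)) ∈
          (Cfsg.pCore 3 (Perm (Fin 8))).subgroupOf (alternatingGroup (Fin 8)) := hx
      rw [hb] at hm
      have := congrArg Subtype.val (Subgroup.mem_bot.1 hm)
      exact Subgroup.mem_bot.2 this
    · exfalso
      have htA : (swap (0 : Fin 8) 1 * swap 2 3) ∈ alternatingGroup (Fin 8) := by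
        rw [Equiv.Perm.mem_alternatingGroup]
        decide
      have htQ : (swap (0 : Fin 8) 1 * swap 2 3) ∈ Cfsg.pCore 3 (Perm (Fin 8)) := by
        have hm : (⟨_, htA⟩ : alternatingGroup (Fin 8)) ∈
            (Cfsg.pCore 3 (Perm (Fin 8))).subgroupOf (alternatingGroup (Fin 8)) := by
          rw [ht]
          trivial
        exact hm
      obtain ⟨k, hk⟩ := hp ⟨_, htQ⟩
      have hk' : (swap (0 : Fin 8) 1 * swap 2 3) ^ 3 ^ k = 1 := by
        simpa using congrArg Subtype.val hk
      have ht2 : (swap (0 : Fin 8) 1 * swap 2 3) ^ 2 = 1 := by decide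
      have h1 : orderOf (swap (0 : Fin 8) 1 * swap 2 3) ∣ 2 := orderOf_dvd_of_pow_eq_one ht2
      have h2 : orderOf (swap (0 : Fin 8) 1 * swap 2 3) ∣ 3 ^ k := orderOf_dvd_of_pow_eq_one hk'
      have h3 := Nat.dvd_gcd h1 h2
      have h4 : Nat.gcd 2 (3 ^ k) = 1 := Nat.Coprime.pow_right k (by decide)
      rw [h4, Nat.dvd_one, orderOf_eq_one_iff] at h3
      exact absurd h3 (by decide)

end Cfsg.Agent.S4332
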