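import Mathlib
import Cfsg.Statements.S4333
import Cfsg.Agent.Lib.Helper7.SubnJoin

set_option autoImplicit false
set_option maxHeartbeats 800000

open Pointwise
open Cfsg
open Cfsg.Agent.Lib.Helper7.SubnJoin

namespace Cfsg.Agent.S4333

universe u

/-- the hypothesis of the statement, in `SubnIn`/`cj` form -/
def Hyp {G : Type*} [Group G] (A : Subgroup G) : Prop :=
  ∀ a ∈ A, ∀ g : G, SubnIn A (A ⊔ cj (g⁻¹ * a * g) A)

theorem Hyp.restrict {G : Type*} [Group G] {A U : Subgroup G} (hAU : A ≤ U) (h : Hyp A) :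
    Hyp (A.subgroupOf U) := by
  intro a ha g
  have ha' : (a : G) ∈ A := Subgroup.mem_subgroupOf.1 ha
  have h1 := h a ha' g
  have hle : A.subgroupOf U ≤ A.subgroupOf U ⊔ cj (g⁻¹ * a * g) (A.subgroupOf U) := le_sup_left
  rw [← subnIn_subtype_iff hle]
  rw [Subgroup.map_sup, map_cj_subtype, Subgroup.subgroupOf_map_subtype, inf_of_le_left hAU]
  exact h1

theorem main : ∀ n : ℕ, ∀ (G : Type u) [Group G] [Finite G], Nat.card G = n →
    ∀ A : Subgroup G, Hyp A → A.IsSubnormal := by
  intro n
  induction n using Nat.strong_induction_on with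
  | _ n ih =>
    intro G _ _ hn A hA
    by_contra hAsn
    have hprop : ∀ U : Subgroup G, A ≤ U → U ≠ ⊤ → SubnIn A U := by
      intro U hAU hU
      have hc : Nat.card U < n := by
        rw [← hn]
        rcases (Subgroup.card_le_card_group U).lt_or_eq with h | h
        · exact h
        · exact absurd (Subgroup.card_eq_iff_eq_top U |>.1 h) hU
      exact ⟨hAU, ih _ hc U rfl _ (hA.restrict hAU)⟩
    obtain ⟨M, hM, hAM, hMmax⟩ := zipper A hprop hAsn
    have hNM : Subgroup.normalClosure (A : Set G) ≤ Subgroup.normalizer (M : Set G) := by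
      rw [Subgroup.normalClosure, Subgroup.closure_le]
      intro y hy
      rw [Group.mem_conjugatesOfSet_iff] at hy
      obtain ⟨a, ha, hconj⟩ := hy
      rw [isConj_iff] at hconj
      obtain ⟨c, rfl⟩ := hconj
      have h1 := hA a ha c⁻¹
      rw [inv_inv] at h1
      have hB : A ⊔ cj (c * a * c⁻¹) A ≠ ⊤ := by
        intro hc
        rw [hc] at h1
        exact hAsn (SubnIn.top_iff.1 h1)
      have hBM := hMmax _ le_sup_left hB
      have hxAM : cj (c * a * c⁻¹) A ≤ M := le_sup_right.trans hBM
      have h2 : A ≤ cj (c * a * c⁻¹)⁻¹ M := by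
        have := cj_mono (g := (c * a * c⁻¹)⁻¹) hxAM
        rwa [cj_inv_cj] at this
      have h4 : cj (c * a * c⁻¹)⁻¹ M ≤ M := hMmax _ h2 (cj_ne_top hM.1)
      have h5 : cj (c * a * c⁻¹)⁻¹ M = M := Subgroup.eq_of_le_of_card_ge h4 (by rw [card_cj])
      have h6 : (c * a * c⁻¹)⁻¹ ∈ Subgroup.normalizer (M : Set G) := mem_normalizer_iff_cj.2 h5
      have := Subgroup.inv_mem _ h6
      rwa [inv_inv] at this
    have hNtop : Subgroup.normalClosure (A : Set G) ≠ ⊤ := by
      intro hc
      rw [hc, top_le_iff, Subgroup.normalizer_eq_top_iff] at hNM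
      haveI := hNM
      have h1 : Subgroup.normalClosure (A : Set G) ≤ M := Subgroup.normalClosure_le_normal hAM
      rw [hc, top_le_iff] at h1
      exact hM.1 h1
    have hAN : A ≤ Subgroup.normalClosure (A : Set G) := Subgroup.le_normalClosure
    have h7 := hprop _ hAN hNtop
    exact hAsn (Subgroup.IsSubnormal.trans hAN h7.2 (Subgroup.normalClosure_normal.isSubnormal))

theorem cj_eq_smul {G : Type*} [Group G] (x : G) (A : Subgroup G) :
    cj x A = MulAut.conj x • A := by
  rw [Subgroup.pointwise_smul_def]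
  rfl

/-- Let A be a subgroup of a finite group G. If A is subnormal in the subgroup generated by A and its conjugate by g⁻¹ a g, for every a ∈ A and every g ∈ G, then A is subnormal in G. (A sharpening of Wielandt's subnormality criterion: only conjugates of A by conjugates of elements of A are needed.) -/
theorem result {G : Type*} [Group G] [Finite G]
    (A : Subgroup G)
    (h : ∀ a ∈ A, ∀ g : G, (A.subgroupOf (A ⊔ MulAut.conj (g⁻¹ * a * g) • A)).IsSubnormal) :
    A.IsSubnormal := by
  apply main _ G rfl A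
  intro a ha g
  refine ⟨le_sup_left, ?_⟩
  rw [cj_eq_smul]
  exact h a ha g

end Cfsg.Agent.S4333
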