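import Cfsg.Statements.S4337
import Cfsg.Agent.Lib.Lead.SolvableS4

set_option autoImplicit false
open Cfsg

namespace Cfsg.Agent.S4337

/-- In a finite symmetric group, any three transpositions generate a solvable subgroup. -/
theorem result (n : ℕ) (a b c : Equiv.Perm (Fin n))
    (ha : a.IsSwap) (hb : b.IsSwap) (hc : c.IsSwap) :
    Group.IsSolvable (Subgroup.closure ({a, b, c} : Set (Equiv.Perm (Fin n)))) := by
  classical
  have hsa : a.support.card = 2 := Equiv.Perm.card_support_eq_two.mpr ha
  have hsb : b.support.card = 2 := Equiv.Perm.card_support_eq_two.mpr hb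
  have hsc : c.support.card = 2 := Equiv.Perm.card_support_eq_two.mpr hc
  have hint : ∀ f g : Equiv.Perm (Fin n), ¬ Commute f g → (f.support ∩ g.support).Nonempty := by
    intro f g h
    by_contra hne
    rw [Finset.not_nonempty_iff_eq_empty] at hne
    apply h
    apply Equiv.Perm.Disjoint.commute
    rw [Equiv.Perm.disjoint_iff_disjoint_support, Finset.disjoint_iff_inter_eq_empty]
    exact hne
  have hcard : ∀ f g h : Equiv.Perm (Fin n), f.support.card = 2 → g.support.card = 2 →
      h.support.card = 2 → (f.support ∩ g.support).Nonempty → (g.support ∩ h.support).Nonempty →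
      (f.support ∪ g.support ∪ h.support).card ≤ 4 := by
    intro f g h hf hg hh h1 h2
    have e1 := Finset.card_union_add_card_inter f.support g.support
    have e2 := Finset.card_union_add_card_inter (f.support ∪ g.support) h.support
    have p1 : 1 ≤ (f.support ∩ g.support).card := h1.card_pos
    have p2 : 1 ≤ ((f.support ∪ g.support) ∩ h.support).card := by
      apply Finset.Nonempty.card_pos
      obtain ⟨x, hx⟩ := h2
      rw [Finset.mem_inter] at hx
      exact ⟨x, Finset.mem_inter.mpr ⟨Finset.mem_union_right _ hx.1, hx.2⟩⟩
    omega
  have caseB : ∀ f g h : Equiv.Perm (Fin n), f.support.card = 2 → g.support.card = 2 →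
      h.support.card = 2 → ¬ Commute f g → ¬ Commute g h →
      ({a, b, c} : Set (Equiv.Perm (Fin n))) ⊆ {f, g, h} →
      Group.IsSolvable (Subgroup.closure ({a, b, c} : Set (Equiv.Perm (Fin n)))) := by
    intro f g h hf hg hh h1 h2 hsub
    apply Cfsg.Agent.Lib.Lead.isSolvable_closure_of_support_subset
      (f.support ∪ g.support ∪ h.support) (hcard f g h hf hg hh (hint f g h1) (hint g h h2))
    intro σ hσ
    rcases hsub hσ with rfl | rfl | rfl
    · exact Finset.subset_union_left.trans Finset.subset_union_left
    · exact Finset.subset_union_right.trans Finset.subset_union_left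
    · exact Finset.subset_union_right
  have caseA : ∀ f g h : Equiv.Perm (Fin n), f.support.card = 2 → g.support.card = 2 →
      Commute f h → Commute g h →
      ({a, b, c} : Set (Equiv.Perm (Fin n))) = insert h {f, g} →
      Group.IsSolvable (Subgroup.closure ({a, b, c} : Set (Equiv.Perm (Fin n)))) := by
    intro f g h hf hg h1 h2 heq
    rw [heq]
    apply Cfsg.Agent.Lib.Lead.isSolvable_closure_insert_of_commute
    · apply Cfsg.Agent.Lib.Lead.isSolvable_closure_of_support_subset (f.support ∪ g.support)
      · have := Finset.card_union_le f.support g.support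
        omega
      · intro σ hσ
        rcases hσ with rfl | rfl
        · exact Finset.subset_union_left
        · exact Finset.subset_union_right
    · intro x hx
      rcases hx with rfl | rfl
      · exact h1
      · exact h2
  by_cases hab : Commute a b
  · by_cases hac : Commute a c
    · exact caseA b c a hsb hsc hab.symm hac.symm rfl
    · by_cases hbc : Commute b c
      · refine caseA a c b hsa hsc hab hbc.symm ?_
        ext x
        simp only [Set.mem_insert_iff, Set.mem_singleton_iff]
        tauto
      · refine caseB a c b hsa hsc hsb hac (fun h => hbc h.symm) ?_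
        intro x hx
        simp only [Set.mem_insert_iff, Set.mem_singleton_iff] at hx ⊢
        tauto
  · by_cases hac : Commute a c
    · by_cases hbc : Commute b c
      · refine caseA a b c hsa hsb hac hbc ?_
        ext x
        simp only [Set.mem_insert_iff, Set.mem_singleton_iff]
        tauto
      · exact caseB a b c hsa hsb hsc hab hbc (le_refl _)
    · refine caseB b a c hsb hsa hsc (fun h => hab h.symm) hac ?_
      intro x hx
      simp only [Set.mem_insert_iff, Set.mem_singleton_iff] at hx ⊢
      tauto

end Cfsg.Agent.S4337
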