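import Cfsg.Statements.S4342

set_option autoImplicit false
open Cfsg

namespace Cfsg.Agent.S4342

open scoped Pointwise

theorem card_sylow_quot_center {K : Type*} [Group K] [Finite K] (p : ℕ) [Fact p.Prime] :
    Nat.card (Sylow p (K ⧸ Subgroup.center K)) = Nat.card (Sylow p K) := by
  classical
  obtain ⟨P⟩ : Nonempty (Sylow p K) := Sylow.nonempty
  have hf : Function.Surjective (QuotientGroup.mk' (Subgroup.center K)) :=
    QuotientGroup.mk'_surjective _
  set Q : Sylow p (K ⧸ Subgroup.center K) := P.mapSurjective hf with hQ
  rw [Sylow.card_eq_index_normalizer Q, Sylow.card_eq_index_normalizer P]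
  have hcomap : (Subgroup.normalizer ((Q : Subgroup (K ⧸ Subgroup.center K)) : Set _)).comap
      (QuotientGroup.mk' (Subgroup.center K)) =
      Subgroup.normalizer ((P : Subgroup K) : Set K) := by
    rw [Subgroup.comap_normalizer_eq_of_surjective _ hf]
    have h1 : (Q : Subgroup (K ⧸ Subgroup.center K)).comap (QuotientGroup.mk' (Subgroup.center K))
        = (P : Subgroup K) ⊔ Subgroup.center K := by
      rw [hQ, Sylow.coe_mapSurjective, Subgroup.comap_map_eq, QuotientGroup.ker_mk']
    rw [h1]
    apply le_antisymm
    · intro g hg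
      -- g normalizes P ⊔ Z
      apply (Sylow.smul_eq_iff_mem_normalizer (g := g) (P := P)).mp
      have hPK : (P : Subgroup K) ≤ (P : Subgroup K) ⊔ Subgroup.center K := le_sup_left
      have hgPK : ((g • P : Sylow p K) : Subgroup K) ≤ (P : Subgroup K) ⊔ Subgroup.center K := by
        intro x hx
        have hx' : x ∈ MulAut.conj g • (P : Subgroup K) := hx
        rw [Subgroup.mem_pointwise_smul_iff_inv_smul_mem] at hx'
        have h2 : (MulAut.conj g)⁻¹ • x ∈ (P : Subgroup K) ⊔ Subgroup.center K := hPK hx'
        have h3 := (Subgroup.mem_normalizer_iff.mp hg ((MulAut.conj g)⁻¹ • x)).mp h2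
        simpa [MulAut.smul_def, mul_assoc] using h3
      obtain ⟨k, hk⟩ := MulAction.exists_smul_eq ↥((P : Subgroup K) ⊔ Subgroup.center K)
        (P.subtype hPK) ((g • P).subtype hgPK)
      rw [Sylow.smul_subtype hPK k] at hk
      have hk2 : (k • P : Sylow p K) = g • P := Sylow.subtype_injective hk
      rw [← hk2]
      -- k ∈ P ⊔ Z normalizes P
      have hkN : (k : K) ∈ Subgroup.normalizer ((P : Subgroup K) : Set K) := by
        have hle : (P : Subgroup K) ⊔ Subgroup.center K ≤
            Subgroup.normalizer ((P : Subgroup K) : Set K) := by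
          apply sup_le
          · exact Subgroup.le_normalizer
          · intro z hz
            rw [Subgroup.mem_normalizer_iff]
            intro h
            have : z * h * z⁻¹ = h := by
              rw [Subgroup.mem_center_iff] at hz
              rw [← hz h]; group
            rw [this]
        exact hle k.2
      exact (Sylow.smul_eq_iff_mem_normalizer (g := (k : K)) (P := P)).mpr hkN
    · intro g hg
      rw [Subgroup.mem_normalizer_iff] at hg ⊢
      intro h
      have hconj : ∀ (g : K), g ∈ Subgroup.normalizer ((P : Subgroup K) : Set K) →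
          ∀ h, h ∈ (P : Subgroup K) ⊔ Subgroup.center K →
          g * h * g⁻¹ ∈ (P : Subgroup K) ⊔ Subgroup.center K := by
        intro g hg h hh
        have hmap : ((P : Subgroup K) ⊔ Subgroup.center K).map (MulAut.conj g).toMonoidHom ≤
            (P : Subgroup K) ⊔ Subgroup.center K := by
          rw [Subgroup.map_sup]
          apply sup_le_sup
          · rintro _ ⟨y, hy, rfl⟩
            have := (Subgroup.mem_normalizer_iff.mp hg y).mp hy
            simpa using this
          · rintro _ ⟨y, hy, rfl⟩
            have hn : (Subgroup.center K).Normal := inferInstance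
            have := hn.conj_mem y hy g
            simpa using this
        have := hmap ⟨h, hh, rfl⟩
        simpa using this
      constructor
      · intro hh
        exact hconj g (Subgroup.mem_normalizer_iff.mpr hg) h hh
      · intro hh
        have := hconj g⁻¹ (Subgroup.inv_mem _ (Subgroup.mem_normalizer_iff.mpr hg)) _ hh
        simpa [mul_assoc] using this
  have := Subgroup.index_comap_of_surjective
    (Subgroup.normalizer ((Q : Subgroup (K ⧸ Subgroup.center K)) : Set _)) hf
  rw [hcomap] at this
  exact this.symm

/-- Let H be a normal subgroup of a finite group G and p a prime not dividing the index of H. Then the number of Sylow p-subgroups of H/Z(H) equals the number of Sylow p-subgroups of G. -/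
theorem result {G : Type*} [Group G] [Finite G]
    (p : ℕ) [Fact p.Prime] (H : Subgroup G) [H.Normal] (hp : ¬ p ∣ H.index) :
    Nat.card (Sylow p (H ⧸ Subgroup.center H)) = Nat.card (Sylow p G) := by
  classical
  rw [card_sylow_quot_center p]
  -- every Sylow p-subgroup of G lies in H
  have hle : ∀ P : Sylow p G, (P : Subgroup G) ≤ H := by
    intro P x hx
    obtain ⟨k, hk⟩ := (IsPGroup.iff_orderOf.mp P.isPGroup') ⟨x, hx⟩
    have hk' : orderOf x = p ^ k := by rw [← hk]; exact Subgroup.orderOf_coe (⟨x, hx⟩ : (P : Subgroup G))
    have h1 : orderOf (QuotientGroup.mk' H x) ∣ p ^ k := hk' ▸ orderOf_map_dvd _ x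
    have h2 : orderOf (QuotientGroup.mk' H x) ∣ H.index := by
      rw [Subgroup.index]; exact orderOf_dvd_natCard _
    have hcop : Nat.Coprime (p ^ k) H.index :=
      Nat.Coprime.pow_left k ((Nat.Prime.coprime_iff_not_dvd Fact.out).mpr hp)
    have h3 : orderOf (QuotientGroup.mk' H x) = 1 :=
      Nat.eq_one_of_dvd_coprimes hcop h1 h2
    rw [orderOf_eq_one_iff] at h3
    exact (QuotientGroup.eq_one_iff x).mp h3
  symm
  apply Nat.card_congr
  refine Equiv.ofBijective (fun P => P.subtype (hle P)) ⟨?_, ?_⟩
  · intro P Q h
    exact Sylow.subtype_injective h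
  · intro Q
    obtain ⟨P, hP⟩ := Sylow.exists_comap_subtype_eq Q
    refine ⟨P, ?_⟩
    apply Sylow.ext
    rw [Sylow.coe_subtype]
    rw [← hP]
    rfl

end Cfsg.Agent.S4342
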