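import Mathlib
import Cfsg.Statements.S4343
import Cfsg.Agent.Lib.Helper4.SylowRel
import Cfsg.Agent.Lib.Helper7.SylowBasic

set_option autoImplicit false
open Cfsg

namespace Cfsg.Agent.S4343

open Cfsg.Agent.Lib.Helper7 Cfsg.Agent.Lib.Helper4
open scoped commutatorElement

variable {S : Type*} [Group S] [Finite S]

theorem not_normal_sylow [IsSimpleGroup S] (hS : ¬ IsMulCommutative S) (p : ℕ) [Fact p.Prime]
    (hp : p ∣ Nat.card S) (P : Sylow p S) : ¬ (P : Subgroup S).Normal := by
  intro hN
  rcases hN.eq_bot_or_eq_top with h | h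
  · exact P.ne_bot_of_dvd_card hp h
  · apply hS
    have hpg : IsPGroup p S := by
      intro g
      obtain ⟨k, hk⟩ := P.isPGroup' ⟨g, by rw [h]; exact Subgroup.mem_top g⟩
      exact ⟨k, by simpa [Subtype.ext_iff] using hk⟩
    haveI := hpg.center_nontrivial
    have hcn : (Subgroup.center S).Normal := inferInstance
    rcases hcn.eq_bot_or_eq_top with h1 | h1
    · exfalso
      exact (Subgroup.nontrivial_iff_ne_bot _).1 inferInstance h1
    · refine ⟨⟨fun a b => ?_⟩⟩
      have hb : b ∈ Subgroup.center S := by rw [h1]; exact Subgroup.mem_top b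
      exact (Subgroup.mem_center_iff.1 hb) a

/-- Brodkey's theorem (weak form): with abelian Sylow subgroups, some intersection of two Sylow
subgroups is contained in every Sylow subgroup. -/
theorem brodkey (p : ℕ) [Fact p.Prime]
    (hab : ∀ P : Sylow p S, ∀ x ∈ P, ∀ y ∈ P, x * y = y * x) :
    ∃ P Q : Sylow p S, ∀ R : Sylow p S, (P : Subgroup S) ⊓ Q ≤ R := by
  classical
  obtain ⟨⟨P, Q⟩, hmin⟩ := Finite.exists_min
    (fun PQ : Sylow p S × Sylow p S => Nat.card ((PQ.1 : Subgroup S) ⊓ PQ.2 : Subgroup S))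
  refine ⟨P, Q, fun R => ?_⟩
  obtain ⟨D, hD⟩ : ∃ D : Subgroup S, D = (P : Subgroup S) ⊓ Q := ⟨_, rfl⟩
  rw [← hD]
  have hDP : D ≤ P := hD ▸ inf_le_left
  have hDQ : D ≤ Q := hD ▸ inf_le_right
  have hPN : (P : Subgroup S) ≤ Subgroup.normalizer (D : Set S) := by
    refine le_trans ?_ (Subgroup.centralizer_le_normalizer _)
    intro x hx
    rw [Subgroup.mem_centralizer_iff]
    intro d hd
    exact hab P d (hDP hd) x hx
  have hQN : (Q : Subgroup S) ≤ Subgroup.normalizer (D : Set S) := by
    refine le_trans ?_ (Subgroup.centralizer_le_normalizer _)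
    intro x hx
    rw [Subgroup.mem_centralizer_iff]
    intro d hd
    exact hab Q d (hDQ hd) x hx
  have hidx : ¬ p ∣ (P : Subgroup S).relIndex (Subgroup.normalizer (D : Set S)) := by
    intro h
    exact P.not_dvd_index (h.trans (Subgroup.relIndex_dvd_index_of_le hPN))
  obtain ⟨n, hnN, hn⟩ := exists_conj_le_of_relIndex p (Subgroup.normalizer (D : Set S))
    (P : Subgroup S) ((R : Subgroup S) ⊓ Subgroup.normalizer (D : Set S)) P.isPGroup' hidx
    inf_le_right (R.isPGroup'.to_le inf_le_left)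
  -- R' = n • R
  have h1 : ((n • R : Sylow p S) : Subgroup S) ⊓ Q ≤ D := by
    intro x hx
    obtain ⟨hxR, hxQ⟩ := Subgroup.mem_inf.1 hx
    rw [hD]
    refine Subgroup.mem_inf.2 ⟨?_, hxQ⟩
    have hxR' : n⁻¹ * x * n ∈ R := (mem_sylow_smul R n x).1 hxR
    have hxN : n⁻¹ * x * n ∈ Subgroup.normalizer (D : Set S) :=
      Subgroup.mul_mem _ (Subgroup.mul_mem _ (Subgroup.inv_mem _ hnN) (hQN hxQ)) hnN
    have := hn _ (Subgroup.mem_inf.2 ⟨hxR', hxN⟩)
    have e : n * (n⁻¹ * x * n) * n⁻¹ = x := by group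
    rwa [e] at this
  have h2 : Nat.card D ≤ Nat.card (((n • R : Sylow p S) : Subgroup S) ⊓ Q : Subgroup S) := by
    have := hmin (n • R, Q)
    simpa [hD] using this
  have h3 : (((n • R : Sylow p S) : Subgroup S) ⊓ Q : Subgroup S) = D :=
    Subgroup.eq_of_le_of_card_ge h1 h2
  intro d hd
  have hd' : n * d * n⁻¹ ∈ D := (Subgroup.mem_normalizer_iff.1 hnN d).1 hd
  rw [← h3] at hd'
  have := (mem_sylow_smul R n _).1 (Subgroup.mem_inf.1 hd').1
  have e : n⁻¹ * (n * d * n⁻¹) * n = d := by group
  rwa [e] at this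

theorem result {S : Type*} [Group S] [Finite S]
    [IsSimpleGroup S] (hS : ¬ IsMulCommutative S) (p : ℕ) [Fact p.Prime] (hp : p ∣ Nat.card S)
    (hn : Nat.card (Sylow p S) < p ^ 2) (P : Sylow p S) : Nat.card P = p := by
  classical
  have hpp : p.Prime := Fact.out
  have hnn := not_normal_sylow hS p hp
  -- the kernel of the action on Sylow subgroups is trivial
  have hker : ∀ g : S, (∀ Q : Sylow p S, g • Q = Q) → g = 1 := by
    intro g hg
    have hK : (MulAction.toPermHom S (Sylow p S)).ker = ⊥ := by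
      rcases (MonoidHom.normal_ker (MulAction.toPermHom S (Sylow p S))).eq_bot_or_eq_top with h | h
      · exact h
      · exfalso
        apply hnn P
        have : Subgroup.normalizer ((P : Subgroup S) : Set S) = ⊤ := by
          rw [eq_top_iff]; intro g _
          have hg : g ∈ (MulAction.toPermHom S (Sylow p S)).ker := by rw [h]; trivial
          rw [MonoidHom.mem_ker] at hg
          have : g • P = P := by
            have := congrArg (fun σ => σ P) hg
            simpa using this
          exact Sylow.smul_eq_iff_mem_normalizer.1 this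
        exact Subgroup.normalizer_eq_top_iff.1 this
    have : g ∈ (MulAction.toPermHom S (Sylow p S)).ker := by
      rw [MonoidHom.mem_ker]; ext Q; simp [hg Q]
    rw [hK] at this; exact this
  -- index of stabilizers
  have hidx : ∀ (P : Sylow p S) (Q : Sylow p S),
      (MulAction.stabilizer (P : Subgroup S) Q).index < p ^ 2 := by
    intro P Q
    rw [MulAction.index_stabilizer]
    exact lt_of_le_of_lt (Set.ncard_le_card _) hn
  -- Sylow subgroups are abelian
  have hab : ∀ P : Sylow p S, ∀ x ∈ P, ∀ y ∈ P, x * y = y * x := by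
    intro P x hx y hy
    have : ⁅x, y⁆ = 1 := by
      apply hker
      intro Q
      obtain ⟨H, hH⟩ : ∃ H : Subgroup (P : Subgroup S), H = MulAction.stabilizer (P : Subgroup S) Q :=
        ⟨_, rfl⟩
      have hlt : H.index < p ^ 2 := hH ▸ hidx P Q
      obtain ⟨k, hk⟩ := IsPGroup.exists_card_eq P.isPGroup'
      have hdvd : H.index ∣ p ^ k := hk ▸ Subgroup.index_dvd_card H
      obtain ⟨j, hjk, hj⟩ := (Nat.dvd_prime_pow hpp).1 hdvd
      have hj2 : j < 2 := by
        rw [hj] at hlt
        exact (Nat.pow_lt_pow_iff_right hpp.one_lt).1 hlt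
      have hcomm : ⁅(⟨x, hx⟩ : (P : Subgroup S)), ⟨y, hy⟩⁆ ∈ H := by
        interval_cases j
        · rw [pow_zero] at hj
          rw [Subgroup.index_eq_one.1 hj]; exact Subgroup.mem_top _
        · rw [pow_one] at hj
          have hk0 : k ≠ 0 := by
            rintro rfl
            rw [pow_zero] at hdvd
            have := Nat.le_of_dvd (by norm_num) hdvd
            rw [hj] at this
            exact absurd this (by have := hpp.two_le; omega)
          haveI : H.Normal := by
            apply Subgroup.normal_of_index_eq_minFac_card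
            rw [hk, Nat.Prime.pow_minFac hpp hk0, hj]
          have hcard : Nat.card ((P : Subgroup S) ⧸ H) = p := by
            rw [← Subgroup.index_eq_card, hj]
          haveI : IsCyclic ((P : Subgroup S) ⧸ H) := isCyclic_of_prime_card hcard
          have hq : (QuotientGroup.mk' H) ⁅(⟨x, hx⟩ : (P : Subgroup S)), ⟨y, hy⟩⁆ = 1 := by
            rw [map_commutatorElement, commutatorElement_eq_one_iff_mul_comm]
            exact (IsCyclic.isMulCommutative (α := (P : Subgroup S) ⧸ H)).is_comm.comm _ _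
          exact (QuotientGroup.eq_one_iff _).1 hq
      have := hH ▸ hcomm
      have h2 := MulAction.mem_stabilizer_iff.1 this
      rw [Subgroup.smul_def] at h2
      exact h2
    exact commutatorElement_eq_one_iff_mul_comm.1 this
  obtain ⟨P₀, Q₀, hPQ⟩ := brodkey p hab
  -- the intersection of all Sylow subgroups is trivial
  have hD : (P₀ : Subgroup S) ⊓ Q₀ = ⊥ := by
    obtain ⟨K, hK⟩ : ∃ K : Subgroup S, K = ⨅ R : Sylow p S, (R : Subgroup S) := ⟨_, rfl⟩
    have hKn : K.Normal := by
      refine ⟨fun k hk g => ?_⟩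
      rw [hK, Subgroup.mem_iInf] at hk ⊢
      intro R
      have := hk (g⁻¹ • R)
      have h2 := (mem_sylow_smul R g⁻¹ k).1 this
      rw [inv_inv] at h2
      exact h2
    rcases hKn.eq_bot_or_eq_top with h | h
    · rw [eq_bot_iff, ← h, hK]
      exact le_iInf hPQ
    · exfalso
      apply hnn P₀
      have : (P₀ : Subgroup S) = ⊤ := by
        rw [eq_top_iff, ← h, hK]; exact iInf_le _ P₀
      rw [this]; infer_instance
  obtain ⟨g, hg⟩ := MulAction.exists_smul_eq S P₀ P
  have hPQ' : (P : Subgroup S) ⊓ (g • Q₀ : Sylow p S) = ⊥ := by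
    rw [eq_bot_iff]
    intro x hx
    obtain ⟨hxP, hxQ⟩ := Subgroup.mem_inf.1 hx
    rw [← hg] at hxP
    have h1 := (mem_sylow_smul P₀ g x).1 hxP
    have h2 := (mem_sylow_smul Q₀ g x).1 hxQ
    have h3 : g⁻¹ * x * g ∈ (P₀ : Subgroup S) ⊓ Q₀ := Subgroup.mem_inf.2 ⟨h1, h2⟩
    rw [hD, Subgroup.mem_bot] at h3
    rw [Subgroup.mem_bot]
    have : x = g * (g⁻¹ * x * g) * g⁻¹ := by group
    rw [this, h3]; group
  -- the stabilizer of g • Q₀ in P is trivial
  have hstab : MulAction.stabilizer (P : Subgroup S) (g • Q₀ : Sylow p S) = ⊥ := by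
    rw [eq_bot_iff]
    intro a ha
    rw [MulAction.mem_stabilizer_iff, Subgroup.smul_def] at ha
    have h1 : (a : S) ∈ Subgroup.normalizer (((g • Q₀ : Sylow p S) : Subgroup S) : Set S) :=
      Sylow.smul_eq_iff_mem_normalizer.1 ha
    have h2 : (a : S) ∈ (P : Subgroup S) ⊓ Subgroup.normalizer (((g • Q₀ : Sylow p S) : Subgroup S) : Set S) :=
      Subgroup.mem_inf.2 ⟨a.2, h1⟩
    have h3 := P.isPGroup'.inf_normalizer_sylow (g • Q₀ : Sylow p S)
    have h4 : (a : S) ∈ (P : Subgroup S) ⊓ (g • Q₀ : Sylow p S) := by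
      rw [← h3]; exact h2
    rw [hPQ', Subgroup.mem_bot] at h4
    rw [Subgroup.mem_bot]
    exact Subtype.ext h4
  have hlt := hidx P (g • Q₀)
  rw [hstab, Subgroup.index_bot] at hlt
  obtain ⟨k, hk⟩ := IsPGroup.exists_card_eq P.isPGroup'
  rw [hk] at hlt ⊢
  have hk2 : k < 2 := (Nat.pow_lt_pow_iff_right hpp.one_lt).1 hlt
  have hk0 : k ≠ 0 := by
    rintro rfl
    rw [pow_zero] at hk
    exact P.ne_bot_of_dvd_card hp (Subgroup.card_eq_one.1 hk)
  have : k = 1 := by omega
  rw [this, pow_one]

end Cfsg.Agent.S4343
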