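import Cfsg.Statements.S4344

set_option autoImplicit false
open Cfsg

namespace Cfsg.Agent.S4344

open scoped Pointwise

/-- Let S be a finite non-abelian simple group, M a maximal subgroup of S and C a cyclic normal subgroup of M. If a Sylow p-subgroup P of S (for a prime p dividing the order of S) is contained in C, then the number of Sylow p-subgroups of S equals the index of M. -/
theorem result {S : Type*} [Group S] [Finite S]
    [IsSimpleGroup S] (hS : ¬ IsMulCommutative S) (p : ℕ) [Fact p.Prime] (hp : p ∣ Nat.card S)
    (M : Subgroup S) (hM : IsCoatom M) (C : Subgroup S) (hCM : C ≤ M) (hCn : (C.subgroupOf M).Normal)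
    (hC : IsCyclic C) (P : Sylow p S) (hP : (P : Subgroup S) ≤ C) :
    Nat.card (Sylow p S) = M.index := by
  classical
  have hcomm : ∀ a b : C, a * b = b * a := fun a b => (IsCyclic.isMulCommutative (α := C)).is_comm.comm a b
  -- all Sylow p-subgroups of C coincide
  have hCuniq : ∀ Q1 Q2 : Sylow p C, Q1 = Q2 := by
    intro Q1 Q2
    obtain ⟨c, hc⟩ := MulAction.exists_smul_eq C Q1 Q2
    rw [← hc]
    symm
    apply (Sylow.smul_eq_iff_mem_normalizer (g := c) (P := Q1)).mpr
    change c ∈ Subgroup.normalizer ((Q1 : Subgroup C) : Set C)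
    rw [Subgroup.mem_normalizer_iff]
    intro h
    have : c * h * c⁻¹ = h := by rw [hcomm c h]; group
    rw [this]
  have hMN : M ≤ Subgroup.normalizer ((P : Subgroup S) : Set S) := by
    intro m hm
    apply (Sylow.smul_eq_iff_mem_normalizer (g := m) (P := P)).mp
    have hmP : ((m • P : Sylow p S) : Subgroup S) ≤ C := by
      intro x hx
      have hx' : x ∈ MulAut.conj m • (P : Subgroup S) := hx
      rw [Subgroup.mem_pointwise_smul_iff_inv_smul_mem] at hx'
      have hy : (MulAut.conj m)⁻¹ • x ∈ C := hP hx'
      have hyM : (MulAut.conj m)⁻¹ • x ∈ M := hCM hy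
      have := hCn.conj_mem ⟨(MulAut.conj m)⁻¹ • x, hyM⟩
        (by rw [Subgroup.mem_subgroupOf]; exact hy) ⟨m, hm⟩
      rw [Subgroup.mem_subgroupOf] at this
      simpa [MulAut.smul_def, mul_assoc] using this
    exact Sylow.subtype_injective (hP := hmP) (hQ := hP) (hCuniq _ _)
  have hNtop : Subgroup.normalizer ((P : Subgroup S) : Set S) ≠ ⊤ := by
    intro htop
    have hPn : (P : Subgroup S).Normal := Subgroup.normalizer_eq_top_iff.mp htop
    rcases hPn.eq_bot_or_eq_top with h | h
    · exact P.ne_bot_of_dvd_card hp h
    · apply hS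
      have hCtop : C = ⊤ := top_le_iff.mp (h ▸ hP)
      have hcyc : IsCyclic S := by
        have e : C ≃* S := (MulEquiv.subgroupCongr hCtop).trans Subgroup.topEquiv
        exact isCyclic_of_surjective e e.surjective
      exact IsCyclic.isMulCommutative (α := S)
  have hNM : Subgroup.normalizer ((P : Subgroup S) : Set S) = M := by
    rcases hM.le_iff.mp hMN with h | h
    · exact absurd h hNtop
    · exact h
  rw [Sylow.card_eq_index_normalizer P]
  exact congrArg Subgroup.index hNM

end Cfsg.Agent.S4344
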