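import Cfsg.Statements.S4347
import Cfsg.Agent.Lib.Helper7.SylowBasic

set_option autoImplicit false
open Cfsg

namespace Cfsg.Agent.S4347

open Cfsg.Agent.Lib.Helper7

theorem result {G : Type*} [Group G] [Finite G]
    (p : ℕ) [Fact p.Prime] :
    (¬ ∃ Q : Sylow p G, ∀ x : G, (∃ k : ℕ, orderOf x = p ^ k) → ∃ P : Sylow p G, P ≠ Q ∧ x ∈ P) ↔
      ∃ x : G, (∃ k : ℕ, orderOf x = p ^ k) ∧ ∃! P : Sylow p G, x ∈ P := by
  constructor
  · intro h
    by_contra hcon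
    apply h
    refine ⟨default, ?_⟩
    intro x hx
    obtain ⟨k, hk⟩ := hx
    obtain ⟨P0, hP0⟩ := exists_sylow_mem_of_orderOf x k hk
    by_cases hP : P0 = default
    · by_contra hno
      apply hcon
      refine ⟨x, ⟨k, hk⟩, default, hP ▸ hP0, ?_⟩
      intro P' hP'
      by_contra hne
      exact hno ⟨P', hne, hP'⟩
    · exact ⟨P0, hP, hP0⟩
  · rintro ⟨x, ⟨k, hk⟩, P0, hxP0, huniq⟩
    rintro ⟨Q, hQ⟩
    obtain ⟨g, hg⟩ := MulAction.exists_smul_eq G P0 Q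
    have hx' : ∃ k : ℕ, orderOf (g * x * g⁻¹) = p ^ k := ⟨k, by rw [orderOf_conj_eq, hk]⟩
    obtain ⟨P, hPQ, hxP⟩ := hQ _ hx'
    have h1 : x ∈ (g⁻¹ • P : Sylow p G) := by
      rw [mem_sylow_smul]
      simpa using hxP
    have h2 : g⁻¹ • P = P0 := huniq _ h1
    apply hPQ
    rw [← hg, ← h2, smul_inv_smul]

end Cfsg.Agent.S4347
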