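import Cfsg.Statements.S4348

set_option autoImplicit false
open Cfsg

namespace Cfsg.Agent.S4348

/-- Let G be a finite group, p a prime and P a Sylow p-subgroup of G, and let O_p(G) be the largest normal p-subgroup of G. If P/O_p(G) is cyclic, then some element of p-power order of G lies in exactly one Sylow p-subgroup. -/
theorem result {G : Type*} [Group G] [Finite G]
    (p : ℕ) [Fact p.Prime] (P : Sylow p G)
    [hn : ((Cfsg.pCore p G).subgroupOf (P : Subgroup G)).Normal]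
    (hc : IsCyclic ((P : Subgroup G) ⧸ (Cfsg.pCore p G).subgroupOf (P : Subgroup G))) :
    ∃ x : G, (∃ k : ℕ, orderOf x = p ^ k) ∧ ∃! Q : Sylow p G, x ∈ Q := by
  classical
  have hcore_le : ∀ Q : Sylow p G, Cfsg.pCore p G ≤ Q := by
    intro Q
    unfold Cfsg.pCore
    apply sSup_le
    rintro N ⟨hN1, hN2⟩
    have := hN1
    exact hN2.le_sylow_of_normal Q
  obtain ⟨xbar, hxbar⟩ := hc.exists_generator
  obtain ⟨x, rfl⟩ := QuotientGroup.mk_surjective xbar
  refine ⟨(x : G), ?_, P, x.2, ?_⟩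
  · -- x is a p-element
    obtain ⟨k, hk⟩ := (IsPGroup.iff_orderOf.mp P.isPGroup') x
    exact ⟨k, by rw [← hk]; exact Subgroup.orderOf_coe x⟩
  · intro Q hxQ
    have hPQ : (P : Subgroup G) ≤ Q := by
      intro y hy
      have hy' := hxbar (QuotientGroup.mk ⟨y, hy⟩)
      rw [Subgroup.mem_zpowers_iff] at hy'
      obtain ⟨k, hk⟩ := hy'
      rw [← QuotientGroup.mk_zpow, QuotientGroup.eq] at hk
      rw [Subgroup.mem_subgroupOf] at hk
      have h1 : ((x ^ k)⁻¹ * ⟨y, hy⟩ : (P : Subgroup G)).1 ∈ (Q : Subgroup G) := hcore_le Q hk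
      have h2 : ((x : G) ^ k) ∈ (Q : Subgroup G) := Subgroup.zpow_mem _ hxQ k
      have h3 : y = ((x : G) ^ k) * ((x ^ k)⁻¹ * ⟨y, hy⟩ : (P : Subgroup G)).1 := by
        simp
      rw [h3]
      exact Subgroup.mul_mem _ h2 h1
    exact (Sylow.ext (P.is_maximal' Q.isPGroup' hPQ)).symm ▸ rfl

end Cfsg.Agent.S4348
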