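import Cfsg.Statements.S4357
import Mathlib
import Cfsg.Agent.Lib.Helper2.SL2Redundant


set_option autoImplicit false
open Cfsg

namespace Cfsg.Agent.S4357

open Cfsg.Agent.Lib.Helper2.SL2Redundant Cfsg.Agent.Lib.Helper2.SL2SylTwo

theorem pow_fac (n k : ℕ) (h : n = 2 ^ k) : n = 2 ^ n.factorization 2 := by
  subst h
  rw [Nat.prime_two.factorization_pow, Finsupp.single_eq_same]

theorem arith_pow (q t : ℕ) (hq2 : 2 ≤ q) (hodd : q % 2 = 1)
    (hc1 : q % 4 = 1 → t = q - 1) (hc3 : q % 4 = 3 → t = q + 1)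
    (h : (∃ k : ℕ, q + 1 = 2 ^ k) ∨ (∃ k : ℕ, q = 2 ^ k) ∨ (∃ k : ℕ, q = 2 ^ k + 1)) :
    ∃ j : ℕ, t = 2 ^ j := by
  rcases h with ⟨k, hk⟩ | ⟨k, hk⟩ | ⟨k, hk⟩
  · rcases k with _ | _ | k
    · simp at hk; omega
    · simp at hk; omega
    · rw [pow_succ, pow_succ] at hk
      have h3 : q % 4 = 3 := by omega
      refine ⟨k + 2, ?_⟩
      rw [hc3 h3, pow_succ, pow_succ]; exact hk
  · rcases k with _ | k
    · simp at hk; omega
    · rw [pow_succ] at hk; omega
  · rcases k with _ | _ | k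
    · simp at hk; omega
    · simp at hk
      have h3 : q % 4 = 3 := by omega
      refine ⟨2, ?_⟩
      rw [hc3 h3, hk]; norm_num
    · rw [pow_succ, pow_succ] at hk
      have h1 : q % 4 = 1 := by omega
      refine ⟨k + 2, ?_⟩
      rw [hc1 h1, pow_succ, pow_succ]; omega

theorem arith_npow (q t : ℕ) (hq2 : 2 ≤ q) (hodd : q % 2 = 1)
    (hc1 : q % 4 = 1 → t = q - 1) (hc3 : q % 4 = 3 → t = q + 1)
    (h1 : ¬ ∃ k : ℕ, q + 1 = 2 ^ k) (h3 : ¬ ∃ k : ℕ, q = 2 ^ k + 1) :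
    ¬ ∃ j : ℕ, t = 2 ^ j := by
  rintro ⟨j, hj⟩
  have h4 : q % 4 = 1 ∨ q % 4 = 3 := by omega
  rcases h4 with h | h
  · apply h3
    refine ⟨j, ?_⟩
    rw [← hj, hc1 h]; omega
  · apply h1
    refine ⟨j, ?_⟩
    rw [← hj, hc3 h]

/-- Let F be a finite field with q elements, p a prime and G = SL(2, F). Say a Sylow p-subgroup Q of G is redundant when every element of p-power order lies in some Sylow p-subgroup other than Q. Then G has a redundant Sylow p-subgroup if and only if p = 2 and q is not of any of the forms 2ᵏ - 1, 2ᵏ, 2ᵏ + 1. -/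
theorem result {F : Type*} [Field F] [Fintype F] (p : ℕ) [Fact p.Prime] :
    (∃ Q : Sylow p (Matrix.SpecialLinearGroup (Fin 2) F), ∀ x : Matrix.SpecialLinearGroup (Fin 2) F,
        (∃ k : ℕ, orderOf x = p ^ k) → ∃ P : Sylow p (Matrix.SpecialLinearGroup (Fin 2) F), P ≠ Q ∧ x ∈ P) ↔
      (p = 2 ∧ (¬ ∃ k : ℕ, Fintype.card F + 1 = 2 ^ k) ∧ (¬ ∃ k : ℕ, Fintype.card F = 2 ^ k) ∧
        ¬ ∃ k : ℕ, Fintype.card F = 2 ^ k + 1) := by
  classical
  have hpp : p.Prime := Fact.out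
  have hq2 : 2 ≤ Fintype.card F := Fintype.one_lt_card
  obtain ⟨r, hr⟩ := CharP.exists F
  haveI := hr
  have hrp' : r.Prime := CharP.char_is_prime F r
  obtain ⟨n, -, hqn⟩ := FiniteField.card F r
  constructor
  · rintro ⟨Q, hQ⟩
    by_cases hpr : p = r
    · haveI : CharP F p := hpr ▸ hr
      exact absurd hQ (unip_case p Q)
    · by_cases hp2 : p = 2
      · subst hp2
        have hodd : Odd (Fintype.card F) := by
          rw [hqn]
          exact Odd.pow (hrp'.odd_of_ne_two (Ne.symm hpr))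
        have hoddq : Fintype.card F % 2 = 1 := Nat.odd_iff.1 hodd
        obtain ⟨T, hcyc, hcent, hcN, hsqN, hfac, h4, hc1, hc3⟩ := torus_data' hodd
        obtain ⟨S₀, g, cfg⟩ := exists_cfg hodd T hcyc hcent hcN hsqN hfac h4
        have key : ¬ ((∃ k : ℕ, Fintype.card F + 1 = 2 ^ k) ∨ (∃ k : ℕ, Fintype.card F = 2 ^ k) ∨
            (∃ k : ℕ, Fintype.card F = 2 ^ k + 1)) := by
          intro h
          obtain ⟨j, hj⟩ := arith_pow _ _ hq2 hoddq hc1 hc3 h
          exact two_case_pow hodd cfg hcN hfac (pow_fac _ j hj) Q hQ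
        refine ⟨rfl, fun h => key (Or.inl h), fun h => key (Or.inr (Or.inl h)),
          fun h => key (Or.inr (Or.inr h))⟩
      · exfalso
        have hpc : ¬ p ∣ Fintype.card F := by
          intro h
          rw [hqn] at h
          exact hpr ((Nat.prime_dvd_prime_iff_eq hpp hrp').1 (hpp.dvd_of_dvd_pow h))
        exact odd_case p hp2 hpc Q hQ
  · rintro ⟨hp2, h1, h2, h3⟩
    subst hp2
    have hr2 : r ≠ 2 := by
      rintro rfl
      exact h2 ⟨n, hqn⟩
    have hodd : Odd (Fintype.card F) := by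
      rw [hqn]
      exact Odd.pow (hrp'.odd_of_ne_two hr2)
    have hoddq : Fintype.card F % 2 = 1 := Nat.odd_iff.1 hodd
    obtain ⟨T, hcyc, hcent, hcN, hsqN, hfac, h4, hc1, hc3⟩ := torus_data' hodd
    obtain ⟨S₀, g, cfg⟩ := exists_cfg hodd T hcyc hcent hcN hsqN hfac h4
    exact ⟨S₀, two_case_red hodd cfg (arith_npow _ _ hq2 hoddq hc1 hc3 h1 h3)⟩

end Cfsg.Agent.S4357
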