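import Cfsg.Statements.S4356
import Mathlib
import Cfsg.Agent.S4357


set_option autoImplicit false
open Cfsg

namespace Cfsg.Agent.S4356

open Cfsg.Agent.Lib.Helper2.SL2Redundant Cfsg.Agent.Lib.Helper2.SL2Unip
open Cfsg.Agent.S2508 (pr pr_surj mem_center)

theorem ker_pr {F : Type*} [Field F] [Fintype F] :
    (pr (F := F)).ker = Subgroup.center (Matrix.SpecialLinearGroup (Fin 2) F) :=
  QuotientGroup.ker_mk' _

/-- Let F be a finite field with q elements, p a prime and G = PSL(2, F). Say a Sylow p-subgroup Q of G is redundant when every element of p-power order lies in some Sylow p-subgroup other than Q. Then G has a redundant Sylow p-subgroup if and only if p = 2 and q is not of any of the forms 2ᵏ - 1, 2ᵏ, 2ᵏ + 1. -/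
theorem result {F : Type*} [Field F] [Fintype F] (p : ℕ) [Fact p.Prime] :
    (∃ Q : Sylow p (Matrix.ProjectiveSpecialLinearGroup (Fin 2) F), ∀ x : Matrix.ProjectiveSpecialLinearGroup (Fin 2) F,
        (∃ k : ℕ, orderOf x = p ^ k) → ∃ P : Sylow p (Matrix.ProjectiveSpecialLinearGroup (Fin 2) F), P ≠ Q ∧ x ∈ P) ↔
      (p = 2 ∧ (¬ ∃ k : ℕ, Fintype.card F + 1 = 2 ^ k) ∧ (¬ ∃ k : ℕ, Fintype.card F = 2 ^ k) ∧
        ¬ ∃ k : ℕ, Fintype.card F = 2 ^ k + 1) := by
  classical
  constructor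
  · rintro ⟨Q', hQ'⟩
    obtain ⟨Q, rfl⟩ := Sylow.mapSurjective_surjective (pr_surj (F := F)) p Q'
    have hred : Red p Q := red_of_map p pr pr_surj (le_of_eq ker_pr) Q hQ'
    exact (Cfsg.Agent.S4357.result (F := F) p).1 ⟨Q, hred⟩
  · intro h
    have hp2 : p = 2 := h.1
    obtain ⟨Q, hQ⟩ := (Cfsg.Agent.S4357.result (F := F) p).2 h
    refine ⟨Q.mapSurjective pr_surj, ?_⟩
    intro x' hx'
    apply map_of_red p pr pr_surj (le_of_eq ker_pr) 1 _ Q hQ x' hx'
    intro z hz
    rw [ker_pr, mem_center] at hz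
    rw [pow_one, hp2, pow_two]
    rcases hz with rfl | rfl
    · rw [mul_one]
    · exact zz_sq

end Cfsg.Agent.S4356
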