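import Mathlib
import Cfsg.Statements.S4370
import Cfsg.Agent.S0016
import Cfsg.Agent.S4242
import Cfsg.Agent.Lib.Helper7.CyclicSub
import Cfsg.Agent.Lib.Helper7.NilpotentSylow

set_option autoImplicit false

open Cfsg

namespace Cfsg.Agent.S4370

open Cfsg.Agent.Lib.Helper7

theorem zmod_add_self_eq_zero {n : ℕ} [NeZero n] (j : ZMod (2 * n)) (h : j + j = 0) :
    j = 0 ∨ j = (n : ZMod (2 * n)) := by
  have hj : j.val < 2 * n := ZMod.val_lt j
  have h1 : ((j.val + j.val : ℕ) : ZMod (2 * n)) = 0 := by
    push_cast; rw [ZMod.natCast_zmod_val]; exact h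
  rw [ZMod.natCast_eq_zero_iff] at h1
  obtain ⟨t, ht⟩ := h1
  have hn : 0 < n := Nat.pos_of_ne_zero (NeZero.ne n)
  have ht01 : t = 0 ∨ t = 1 := by
    rcases t with _ | _ | t
    · left; rfl
    · right; rfl
    · exfalso; nlinarith
  rcases ht01 with rfl | rfl
  · left
    have : j.val = 0 := by omega
    exact (ZMod.val_eq_zero j).1 this
  · right
    have : j.val = n := by omega
    have h7 : ((j.val : ℕ) : ZMod (2 * n)) = j := ZMod.natCast_zmod_val j
    rw [this] at h7
    exact h7.symm

theorem crt_pow {Q : Type*} [Group Q] {N m : ℕ} [NeZero m] (hco : N.Coprime m) (g : Q)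
    (hg : g ^ N = 1) (s : ℕ) (d : Multiplicative (ZMod m)) :
    ∃ t : ℕ, g ^ t = g ^ s ∧ (Multiplicative.ofAdd (1 : ZMod m)) ^ t = d := by
  obtain ⟨t, ht1, ht2⟩ := Nat.chineseRemainder hco s (Multiplicative.toAdd d).val
  refine ⟨t, ?_, ?_⟩
  · rw [pow_eq_pow_iff_modEq]
    exact Nat.ModEq.of_dvd (orderOf_dvd_of_pow_eq_one hg) ht1
  · rw [← ofAdd_nsmul, nsmul_one]
    have : ((t : ℕ) : ZMod m) = Multiplicative.toAdd d := by
      have := (ZMod.natCast_eq_natCast_iff _ _ _).2 ht2
      rw [this, ZMod.natCast_zmod_val]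
    rw [this]; rfl

theorem cyclic_centralizer {n m : ℕ} [NeZero n] [NeZero m] (hco1 : (2 * n).Coprime m)
    (hco2 : Nat.Coprime 4 m) (w : QuaternionGroup n × Multiplicative (ZMod m))
    (hw : w ∉ Subgroup.center (QuaternionGroup n × Multiplicative (ZMod m))) :
    IsCyclic (Subgroup.centralizer ({w} : Set (QuaternionGroup n × Multiplicative (ZMod m)))) := by
  obtain ⟨q, c⟩ := w
  set ζ : Multiplicative (ZMod m) := Multiplicative.ofAdd (1 : ZMod m) with hζ
  rw [Subgroup.isCyclic_iff_exists_zpowers_eq_top]
  cases q with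
  | a i =>
    have h2i : i + i ≠ 0 := by
      intro h0
      apply hw
      rw [Subgroup.mem_center_iff]
      rintro ⟨q', c'⟩
      refine Prod.ext ?_ (mul_comm c' c)
      cases q' with
      | a j => simp [add_comm]
      | xa j =>
        have : i = -i := eq_neg_of_add_eq_zero_left h0
        simp only [Prod.mk_mul_mk, QuaternionGroup.xa_mul_a, QuaternionGroup.a_mul_xa]
        rw [sub_eq_add_neg, ← this]
    refine ⟨(QuaternionGroup.a 1, ζ), le_antisymm ?_ ?_⟩
    · rw [Subgroup.zpowers_le, Subgroup.mem_centralizer_iff]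
      intro h hh
      rw [Set.mem_singleton_iff] at hh
      rw [hh]
      refine Prod.ext ?_ (mul_comm _ _)
      simp [add_comm]
    · rintro ⟨q', c'⟩ hmem
      have hcomm := (Subgroup.mem_centralizer_iff.1 hmem) (QuaternionGroup.a i, c) rfl
      have hcomm1 := congrArg Prod.fst hcomm
      simp only [Prod.mk_mul_mk] at hcomm1
      cases q' with
      | a j =>
        obtain ⟨t, ht1, ht2⟩ := crt_pow hco1 (QuaternionGroup.a (1 : ZMod (2 * n)))
          QuaternionGroup.a_one_pow_n j.val c'
        have : ((QuaternionGroup.a j : QuaternionGroup n), c') = (QuaternionGroup.a 1, ζ) ^ t := by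
          rw [Prod.pow_mk, ht1, ht2, QuaternionGroup.a_one_pow, ZMod.natCast_zmod_val]
        rw [this]
        exact Subgroup.npow_mem_zpowers _ t
      | xa j =>
        exfalso
        simp only [QuaternionGroup.xa_mul_a, QuaternionGroup.a_mul_xa] at hcomm1
        have h3 : j - i = j + i := by
          injection hcomm1
        apply h2i
        have : i = -i := by
          have h4 : -i = i := by
            have := sub_eq_add_neg j i
            rw [this] at h3
            exact add_left_cancel h3
          exact h4.symm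
        nth_rewrite 1 [this]
        exact neg_add_cancel i
  | xa i =>
    have hpow0 : (QuaternionGroup.xa i : QuaternionGroup n) ^ 0 = QuaternionGroup.a 0 := by
      rw [pow_zero, QuaternionGroup.one_def]
    have hpow1 : (QuaternionGroup.xa i : QuaternionGroup n) ^ 1 = QuaternionGroup.xa i := pow_one _
    have hpow2 : (QuaternionGroup.xa i : QuaternionGroup n) ^ 2 = QuaternionGroup.a n :=
      QuaternionGroup.xa_sq i
    have hpow3 : (QuaternionGroup.xa i : QuaternionGroup n) ^ 3
        = QuaternionGroup.xa (i + (n : ZMod (2 * n))) := by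
      rw [pow_succ', hpow2, QuaternionGroup.xa_mul_a]
    refine ⟨(QuaternionGroup.xa i, ζ), le_antisymm ?_ ?_⟩
    · rw [Subgroup.zpowers_le, Subgroup.mem_centralizer_iff]
      intro h hh
      rw [Set.mem_singleton_iff] at hh
      rw [hh]
      exact Prod.ext rfl (mul_comm _ _)
    · rintro ⟨q', c'⟩ hmem
      have hcomm := (Subgroup.mem_centralizer_iff.1 hmem) (QuaternionGroup.xa i, c) rfl
      have hcomm1 := congrArg Prod.fst hcomm
      simp only [Prod.mk_mul_mk] at hcomm1
      have hfin : ∀ s : ℕ, q' = (QuaternionGroup.xa i : QuaternionGroup n) ^ s →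
          (q', c') ∈ Subgroup.zpowers ((QuaternionGroup.xa i : QuaternionGroup n), ζ) := by
        intro s hs
        obtain ⟨t, ht1, ht2⟩ := crt_pow hco2 (QuaternionGroup.xa i : QuaternionGroup n)
          (QuaternionGroup.xa_pow_four i) s c'
        have : (q', c') = ((QuaternionGroup.xa i : QuaternionGroup n), ζ) ^ t := by
          rw [Prod.pow_mk, ht1, ht2, hs]
        rw [this]
        exact Subgroup.npow_mem_zpowers _ t
      cases q' with
      | a j =>
        simp only [QuaternionGroup.xa_mul_a, QuaternionGroup.a_mul_xa] at hcomm1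
        have h3 : i + j = i - j := by
          injection hcomm1
        have h4 : j + j = 0 := by
          have h5 : j = -j := by
            rw [sub_eq_add_neg] at h3
            exact add_left_cancel h3
          nth_rewrite 1 [h5]
          exact neg_add_cancel j
        rcases zmod_add_self_eq_zero j h4 with rfl | rfl
        · exact hfin 0 hpow0.symm
        · exact hfin 2 hpow2.symm
      | xa j =>
        simp only [QuaternionGroup.xa_mul_xa] at hcomm1
        have h3 : (n : ZMod (2 * n)) + j - i = (n : ZMod (2 * n)) + i - j := by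
          injection hcomm1
        have h4 : (j - i) + (j - i) = 0 := by
          have h5 : j - i = i - j := by
            have e1 : (n : ZMod (2 * n)) + j - i = (n : ZMod (2 * n)) + (j - i) := by ring
            have e2 : (n : ZMod (2 * n)) + i - j = (n : ZMod (2 * n)) + (i - j) := by ring
            rw [e1, e2] at h3
            exact add_left_cancel h3
          nth_rewrite 1 [h5]
          ring
        rcases zmod_add_self_eq_zero (j - i) h4 with h6 | h6
        · have : j = i := sub_eq_zero.1 h6
          exact hfin 1 (by rw [hpow1, this])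
        · have : j = i + (n : ZMod (2 * n)) := by rw [← h6]; ring
          exact hfin 3 (by rw [hpow3, this])

theorem forward {G : Type*} [Group G] [Finite G] (hG : Group.IsNilpotent G)
    (hna : ¬ IsMulCommutative G)
    (hC : ∀ x : G, x ∉ Subgroup.center G → IsCyclic (Subgroup.centralizer ({x} : Set G))) :
    ∃ (k m : ℕ), 1 ≤ k ∧ Odd m ∧
      Nonempty (G ≃* QuaternionGroup (2 ^ k) × Multiplicative (ZMod m)) := by
  classical
  haveI := hG
  -- Step 1: a nonabelian Sylow subgroup
  have hex : ∃ (p : ℕ) (_ : Fact p.Prime) (P : Sylow p G), ∃ x ∈ (P : Subgroup G),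
      ∃ y ∈ (P : Subgroup G), x * y ≠ y * x := by
    by_contra hcon
    push Not at hcon
    apply hna
    have hcen : ∀ (q : ℕ) [Fact q.Prime] (Q : Sylow q G), ∀ x ∈ (Q : Subgroup G), ∀ g : G,
        g * x = x * g := by
      intro q hq Q x hx
      have htop : Subgroup.centralizer ({x} : Set G) = ⊤ := by
        apply eq_top_of_forall_sylow_le
        intro r hr
        by_cases hrq : r = q
        · subst hrq
          refine ⟨Q, ?_⟩
          intro y hy
          rw [Subgroup.mem_centralizer_iff]
          intro h hh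
          rw [Set.mem_singleton_iff] at hh
          rw [hh]
          exact hcon r hq Q x hx y hy
        · obtain ⟨R⟩ : Nonempty (Sylow r G) := inferInstance
          refine ⟨R, ?_⟩
          intro y hy
          rw [Subgroup.mem_centralizer_iff]
          intro h hh
          rw [Set.mem_singleton_iff] at hh
          rw [hh]
          exact (sylow_commute_of_ne (Ne.symm hrq) Q R x y hx hy).eq
      intro g
      have : g ∈ Subgroup.centralizer ({x} : Set G) := by rw [htop]; trivial
      exact ((Subgroup.mem_centralizer_iff.1 this) x rfl).symm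
    have hctop : Subgroup.center G = ⊤ := by
      apply eq_top_of_forall_sylow_le
      intro q hq
      obtain ⟨Q⟩ : Nonempty (Sylow q G) := inferInstance
      refine ⟨Q, ?_⟩
      intro x hx
      rw [Subgroup.mem_center_iff]
      exact hcen q Q x hx
    refine ⟨⟨fun a b => ?_⟩⟩
    have : b ∈ Subgroup.center G := by rw [hctop]; trivial
    exact (Subgroup.mem_center_iff.1 this) a
  obtain ⟨p, hp, P, x₀, hx₀, y₀, hy₀, hxy⟩ := hex
  haveI := hp
  have hx₀c : x₀ ∉ Subgroup.center G := by
    intro h
    exact hxy ((Subgroup.mem_center_iff.1 h) y₀).symm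
  haveI hPn : (P : Subgroup G).Normal := inferInstance
  obtain ⟨A, hcomp⟩ := Subgroup.exists_right_complement'_of_coprime (P.card_coprime_index)
  have hAcard : (P : Subgroup G).index = Nat.card A := hcomp.symm.index_eq_card
  have hAcop : (Nat.card A).Coprime p := by
    rw [← hAcard]
    exact ((Nat.Prime.coprime_iff_not_dvd hp.out).2 P.not_dvd_index).symm
  have hcommPA : ∀ u ∈ (P : Subgroup G), ∀ a ∈ A, u * a = a * u := by
    intro u hu a ha
    have h1 : ∃ k, orderOf u = p ^ k := by
      obtain ⟨k, hk⟩ := (IsPGroup.iff_orderOf.1 P.2) ⟨u, hu⟩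
      exact ⟨k, by rw [← hk, Subgroup.orderOf_mk]⟩
    have h2 : (orderOf a).Coprime p := by
      have : orderOf a ∣ Nat.card A := by
        have := orderOf_dvd_natCard (⟨a, ha⟩ : ↥A)
        rwa [Subgroup.orderOf_mk] at this
      exact Nat.Coprime.coprime_dvd_left this hAcop
    exact (Cfsg.Agent.S4242.commute_of_coprime u a h1 h2).eq
  -- A is cyclic
  haveI hC₀ : IsCyclic (Subgroup.centralizer ({x₀} : Set G)) := hC x₀ hx₀c
  have hAC₀ : A ≤ Subgroup.centralizer ({x₀} : Set G) := by
    intro a ha
    rw [Subgroup.mem_centralizer_iff]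
    intro h hh
    rw [Set.mem_singleton_iff] at hh
    rw [hh]
    exact hcommPA x₀ hx₀ a ha
  haveI hAcyc : IsCyclic ↥A := by
    haveI : IsCyclic ↥(A.subgroupOf (Subgroup.centralizer ({x₀} : Set G))) := inferInstance
    exact isCyclic_of_surjective (Subgroup.subgroupOfEquivOfLe hAC₀)
      (Subgroup.subgroupOfEquivOfLe hAC₀).surjective
  -- a central element of order p in P
  haveI : Nontrivial ↥(P : Subgroup G) := by
    refine ⟨⟨⟨x₀, hx₀⟩, ⟨y₀, hy₀⟩, ?_⟩⟩
    intro h
    have : x₀ = y₀ := congrArg Subtype.val h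
    apply hxy; rw [this]
  haveI : Nontrivial (Subgroup.center ↥(P : Subgroup G)) := P.2.center_nontrivial
  have hpZ : p ∣ Nat.card (Subgroup.center ↥(P : Subgroup G)) := by
    obtain ⟨n, hn⟩ := (IsPGroup.iff_card).1
      (P.2.to_subgroup (Subgroup.center ↥(P : Subgroup G)))
    rw [hn]
    have : n ≠ 0 := by
      rintro rfl
      rw [pow_zero] at hn
      have := Finite.one_lt_card (α := Subgroup.center ↥(P : Subgroup G))
      omega
    exact dvd_pow_self p this
  obtain ⟨z, hz⟩ := exists_prime_orderOf_dvd_card' p hpZ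
  set zG : G := ((z : ↥(P : Subgroup G)) : G) with hzG
  have hzGo : orderOf zG = p := by
    rw [hzG, Subgroup.orderOf_coe, Subgroup.orderOf_coe]; exact hz
  have hzGc : ∀ u ∈ (P : Subgroup G), u * zG = zG * u := by
    intro u hu
    have := (Subgroup.mem_center_iff.1 z.2) ⟨u, hu⟩
    exact congrArg Subtype.val this
  have key : ∀ H : Subgroup ↥(P : Subgroup G), Nat.card H = p →
      H.map (P : Subgroup G).subtype = Subgroup.zpowers zG := by
    intro H hH
    have hne : ∃ h : ↥H, h ≠ 1 := by
      haveI : Nontrivial ↥H := by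
        rw [← Finite.one_lt_card_iff_nontrivial, hH]; exact hp.out.one_lt
      exact exists_ne 1
    obtain ⟨h, hh1⟩ := hne
    have hHtop : Subgroup.zpowers h = ⊤ := zpowers_eq_top_of_prime_card hH hh1
    set hG' : G := ((h : ↥(P : Subgroup G)) : G) with hhG
    have hhP : hG' ∈ (P : Subgroup G) := (h : ↥(P : Subgroup G)).2
    have hHpow : ∀ y ∈ H.map (P : Subgroup G).subtype, ∃ i : ℤ, y = hG' ^ i := by
      rintro _ ⟨y, hy, rfl⟩
      have : (⟨y, hy⟩ : ↥H) ∈ Subgroup.zpowers h := by rw [hHtop]; trivial
      obtain ⟨i, hi⟩ := Subgroup.mem_zpowers_iff.1 this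
      refine ⟨i, ?_⟩
      have h1 : (h : ↥(P : Subgroup G)) ^ i = y := by
        have := congrArg Subtype.val hi
        simpa using this
      rw [← h1]; simp [hhG]
    obtain ⟨u, huP, huc, hucomm⟩ : ∃ u ∈ (P : Subgroup G), u ∉ Subgroup.center G ∧
        u * hG' = hG' * u := by
      by_cases hcen : hG' ∈ Subgroup.center G
      · exact ⟨x₀, hx₀, hx₀c, ((Subgroup.mem_center_iff.1 hcen) x₀)⟩
      · exact ⟨hG', hhP, hcen, rfl⟩
    haveI := hC u huc
    apply eq_of_le_cyclic_of_card_eq (Subgroup.centralizer ({u} : Set G))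
    · intro y hy
      obtain ⟨i, rfl⟩ := hHpow y hy
      rw [Subgroup.mem_centralizer_iff]
      intro w hw
      rw [Set.mem_singleton_iff] at hw
      rw [hw]
      exact ((show Commute u hG' from hucomm).zpow_right i).eq
    · rw [Subgroup.zpowers_le, Subgroup.mem_centralizer_iff]
      intro w hw
      rw [Set.mem_singleton_iff] at hw
      rw [hw]
      exact hzGc u huP
    · rw [Subgroup.card_map_of_injective (P : Subgroup G).subtype_injective, hH,
        Nat.card_zpowers, hzGo]
  have huniq : ∀ H K : Subgroup ↥(P : Subgroup G), Nat.card H = p → Nat.card K = p →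
      H = K := by
    intro H K hH hK
    apply Subgroup.map_injective (P : Subgroup G).subtype_injective
    rw [key H hH, key K hK]
  have hPnc : ¬ IsCyclic ↥(P : Subgroup G) := by
    intro hcyc
    obtain ⟨g, hg⟩ := hcyc.exists_generator
    obtain ⟨i, hi⟩ := Subgroup.mem_zpowers_iff.1 (hg ⟨x₀, hx₀⟩)
    obtain ⟨j, hj⟩ := Subgroup.mem_zpowers_iff.1 (hg ⟨y₀, hy₀⟩)
    apply hxy
    have : (⟨x₀, hx₀⟩ : ↥(P : Subgroup G)) * ⟨y₀, hy₀⟩ = ⟨y₀, hy₀⟩ * ⟨x₀, hx₀⟩ := by
      rw [← hi, ← hj, ← zpow_add, ← zpow_add, add_comm]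
    exact congrArg Subtype.val this
  rcases Cfsg.Agent.S0016.result p P.2 huniq with hcyc | ⟨hp2, n, ⟨e⟩⟩
  · exact absurd hcyc hPnc
  have hn : 1 ≤ n := by
    rcases Nat.eq_zero_or_pos n with rfl | hn
    · exfalso
      apply hPnc
      rw [pow_zero] at e
      haveI := QuaternionGroup.quaternionGroup_one_isCyclic
      exact isCyclic_of_surjective e.symm e.symm.surjective
    · exact hn
  refine ⟨n, Nat.card A, hn, ?_, ⟨?_⟩⟩
  · rw [hp2] at hAcop
    exact Nat.Coprime.odd_of_right hAcop
  · let f : ↥(P : Subgroup G) →* G := (P : Subgroup G).subtype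
    let g : ↥A →* G := A.subtype
    have comm : ∀ a b, Commute (f a) (g b) := fun a b => hcommPA a a.2 b b.2
    let φ : ↥(P : Subgroup G) × ↥A →* G := f.noncommCoprod g comm
    have hφapp : ∀ (u : ↥(P : Subgroup G)) (a : ↥A), φ (u, a) = (u : G) * (a : G) := by
      intro u a
      simp [φ, MonoidHom.noncommCoprod_apply, f, g]
    have hφ : Function.Bijective φ := by
      constructor
      · rintro ⟨u, a⟩ ⟨u', a'⟩ h
        rw [hφapp, hφapp] at h
        have := hcomp.1 (a₁ := (⟨u, a⟩ : ↥((P : Subgroup G) : Set G) × ↥(A : Set G)))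
          (a₂ := (⟨u', a'⟩ : ↥((P : Subgroup G) : Set G) × ↥(A : Set G))) h
        exact this
      · intro y
        obtain ⟨⟨u, a⟩, h⟩ := hcomp.2 y
        exact ⟨(⟨u.1, u.2⟩, ⟨a.1, a.2⟩), by rw [hφapp]; exact h⟩
    exact (MulEquiv.ofBijective φ hφ).symm.trans
      (MulEquiv.prodCongr e (zmodCyclicMulEquiv hAcyc).symm)

/-- Let G be a finite non-abelian nilpotent group. Then the centralizer of every non-central element of G is cyclic if and only if G is isomorphic to the direct product of a generalized quaternion group and a cyclic group of odd order. -/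
theorem result {G : Type*} [Group G] [Finite G] (hG : Group.IsNilpotent G)
    (hna : ¬ IsMulCommutative G) :
    (∀ x : G, x ∉ Subgroup.center G → IsCyclic (Subgroup.centralizer ({x} : Set G))) ↔
      ∃ (k m : ℕ), 1 ≤ k ∧ Odd m ∧ Nonempty (G ≃* QuaternionGroup (2 ^ k) × Multiplicative (ZMod m)) := by
  constructor
  · exact forward hG hna
  · rintro ⟨k, m, hk, hm, ⟨e⟩⟩
    intro x hx
    haveI : NeZero (2 ^ k) := ⟨by positivity⟩
    haveI : NeZero m := ⟨by rintro rfl; simp at hm⟩
    have h2m : Nat.Coprime 2 m := Nat.coprime_two_left.2 hm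
    have hco1 : (2 * 2 ^ k).Coprime m := by
      rw [← pow_succ']; exact Nat.Coprime.pow_left _ h2m
    have hco2 : Nat.Coprime 4 m := by
      have : (4 : ℕ) = 2 ^ 2 := by norm_num
      rw [this]; exact Nat.Coprime.pow_left _ h2m
    have hw : e x ∉ Subgroup.center (QuaternionGroup (2 ^ k) × Multiplicative (ZMod m)) := by
      intro hcen
      apply hx
      rw [Subgroup.mem_center_iff] at hcen ⊢
      intro g
      apply e.injective
      rw [map_mul, map_mul]
      exact hcen (e g)
    haveI := cyclic_centralizer hco1 hco2 (e x) hw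
    let f : ↥(Subgroup.centralizer ({e x} : Set (QuaternionGroup (2 ^ k) × Multiplicative (ZMod m))))
        →* ↥(Subgroup.centralizer ({x} : Set G)) :=
      MonoidHom.codRestrict (e.symm.toMonoidHom.comp (Subgroup.subtype _)) _ (by
        intro y
        rw [Subgroup.mem_centralizer_iff]
        intro h hh
        rw [Set.mem_singleton_iff] at hh
        rw [hh]
        have hy := (Subgroup.mem_centralizer_iff.1 y.2) (e x) rfl
        show x * e.symm (y : QuaternionGroup (2 ^ k) × Multiplicative (ZMod m))
          = e.symm (y : QuaternionGroup (2 ^ k) × Multiplicative (ZMod m)) * x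
        apply e.injective
        rw [map_mul, map_mul, e.apply_symm_apply]
        exact hy)
    apply isCyclic_of_surjective f
    intro z
    have hz : e (z : G) ∈ Subgroup.centralizer ({e x} :
        Set (QuaternionGroup (2 ^ k) × Multiplicative (ZMod m))) := by
      rw [Subgroup.mem_centralizer_iff]
      intro h hh
      rw [Set.mem_singleton_iff] at hh
      rw [hh, ← map_mul, ← map_mul]
      congr 1
      exact (Subgroup.mem_centralizer_iff.1 z.2) x rfl
    refine ⟨⟨e (z : G), hz⟩, ?_⟩
    apply Subtype.ext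
    show e.symm (e (z : G)) = (z : G)
    exact e.symm_apply_apply _

end Cfsg.Agent.S4370
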