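import Cfsg.Statements.S4377
import Mathlib

set_option autoImplicit false
open Cfsg

namespace Cfsg.Agent.S4377

/-- number of elements of order `d` -/
noncomputable def f (G : Type*) [Group G] (d : ℕ) : ℕ := Nat.card {g : G // orderOf g = d}
/-- number of solutions of `g ^ n = 1` -/
noncomputable def F (G : Type*) [Group G] (n : ℕ) : ℕ := Nat.card {g : G // g ^ n = 1}

theorem F_eq_sum (G : Type*) [Group G] [Finite G] (n : ℕ) (hn : 0 < n) :
    F G n = ∑ d ∈ n.divisors, f G d := by
  classical
  haveI : Fintype G := Fintype.ofFinite G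
  unfold F f
  simp only [Nat.card_eq_fintype_card, Fintype.card_subtype]
  rw [Finset.card_eq_sum_card_fiberwise (f := fun g : G => orderOf g) (t := n.divisors)]
  · apply Finset.sum_congr rfl
    intro d hd
    congr 1
    ext g
    simp only [Finset.mem_filter, Finset.mem_univ, true_and]
    constructor
    · rintro ⟨_, h⟩; exact h
    · intro h
      refine ⟨?_, h⟩
      rw [← orderOf_dvd_iff_pow_eq_one, h]
      exact Nat.dvd_of_mem_divisors hd
  · intro g hg
    have hg' : g ^ n = 1 := by simpa using hg
    rw [Finset.mem_coe, Nat.mem_divisors]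
    exact ⟨orderOf_dvd_of_pow_eq_one hg', hn.ne'⟩

theorem F_zero (G : Type*) [Group G] : F G 0 = Nat.card G := by
  unfold F
  simp only [pow_zero]
  exact Nat.card_congr (Equiv.subtypeUnivEquiv (fun _ => trivial))

theorem F_mul_card (G : Type*) [Group G] [Finite G] (m : ℕ) : F G (Nat.card G * m) = Nat.card G := by
  unfold F
  have : ∀ g : G, g ^ (Nat.card G * m) = 1 := by
    intro g
    rw [pow_mul, pow_card_eq_one', one_pow]
  exact Nat.card_congr (Equiv.subtypeUnivEquiv this)

theorem f_zero (G : Type*) [Group G] [Finite G] : f G 0 = 0 := by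
  unfold f
  rw [Nat.card_eq_zero]
  left
  constructor
  rintro ⟨g, hg⟩
  exact (orderOf_pos g).ne' hg

theorem result {G H : Type*} [Group G] [Finite G] [Group H] [Finite H] :
    (∀ n : ℕ, Nat.card {g : G // orderOf g = n} = Nat.card {h : H // orderOf h = n}) ↔
      ∀ n : ℕ, Nat.card {g : G // g ^ n = 1} = Nat.card {h : H // h ^ n = 1} := by
  change (∀ n, f G n = f H n) ↔ ∀ n, F G n = F H n
  constructor
  · intro h
    have hpos : ∀ n, 0 < n → F G n = F H n := by
      intro n hn
      rw [F_eq_sum G n hn, F_eq_sum H n hn]
      exact Finset.sum_congr rfl (fun d _ => h d)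
    intro n
    rcases Nat.eq_zero_or_pos n with rfl | hn
    · rw [F_zero, F_zero]
      have h1 := hpos (Nat.card G * Nat.card H) (Nat.mul_pos Nat.card_pos Nat.card_pos)
      rw [F_mul_card G, mul_comm, F_mul_card H] at h1
      exact h1
    · exact hpos n hn
  · intro h n
    induction n using Nat.strong_induction_on with
    | _ n ih =>
      rcases Nat.eq_zero_or_pos n with rfl | hn
      · rw [f_zero, f_zero]
      · have hG := F_eq_sum G n hn
        have hH := F_eq_sum H n hn
        rw [← Nat.cons_self_properDivisors hn.ne', Finset.sum_cons] at hG hH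
        have hsum : ∑ d ∈ n.properDivisors, f G d = ∑ d ∈ n.properDivisors, f H d := by
          apply Finset.sum_congr rfl
          intro d hd
          exact ih d (Nat.mem_properDivisors.1 hd).2
        have := h n
        omega

end Cfsg.Agent.S4377
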