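import Cfsg.Statements.S4387
import Cfsg.Agent.Lib.Lead.ConjUnion

set_option autoImplicit false
open Pointwise
open Cfsg

namespace Cfsg.Agent.S4387

open scoped Pointwise

/-- Let G be a non-trivial finite group in which any two maximal subgroups are conjugate. Then G is cyclic of prime-power order. -/
theorem result {G : Type*} [Group G] [Finite G] [Nontrivial G]
    (h : ∀ M N : Subgroup G, IsCoatom M → IsCoatom N → ∃ g : G, N = MulAut.conj g • M) :
    IsCyclic G ∧ IsPrimePow (Nat.card G) := by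
  classical
  have hne : (⊥ : Subgroup G) ≠ ⊤ := bot_ne_top
  obtain ⟨M0, hM0, -⟩ := (eq_top_or_exists_le_coatom (⊥ : Subgroup G)).resolve_left hne
  obtain ⟨g, hg⟩ := Cfsg.Agent.Lib.Lead.exists_forall_conj_notMem M0 hM0.1
  have hgen : Subgroup.zpowers g = ⊤ := by
    by_contra hcon
    obtain ⟨N, hN, hle⟩ := (eq_top_or_exists_le_coatom (Subgroup.zpowers g)).resolve_left hcon
    obtain ⟨c, hc⟩ := h M0 N hM0 hN
    have hgN : g ∈ N := hle (Subgroup.mem_zpowers g)
    rw [hc, Subgroup.mem_pointwise_smul_iff_inv_smul_mem] at hgN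
    apply hg c
    simpa [MulAut.smul_def] using hgN
  have hcyc : IsCyclic G := ⟨⟨g, fun x => by
    have hx : x ∈ Subgroup.zpowers g := by rw [hgen]; trivial
    exact Subgroup.mem_zpowers_iff.mp hx⟩⟩
  refine ⟨hcyc, ?_⟩
  rw [isPrimePow_iff_unique_prime_dvd]
  have hn1 : Nat.card G ≠ 1 := (Finite.one_lt_card).ne'
  have hord : orderOf g = Nat.card G := by rw [← Nat.card_zpowers, hgen, Subgroup.card_top]
  have hkey : ∀ r : ℕ, r.Prime → r ∣ Nat.card G → ∃ N : Subgroup G, IsCoatom N ∧ g ^ r ∈ N := by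
    intro r hr hrn
    have hne : Subgroup.zpowers (g ^ r) ≠ ⊤ := by
      intro htop
      have h1 : Nat.card (Subgroup.zpowers (g ^ r)) = Nat.card G := by rw [htop, Subgroup.card_top]
      rw [Nat.card_zpowers, orderOf_pow' g hr.ne_zero, hord, Nat.gcd_eq_right hrn] at h1
      have hpos : 0 < Nat.card G := Nat.card_pos
      have := Nat.div_lt_self hpos hr.one_lt
      omega
    obtain ⟨N, hN, hle⟩ := (eq_top_or_exists_le_coatom _).resolve_left hne
    exact ⟨N, hN, hle (Subgroup.mem_zpowers _)⟩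
  refine ⟨(Nat.card G).minFac, ⟨Nat.minFac_prime hn1, Nat.minFac_dvd _⟩, ?_⟩
  rintro q ⟨hq, hqn⟩
  by_contra hqp
  have hpp : ((Nat.card G).minFac).Prime := Nat.minFac_prime hn1
  have hpn : (Nat.card G).minFac ∣ Nat.card G := Nat.minFac_dvd _
  generalize (Nat.card G).minFac = p at hpp hpn hqp
  obtain ⟨Np, hNp, hgp⟩ := hkey p hpp hpn
  obtain ⟨Nq, hNq, hgq⟩ := hkey q hq hqn
  obtain ⟨c, hc⟩ := h Np Nq hNp hNq
  have hgq' : g ^ q ∈ Np := by
    rw [hc, Subgroup.mem_pointwise_smul_iff_inv_smul_mem] at hgq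
    have hcz : c ∈ Subgroup.zpowers g := by rw [hgen]; trivial
    obtain ⟨k, rfl⟩ := Subgroup.mem_zpowers_iff.mp hcz
    have : (MulAut.conj (g ^ k))⁻¹ • g ^ q = g ^ q := by
      simp only [MulAut.smul_def, MulAut.conj_inv_apply]
      group
    rwa [this] at hgq
  have hcop : Nat.gcd p q = 1 := (Nat.coprime_primes hpp hq).mpr (Ne.symm hqp)
  have hg_mem : g ∈ Np := by
    have hb := Nat.gcd_eq_gcd_ab p q
    rw [hcop] at hb
    have : g = (g ^ p) ^ (Nat.gcdA p q) * (g ^ q) ^ (Nat.gcdB p q) := by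
      rw [← zpow_natCast g p, ← zpow_natCast g q, ← zpow_mul, ← zpow_mul, ← zpow_add, ← hb]
      simp
    rw [this]
    exact Np.mul_mem (Np.zpow_mem hgp _) (Np.zpow_mem hgq' _)
  have : Np = ⊤ := by
    rw [eq_top_iff, ← hgen, Subgroup.zpowers_le]; exact hg_mem
  exact hNp.1 this

end Cfsg.Agent.S4387
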