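import Mathlib
import Cfsg.Statements.S4400
import Cfsg.Agent.Lib.Helper4.PGroupLemmas

set_option autoImplicit false
set_option maxHeartbeats 800000

open Cfsg

namespace Cfsg.Agent.S4400

variable {S : Type*} [Group S]

theorem mul3 {a b t a' b' t' : S} (h1 : b * a' = a' * b) (h2 : t * a' = a' * t)
    (h3 : t * b' = b' * t) :
    (a * b * t) * (a' * b' * t') = (a * a') * (b * b') * (t * t') := by
  calc (a * b * t) * (a' * b' * t') = a * b * (t * a') * b' * t' := by group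
    _ = a * b * (a' * t) * b' * t' := by rw [h2]
    _ = a * (b * a') * (t * b') * t' := by group
    _ = a * (a' * b) * (b' * t) * t' := by rw [h1, h3]
    _ = (a * a') * (b * b') * (t * t') := by group

theorem inv3 {a b t : S} (h1 : a * b = b * a) (h2 : a * t = t * a) (h3 : b * t = t * b) :
    (a * b * t)⁻¹ = a⁻¹ * b⁻¹ * t⁻¹ := by
  apply inv_eq_of_mul_eq_one_right
  have e1 : b * a⁻¹ = a⁻¹ * b := by
    calc b * a⁻¹ = a⁻¹ * (a * b) * a⁻¹ := by group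
      _ = a⁻¹ * (b * a) * a⁻¹ := by rw [h1]
      _ = a⁻¹ * b := by group
  have e2 : t * a⁻¹ = a⁻¹ * t := by
    calc t * a⁻¹ = a⁻¹ * (a * t) * a⁻¹ := by group
      _ = a⁻¹ * (t * a) * a⁻¹ := by rw [h2]
      _ = a⁻¹ * t := by group
  have e3 : t * b⁻¹ = b⁻¹ * t := by
    calc t * b⁻¹ = b⁻¹ * (b * t) * b⁻¹ := by group
      _ = b⁻¹ * (t * b) * b⁻¹ := by rw [h3]
      _ = b⁻¹ * t := by group
  rw [mul3 e1 e2 e3]
  simp

/-- the product of two elementwise commuting subgroups and the powers of an element commuting with both. -/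
def T3 (A B : Subgroup S) (c : S) (hAB : ∀ a ∈ A, ∀ b ∈ B, a * b = b * a)
    (hAc : ∀ a ∈ A, a * c = c * a) (hBc : ∀ b ∈ B, b * c = c * b) : Subgroup S where
  carrier := {x | ∃ a ∈ A, ∃ b ∈ B, ∃ i : ℤ, x = a * b * c ^ i}
  one_mem' := ⟨1, A.one_mem, 1, B.one_mem, 0, by simp⟩
  mul_mem' := by
    rintro _ _ ⟨a, ha, b, hb, i, rfl⟩ ⟨a', ha', b', hb', j, rfl⟩
    refine ⟨a * a', A.mul_mem ha ha', b * b', B.mul_mem hb hb', i + j, ?_⟩
    have h1 : b * a' = a' * b := (hAB a' ha' b hb).symm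
    have h2 : c ^ i * a' = a' * c ^ i :=
      ((show Commute a' c from hAc a' ha').zpow_right i).symm
    have h3 : c ^ i * b' = b' * c ^ i :=
      ((show Commute b' c from hBc b' hb').zpow_right i).symm
    rw [mul3 h1 h2 h3, zpow_add]
  inv_mem' := by
    rintro _ ⟨a, ha, b, hb, i, rfl⟩
    refine ⟨a⁻¹, A.inv_mem ha, b⁻¹, B.inv_mem hb, -i, ?_⟩
    have h2 : a * c ^ i = c ^ i * a := (show Commute a c from hAc a ha).zpow_right i
    have h3 : b * c ^ i = c ^ i * b := (show Commute b c from hBc b hb).zpow_right i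
    rw [inv3 (hAB a ha b hb) h2 h3, zpow_neg]

theorem mem_sup3 (A B : Subgroup S) (c : S) (hAB : ∀ a ∈ A, ∀ b ∈ B, a * b = b * a)
    (hAc : ∀ a ∈ A, a * c = c * a) (hBc : ∀ b ∈ B, b * c = c * b) (x : S) :
    x ∈ A ⊔ B ⊔ Subgroup.zpowers c ↔ ∃ a ∈ A, ∃ b ∈ B, ∃ i : ℤ, x = a * b * c ^ i := by
  constructor
  · intro hx
    have hle : A ⊔ B ⊔ Subgroup.zpowers c ≤ T3 A B c hAB hAc hBc := by
      apply sup_le
      · apply sup_le
        · intro a ha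
          exact ⟨a, ha, 1, B.one_mem, 0, by simp⟩
        · intro b hb
          exact ⟨1, A.one_mem, b, hb, 0, by simp⟩
      · rw [Subgroup.zpowers_le]
        exact ⟨1, A.one_mem, 1, B.one_mem, 1, by simp⟩
    exact hle hx
  · rintro ⟨a, ha, b, hb, i, rfl⟩
    apply Subgroup.mul_mem
    · apply Subgroup.mul_mem
      · exact (le_sup_left : A ≤ A ⊔ B).trans le_sup_left ha
      · exact (le_sup_right : B ≤ A ⊔ B).trans le_sup_left hb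
    · exact (le_sup_right : Subgroup.zpowers c ≤ A ⊔ B ⊔ Subgroup.zpowers c)
        (Subgroup.zpow_mem_zpowers c i)

theorem sq3 {a b t : S} (h1 : a * b = b * a) (h2 : a * t = t * a) (h3 : b * t = t * b) :
    (a * b * t) * (a * b * t) = (a * a) * (b * b) * (t * t) :=
  mul3 h1.symm h2.symm h3.symm

/-- a subgroup containing all squares of `H` contains all commutators of `H`. -/
theorem comm_mem_of_sq {H N : Subgroup S} (hsq : ∀ h ∈ H, h * h ∈ N) {a b : S} (ha : a ∈ H)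
    (hb : b ∈ H) : a * b * a⁻¹ * b⁻¹ ∈ N := by
  have e1 : a * b * a⁻¹ * b⁻¹ = (a * a) * ((a⁻¹ * b) * (a⁻¹ * b)) * (b * b)⁻¹ := by group
  rw [e1]
  exact N.mul_mem (N.mul_mem (hsq a ha) (hsq _ (H.mul_mem (H.inv_mem ha) hb)))
    (N.inv_mem (hsq b hb))

theorem card_two_mul_le [Finite S] {A B : Subgroup S} (hAB : A ≤ B) (x : S) (hxB : x ∈ B)
    (hxA : x ∉ A) : 2 * Nat.card ↥A ≤ Nat.card ↥B := by
  have hdvd := Subgroup.card_dvd_of_le hAB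
  obtain ⟨k, hk⟩ := hdvd
  have hBpos : 0 < Nat.card ↥B := Nat.card_pos
  have hApos : 0 < Nat.card ↥A := Nat.card_pos
  have hk1 : k ≠ 1 := by
    intro h
    rw [h, mul_one] at hk
    have := Subgroup.eq_of_le_of_card_ge hAB (le_of_eq hk)
    rw [this] at hxA
    exact hxA hxB
  have hk0 : k ≠ 0 := by
    intro h
    rw [h, mul_zero] at hk
    omega
  have hk2 : 2 ≤ k := by omega
  rw [hk]
  calc 2 * Nat.card ↥A = Nat.card ↥A * 2 := by ring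
    _ ≤ Nat.card ↥A * k := Nat.mul_le_mul_left _ hk2

theorem exists_two_max_aux {T : Type*} [Group T] [Finite T] (h2 : IsPGroup 2 T)
    (hT : ¬ IsMulCommutative T) (hZ : Nat.card (Subgroup.center T) = 2) :
    ∃ K₁ K₂ : Subgroup T, K₁.index = 2 ∧ K₂.index = 2 ∧ Subgroup.center T ≤ K₁ ∧
      Subgroup.center T ≤ K₂ ∧ (∃ x ∈ K₂, x ∉ K₁) ∧ (∃ y ∈ K₁, y ∉ K₂) := by
  haveI : Fact (Nat.Prime 2) := ⟨Nat.prime_two⟩
  obtain ⟨k, hk⟩ := IsPGroup.iff_card.mp h2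
  have hk2 : 2 ≤ k := by
    by_contra hlt
    push Not at hlt
    apply hT
    have hcard : Nat.card T ≤ 2 := by
      rw [hk]
      calc 2 ^ k ≤ 2 ^ 1 := Nat.pow_le_pow_right (by norm_num) (by omega)
        _ = 2 := by norm_num
    have htop : Subgroup.center T = ⊤ := by
      apply Subgroup.eq_top_of_le_card
      rw [hZ]; exact hcard
    refine ⟨⟨fun a b => ?_⟩⟩
    have ha : a ∈ Subgroup.center T := by rw [htop]; trivial
    exact ((Subgroup.mem_center_iff.mp ha) b).symm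
  have hdvd : 2 ^ (k - 1) ∣ Nat.card T := by
    rw [hk]; exact pow_dvd_pow 2 (by omega)
  have hpow : 2 ^ k = 2 ^ (k - 1) * 2 := by
    have : k = (k - 1) + 1 := by omega
    conv_lhs => rw [this]
    exact pow_succ 2 (k - 1)
  have hidx : ∀ K : Subgroup T, Nat.card ↥K = 2 ^ (k - 1) → K.index = 2 := by
    intro K hK
    have h1 := Subgroup.card_mul_index K
    rw [hK, hk, hpow] at h1
    exact Nat.eq_of_mul_eq_mul_left (by positivity) h1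
  have hcenter : ∀ K : Subgroup T, Nat.card ↥K = 2 ^ (k - 1) → Subgroup.center T ≤ K := by
    intro K hK
    haveI : K.Normal := Subgroup.normal_of_index_eq_two (hidx K hK)
    have hKne : K ≠ ⊥ := by
      intro h
      rw [h, Subgroup.card_bot] at hK
      have : 2 ≤ 2 ^ (k - 1) := by
        calc 2 = 2 ^ 1 := by norm_num
          _ ≤ 2 ^ (k - 1) := Nat.pow_le_pow_right (by norm_num) (by omega)
      omega
    obtain ⟨z, hzK, hz1, hzc⟩ :=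
      Cfsg.Agent.Lib.Helper4.exists_ne_one_mem_center_of_normal h2 K hKne
    obtain ⟨w, -, hw⟩ := (Nat.card_eq_two_iff' (1 : ↥(Subgroup.center T))).mp hZ
    intro c hc
    by_cases hc1 : c = 1
    · rw [hc1]; exact K.one_mem
    · have e1 := hw ⟨c, hc⟩ (by intro h; exact hc1 (congrArg Subtype.val h))
      have e2 := hw ⟨z, hzc⟩ (by intro h; exact hz1 (congrArg Subtype.val h))
      have e3 : c = z := congrArg Subtype.val (e1.trans e2.symm)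
      rw [e3]; exact hzK
  obtain ⟨K₁, hK₁⟩ := Sylow.exists_subgroup_card_pow_prime 2 hdvd
  have hK₁top : K₁ ≠ ⊤ := by
    intro h
    have := hidx K₁ hK₁
    rw [h, Subgroup.index_top] at this
    omega
  obtain ⟨x, hx⟩ : ∃ x, x ∉ K₁ := by
    by_contra hcon
    push Not at hcon
    apply hK₁top
    rw [eq_top_iff]
    intro a _
    exact hcon a
  obtain ⟨n, hn⟩ := IsPGroup.iff_card.mp (h2.to_subgroup (Subgroup.zpowers x))
  have hnk : n ≤ k - 1 := by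
    have h1 : Nat.card ↥(Subgroup.zpowers x) ∣ Nat.card T := Subgroup.card_subgroup_dvd_card _
    rw [hn, hk] at h1
    have h2' : n ≤ k := (Nat.pow_dvd_pow_iff_le_right (by norm_num)).mp h1
    have h3 : n ≠ k := by
      intro h
      apply hT
      have htop : Subgroup.zpowers x = ⊤ := by
        apply Subgroup.eq_top_of_card_eq
        rw [hn, hk, h]
      haveI : IsCyclic T := isCyclic_iff_exists_zpowers_eq_top.mpr ⟨x, htop⟩
      exact IsCyclic.isMulCommutative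
    omega
  obtain ⟨K₂, hK₂, hxK₂⟩ :=
    Sylow.exists_subgroup_card_pow_prime_le 2 hdvd (Subgroup.zpowers x) hn hnk
  have hxK₂' : x ∈ K₂ := hxK₂ (Subgroup.mem_zpowers x)
  have hnle : ¬ K₁ ≤ K₂ := by
    intro hle
    have := Subgroup.eq_of_le_of_card_ge hle (by rw [hK₁, hK₂])
    rw [this] at hx
    exact hx hxK₂'
  obtain ⟨y, hy1, hy2⟩ := SetLike.not_le_iff_exists.mp hnle
  exact ⟨K₁, K₂, hidx K₁ hK₁, hidx K₂ hK₂, hcenter K₁ hK₁, hcenter K₂ hK₂,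
    ⟨x, hxK₂', hx⟩, ⟨y, hy1, hy2⟩⟩

/-- two "maximal" subgroups of a non-abelian subgroup `P` with centre of order 2, inside `S`. -/
theorem exists_two_max [Finite S] (h2 : IsPGroup 2 S) (P : Subgroup S)
    (hP : ¬ IsMulCommutative ↥P) (hZP : Nat.card ↥(Subgroup.center ↥P) = 2) :
    ∃ M₁ M₂ : Subgroup S, M₁ ≤ P ∧ M₂ ≤ P ∧ (∀ p ∈ P, p * p ∈ M₁) ∧ (∀ p ∈ P, p * p ∈ M₂) ∧
      (∀ c ∈ P, (∀ p ∈ P, c * p = p * c) → c ∈ M₁ ∧ c ∈ M₂) ∧
      (∃ x ∈ M₂, x ∉ M₁) ∧ (∃ y ∈ M₁, y ∉ M₂) := by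
  obtain ⟨K₁, K₂, hi1, hi2, hc1, hc2, ⟨x, hx2, hx1⟩, ⟨y, hy1, hy2⟩⟩ :=
    exists_two_max_aux (h2.to_subgroup P) hP hZP
  have hmem : ∀ (K : Subgroup ↥P) (a : ↥P), (a : S) ∈ K.map P.subtype ↔ a ∈ K := by
    intro K a
    constructor
    · rintro ⟨b, hb, hba⟩
      have : b = a := Subtype.ext hba
      rw [← this]; exact hb
    · intro h; exact ⟨a, h, rfl⟩
  refine ⟨K₁.map P.subtype, K₂.map P.subtype, Subgroup.map_subtype_le _,
    Subgroup.map_subtype_le _, ?_, ?_, ?_, ?_, ?_⟩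
  · intro p hp
    have := Subgroup.sq_mem_of_index_two hi1 (⟨p, hp⟩ : ↥P)
    rw [pow_two] at this
    exact (hmem K₁ (⟨p, hp⟩ * ⟨p, hp⟩)).mpr this
  · intro p hp
    have := Subgroup.sq_mem_of_index_two hi2 (⟨p, hp⟩ : ↥P)
    rw [pow_two] at this
    exact (hmem K₂ (⟨p, hp⟩ * ⟨p, hp⟩)).mpr this
  · intro c hc hcomm
    have hcc : (⟨c, hc⟩ : ↥P) ∈ Subgroup.center ↥P := by
      rw [Subgroup.mem_center_iff]
      intro g
      apply Subtype.ext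
      exact (hcomm g g.2).symm
    exact ⟨(hmem K₁ ⟨c, hc⟩).mpr (hc1 hcc), (hmem K₂ ⟨c, hc⟩).mpr (hc2 hcc)⟩
  · exact ⟨x, (hmem K₂ x).mpr hx2, fun h => hx1 ((hmem K₁ x).mp h)⟩
  · exact ⟨y, (hmem K₁ y).mpr hy1, fun h => hy2 ((hmem K₂ y).mp h)⟩


theorem center_gen (P : Subgroup S) (hZP : Nat.card ↥(Subgroup.center ↥P) = 2) :
    ∃ z ∈ P, z ≠ 1 ∧ (∀ p ∈ P, z * p = p * z) ∧
      (∀ c ∈ P, (∀ p ∈ P, c * p = p * c) → c = 1 ∨ c = z) ∧
      (∀ c, c ∈ (Subgroup.center ↥P).map P.subtype ↔ c = 1 ∨ c = z) := by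
  obtain ⟨w, hw1, hwu⟩ := (Nat.card_eq_two_iff' (1 : ↥(Subgroup.center ↥P))).mp hZP
  have hzc : ∀ p ∈ P, ((w : ↥P) : S) * p = p * ((w : ↥P) : S) := by
    intro p hp
    have := Subgroup.mem_center_iff.mp w.2 ⟨p, hp⟩
    exact (congrArg Subtype.val this).symm
  have hu : ∀ c ∈ P, (∀ p ∈ P, c * p = p * c) → c = 1 ∨ c = ((w : ↥P) : S) := by
    intro c hc hcomm
    by_cases hc1 : c = 1
    · exact Or.inl hc1
    · right
      have hcc : (⟨c, hc⟩ : ↥P) ∈ Subgroup.center ↥P := by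
        rw [Subgroup.mem_center_iff]
        intro g
        apply Subtype.ext
        exact (hcomm g g.2).symm
      have := hwu ⟨⟨c, hc⟩, hcc⟩ (by
        intro h
        apply hc1
        exact congrArg (fun t : ↥(Subgroup.center ↥P) => ((t : ↥P) : S)) h)
      exact congrArg (fun t : ↥(Subgroup.center ↥P) => ((t : ↥P) : S)) this
  refine ⟨((w : ↥P) : S), (w : ↥P).2, ?_, hzc, hu, ?_⟩
  · intro h
    apply hw1
    apply Subtype.ext
    apply Subtype.ext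
    exact h
  · intro c
    constructor
    · rintro ⟨c', hc', rfl⟩
      apply hu _ c'.2
      intro p hp
      have := Subgroup.mem_center_iff.mp hc' ⟨p, hp⟩
      exact (congrArg Subtype.val this).symm
    · rintro (h | h)
      · rw [h]; exact Subgroup.one_mem _
      · rw [h]; exact ⟨(w : ↥P), w.2, rfl⟩

theorem dedekind (A B M : Subgroup S) (c : S) (hM : M ≤ A)
    (hAB : ∀ a ∈ A, ∀ b ∈ B, a * b = b * a) (hAc : ∀ a ∈ A, a * c = c * a)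
    (hBc : ∀ b ∈ B, b * c = c * b)
    (hcen : ∀ u ∈ A, (∀ a ∈ A, u * a = a * u) → u ∈ M) (x : S) (hxA : x ∈ A)
    (hxK : x ∈ M ⊔ B ⊔ Subgroup.zpowers c) : x ∈ M := by
  obtain ⟨m, hm, b, hb, i, rfl⟩ := (mem_sup3 M B c (fun a ha b hb => hAB a (hM ha) b hb)
    (fun a ha => hAc a (hM ha)) hBc x).mp hxK
  have huA : b * c ^ i ∈ A := by
    have e1 : b * c ^ i = m⁻¹ * (m * b * c ^ i) := by group
    rw [e1]; exact A.mul_mem (A.inv_mem (hM hm)) hxA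
  have hucomm : ∀ a ∈ A, (b * c ^ i) * a = a * (b * c ^ i) := by
    intro a ha
    have h1 : c ^ i * a = a * c ^ i := ((show Commute a c from hAc a ha).zpow_right i).symm
    have h2 : b * a = a * b := (hAB a ha b hb).symm
    calc (b * c ^ i) * a = b * (c ^ i * a) := by group
      _ = b * (a * c ^ i) := by rw [h1]
      _ = (b * a) * c ^ i := by group
      _ = (a * b) * c ^ i := by rw [h2]
      _ = a * (b * c ^ i) := by group
  have := hcen _ huA hucomm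
  have e2 : m * b * c ^ i = m * (b * c ^ i) := by group
  rw [e2]; exact M.mul_mem hm this

theorem main4400 [Finite S] (h2 : IsPGroup 2 S) (hr : Cfsg.SectionalPRankLE 2 4 S)
    (P Q : Subgroup S) [hPn : P.Normal] [hQn : Q.Normal] (hP : ¬ IsMulCommutative ↥P)
    (hQ : ¬ IsMulCommutative ↥Q)
    (hZP : Nat.card ↥(Subgroup.center ↥P) = 2) (hZQ : Nat.card ↥(Subgroup.center ↥Q) = 2)
    (hne : (Subgroup.center ↥P).map P.subtype ≠ (Subgroup.center ↥Q).map Q.subtype) :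
    ⁅P, Q⁆ = ⊥ ∧ P ⊓ Q = ⊥ ∧ Subgroup.centralizer ((P ⊔ Q : Subgroup S) : Set S) ≤ P ⊔ Q := by
  classical
  haveI : Fact (Nat.Prime 2) := ⟨Nat.prime_two⟩
  obtain ⟨zP, hzPP, hzP1, hzPc, hzPu, hzPm⟩ := center_gen P hZP
  obtain ⟨zQ, hzQQ, hzQ1, hzQc, hzQu, hzQm⟩ := center_gen Q hZQ
  have hzne : zP ≠ zQ := by
    intro h
    apply hne
    ext c
    rw [hzPm, hzQm, h]
  have hPQ : P ⊓ Q = ⊥ := by
    by_contra hcon
    haveI : (P ⊓ Q).Normal := Subgroup.normal_inf_normal P Q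
    obtain ⟨x, hx, hx1, hxc⟩ :=
      Cfsg.Agent.Lib.Helper4.exists_ne_one_mem_center_of_normal h2 (P ⊓ Q) hcon
    rw [Subgroup.mem_center_iff] at hxc
    rw [Subgroup.mem_inf] at hx
    have e1 : x = zP := by
      rcases hzPu x hx.1 (fun p _ => (hxc p).symm) with h | h
      · exact absurd h hx1
      · exact h
    have e2 : x = zQ := by
      rcases hzQu x hx.2 (fun p _ => (hxc p).symm) with h | h
      · exact absurd h hx1
      · exact h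
    exact hzne (e1.symm.trans e2)
  have hcomm : ∀ p ∈ P, ∀ q ∈ Q, p * q = q * p := by
    intro p hp q hq
    have h1 : p * q * p⁻¹ * q⁻¹ ∈ P ⊓ Q := by
      rw [Subgroup.mem_inf]
      constructor
      · have e1 : p * q * p⁻¹ * q⁻¹ = p * (q * p⁻¹ * q⁻¹) := by group
        rw [e1]; exact P.mul_mem hp (hPn.conj_mem _ (P.inv_mem hp) q)
      · exact Q.mul_mem (hQn.conj_mem q hq p) (Q.inv_mem hq)
    rw [hPQ, Subgroup.mem_bot] at h1
    calc p * q = (p * q * p⁻¹ * q⁻¹) * (q * p) := by group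
      _ = q * p := by rw [h1, one_mul]
  have hcommPQ : ⁅P, Q⁆ = ⊥ := by
    rw [eq_bot_iff, ← hPQ]; exact Subgroup.commutator_le_inf P Q
  refine ⟨hcommPQ, hPQ, ?_⟩
  by_contra hcon
  obtain ⟨c₀, hc₀C, hc₀⟩ := SetLike.not_le_iff_exists.mp hcon
  obtain ⟨c, hcC, hcn, hcsq⟩ : ∃ c, c ∈ Subgroup.centralizer ((P ⊔ Q : Subgroup S) : Set S) ∧
      c ∉ P ⊔ Q ∧ c * c ∈ P ⊔ Q := by
    obtain ⟨k, hk⟩ := h2 c₀
    have hex : ∃ k, c₀ ^ 2 ^ k ∈ P ⊔ Q := ⟨k, by rw [hk]; exact Subgroup.one_mem _⟩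
    obtain ⟨k₀, hk₀, hmin⟩ : ∃ k₀, c₀ ^ 2 ^ k₀ ∈ P ⊔ Q ∧ ∀ j < k₀, c₀ ^ 2 ^ j ∉ P ⊔ Q :=
      ⟨Nat.find hex, Nat.find_spec hex, fun j hj => Nat.find_min hex hj⟩
    have hk₀pos : k₀ ≠ 0 := by
      intro h
      rw [h, pow_zero, pow_one] at hk₀
      exact hc₀ hk₀
    refine ⟨c₀ ^ 2 ^ (k₀ - 1), Subgroup.pow_mem _ hc₀C _, hmin (k₀ - 1) (by omega), ?_⟩
    have e1 : c₀ ^ 2 ^ (k₀ - 1) * c₀ ^ 2 ^ (k₀ - 1) = c₀ ^ 2 ^ k₀ := by
      rw [← pow_add, ← two_mul, ← pow_succ']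
      congr 2; omega
    rw [e1]; exact hk₀
  rw [Subgroup.mem_centralizer_iff] at hcC
  have hcP : ∀ p ∈ P, p * c = c * p := fun p hp => hcC p ((le_sup_left : P ≤ P ⊔ Q) hp)
  have hcQ : ∀ q ∈ Q, q * c = c * q := fun q hq => hcC q ((le_sup_right : Q ≤ P ⊔ Q) hq)
  obtain ⟨M₁, M₂, hM₁P, hM₂P, hsq₁, hsq₂, hcen, ⟨x₁, hx₁M₂, hx₁M₁⟩, ⟨x₂, hx₂M₁, hx₂M₂⟩⟩ :=
    exists_two_max h2 P hP hZP
  obtain ⟨M₁', M₂', hM₁Q, hM₂Q, hsq₁', hsq₂', hcen', ⟨x₃, hx₃M₂, hx₃M₁⟩,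
    ⟨x₄, hx₄M₁, hx₄M₂⟩⟩ := exists_two_max h2 Q hQ hZQ
  obtain ⟨H, hH⟩ : ∃ H : Subgroup S, H = P ⊔ Q ⊔ Subgroup.zpowers c := ⟨_, rfl⟩
  have hPH : P ≤ H := by rw [hH]; exact le_sup_left.trans le_sup_left
  have hQH : Q ≤ H := by rw [hH]; exact le_sup_right.trans le_sup_left
  have hcZH : Subgroup.zpowers c ≤ H := by rw [hH]; exact le_sup_right
  have hcH : c ∈ H := hcZH (Subgroup.mem_zpowers c)
  have hHmem : ∀ h ∈ H, ∃ p ∈ P, ∃ q ∈ Q, ∃ i : ℤ, h = p * q * c ^ i := by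
    intro h hh; rw [hH] at hh; exact (mem_sup3 P Q c hcomm hcP hcQ h).mp hh
  have hci : ∀ (a : S), a * c = c * a → ∀ i : ℤ, a * c ^ i = c ^ i * a :=
    fun a ha i => (show Commute a c from ha).zpow_right i
  have hsqK : ∀ (A B : Subgroup S), (∀ p ∈ P, p * p ∈ A) → (∀ q ∈ Q, q * q ∈ B) →
      ∀ h ∈ H, h * h ∈ A ⊔ B ⊔ Subgroup.zpowers c := by
    intro A B hA hB h hh
    obtain ⟨p, hp, q, hq, i, rfl⟩ := hHmem h hh
    rw [sq3 (hcomm p hp q hq) (hci p (hcP p hp) i) (hci q (hcQ q hq) i)]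
    apply Subgroup.mul_mem
    · apply Subgroup.mul_mem
      · exact (le_sup_left : A ⊔ B ≤ A ⊔ B ⊔ Subgroup.zpowers c)
          ((le_sup_left : A ≤ A ⊔ B) (hA p hp))
      · exact (le_sup_left : A ⊔ B ≤ A ⊔ B ⊔ Subgroup.zpowers c)
          ((le_sup_right : B ≤ A ⊔ B) (hB q hq))
    · exact (le_sup_right : Subgroup.zpowers c ≤ A ⊔ B ⊔ Subgroup.zpowers c)
        (Subgroup.mul_mem _ (Subgroup.zpow_mem_zpowers c i) (Subgroup.zpow_mem_zpowers c i))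
  obtain ⟨K₁, hK₁⟩ : ∃ K : Subgroup S, K = M₁ ⊔ Q ⊔ Subgroup.zpowers c := ⟨_, rfl⟩
  obtain ⟨K₂, hK₂⟩ : ∃ K : Subgroup S, K = M₂ ⊔ Q ⊔ Subgroup.zpowers c := ⟨_, rfl⟩
  obtain ⟨K₃, hK₃⟩ : ∃ K : Subgroup S, K = P ⊔ M₁' ⊔ Subgroup.zpowers c := ⟨_, rfl⟩
  obtain ⟨K₄, hK₄⟩ : ∃ K : Subgroup S, K = P ⊔ M₂' ⊔ Subgroup.zpowers c := ⟨_, rfl⟩
  obtain ⟨K₅, hK₅⟩ : ∃ K : Subgroup S, K = P ⊔ Q := ⟨_, rfl⟩
  have hK₁H : K₁ ≤ H := by
    rw [hK₁]; exact sup_le (sup_le (hM₁P.trans hPH) hQH) hcZH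
  have hK₂H : K₂ ≤ H := by
    rw [hK₂]; exact sup_le (sup_le (hM₂P.trans hPH) hQH) hcZH
  have hK₃H : K₃ ≤ H := by
    rw [hK₃]; exact sup_le (sup_le hPH (hM₁Q.trans hQH)) hcZH
  have hK₄H : K₄ ≤ H := by
    rw [hK₄]; exact sup_le (sup_le hPH (hM₂Q.trans hQH)) hcZH
  have hK₅H : K₅ ≤ H := by
    rw [hK₅]; exact sup_le hPH hQH
  have hsqK₁ : ∀ h ∈ H, h * h ∈ K₁ := by
    rw [hK₁]; exact hsqK M₁ Q hsq₁ (fun q hq => Q.mul_mem hq hq)
  have hsqK₂ : ∀ h ∈ H, h * h ∈ K₂ := by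
    rw [hK₂]; exact hsqK M₂ Q hsq₂ (fun q hq => Q.mul_mem hq hq)
  have hsqK₃ : ∀ h ∈ H, h * h ∈ K₃ := by
    rw [hK₃]; exact hsqK P M₁' (fun p hp => P.mul_mem hp hp) hsq₁'
  have hsqK₄ : ∀ h ∈ H, h * h ∈ K₄ := by
    rw [hK₄]; exact hsqK P M₂' (fun p hp => P.mul_mem hp hp) hsq₂'
  have hsqK₅ : ∀ h ∈ H, h * h ∈ K₅ := by
    intro h hh
    obtain ⟨p, hp, q, hq, i, rfl⟩ := hHmem h hh
    rw [sq3 (hcomm p hp q hq) (hci p (hcP p hp) i) (hci q (hcQ q hq) i), hK₅]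
    have e1 : c ^ i * c ^ i = (c * c) ^ i := by
      rw [← zpow_add, ← two_mul, zpow_mul, zpow_two]
    rw [e1]
    apply Subgroup.mul_mem
    · apply Subgroup.mul_mem
      · exact (le_sup_left : P ≤ P ⊔ Q) (P.mul_mem hp hp)
      · exact (le_sup_right : Q ≤ P ⊔ Q) (Q.mul_mem hq hq)
    · exact Subgroup.zpow_mem _ hcsq i
  -- memberships of witnesses
  have hcK₁ : c ∈ K₁ := by
    rw [hK₁]; exact (le_sup_right : Subgroup.zpowers c ≤ _) (Subgroup.mem_zpowers c)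
  have hcK₂ : c ∈ K₂ := by
    rw [hK₂]; exact (le_sup_right : Subgroup.zpowers c ≤ _) (Subgroup.mem_zpowers c)
  have hcK₃ : c ∈ K₃ := by
    rw [hK₃]; exact (le_sup_right : Subgroup.zpowers c ≤ _) (Subgroup.mem_zpowers c)
  have hcK₄ : c ∈ K₄ := by
    rw [hK₄]; exact (le_sup_right : Subgroup.zpowers c ≤ _) (Subgroup.mem_zpowers c)
  have hQK₁ : Q ≤ K₁ := by
    rw [hK₁]; exact le_sup_right.trans le_sup_left
  have hQK₂ : Q ≤ K₂ := by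
    rw [hK₂]; exact le_sup_right.trans le_sup_left
  have hM₁K₁ : M₁ ≤ K₁ := by
    rw [hK₁]; exact le_sup_left.trans le_sup_left
  have hM₁'K₃ : M₁' ≤ K₃ := by
    rw [hK₃]; exact le_sup_right.trans le_sup_left
  have hx₁H : x₁ ∈ H := hPH (hM₂P hx₁M₂)
  have hx₁K₁ : x₁ ∉ K₁ := by
    intro h
    rw [hK₁] at h
    exact hx₁M₁ (dedekind P Q M₁ c hM₁P hcomm hcP hcQ (fun u hu hc => (hcen u hu hc).1)
      x₁ (hM₂P hx₁M₂) h)
  have hx₂K₂ : x₂ ∉ K₂ := by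
    intro h
    rw [hK₂] at h
    exact hx₂M₂ (dedekind P Q M₂ c hM₂P hcomm hcP hcQ (fun u hu hc => (hcen u hu hc).2)
      x₂ (hM₁P hx₂M₁) h)
  have hcomm' : ∀ q ∈ Q, ∀ p ∈ P, q * p = p * q := fun q hq p hp => (hcomm p hp q hq).symm
  have hx₃K₃ : x₃ ∉ K₃ := by
    intro h
    rw [hK₃, sup_comm P M₁'] at h
    exact hx₃M₁ (dedekind Q P M₁' c hM₁Q hcomm' hcQ hcP (fun u hu hc => (hcen' u hu hc).1)
      x₃ (hM₂Q hx₃M₂) h)
  have hx₄K₄ : x₄ ∉ K₄ := by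
    intro h
    rw [hK₄, sup_comm P M₂'] at h
    exact hx₄M₂ (dedekind Q P M₂' c hM₂Q hcomm' hcQ hcP (fun u hu hc => (hcen' u hu hc).2)
      x₄ (hM₁Q hx₄M₁) h)
  have hcK₅ : c ∉ K₅ := by rw [hK₅]; exact hcn
  -- the chain
  have hc1 : 2 * Nat.card ↥K₁ ≤ Nat.card ↥H := card_two_mul_le hK₁H x₁ hx₁H hx₁K₁
  have hc2 : 2 * Nat.card ↥(K₁ ⊓ K₂) ≤ Nat.card ↥K₁ :=
    card_two_mul_le inf_le_left x₂ (hM₁K₁ hx₂M₁) (fun h => hx₂K₂ (Subgroup.mem_inf.mp h).2)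
  have hx₃Q : x₃ ∈ Q := hM₂Q hx₃M₂
  have hx₄Q : x₄ ∈ Q := hM₁Q hx₄M₁
  have hc3 : 2 * Nat.card ↥(K₁ ⊓ K₂ ⊓ K₃) ≤ Nat.card ↥(K₁ ⊓ K₂) :=
    card_two_mul_le inf_le_left x₃ (Subgroup.mem_inf.mpr ⟨hQK₁ hx₃Q, hQK₂ hx₃Q⟩)
      (fun h => hx₃K₃ (Subgroup.mem_inf.mp h).2)
  have hc4 : 2 * Nat.card ↥(K₁ ⊓ K₂ ⊓ K₃ ⊓ K₄) ≤ Nat.card ↥(K₁ ⊓ K₂ ⊓ K₃) :=
    card_two_mul_le inf_le_left x₄
      (Subgroup.mem_inf.mpr ⟨Subgroup.mem_inf.mpr ⟨hQK₁ hx₄Q, hQK₂ hx₄Q⟩, hM₁'K₃ hx₄M₁⟩)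
      (fun h => hx₄K₄ (Subgroup.mem_inf.mp h).2)
  have hc5 : 2 * Nat.card ↥(K₁ ⊓ K₂ ⊓ K₃ ⊓ K₄ ⊓ K₅) ≤ Nat.card ↥(K₁ ⊓ K₂ ⊓ K₃ ⊓ K₄) :=
    card_two_mul_le inf_le_left c
      (Subgroup.mem_inf.mpr ⟨Subgroup.mem_inf.mpr ⟨Subgroup.mem_inf.mpr ⟨hcK₁, hcK₂⟩, hcK₃⟩,
        hcK₄⟩)
      (fun h => hcK₅ (Subgroup.mem_inf.mp h).2)
  obtain ⟨L, hL⟩ : ∃ L : Subgroup S, L = K₁ ⊓ K₂ ⊓ K₃ ⊓ K₄ ⊓ K₅ := ⟨_, rfl⟩
  rw [← hL] at hc5
  have hcount : 32 * Nat.card ↥L ≤ Nat.card ↥H := by omega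
  have hLH : L ≤ H := by
    rw [hL]
    exact (inf_le_right : K₁ ⊓ K₂ ⊓ K₃ ⊓ K₄ ⊓ K₅ ≤ K₅).trans hK₅H
  have hsqL : ∀ h ∈ H, h * h ∈ L := by
    intro h hh
    rw [hL]
    exact Subgroup.mem_inf.mpr ⟨Subgroup.mem_inf.mpr ⟨Subgroup.mem_inf.mpr
      ⟨Subgroup.mem_inf.mpr ⟨hsqK₁ h hh, hsqK₂ h hh⟩, hsqK₃ h hh⟩, hsqK₄ h hh⟩, hsqK₅ h hh⟩
  -- the section
  have hNn : (L.subgroupOf H).Normal := by
    constructor
    intro n hn h
    rw [Subgroup.mem_subgroupOf] at hn ⊢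
    have h1 : (h : S) * n * (h : S)⁻¹ * (n : S)⁻¹ ∈ L := comm_mem_of_sq hsqL h.2 n.2
    have e1 : ((h * n * h⁻¹ : ↥H) : S) = ((h : S) * n * (h : S)⁻¹ * (n : S)⁻¹) * n := by
      show (h : S) * n * (h : S)⁻¹ = _
      group
    rw [e1]
    exact L.mul_mem h1 hn
  haveI := hNn
  have hrk := hr H (L.subgroupOf H)
  have hmk : ∀ a : ↥H ⧸ L.subgroupOf H, ∃ h : ↥H, (QuotientGroup.mk h : ↥H ⧸ L.subgroupOf H) = a :=
    fun a => QuotientGroup.mk_surjective a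
  have hexp : ∀ a : ↥H ⧸ L.subgroupOf H, a * a = 1 := by
    intro a
    obtain ⟨h, rfl⟩ := hmk a
    rw [← QuotientGroup.mk_mul, QuotientGroup.eq_one_iff, Subgroup.mem_subgroupOf]
    exact hsqL h h.2
  have hab : ∀ a b : ↥H ⧸ L.subgroupOf H, a * b = b * a := by
    intro a b
    have h1 := hexp (a * b)
    have h2 := hexp a
    have h3 := hexp b
    calc a * b = a * ((a * b) * (a * b)) * b := by rw [h1, mul_one]
      _ = (a * a) * (b * a) * (b * b) := by group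
      _ = b * a := by rw [h2, h3, one_mul, mul_one]
  have hA1 : IsMulCommutative ↥(⊤ : Subgroup (↥H ⧸ L.subgroupOf H)) :=
    ⟨⟨fun a b => Subtype.ext (hab a b)⟩⟩
  have hA2 : ∀ a ∈ (⊤ : Subgroup (↥H ⧸ L.subgroupOf H)), a ^ 2 = 1 := by
    intro a _
    rw [pow_two]; exact hexp a
  have hbound := hrk ⊤ hA1 hA2
  rw [Subgroup.card_top, ← Subgroup.index_eq_card] at hbound
  have hidx := Subgroup.card_mul_index (L.subgroupOf H)
  have hcardL : Nat.card ↥(L.subgroupOf H) = Nat.card ↥L :=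
    Nat.card_congr (Subgroup.subgroupOfEquivOfLe hLH).toEquiv
  rw [hcardL] at hidx
  have hLpos : 0 < Nat.card ↥L := Nat.card_pos
  have h16 : (L.subgroupOf H).index ≤ 16 := by
    calc (L.subgroupOf H).index ≤ 2 ^ 4 := hbound
      _ = 16 := by norm_num
  have : Nat.card ↥L * (L.subgroupOf H).index ≤ Nat.card ↥L * 16 :=
    Nat.mul_le_mul_left _ h16
  omega

/-- Let S be a finite 2-group of sectional 2-rank at most 4, and let P and Q be normal non-abelian subgroups of S whose centres have order 2 and are different. Then P and Q commute elementwise and intersect trivially, and PQ contains its own centralizer in S. -/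
theorem result {S : Type*} [Group S] [Finite S] (h2 : IsPGroup 2 S) (hr : Cfsg.SectionalPRankLE 2 4 S)
    (P Q : Subgroup S) [P.Normal] [Q.Normal] (hP : ¬ IsMulCommutative ↥P) (hQ : ¬ IsMulCommutative ↥Q)
    (hZP : Nat.card ↥(Subgroup.center ↥P) = 2) (hZQ : Nat.card ↥(Subgroup.center ↥Q) = 2)
    (hne : (Subgroup.center ↥P).map P.subtype ≠ (Subgroup.center ↥Q).map Q.subtype) :
    ⁅P, Q⁆ = ⊥ ∧ P ⊓ Q = ⊥ ∧ Subgroup.centralizer ((P ⊔ Q : Subgroup S) : Set S) ≤ P ⊔ Q := by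
  exact main4400 h2 hr P Q hP hQ hZP hZQ hne

end Cfsg.Agent.S4400
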