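import Mathlib
import Cfsg.Statements.S4403
import Cfsg.Agent.Lib.Helper7.CycSylow
import Cfsg.Agent.Lib.Helper7.CyclicMem
import Cfsg.Agent.Lib.Helper7.SylowBasic
import Cfsg.Agent.Lib.Helper7.SylowQuot
import Cfsg.Agent.Lib.Helper3.Subn
import Cfsg.Agent.Lib.Helper3.Layer
import Cfsg.Agent.S1325

set_option autoImplicit false
set_option maxHeartbeats 800000
open Cfsg
open scoped commutatorElement

namespace Cfsg.Agent.S4403

open Cfsg.Agent.Lib.Helper7 Cfsg.Agent.Lib.Helper7.CycSylow Cfsg.Agent.Lib.Helper3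

/-- a subgroup `T` normal in a normal subgroup `C`, of order prime to `p`, is trivial when
`O_{p'}(K) = 1` -/
theorem eq_bot_of_subnormal {K : Type*} [Group K] [Finite K] (p : ℕ) [Fact p.Prime]
    (hO : Cfsg.pPrimeCore p K = ⊥) (C : Subgroup K) [hC : C.Normal] (T : Subgroup ↥C) (hT : T.Normal)
    (hcop : (Nat.card T).Coprime p) : T = ⊥ := by
  have h1 : (T.map C.subtype).IsSubnormal := by
    have hTs : T.IsSubnormal := Subgroup.Normal.isSubnormal hT
    have hCs : C.IsSubnormal := Subgroup.Normal.isSubnormal hC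
    exact Subgroup.IsSubnormal.trans' hTs hCs
  have h2 : (Nat.card ↥(T.map C.subtype)).Coprime p := by
    rw [Nat.card_congr (T.equivMapOfInjective C.subtype C.subtype_injective).symm.toEquiv]
    exact hcop
  have h3 := subnormal_pprime_le_pPrimeCore p h1 h2
  rw [hO, le_bot_iff] at h3
  exact (Subgroup.map_eq_bot_iff_of_injective T C.subtype_injective).mp h3


theorem case_normal {K : Type*} [Group K] [Finite K] (p : ℕ) [hp : Fact p.Prime]
    (hO : Cfsg.pPrimeCore p K = ⊥) (P : Sylow p K) (hP : IsCyclic ↥(P : Subgroup K))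
    (A : Subgroup K) (hAn : A.Normal) (hAp : IsPGroup p A) (hA1 : A ≠ ⊥) :
    (P : Subgroup K).Normal ∧ Subgroup.centralizer ((P : Subgroup K) : Set K) = (P : Subgroup K) ∧
      (∀ (_ : (P : Subgroup K).Normal), IsCyclic (K ⧸ (P : Subgroup K))) ∧
      (P : Subgroup K).index ∣ p - 1 := by
  have hAP : A ≤ (P : Subgroup K) := by
    have h1 : IsPGroup p (A ⊔ (P : Subgroup K) : Subgroup K) :=
      IsPGroup.to_sup_of_normal_left hAp P.2
    have h2 := P.is_maximal' h1 le_sup_right
    rw [← h2]; exact le_sup_left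
  -- an element of order p in A
  have hpA : p ∣ Nat.card A := by
    obtain ⟨n, hn⟩ := IsPGroup.iff_card.mp hAp
    rcases Nat.eq_zero_or_pos n with rfl | hn0
    · exfalso; apply hA1
      rw [pow_zero] at hn
      exact Subgroup.eq_bot_of_card_eq A hn
    · rw [hn]; exact dvd_pow_self p hn0.ne'
  obtain ⟨z0, hz0⟩ := exists_prime_orderOf_dvd_card' p hpA
  set z : K := (z0 : K) with hz
  have hoz : orderOf z = p := by rw [hz, Subgroup.orderOf_coe]; exact hz0
  have hzA : z ∈ A := z0.2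
  have hzP : z ∈ (P : Subgroup K) := hAP hzA
  have hz1 : z ≠ 1 := by
    intro h
    rw [h, orderOf_one] at hoz
    exact hp.out.one_lt.ne hoz
  set Z : Subgroup K := Subgroup.zpowers z with hZ
  have hcomm : ∀ a ∈ (P : Subgroup K), ∀ b ∈ (P : Subgroup K), a * b = b * a := by
    intro a ha b hb
    haveI := hP
    have := (IsCyclic.commutative (α := ↥(P : Subgroup K))).is_comm.comm ⟨a, ha⟩ ⟨b, hb⟩
    exact congrArg Subtype.val this
  -- conjugates of z lie in Z
  have hconjz : ∀ g : K, g * z * g⁻¹ ∈ Z := by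
    intro g
    have h1 : g * z * g⁻¹ ∈ (P : Subgroup K) := hAP (hAn.conj_mem z hzA g)
    haveI := hP
    have h2 : orderOf (⟨g * z * g⁻¹, h1⟩ : ↥(P : Subgroup K)) ∣ orderOf (⟨z, hzP⟩ : ↥(P : Subgroup K)) := by
      rw [← Subgroup.orderOf_coe, ← Subgroup.orderOf_coe]
      show orderOf (g * z * g⁻¹) ∣ orderOf z
      rw [orderOf_conj_eq]
    have h3 := mem_zpowers_of_orderOf_dvd_of_isCyclic _ _ h2
    obtain ⟨i, hi⟩ := Subgroup.mem_zpowers_iff.mp h3
    rw [hZ, Subgroup.mem_zpowers_iff]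
    refine ⟨i, ?_⟩
    have := congrArg Subtype.val hi
    simpa using this
  have hZn : Z.Normal := by
    constructor
    intro x hx g
    obtain ⟨i, rfl⟩ := Subgroup.mem_zpowers_iff.mp hx
    have : g * z ^ i * g⁻¹ = (g * z * g⁻¹) ^ i := by
      rw [conj_zpow]
    rw [this]
    exact Subgroup.zpow_mem _ (hconjz g) i
  set C : Subgroup K := Subgroup.centralizer (Z : Set K) with hC
  haveI hCn : C.Normal := by rw [hC]; infer_instance
  have hmemC : ∀ g : K, g ∈ C ↔ g * z = z * g := by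
    intro g
    rw [hC, Subgroup.mem_centralizer_iff]
    constructor
    · intro h
      exact (h z (Subgroup.mem_zpowers z)).symm
    · intro h x hx
      obtain ⟨i, rfl⟩ := Subgroup.mem_zpowers_iff.mp hx
      exact ((Commute.zpow_right (show Commute g z from h) i)).eq.symm
  have hPC : (P : Subgroup K) ≤ C := by
    intro x hx
    rw [hmemC]
    exact hcomm x hx z hzP
  -- C = P
  have hCP : C = (P : Subgroup K) := by
    set PC : Sylow p ↥C := P.subtype hPC with hPCdef
    have hPCcoe : (PC : Subgroup ↥C) = (P : Subgroup K).subgroupOf C := rfl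
    have hcyc : IsCyclic ↥(PC : Subgroup ↥C) := by
      rw [hPCcoe]
      have e : ↥((P : Subgroup K).subgroupOf C) ≃* ↥(P : Subgroup K) :=
        Subgroup.subgroupOfEquivOfLe hPC
      exact (MulEquiv.isCyclic e).mpr hP
    rcases complement_or_fpf PC hcyc with ⟨T, hTn, hTcop, hTcard⟩ | ⟨h, hhN, hh⟩
    · have hT := eq_bot_of_subnormal p hO C T hTn hTcop
      rw [hT, Subgroup.card_bot, one_mul] at hTcard
      have h1 : Nat.card (PC : Subgroup ↥C) = Nat.card (P : Subgroup K) := by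
        rw [hPCcoe]; exact Nat.card_congr (Subgroup.subgroupOfEquivOfLe hPC).toEquiv
      rw [h1] at hTcard
      exact (Subgroup.eq_of_le_of_card_ge hPC hTcard.ge).symm
    · exfalso
      have hzC : z ∈ C := hPC hzP
      have h2 := hh ⟨z, hzC⟩ (by rw [hPCcoe, Subgroup.mem_subgroupOf]; exact hzP)
        (by
          apply Subtype.ext
          show (h : K) * z = z * (h : K)
          exact (hmemC _).mp h.2)
      apply hz1
      exact congrArg Subtype.val h2
  have hPn : (P : Subgroup K).Normal := by rw [← hCP]; exact hCn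
  have hcentP : Subgroup.centralizer ((P : Subgroup K) : Set K) = (P : Subgroup K) := by
    apply le_antisymm
    · intro x hx
      rw [← hCP, hmemC]
      rw [Subgroup.mem_centralizer_iff] at hx
      exact (hx z hzP).symm
    · intro x hx
      rw [Subgroup.mem_centralizer_iff]
      intro y hy
      exact hcomm y hy x hx
  refine ⟨hPn, hcentP, ?_⟩
  -- the conjugation action on Z
  haveI := hZn
  set φ : K →* MulAut ↥Z := MulAut.conjNormal with hφ
  have hker : φ.ker = (P : Subgroup K) := by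
    rw [← hCP]
    ext g
    rw [MonoidHom.mem_ker, hmemC]
    constructor
    · intro h
      have h1 := congrArg (fun f : MulAut ↥Z => ((f ⟨z, Subgroup.mem_zpowers z⟩ : ↥Z) : K)) h
      simp only [hφ, MulAut.conjNormal_apply, MulAut.one_apply] at h1
      calc g * z = (g * z * g⁻¹) * g := by group
        _ = z * g := by rw [h1]
    · intro h
      ext x
      rw [hφ, MulAut.conjNormal_apply, MulAut.one_apply]
      obtain ⟨i, hi⟩ := Subgroup.mem_zpowers_iff.mp x.2
      rw [← hi]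
      have := (Commute.zpow_right (show Commute g z from h) i).eq
      rw [this]; group
  have hZcyc : IsCyclic ↥Z := by rw [hZ]; infer_instance
  have hcardZ : Nat.card ↥Z = p := by rw [hZ, Nat.card_zpowers, hoz]
  haveI : Fact (Nat.card ↥Z).Prime := ⟨by rw [hcardZ]; exact hp.out⟩
  have hAutCyc : IsCyclic (MulAut ↥Z) :=
    (MulEquiv.isCyclic (IsCyclic.mulAutMulEquiv ↥Z)).mpr inferInstance
  have hAutCard : Nat.card (MulAut ↥Z) = p - 1 := by
    rw [IsCyclic.card_mulAut, hcardZ, Nat.totient_prime hp.out]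
  have e2 : K ⧸ φ.ker ≃* φ.range := QuotientGroup.quotientKerEquivRange φ
  have hrc : IsCyclic ↥φ.range := by haveI := hAutCyc; infer_instance
  constructor
  · intro hn
    have e1 : K ⧸ (P : Subgroup K) ≃* K ⧸ φ.ker := QuotientGroup.quotientMulEquivOfEq hker.symm
    exact (MulEquiv.isCyclic (e1.trans e2)).mpr hrc
  · have h1 : (P : Subgroup K).index = Nat.card ↥φ.range := by
      rw [← hker, Subgroup.index_eq_card]
      exact Nat.card_congr e2.toEquiv
    rw [h1, ← hAutCard]
    exact Subgroup.card_subgroup_dvd_card _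


theorem mem_zpowers_of_cyclic {K : Type*} [Group K] [Finite K] (P : Subgroup K) (hP : IsCyclic ↥P)
    (x z : K) (hx : x ∈ P) (hz : z ∈ P) (h : orderOf z ∣ orderOf x) : z ∈ Subgroup.zpowers x := by
  haveI := hP
  have h2 : orderOf (⟨z, hz⟩ : ↥P) ∣ orderOf (⟨x, hx⟩ : ↥P) := by
    rw [← Subgroup.orderOf_coe, ← Subgroup.orderOf_coe]
    exact h
  have h3 := mem_zpowers_of_orderOf_dvd_of_isCyclic _ _ h2
  obtain ⟨i, hi⟩ := Subgroup.mem_zpowers_iff.mp h3
  rw [Subgroup.mem_zpowers_iff]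
  refine ⟨i, ?_⟩
  have := congrArg Subtype.val hi
  simpa using this

/-- Data for the second case: a minimal normal subgroup `N`. -/
structure Hyp {K : Type*} [Group K] [Finite K] (p : ℕ) (P : Sylow p K) (N : Subgroup K) : Prop where
  hO : Cfsg.pPrimeCore p K = ⊥
  hP : IsCyclic ↥(P : Subgroup K)
  hnoA : ∀ A : Subgroup K, A.Normal → IsPGroup p A → A = ⊥
  hNn : N.Normal
  hN1 : N ≠ ⊥
  hmin : ∀ X : Subgroup K, X.Normal → X ≠ ⊥ → ¬ X < N

section case2

variable {K : Type*} [Group K] [Finite K] {p : ℕ} [hp : Fact p.Prime] {P : Sylow p K}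
  {N : Subgroup K}

/-- a nontrivial subnormal subgroup has order divisible by `p` -/
theorem Hyp.dvd_card (H : Hyp p P N) (X : Subgroup K) (hXN : X ≤ N)
    (hXn : ∀ x ∈ X, ∀ n ∈ N, n * x * n⁻¹ ∈ X) (hX1 : X ≠ ⊥) : p ∣ Nat.card X := by
  by_contra hnd
  apply hX1
  have hcop : (Nat.card X).Coprime p :=
    (Nat.Coprime.symm ((Nat.Prime.coprime_iff_not_dvd hp.out).mpr hnd))
  have hsub : X.IsSubnormal := by
    apply Subgroup.IsSubnormal.trans hXN _ (Subgroup.Normal.isSubnormal H.hNn)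
    apply Subgroup.Normal.isSubnormal
    constructor
    intro x hx n
    rw [Subgroup.mem_subgroupOf] at hx ⊢
    exact hXn _ hx _ n.2
  have h3 := subnormal_pprime_le_pPrimeCore p hsub hcop
  rw [H.hO, le_bot_iff] at h3
  exact h3

/-- a nontrivial subgroup normal in `N` contains an element of order `p` of `P` -/
theorem Hyp.exists_mem (H : Hyp p P N) (X : Subgroup K) (hXN : X ≤ N)
    (hXn : ∀ x ∈ X, ∀ n ∈ N, n * x * n⁻¹ ∈ X) (hX1 : X ≠ ⊥) :
    ∃ x ∈ X, x ∈ (P : Subgroup K) ∧ orderOf x = p := by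
  have hd := H.dvd_card X hXN hXn hX1
  obtain ⟨y0, hy0⟩ := exists_prime_orderOf_dvd_card' p hd
  have hoy : orderOf (y0 : K) = p := by rw [Subgroup.orderOf_coe]; exact hy0
  have hyN : (y0 : K) ∈ N := hXN y0.2
  -- the Sylow p-subgroup P ∩ N of N
  haveI := H.hNn
  have hpg : IsPGroup p ((P : Subgroup K).subgroupOf N) := by
    have := P.2
    exact this.comap_subtype
  have hidx : ¬ p ∣ ((P : Subgroup K).subgroupOf N).index := by
    intro hdv
    have h1 : ((P : Subgroup K).subgroupOf N).index = (P : Subgroup K).relIndex N := rfl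
    rw [h1, ← relIndex_sup_of_normal] at hdv
    exact P.not_dvd_index (hdv.trans (Subgroup.relIndex_dvd_index_of_le le_sup_left))
  set QN : Sylow p ↥N := hpg.toSylow hidx with hQN
  set y' : ↥N := ⟨(y0 : K), hyN⟩ with hy'
  have hpy : IsPGroup p (Subgroup.zpowers y') := by
    rw [IsPGroup.iff_card]
    refine ⟨1, ?_⟩
    rw [Nat.card_zpowers, pow_one, ← Subgroup.orderOf_coe]
    exact hoy
  obtain ⟨R, hR⟩ := hpy.exists_le_sylow
  obtain ⟨n, hn⟩ := MulAction.exists_smul_eq ↥N R QN
  have h1 : n * y' * n⁻¹ ∈ (QN : Subgroup ↥N) := by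
    rw [← hn]
    show n * y' * n⁻¹ ∈ (n • R : Sylow p ↥N)
    rw [mem_sylow_smul]
    have : n⁻¹ * (n * y' * n⁻¹) * n = y' := by group
    rw [this]
    exact hR (Subgroup.mem_zpowers y')
  refine ⟨(n : K) * (y0 : K) * (n : K)⁻¹, hXn _ y0.2 _ n.2, ?_, ?_⟩
  · rw [hQN, IsPGroup.toSylow_coe, Subgroup.mem_subgroupOf] at h1
    exact h1
  · rw [orderOf_conj_eq]; exact hoy


/-- simplicity of `N`, in elementwise form -/
theorem Hyp.eq_of_normal (H : Hyp p P N) (X : Subgroup K) (hXN : X ≤ N)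
    (hXn : ∀ x ∈ X, ∀ n ∈ N, n * x * n⁻¹ ∈ X) (hX1 : X ≠ ⊥) : X = N := by
  by_contra hne
  have hlt : X < N := lt_of_le_of_ne hXN hne
  obtain ⟨z, hzN, hzP, hoz⟩ :=
    H.exists_mem N le_rfl (fun x hx n _ => H.hNn.conj_mem x hx n) H.hN1
  have hz1 : z ≠ 1 := by
    intro h
    rw [h, orderOf_one] at hoz
    exact hp.out.one_lt.ne hoz
  have key : ∀ g : K, g * z * g⁻¹ ∈ X := by
    intro g
    set Xg : Subgroup K := X.comap (MulAut.conj g).toMonoidHom with hXg
    have hmem : ∀ x, x ∈ Xg ↔ g * x * g⁻¹ ∈ X := by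
      intro x; rw [hXg, Subgroup.mem_comap]; rfl
    have h1 : Xg ≤ N := by
      intro x hx
      rw [hmem] at hx
      have := H.hNn.conj_mem _ (hXN hx) g⁻¹
      have e : g⁻¹ * (g * x * g⁻¹) * g⁻¹⁻¹ = x := by group
      rwa [e] at this
    have h2 : ∀ x ∈ Xg, ∀ n ∈ N, n * x * n⁻¹ ∈ Xg := by
      intro x hx n hn
      rw [hmem] at hx ⊢
      have hn' : g * n * g⁻¹ ∈ N := H.hNn.conj_mem n hn g
      have := hXn _ hx _ hn'
      have e : g * (n * x * n⁻¹) * g⁻¹ = (g * n * g⁻¹) * (g * x * g⁻¹) * (g * n * g⁻¹)⁻¹ := by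
        group
      rw [e]; exact this
    have h3 : Xg ≠ ⊥ := by
      intro hb
      apply hX1
      rw [Subgroup.eq_bot_iff_forall] at hb ⊢
      intro x hx
      have hm : g⁻¹ * x * g ∈ Xg := by
        rw [hmem]
        have e : g * (g⁻¹ * x * g) * g⁻¹ = x := by group
        rw [e]; exact hx
      have h4 := hb _ hm
      calc x = g * (g⁻¹ * x * g) * g⁻¹ := by group
        _ = 1 := by rw [h4]; group
    obtain ⟨x, hxX, hxP, hox⟩ := H.exists_mem Xg h1 h2 h3
    have hzx : z ∈ Subgroup.zpowers x :=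
      mem_zpowers_of_cyclic (P : Subgroup K) H.hP x z hxP hzP (by rw [hoz, hox])
    have hz : z ∈ Xg := (Subgroup.zpowers_le.mpr hxX) hzx
    exact (hmem z).mp hz
  have hcore : z ∈ X.normalCore := fun b => key b
  have hD1 : X.normalCore ≠ ⊥ := by
    intro hb
    rw [hb, Subgroup.mem_bot] at hcore
    exact hz1 hcore
  exact H.hmin X.normalCore inferInstance hD1 (lt_of_le_of_lt (Subgroup.normalCore_le X) hlt)


theorem Hyp.exists_z (H : Hyp p P N) : ∃ z ∈ N, z ∈ (P : Subgroup K) ∧ orderOf z = p ∧ z ≠ 1 := by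
  obtain ⟨z, hzN, hzP, hoz⟩ :=
    H.exists_mem N le_rfl (fun x hx n _ => H.hNn.conj_mem x hx n) H.hN1
  refine ⟨z, hzN, hzP, hoz, ?_⟩
  intro h
  rw [h, orderOf_one] at hoz
  exact hp.out.one_lt.ne hoz

/-- `N` is not commutative -/
theorem Hyp.not_comm (H : Hyp p P N) : ¬ ∀ a ∈ N, ∀ b ∈ N, a * b = b * a := by
  intro hc
  obtain ⟨z, hzN, hzP, hoz, hz1⟩ := H.exists_z
  set Z := Subgroup.zpowers z with hZ
  have h1 : Z ≤ N := Subgroup.zpowers_le.mpr hzN
  have h2 : ∀ x ∈ Z, ∀ n ∈ N, n * x * n⁻¹ ∈ Z := by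
    intro x hx n hn
    have : n * x * n⁻¹ = x := by rw [hc n hn x (h1 hx)]; group
    rw [this]; exact hx
  have h3 : Z ≠ ⊥ := by
    intro hb
    have : z ∈ Z := Subgroup.mem_zpowers z
    rw [hb, Subgroup.mem_bot] at this
    exact hz1 this
  have h4 := H.eq_of_normal Z h1 h2 h3
  have h5 : IsPGroup p N := by
    rw [← h4, IsPGroup.iff_card]
    exact ⟨1, by rw [hZ, Nat.card_zpowers, hoz, pow_one]⟩
  exact H.hN1 (H.hnoA N H.hNn h5)

theorem Hyp.simple (H : Hyp p P N) : IsSimpleGroup ↥N := by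
  haveI : Nontrivial ↥N := (Subgroup.nontrivial_iff_ne_bot N).mpr H.hN1
  constructor
  intro M hM
  by_cases hM1 : M = ⊥
  · left; exact hM1
  · right
    set X := M.map N.subtype with hX
    have h1 : X ≤ N := Subgroup.map_subtype_le M
    have h2 : ∀ x ∈ X, ∀ n ∈ N, n * x * n⁻¹ ∈ X := by
      rintro x ⟨m, hm, rfl⟩ n hn
      exact ⟨⟨n, hn⟩ * m * ⟨n, hn⟩⁻¹, hM.conj_mem m hm ⟨n, hn⟩, rfl⟩
    have h3 : X ≠ ⊥ := by
      intro hb; apply hM1
      exact (Subgroup.map_eq_bot_iff_of_injective M N.subtype_injective).mp hb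
    have h4 := H.eq_of_normal X h1 h2 h3
    rw [eq_top_iff]; intro x _
    have hx : (x : K) ∈ X := by rw [h4]; exact x.2
    obtain ⟨m, hm, hmx⟩ := hx
    have : m = x := Subtype.ext hmx
    rw [← this]; exact hm

theorem Hyp.centralizer_eq_bot (H : Hyp p P N) : Subgroup.centralizer (N : Set K) = ⊥ := by
  haveI := H.hNn
  set C := Subgroup.centralizer (N : Set K) with hCdef
  have hCn : C.Normal := inferInstance
  have h1 : C ⊓ N = ⊥ := by
    by_contra hne
    have h2 := H.eq_of_normal (C ⊓ N) inf_le_right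
      (fun x hx n hn => ⟨hCn.conj_mem x hx.1 n, H.hNn.conj_mem x hx.2 n⟩) hne
    apply H.not_comm
    intro a ha b hb
    have haC : a ∈ C := by
      have : a ∈ C ⊓ N := by rw [h2]; exact ha
      exact this.1
    rw [hCdef, Subgroup.mem_centralizer_iff] at haC
    exact (haC b hb).symm
  by_contra hC1
  have hd : p ∣ Nat.card C := by
    by_contra hnd
    apply hC1
    have hcop : (Nat.card C).Coprime p :=
      (Nat.Coprime.symm ((Nat.Prime.coprime_iff_not_dvd hp.out).mpr hnd))
    have h3 := subnormal_pprime_le_pPrimeCore p (Subgroup.Normal.isSubnormal hCn) hcop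
    rw [H.hO, le_bot_iff] at h3
    exact h3
  obtain ⟨y0, hy0⟩ := exists_prime_orderOf_dvd_card' p hd
  have hoy : orderOf (y0 : K) = p := by rw [Subgroup.orderOf_coe]; exact hy0
  have hpy : IsPGroup p (Subgroup.zpowers (y0 : K)) := by
    rw [IsPGroup.iff_card]
    exact ⟨1, by rw [Nat.card_zpowers, pow_one, hoy]⟩
  obtain ⟨R, hR⟩ := hpy.exists_le_sylow
  obtain ⟨g, hg⟩ := MulAction.exists_smul_eq K R P
  have hyP : g * (y0 : K) * g⁻¹ ∈ (P : Subgroup K) := by
    rw [← hg]
    show g * (y0 : K) * g⁻¹ ∈ (g • R : Sylow p K)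
    rw [mem_sylow_smul]
    have : g⁻¹ * (g * (y0 : K) * g⁻¹) * g = (y0 : K) := by group
    rw [this]
    exact hR (Subgroup.mem_zpowers _)
  have hyC : g * (y0 : K) * g⁻¹ ∈ C := hCn.conj_mem _ y0.2 g
  obtain ⟨z, hzN, hzP, hoz, hz1⟩ := H.exists_z
  have hyz : g * (y0 : K) * g⁻¹ ∈ Subgroup.zpowers z :=
    mem_zpowers_of_cyclic (P : Subgroup K) H.hP z _ hzP hyP (by rw [orderOf_conj_eq, hoy, hoz])
  have hyN : g * (y0 : K) * g⁻¹ ∈ N := (Subgroup.zpowers_le.mpr hzN) hyz
  have hbot : g * (y0 : K) * g⁻¹ ∈ C ⊓ N := ⟨hyC, hyN⟩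
  rw [h1, Subgroup.mem_bot] at hbot
  have : orderOf (g * (y0 : K) * g⁻¹) = p := by rw [orderOf_conj_eq, hoy]
  rw [hbot, orderOf_one] at this
  exact hp.out.one_lt.ne this


theorem Hyp.fitting_le (H : Hyp p P N) : Cfsg.fittingSubgroup K ≤ N := by
  unfold Cfsg.fittingSubgroup
  apply sSup_le
  rintro A ⟨hAn, hAnil⟩
  by_cases hAN : A ⊓ N = ⊥
  · have hle : A ≤ Subgroup.centralizer (N : Set K) := by
      intro a ha
      rw [Subgroup.mem_centralizer_iff]
      intro n hn
      have h1 : a * n * a⁻¹ * n⁻¹ ∈ A ⊓ N := by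
        constructor
        · have h2 : n * a⁻¹ * n⁻¹ ∈ A := hAn.conj_mem _ (A.inv_mem ha) n
          have e : a * n * a⁻¹ * n⁻¹ = a * (n * a⁻¹ * n⁻¹) := by group
          rw [e]; exact A.mul_mem ha h2
        · have h2 : a * n * a⁻¹ ∈ N := H.hNn.conj_mem _ hn a
          exact N.mul_mem h2 (N.inv_mem hn)
      rw [hAN, Subgroup.mem_bot] at h1
      calc n * a = (a * n * a⁻¹ * n⁻¹)⁻¹ * (a * n) := by group
        _ = a * n := by rw [h1]; group
    rw [H.centralizer_eq_bot] at hle
    exact hle.trans bot_le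
  · exfalso
    have h2 := H.eq_of_normal (A ⊓ N) inf_le_right
      (fun x hx n hn => ⟨hAn.conj_mem x hx.1 n, H.hNn.conj_mem x hx.2 n⟩) hAN
    have hNA : N ≤ A := by rw [← h2]; exact inf_le_left
    have hnil : Group.IsNilpotent ↥N := by
      haveI := hAnil
      have h0 : Group.IsNilpotent ↥(N.subgroupOf A) := inferInstance
      exact Group.nilpotent_of_mulEquiv (Subgroup.subgroupOfEquivOfLe hNA)
    haveI := hnil
    haveI := H.simple
    have hsol : Group.IsSolvable ↥N := inferInstance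
    have hcomm := (IsSimpleGroup.comm_iff_isSolvable (G := ↥N)).mpr hsol
    apply H.not_comm
    intro a ha b hb
    exact congrArg Subtype.val (hcomm ⟨a, ha⟩ ⟨b, hb⟩)

theorem Hyp.genFitting_eq (H : Hyp p P N) : Cfsg.generalizedFittingSubgroup K = N := by
  haveI := H.hNn
  haveI hs := H.simple
  have hncomm : ¬ ∀ a b : ↥N, a * b = b * a := by
    intro hc
    apply H.not_comm
    intro a ha b hb
    exact congrArg Subtype.val (hc ⟨a, ha⟩ ⟨b, hb⟩)
  apply le_antisymm
  · exact Cfsg.Agent.S1325.result N H.fitting_le (by rw [H.centralizer_eq_bot]; exact bot_le)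
  · have hcomp : Cfsg.IsComponent N := by
      refine ⟨Subgroup.Normal.isSubnormal H.hNn, ?_, ?_⟩
      · constructor
        rcases hs.eq_bot_or_eq_top_of_normal (commutator ↥N) inferInstance with h | h
        · exfalso
          apply hncomm
          intro a b
          have h1 : ⁅a, b⁆ ∈ commutator ↥N := by
            rw [commutator_def]
            exact Subgroup.commutator_mem_commutator (Subgroup.mem_top a) (Subgroup.mem_top b)
          rw [h, Subgroup.mem_bot] at h1
          exact commutatorElement_eq_one_iff_mul_comm.mp h1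
        · exact h
      · have hc : Subgroup.center ↥N = ⊥ := by
          rcases hs.eq_bot_or_eq_top_of_normal (Subgroup.center ↥N) inferInstance with h | h
          · exact h
          · exfalso
            apply hncomm
            intro a b
            have : a ∈ Subgroup.center ↥N := by rw [h]; exact Subgroup.mem_top a
            rw [Subgroup.mem_center_iff] at this
            exact (this b).symm
        have e : ↥N ⧸ Subgroup.center ↥N ≃* ↥N :=
          (QuotientGroup.quotientMulEquivOfEq hc).trans QuotientGroup.quotientBot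
        haveI : Nontrivial (↥N ⧸ Subgroup.center ↥N) := e.toEquiv.nontrivial
        exact IsSimpleGroup.isSimpleGroup_of_surjective e.symm.toMonoidHom e.symm.surjective
    exact (component_le_layer hcomp).trans le_sup_left


theorem Hyp.sylow_le (H : Hyp p P N) : (P : Subgroup K) ≤ N := by
  haveI := H.hNn
  set M : Subgroup K := N ⊔ (P : Subgroup K) with hM
  have hPM : (P : Subgroup K) ≤ M := le_sup_right
  have hNM : N ≤ M := le_sup_left
  set PM : Sylow p ↥M := P.subtype hPM with hPMdef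
  have hPMcoe : (PM : Subgroup ↥M) = (P : Subgroup K).subgroupOf M := rfl
  have hcyc : IsCyclic ↥(PM : Subgroup ↥M) := by
    rw [hPMcoe]
    have e : ↥((P : Subgroup K).subgroupOf M) ≃* ↥(P : Subgroup K) :=
      Subgroup.subgroupOfEquivOfLe hPM
    exact (MulEquiv.isCyclic e).mpr H.hP
  have hcardPM : Nat.card (PM : Subgroup ↥M) = Nat.card (P : Subgroup K) := by
    rw [hPMcoe]; exact Nat.card_congr (Subgroup.subgroupOfEquivOfLe hPM).toEquiv
  have hcomm : ∀ a ∈ (P : Subgroup K), ∀ b ∈ (P : Subgroup K), a * b = b * a := by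
    intro a ha b hb
    haveI := H.hP
    have := (IsCyclic.commutative (α := ↥(P : Subgroup K))).is_comm.comm ⟨a, ha⟩ ⟨b, hb⟩
    exact congrArg Subtype.val this
  obtain ⟨z, hzN, hzP, hoz, hz1⟩ := H.exists_z
  rcases complement_or_fpf PM hcyc with ⟨T, hTn, hTcop, hTcard⟩ | ⟨h, hhN, hh⟩
  · exfalso
    set X : Subgroup K := (T ⊓ N.subgroupOf M).map M.subtype with hX
    have hX1 : X ≤ N := by
      rintro x ⟨m, hm, rfl⟩
      exact hm.2
    have hX2 : ∀ x ∈ X, ∀ n ∈ N, n * x * n⁻¹ ∈ X := by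
      rintro x ⟨m, hm, rfl⟩ n hn
      refine ⟨⟨n, hNM hn⟩ * m * ⟨n, hNM hn⟩⁻¹, Subgroup.mem_inf.mpr ⟨hTn.conj_mem m hm.1 _, ?_⟩, rfl⟩
      rw [Subgroup.mem_subgroupOf]
      exact H.hNn.conj_mem _ hm.2 n
    by_cases hXb : X = ⊥
    · -- N is a p-group
      have hidx : T.index = Nat.card (P : Subgroup K) := by
        have h1 := Subgroup.card_mul_index T
        rw [← hTcard, hcardPM] at h1
        exact Nat.eq_of_mul_eq_mul_left Nat.card_pos h1
      obtain ⟨k, hk⟩ := IsPGroup.iff_card.mp P.2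
      have hNp : IsPGroup p N := by
        intro n
        refine ⟨k, ?_⟩
        have h1 : (⟨(n : K), hNM n.2⟩ : ↥M) ^ T.index ∈ T := Subgroup.pow_index_mem T _
        have h2 : ((n : K)) ^ T.index ∈ X := by
          refine ⟨⟨(n : K), hNM n.2⟩ ^ T.index, Subgroup.mem_inf.mpr ⟨h1, ?_⟩, rfl⟩
          rw [Subgroup.mem_subgroupOf]
          exact N.pow_mem n.2 _
        rw [hXb, Subgroup.mem_bot, hidx, hk] at h2
        apply Subtype.ext
        rw [Subgroup.coe_pow]
        exact h2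
      exact H.hN1 (H.hnoA N H.hNn hNp)
    · have hXN := H.eq_of_normal X hX1 hX2 hXb
      have hzX : z ∈ X := by rw [hXN]; exact hzN
      obtain ⟨m, hm, hmz⟩ := hzX
      have hom : orderOf m = p := by
        rw [← Subgroup.orderOf_coe]
        have : (m : K) = z := hmz
        rw [this, hoz]
      have h1 : orderOf (⟨m, hm.1⟩ : ↥T) = p := by
        rw [← Subgroup.orderOf_coe]; exact hom
      have h2 : p ∣ Nat.card T := by
        rw [← h1]; exact orderOf_dvd_natCard _
      exact (Nat.Prime.coprime_iff_not_dvd hp.out).mp hTcop.symm h2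
  · -- h acts fixed-point-freely
    have hnormK : ∀ x ∈ (P : Subgroup K), (h : K) * x * (h : K)⁻¹ ∈ (P : Subgroup K) := by
      intro x hx
      have h1 := (Subgroup.mem_normalizer_iff.mp hhN ⟨x, hPM hx⟩).mp
        (by rw [hPMcoe, Subgroup.mem_subgroupOf]; exact hx)
      rw [hPMcoe, Subgroup.mem_subgroupOf] at h1
      exact h1
    have hfpf : ∀ x ∈ (P : Subgroup K), (h : K) * x = x * (h : K) → x = 1 := by
      intro x hx hc
      have h1 := hh ⟨x, hPM hx⟩ (by rw [hPMcoe, Subgroup.mem_subgroupOf]; exact hx)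
        (Subtype.ext hc)
      exact congrArg Subtype.val h1
    set f : ↥(P : Subgroup K) → ↥(P : Subgroup K) := fun x =>
      ⟨(h : K) * x * (h : K)⁻¹ * (x : K)⁻¹,
        (P : Subgroup K).mul_mem (hnormK x x.2) ((P : Subgroup K).inv_mem x.2)⟩ with hf
    have hinj : Function.Injective f := by
      intro x y hxy
      have heq : (h : K) * x * (h : K)⁻¹ * (x : K)⁻¹ = (h : K) * y * (h : K)⁻¹ * (y : K)⁻¹ :=
        congrArg Subtype.val hxy
      have e1 : (x : K) * (h : K)⁻¹ * (x : K)⁻¹ = (y : K) * (h : K)⁻¹ * (y : K)⁻¹ := by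
        have := congrArg (fun t => (h : K)⁻¹ * t) heq
        simp only [mul_assoc, inv_mul_cancel_left] at this
        simpa [mul_assoc] using this
      have e2 : ((y : K)⁻¹ * (x : K)) * (h : K)⁻¹ = (h : K)⁻¹ * ((y : K)⁻¹ * (x : K)) := by
        calc ((y : K)⁻¹ * (x : K)) * (h : K)⁻¹
            = (y : K)⁻¹ * ((x : K) * (h : K)⁻¹ * (x : K)⁻¹) * (x : K) := by group
          _ = (y : K)⁻¹ * ((y : K) * (h : K)⁻¹ * (y : K)⁻¹) * (x : K) := by rw [e1]
          _ = (h : K)⁻¹ * ((y : K)⁻¹ * (x : K)) := by group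
      have e3 : (h : K) * ((y : K)⁻¹ * (x : K)) = ((y : K)⁻¹ * (x : K)) * (h : K) := by
        calc (h : K) * ((y : K)⁻¹ * (x : K))
            = (h : K) * (((y : K)⁻¹ * (x : K)) * (h : K)⁻¹) * (h : K) := by group
          _ = (h : K) * ((h : K)⁻¹ * ((y : K)⁻¹ * (x : K))) * (h : K) := by rw [e2]
          _ = ((y : K)⁻¹ * (x : K)) * (h : K) := by group
      have e4 := hfpf _ ((P : Subgroup K).mul_mem ((P : Subgroup K).inv_mem y.2) x.2) e3
      apply Subtype.ext
      calc (x : K) = (y : K) * ((y : K)⁻¹ * (x : K)) := by group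
        _ = (y : K) := by rw [e4, mul_one]
    have hsurj : Function.Surjective f := Finite.injective_iff_surjective.mp hinj
    -- decompose h
    have hhM : (h : K) ∈ ((N ⊔ (P : Subgroup K) : Subgroup K) : Set K) := h.2
    rw [Subgroup.normal_mul, Set.mem_mul] at hhM
    obtain ⟨n, hn, y, hy, hny⟩ := hhM
    intro w hw
    obtain ⟨x, hx⟩ := hsurj ⟨w, hw⟩
    have hxw : (h : K) * x * (h : K)⁻¹ * (x : K)⁻¹ = w := congrArg Subtype.val hx
    have hyx : y * (x : K) * y⁻¹ = (x : K) := by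
      rw [hcomm y hy x x.2]; group
    have e : w = n * ((x : K) * n⁻¹ * (x : K)⁻¹) := by
      rw [← hxw, ← hny]
      calc n * y * (x : K) * (n * y)⁻¹ * (x : K)⁻¹
          = n * (y * (x : K) * y⁻¹) * n⁻¹ * (x : K)⁻¹ := by group
        _ = n * ((x : K) * n⁻¹ * (x : K)⁻¹) := by rw [hyx]; group
    rw [e]
    exact N.mul_mem hn (H.hNn.conj_mem _ (N.inv_mem hn) _)

end case2

theorem result {K : Type*} [Group K] [Finite K] (p : ℕ) [Fact p.Prime] (hp : p ∣ Nat.card K) (hO : Cfsg.pPrimeCore p K = ⊥)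
    (P : Sylow p K) (hP : IsCyclic ↥(P : Subgroup K)) :
    ((P : Subgroup K).Normal ∧ Subgroup.centralizer ((P : Subgroup K) : Set K) = (P : Subgroup K) ∧
      (∀ (_ : (P : Subgroup K).Normal), IsCyclic (K ⧸ (P : Subgroup K))) ∧ (P : Subgroup K).index ∣ p - 1) ∨
    (IsSimpleGroup ↥(Cfsg.generalizedFittingSubgroup K) ∧ ¬ IsMulCommutative ↥(Cfsg.generalizedFittingSubgroup K) ∧
      ¬ p ∣ (Cfsg.generalizedFittingSubgroup K).index) := by
  by_cases hA : ∃ A : Subgroup K, A.Normal ∧ IsPGroup p A ∧ A ≠ ⊥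
  · left
    obtain ⟨A, hAn, hAp, hA1⟩ := hA
    exact case_normal p hO P hP A hAn hAp hA1
  · right
    push Not at hA
    -- a minimal normal subgroup
    have hKnt : (⊤ : Subgroup K) ≠ ⊥ := by
      intro h
      have h1 : Nat.card K = 1 := by
        rw [← Subgroup.card_top (G := K), h, Subgroup.card_bot]
      rw [h1] at hp
      exact (Fact.out : p.Prime).one_lt.ne' (Nat.dvd_one.mp hp)
    set S : Set (Subgroup K) := {X | X.Normal ∧ X ≠ ⊥} with hS
    have hne : S.Nonempty := ⟨⊤, inferInstance, hKnt⟩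
    obtain ⟨N, hNS, hmin⟩ := WellFounded.has_min (wellFounded_lt (α := Subgroup K)) S hne
    have H : Hyp p P N :=
      { hO := hO, hP := hP, hnoA := fun A h1 h2 => by
          by_contra h3; exact h3 (hA A h1 h2),
        hNn := hNS.1, hN1 := hNS.2,
        hmin := fun X h1 h2 => hmin X ⟨h1, h2⟩ }
    have hF := H.genFitting_eq
    rw [hF]
    refine ⟨H.simple, ?_, ?_⟩
    · intro hc
      apply H.not_comm
      intro a ha b hb
      exact congrArg Subtype.val (hc.is_comm.comm ⟨a, ha⟩ ⟨b, hb⟩)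
    · intro hd
      have h1 : N.index ∣ (P : Subgroup K).index := Subgroup.index_dvd_of_le H.sylow_le
      exact P.not_dvd_index (hd.trans h1)

end Cfsg.Agent.S4403
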