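import Cfsg.Statements.S4406
import Mathlib

set_option autoImplicit false
open Cfsg

namespace Cfsg.Agent.S4406

set_option maxRecDepth 100000
open Cfsg Equiv

abbrev A := alternatingGroup (Fin 4)

def a0 : A := ⟨c[(0 : Fin 4), 1, 2], Equiv.Perm.mem_alternatingGroup.2 (by decide)⟩
def v1 : A := ⟨swap (0 : Fin 4) 1 * swap 2 3, Equiv.Perm.mem_alternatingGroup.2 (by decide)⟩
def v2 : A := ⟨swap (0 : Fin 4) 2 * swap 1 3, Equiv.Perm.mem_alternatingGroup.2 (by decide)⟩
def v3 : A := ⟨swap (0 : Fin 4) 3 * swap 1 2, Equiv.Perm.mem_alternatingGroup.2 (by decide)⟩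
def vv : Fin 4 → A := ![1, v1, v2, v3]

theorem sq_one_cases : ∀ x : A, x ^ 2 = 1 → ∃ i, x = vv i := by decide

theorem pow_six : ∀ x : A, x ^ 6 = 1 := by decide

theorem a0_sq : a0 ^ 2 ≠ 1 := by decide

theorem comm_of_sq : ∀ x y : A, x ^ 2 = 1 → y ^ 2 = 1 → x * y = y * x := by decide


abbrev PP := A × A

def tt : PP := (a0, a0)
def tt' : PP := (a0, a0⁻¹)

def inS (b1 b2 x : PP) : Prop := x = 1 ∨ x = b1 ∨ x = b2 ∨ x = b1 * b2

instance (b1 b2 x : PP) : Decidable (inS b1 b2 x) := by unfold inS; infer_instance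

def good (b1 b2 : PP) : Prop :=
  (b1 = b2 ∨ b1.1 = 1 ∨ b1.2 = 1 ∨ b2.1 = 1 ∨ b2.2 = 1 ∨ (b1 * b2).1 = 1 ∨ (b1 * b2).2 = 1) ∨
  (inS b1 b2 (tt * b1 * tt⁻¹) ∧ inS b1 b2 (tt * b2 * tt⁻¹)) ∨
  (inS b1 b2 (tt' * b1 * tt'⁻¹) ∧ inS b1 b2 (tt' * b2 * tt'⁻¹))

instance (b1 b2 : PP) : Decidable (good b1 b2) := by unfold good; infer_instance

theorem key : ∀ i j k l : Fin 4, good (vv i, vv j) (vv k, vv l) := by decide


theorem card_A : Nat.card A = 12 := by
  rw [Nat.card_eq_fintype_card]; decide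

theorem card_PP : Nat.card PP = 144 := by
  rw [Nat.card_prod, card_A]

theorem pow_six' (x : PP) : x ^ 6 = 1 := by
  ext1
  · exact pow_six x.1
  · exact pow_six x.2

theorem sq_of_two_group (x : PP) (k : ℕ) (h : x ^ (2 ^ k) = 1) : x ^ 2 = 1 := by
  have h1 : orderOf x ∣ 2 ^ k := orderOf_dvd_of_pow_eq_one h
  have h2 : orderOf x ∣ 6 := orderOf_dvd_of_pow_eq_one (pow_six' x)
  obtain ⟨j, hj, hj'⟩ := (Nat.dvd_prime_pow Nat.prime_two).1 h1
  have : j ≤ 1 := by
    by_contra hcon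
    push Not at hcon
    have h4 : 2 ^ 2 ∣ orderOf x := by rw [hj']; exact pow_dvd_pow 2 hcon
    have := h4.trans h2
    omega
  apply orderOf_dvd_iff_pow_eq_one.1
  rw [hj']
  interval_cases j <;> norm_num

theorem cube_of_three_group (x : PP) (k : ℕ) (h : x ^ (3 ^ k) = 1) : x ^ 3 = 1 := by
  have h1 : orderOf x ∣ 3 ^ k := orderOf_dvd_of_pow_eq_one h
  have h2 : orderOf x ∣ 6 := orderOf_dvd_of_pow_eq_one (pow_six' x)
  obtain ⟨j, hj, hj'⟩ := (Nat.dvd_prime_pow Nat.prime_three).1 h1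
  have : j ≤ 1 := by
    by_contra hcon
    push Not at hcon
    have h4 : 3 ^ 2 ∣ orderOf x := by rw [hj']; exact pow_dvd_pow 3 hcon
    have := h4.trans h2
    omega
  apply orderOf_dvd_iff_pow_eq_one.1
  rw [hj']
  interval_cases j <;> norm_num

theorem fact2 : (Nat.factorization 144) 2 = 4 := by
  rw [Nat.factorization_def _ Nat.prime_two]
  have : (144 : ℕ) = 2 ^ 4 * 9 := by norm_num
  rw [this, padicValNat.mul (by norm_num) (by norm_num), padicValNat.prime_pow]
  simp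

theorem fact3 : (Nat.factorization 144) 3 = 2 := by
  rw [Nat.factorization_def _ Nat.prime_three]
  have h144 : (144 : ℕ) = 3 ^ 2 * 16 := by norm_num
  haveI : Fact (Nat.Prime 3) := ⟨Nat.prime_three⟩
  rw [h144, padicValNat.mul (by norm_num) (by norm_num), padicValNat.prime_pow]
  simp

theorem card_sylow2 (X : Sylow 2 PP) : Nat.card X = 16 := by
  rw [Sylow.card_eq_multiplicity, card_PP, fact2]; norm_num

theorem card_sylow3 (Q : Sylow 3 PP) : Nat.card Q = 9 := by
  haveI : Fact (Nat.Prime 3) := ⟨Nat.prime_three⟩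
  rw [Sylow.card_eq_multiplicity, card_PP, fact3]; norm_num


theorem ne_bot_of_mem {G : Type*} [Group G] (K : Subgroup G) (x : G) (hx : x ∈ K) (hne : x ≠ 1) :
    K ≠ ⊥ := fun h => hne ((Subgroup.eq_bot_iff_forall _).1 h x hx)

theorem main4406
    (X : Sylow 2 (↥(alternatingGroup (Fin 4)) × ↥(alternatingGroup (Fin 4))))
    (Q : Sylow 3 (↥(alternatingGroup (Fin 4)) × ↥(alternatingGroup (Fin 4))))
    (B : Subgroup (↥(alternatingGroup (Fin 4)) × ↥(alternatingGroup (Fin 4)))) (hBX : B ≤ (X : Subgroup _)) (hB4 : Nat.card ↥B = 4) :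
    B ⊓ ((X : Subgroup _) ⊓ Subgroup.prod ⊤ ⊥) ≠ ⊥ ∨ B ⊓ ((X : Subgroup _) ⊓ Subgroup.prod ⊥ ⊤) ≠ ⊥ ∨
      ∃ R : Subgroup (↥(alternatingGroup (Fin 4)) × ↥(alternatingGroup (Fin 4))), R ≤ (Q : Subgroup _) ∧ Nat.card ↥R = 3 ∧
        R ≠ (Q : Subgroup _) ⊓ Subgroup.prod ⊤ ⊥ ∧ R ≠ (Q : Subgroup _) ⊓ Subgroup.prod ⊥ ⊤ ∧ R ≤ Subgroup.normalizer (B : Set _) := by
  haveI : Fact (Nat.Prime 3) := ⟨Nat.prime_three⟩
  have hXsq : ∀ x ∈ (X : Subgroup PP), x ^ 2 = 1 := by
    intro x hx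
    obtain ⟨k, hk⟩ := X.2 ⟨x, hx⟩
    apply sq_of_two_group x k
    have := congrArg Subtype.val hk
    simpa using this
  have hQcube : ∀ x ∈ (Q : Subgroup PP), x ^ 3 = 1 := by
    intro x hx
    obtain ⟨k, hk⟩ := Q.2 ⟨x, hx⟩
    apply cube_of_three_group x k
    have := congrArg Subtype.val hk
    simpa using this
  haveI : Finite B := Nat.finite_of_card_ne_zero (by rw [hB4]; norm_num)
  have hBn : (B : Set PP).ncard = 4 := by rw [← Nat.card_coe_set_eq]; exact hB4
  have h1 : ∃ b1 ∈ B, b1 ≠ 1 := by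
    by_contra hcon
    push Not at hcon
    have : B = ⊥ := (Subgroup.eq_bot_iff_forall _).2 hcon
    rw [this, Subgroup.card_bot] at hB4
    omega
  obtain ⟨b1, hb1, hb1ne⟩ := h1
  have h2 : ∃ b2 ∈ B, b2 ≠ 1 ∧ b2 ≠ b1 := by
    by_contra hcon
    push Not at hcon
    have hsub : (B : Set PP) ⊆ (({1, b1} : Finset PP) : Set PP) := by
      intro x hx
      by_cases hx1 : x = 1
      · simp [hx1]
      · simp [hcon x hx hx1]
    have hc : (B : Set PP).ncard ≤ 2 := by
      calc (B : Set PP).ncard ≤ (({1, b1} : Finset PP) : Set PP).ncard :=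
            Set.ncard_le_ncard hsub (Finset.finite_toSet _)
        _ = ({1, b1} : Finset PP).card := Set.ncard_coe_finset _
        _ ≤ 2 := Finset.card_le_two
    omega
  obtain ⟨b2, hb2, hb2ne, hb21⟩ := h2
  have hb1sq : b1 ^ 2 = 1 := hXsq b1 (hBX hb1)
  have hb2sq : b2 ^ 2 = 1 := hXsq b2 (hBX hb2)
  have hb12 : b1 * b2 ∈ B := B.mul_mem hb1 hb2
  have hb12ne : b1 * b2 ≠ 1 := by
    intro h
    apply hb21
    have : b1 * b1 = 1 := by rw [← pow_two]; exact hb1sq
    calc b2 = (b1 * b1) * b2 := by rw [this, one_mul]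
      _ = b1 * (b1 * b2) := by rw [mul_assoc]
      _ = b1 := by rw [h, mul_one]
  -- B = {1, b1, b2, b1 b2}
  have hBall : ∀ x ∈ B, inS b1 b2 x := by
    let T : Finset PP := {1, b1, b2, b1 * b2}
    have hTcard : T.card = 4 := by
      have e1 : (1 : PP) ∉ ({b1, b2, b1 * b2} : Finset PP) := by
        simp only [Finset.mem_insert, Finset.mem_singleton, not_or]
        exact ⟨fun h => hb1ne h.symm, fun h => hb2ne h.symm, fun h => hb12ne h.symm⟩
      have e2 : b1 ∉ ({b2, b1 * b2} : Finset PP) := by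
        simp only [Finset.mem_insert, Finset.mem_singleton, not_or]
        refine ⟨fun h => hb21 h.symm, fun h => hb2ne ?_⟩
        exact (mul_eq_left.1 h.symm)
      have e3 : b2 ∉ ({b1 * b2} : Finset PP) := by
        simp only [Finset.mem_singleton]
        intro h
        exact hb1ne (mul_eq_right.1 h.symm)
      show (insert 1 (insert b1 (insert b2 {b1 * b2})) : Finset PP).card = 4
      rw [Finset.card_insert_of_notMem e1, Finset.card_insert_of_notMem e2,
        Finset.card_insert_of_notMem e3, Finset.card_singleton]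
    have hTB : (T : Set PP) ⊆ (B : Set PP) := by
      intro x hx
      simp only [T, Finset.coe_insert, Finset.coe_singleton, Set.mem_insert_iff,
        Set.mem_singleton_iff] at hx
      rcases hx with rfl | rfl | rfl | rfl
      · exact B.one_mem
      · exact hb1
      · exact hb2
      · exact hb12
    have hEq : (T : Set PP) = (B : Set PP) := by
      apply Set.eq_of_subset_of_ncard_le hTB _ (Set.toFinite _)
      rw [hBn, Set.ncard_coe_finset, hTcard]
    intro x hx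
    have : x ∈ (T : Set PP) := by rw [hEq]; exact hx
    simp only [T, Finset.coe_insert, Finset.coe_singleton, Set.mem_insert_iff,
      Set.mem_singleton_iff] at this
    exact this
  have hSB : ∀ x, inS b1 b2 x → x ∈ B := by
    rintro x (rfl | rfl | rfl | rfl)
    · exact B.one_mem
    · exact hb1
    · exact hb2
    · exact hb12
  -- the third alternative
  have hR : ∀ t : PP, t.1 ^ 2 ≠ 1 → t.2 ^ 2 ≠ 1 → inS b1 b2 (t * b1 * t⁻¹) →
      inS b1 b2 (t * b2 * t⁻¹) →
      ∃ R : Subgroup PP, R ≤ (Q : Subgroup _) ∧ Nat.card ↥R = 3 ∧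
        R ≠ (Q : Subgroup _) ⊓ Subgroup.prod ⊤ ⊥ ∧ R ≠ (Q : Subgroup _) ⊓ Subgroup.prod ⊥ ⊤ ∧
        R ≤ Subgroup.normalizer (B : Set _) := by
    intro t ht1 ht2 hc1 hc2
    have hcomp : Subgroup.IsComplement' (Q : Subgroup PP) (X : Subgroup PP) :=
      Subgroup.isComplement'_of_coprime (by rw [card_sylow3, card_sylow2, card_PP])
        (by rw [card_sylow3, card_sylow2]; norm_num)
    obtain ⟨⟨q, x⟩, hqx⟩ := hcomp.2 t
    have hqx' : (q : PP) * (x : PP) = t := hqx
    have hxsq : (x : PP) ^ 2 = 1 := hXsq x x.2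
    have hx1 : (x : PP).1 ^ 2 = 1 := by
      have := congrArg Prod.fst hxsq
      simpa using this
    have hx2 : (x : PP).2 ^ 2 = 1 := by
      have := congrArg Prod.snd hxsq
      simpa using this
    have hq1 : (q : PP).1 ≠ 1 := by
      intro h
      apply ht1
      have := congrArg Prod.fst hqx'
      rw [Prod.fst_mul, h, one_mul] at this
      rw [← this]; exact hx1
    have hq2 : (q : PP).2 ≠ 1 := by
      intro h
      apply ht2
      have := congrArg Prod.snd hqx'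
      rw [Prod.snd_mul, h, one_mul] at this
      rw [← this]; exact hx2
    have hqne : (q : PP) ≠ 1 := by
      intro h
      apply hq1
      rw [h]; rfl
    have hcomm : ∀ b ∈ B, (x : PP) * b = b * (x : PP) := by
      intro b hb
      have hbsq := hXsq b (hBX hb)
      have hb1' : b.1 ^ 2 = 1 := by
        have := congrArg Prod.fst hbsq
        simpa using this
      have hb2' : b.2 ^ 2 = 1 := by
        have := congrArg Prod.snd hbsq
        simpa using this
      ext1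
      · exact comm_of_sq _ _ hx1 hb1'
      · exact comm_of_sq _ _ hx2 hb2'
    have hconj : ∀ b ∈ B, (q : PP) * b * (q : PP)⁻¹ = t * b * t⁻¹ := by
      intro b hb
      have hq : (q : PP) = t * (x : PP)⁻¹ := by rw [← hqx', mul_inv_cancel_right]
      rw [hq, mul_inv_rev, inv_inv]
      have : (x : PP)⁻¹ * b * (x : PP) = b := by
        rw [mul_assoc, ← hcomm b hb, inv_mul_cancel_left]
      calc t * (x : PP)⁻¹ * b * ((x : PP) * t⁻¹) = t * ((x : PP)⁻¹ * b * (x : PP)) * t⁻¹ := by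
            simp only [mul_assoc]
        _ = t * b * t⁻¹ := by rw [this]
    have htB : ∀ b ∈ B, t * b * t⁻¹ ∈ B := by
      intro b hb
      rcases hBall b hb with rfl | rfl | rfl | rfl
      · simp [B.one_mem]
      · exact hSB _ hc1
      · exact hSB _ hc2
      · have : t * (b1 * b2) * t⁻¹ = (t * b1 * t⁻¹) * (t * b2 * t⁻¹) := by
          simp only [mul_assoc, inv_mul_cancel_left]
        rw [this]
        exact B.mul_mem (hSB _ hc1) (hSB _ hc2)
    refine ⟨Subgroup.zpowers (q : PP), ?_, ?_, ?_, ?_, ?_⟩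
    · rw [Subgroup.zpowers_le]; exact q.2
    · rw [Nat.card_zpowers]
      exact orderOf_eq_prime (hQcube q q.2) hqne
    · intro h
      have : (q : PP) ∈ (Q : Subgroup PP) ⊓ Subgroup.prod ⊤ ⊥ := by
        rw [← h]; exact Subgroup.mem_zpowers _
      have h3 := (Subgroup.mem_prod.1 this.2).2
      exact hq2 (Subgroup.mem_bot.1 h3)
    · intro h
      have : (q : PP) ∈ (Q : Subgroup PP) ⊓ Subgroup.prod ⊥ ⊤ := by
        rw [← h]; exact Subgroup.mem_zpowers _
      have h3 := (Subgroup.mem_prod.1 this.2).1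
      exact hq1 (Subgroup.mem_bot.1 h3)
    · rw [Subgroup.zpowers_le]
      apply Subgroup.mem_normalizer_fintype
      intro b hb
      rw [hconj b hb]
      exact htB b hb
  -- apply the finite check
  have hcomp1 : ∀ b : PP, b ^ 2 = 1 → ∃ i j, b = (vv i, vv j) := by
    intro b hb
    have e1 : b.1 ^ 2 = 1 := by
      have := congrArg Prod.fst hb
      simpa using this
    have e2 : b.2 ^ 2 = 1 := by
      have := congrArg Prod.snd hb
      simpa using this
    obtain ⟨i, hi⟩ := sq_one_cases _ e1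
    obtain ⟨j, hj⟩ := sq_one_cases _ e2
    exact ⟨i, j, Prod.ext hi hj⟩
  obtain ⟨i, j, hij⟩ := hcomp1 b1 hb1sq
  obtain ⟨k, l, hkl⟩ := hcomp1 b2 hb2sq
  have hgood : good b1 b2 := by
    rw [hij, hkl]; exact key i j k l
  have first : ∀ b ∈ B, b ≠ 1 → b.2 = 1 → B ⊓ ((X : Subgroup _) ⊓ Subgroup.prod ⊤ ⊥) ≠ ⊥ := by
    intro b hb hne h
    apply ne_bot_of_mem _ b _ hne
    exact ⟨hb, hBX hb, Subgroup.mem_prod.2 ⟨Subgroup.mem_top _, Subgroup.mem_bot.2 h⟩⟩
  have second : ∀ b ∈ B, b ≠ 1 → b.1 = 1 → B ⊓ ((X : Subgroup _) ⊓ Subgroup.prod ⊥ ⊤) ≠ ⊥ := by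
    intro b hb hne h
    apply ne_bot_of_mem _ b _ hne
    exact ⟨hb, hBX hb, Subgroup.mem_prod.2 ⟨Subgroup.mem_bot.2 h, Subgroup.mem_top _⟩⟩
  rcases hgood with (h | h | h | h | h | h | h) | ⟨h, h'⟩ | ⟨h, h'⟩
  · exact absurd h.symm hb21
  · exact Or.inr (Or.inl (second b1 hb1 hb1ne h))
  · exact Or.inl (first b1 hb1 hb1ne h)
  · exact Or.inr (Or.inl (second b2 hb2 hb2ne h))
  · exact Or.inl (first b2 hb2 hb2ne h)
  · exact Or.inr (Or.inl (second _ hb12 hb12ne h))
  · exact Or.inl (first _ hb12 hb12ne h)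
  · exact Or.inr (Or.inr (hR tt (by decide) (by decide) h h'))
  · exact Or.inr (Or.inr (hR tt' (by decide) (by decide) h h'))


/-- In the direct product P = A₄ × A₄, let X be the Sylow 2-subgroup, X₁ and X₂ its intersections with the two direct factors, Q a Sylow 3-subgroup and Q₁, Q₂ its intersections with the two factors. Then every subgroup B of X of order 4 either meets X₁ or X₂ nontrivially, or is normalized by one of the two subgroups of Q of order 3 other than Q₁ and Q₂. -/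
theorem result
    (X : Sylow 2 (↥(alternatingGroup (Fin 4)) × ↥(alternatingGroup (Fin 4))))
    (Q : Sylow 3 (↥(alternatingGroup (Fin 4)) × ↥(alternatingGroup (Fin 4))))
    (B : Subgroup (↥(alternatingGroup (Fin 4)) × ↥(alternatingGroup (Fin 4)))) (hBX : B ≤ (X : Subgroup _)) (hB4 : Nat.card ↥B = 4) :
    B ⊓ ((X : Subgroup _) ⊓ Subgroup.prod ⊤ ⊥) ≠ ⊥ ∨ B ⊓ ((X : Subgroup _) ⊓ Subgroup.prod ⊥ ⊤) ≠ ⊥ ∨
      ∃ R : Subgroup (↥(alternatingGroup (Fin 4)) × ↥(alternatingGroup (Fin 4))), R ≤ (Q : Subgroup _) ∧ Nat.card ↥R = 3 ∧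
        R ≠ (Q : Subgroup _) ⊓ Subgroup.prod ⊤ ⊥ ∧ R ≠ (Q : Subgroup _) ⊓ Subgroup.prod ⊥ ⊤ ∧ R ≤ Subgroup.normalizer (B : Set _) := by
  exact main4406 X Q B hBX hB4

end Cfsg.Agent.S4406
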