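import Cfsg.Statements.S4408
import Cfsg.Agent.Lib.Helper4.ElemAbTwo
import Cfsg.Agent.Lib.Helper4.Cores
import Cfsg.Agent.S0008
import Cfsg.Agent.S0044

set_option autoImplicit false
open Cfsg

namespace Cfsg.Agent.S4408

/-- Let S be a finite solvable group whose Fitting subgroup F(S) has odd order, and let I be an elementary abelian 2-subgroup of S of order 2ⁿ with n ≥ 1. Then F(S) contains subgroups A₁, …, Aₙ of prime order, each normalized by I, pairwise commuting and generating a subgroup A of order |A₁|⋯|Aₙ| (their internal direct product), such that no non-identity element of I centralizes A. -/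
theorem result {S : Type*} [Group S] [Finite S]
    [Group.IsSolvable S] (hF : Odd (Nat.card ↥(Cfsg.fittingSubgroup S)))
    (I : Subgroup S) (hI : Cfsg.IsElementaryAbelian 2 I) (n : ℕ) (hn : 1 ≤ n) (hIn : Nat.card ↥I = 2 ^ n) :
    ∃ f : Fin n → Subgroup S, (∀ i, (Nat.card ↥(f i)).Prime) ∧ (∀ i, f i ≤ Cfsg.fittingSubgroup S) ∧
      (∀ i, I ≤ Subgroup.normalizer ((f i) : Set S)) ∧ (∀ i j, i ≠ j → ∀ a ∈ f i, ∀ b ∈ f j, a * b = b * a) ∧
      Nat.card ↥(⨆ i, f i) = ∏ i, Nat.card ↥(f i) ∧ I ⊓ Subgroup.centralizer ((⨆ i, f i : Subgroup S) : Set S) = ⊥ := by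
  classical
  have hFnorm : (Cfsg.fittingSubgroup S).Normal := Cfsg.Agent.Lib.Helper4.fittingSubgroup_normal
  have hodd : ∀ x ∈ Cfsg.fittingSubgroup S, x * x = 1 → x = 1 := by
    intro x hx hxx
    have h1 : orderOf x ∣ 2 := by
      apply orderOf_dvd_of_pow_eq_one
      rw [pow_two]; exact hxx
    have h2 : orderOf x ∣ Nat.card ↥(Cfsg.fittingSubgroup S) := by
      have := orderOf_dvd_natCard (⟨x, hx⟩ : ↥(Cfsg.fittingSubgroup S))
      rwa [Subgroup.orderOf_mk] at this
    have h3 : orderOf x ∣ Nat.gcd 2 (Nat.card ↥(Cfsg.fittingSubgroup S)) := Nat.dvd_gcd h1 h2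
    have h4 : Nat.gcd 2 (Nat.card ↥(Cfsg.fittingSubgroup S)) = 1 := by
      rw [← Nat.coprime_iff_gcd_eq_one, Nat.coprime_two_left]
      exact hF
    rw [h4, Nat.dvd_one] at h3
    exact orderOf_eq_one_iff.1 h3
  have hI2 : ∀ a ∈ I, a * a = 1 := by
    intro a ha
    have := hI.2 a ha
    rwa [pow_two] at this
  have hIc : ∀ a ∈ I, ∀ b ∈ I, a * b = b * a := isMulCommutative_iff_of_setLike.1 hI.1
  exact Cfsg.Agent.Lib.Helper4.ea_main (Cfsg.fittingSubgroup S) I n Cfsg.Agent.S0008.result hodd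
    (fun i _ x hx => hFnorm.conj_mem x hx i) hIc hI2
    (by
      intro i hi hic
      have h1 : i ∈ Subgroup.centralizer (Cfsg.fittingSubgroup S : Set S) := by
        rw [Subgroup.mem_centralizer_iff]
        intro x hx
        exact (hic x hx).symm
      exact hodd i (Cfsg.Agent.S0044.result h1) (hI2 i hi)) hIn

end Cfsg.Agent.S4408
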