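import Cfsg.Statements.S4419
import Mathlib
import Cfsg.Agent.S0071
import Cfsg.Agent.Lib.Lead.AutPrime
import Cfsg.Agent.Lib.Lead.Metacyclic
import Cfsg.Agent.Lib.Helper5.PCore

set_option autoImplicit false
open Cfsg

namespace Cfsg.Agent.S4419

/-- Let p be a prime and G a finite group whose Sylow p-subgroups are metacyclic (a cyclic normal subgroup with cyclic quotient). Then G has a normal p-complement if and only if the order of G/O_{p′,p}(G) is coprime to p² − 1. -/
theorem result {G : Type*} [Group G] [Finite G] (p : ℕ) [Fact p.Prime] (S : Sylow p G) (hS : Cfsg.IsMetacyclic ↥(S : Subgroup G)) : Cfsg.HasNormalPComplement p G ↔ Nat.Coprime (Nat.card (G ⧸ Cfsg.pPrimePCore p G)) (p ^ 2 - 1) := by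
  classical
  have hp := (Fact.out : p.Prime)
  set L := Cfsg.pPrimeCore p G with hL
  have hLn : L.Normal := (Cfsg.Agent.Lib.Helper5.pPrimeCore_mem p).1
  have hLcop : (Nat.card L).Coprime p := Cfsg.Agent.Lib.Helper5.card_pPrimeCore_coprime p
  have hKdef : Cfsg.pPrimePCore p G =
      (Cfsg.pCore p (G ⧸ L)).comap (QuotientGroup.mk' L) := rfl
  constructor
  · rintro ⟨P, N, hN, hc⟩
    have hNidx : N.index = Nat.card (P : Subgroup G) := hc.symm.index_eq_card
    have hNcard : (Nat.card N).Coprime p := by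
      have h2 : Nat.card N = (P : Subgroup G).index := hc.index_eq_card.symm
      rw [h2]
      exact ((Nat.Prime.coprime_iff_not_dvd hp).mpr P.not_dvd_index).symm
    have hNL : N ≤ L := Cfsg.Agent.Lib.Helper5.le_pPrimeCore N hN hNcard
    have hpg : IsPGroup p (G ⧸ L) := by
      obtain ⟨k, hk⟩ := IsPGroup.iff_card.mp P.isPGroup'
      have h1 : L.index ∣ p ^ k := by
        rw [← hk, ← hNidx]
        exact Subgroup.index_dvd_of_le hNL
      obtain ⟨j, _, hj⟩ := (Nat.dvd_prime_pow hp).mp h1
      apply IsPGroup.of_card (n := j)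
      rw [← Subgroup.index_eq_card, hj]
    have hcore : Cfsg.pCore p (G ⧸ L) = ⊤ := by
      apply top_le_iff.mp
      apply Cfsg.Agent.Lib.Helper5.le_pCore ⊤ Subgroup.normal_top
      exact hpg.to_subgroup ⊤
    rw [hKdef, hcore, Subgroup.comap_top, ← Subgroup.index_eq_card, Subgroup.index_top]
    exact Nat.coprime_one_left _
  · intro hcop
    set K := Cfsg.pPrimePCore p G with hK
    have hKn : K.Normal := by
      rw [hKdef]
      have : (Cfsg.pCore p (G ⧸ L)).Normal :=
        Subgroup.sSup_normal _ (fun _ h => h.1)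
      exact this.comap _
    refine ⟨S, ?_⟩
    rw [Cfsg.Agent.S0071.result S]
    intro Q hQS g hg hgp
    have hQp : IsPGroup p Q := S.isPGroup'.to_le hQS
    have hQmeta : Cfsg.IsMetacyclic Q := by
      have h1 := Cfsg.Agent.Lib.Lead.Metacyclic.isMetacyclic_subgroup hS (Q.subgroupOf S)
      exact Cfsg.Agent.Lib.Lead.Metacyclic.isMetacyclic_of_mulEquiv
        (Subgroup.subgroupOfEquivOfLe hQS) h1
    obtain ⟨n, hn⟩ := IsPGroup.iff_card.mp hQp
    have hΦ : (frattini Q).index ∣ p ^ 2 :=
      Cfsg.Agent.Lib.Lead.Metacyclic.frattini_index_dvd p hQp hQmeta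
    obtain ⟨r, hr2, hr⟩ := (Nat.dvd_prime_pow hp).mp hΦ
    set ν := Q.normalizerMonoidHom with hν
    have hαord : orderOf (ν ⟨g, hg⟩) ∣ orderOf g := by
      have := orderOf_map_dvd ν (⟨g, hg⟩ : Subgroup.normalizer (Q : Set G))
      rwa [Subgroup.orderOf_mk] at this
    have hαcop : (orderOf (ν ⟨g, hg⟩)).Coprime p := Nat.Coprime.coprime_dvd_left hαord hgp
    have hαdvd := Cfsg.Agent.Lib.Lead.orderOf_mulAut_dvd hn hr (ν ⟨g, hg⟩) hαcop
    have hα1 : orderOf (ν ⟨g, hg⟩) = 1 := by
      by_contra hne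
      obtain ⟨ℓ, hℓ, hℓα⟩ := Nat.exists_prime_and_dvd hne
      have hℓp : ℓ ≠ p := by
        rintro rfl
        exact (Nat.Prime.coprime_iff_not_dvd hℓ).mp hαcop.symm hℓα
      have h1 : ℓ ∣ p ^ 2 - 1 :=
        Cfsg.Agent.Lib.Lead.prime_dvd_sq_sub_one hp hℓ hℓp hr2 (hℓα.trans hαdvd)
      have h2 : ℓ ∣ Nat.card (G ⧸ K) := by
        by_contra hnd
        rw [← Subgroup.index_eq_card] at hnd
        have hgo : orderOf g ≠ 0 := (orderOf_pos g).ne'
        obtain ⟨a, m, hm, hom⟩ := Nat.exists_eq_pow_mul_and_not_dvd hgo ℓ hℓ.ne_one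
        set h := g ^ m with hh
        have hpow : h ^ (ℓ ^ a) = 1 := by
          rw [hh, ← pow_mul, mul_comm, ← hom, pow_orderOf_eq_one]
        have hoh : orderOf h ∣ ℓ ^ a := orderOf_dvd_of_pow_eq_one hpow
        -- h ∈ K
        have hhK : h ∈ K := by
          have hc1 : Nat.Coprime K.index (orderOf h) := by
            apply Nat.Coprime.coprime_dvd_right hoh
            exact ((Nat.Prime.coprime_iff_not_dvd hℓ).mpr hnd).symm.pow_right a
          obtain ⟨t, ht⟩ := exists_pow_eq_self_of_coprime hc1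
          rw [← ht]
          exact K.pow_mem (Subgroup.pow_index_mem K h) t
        -- h ∈ L
        have hhL : h ∈ L := by
          rw [hKdef, Subgroup.mem_comap] at hhK
          obtain ⟨k, hk⟩ := (Cfsg.Agent.Lib.Helper5.isPGroup_pCore p (G ⧸ L)) ⟨_, hhK⟩
          have hk' : (QuotientGroup.mk' L h) ^ p ^ k = 1 := by
            have := congrArg Subtype.val hk
            simpa using this
          rw [← map_pow, QuotientGroup.mk'_apply, QuotientGroup.eq_one_iff] at hk'
          have hc1 : Nat.Coprime (p ^ k) (orderOf h) := by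
            apply Nat.Coprime.coprime_dvd_right hoh
            apply Nat.Coprime.pow _ _
            exact (Nat.coprime_primes hp hℓ).mpr hℓp.symm
          obtain ⟨t, ht⟩ := exists_pow_eq_self_of_coprime hc1
          rw [← ht]
          exact L.pow_mem hk' t
        have hhN : h ∈ Subgroup.normalizer (Q : Set G) :=
          (Subgroup.normalizer (Q : Set G)).pow_mem hg m
        have hQL : Q ⊓ L = ⊥ := by
          apply disjoint_iff.mp
          apply Subgroup.disjoint_of_coprime_natCard
          rw [hn]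
          exact (Nat.Coprime.pow_left n hLcop.symm)
        have hhC : h ∈ Subgroup.centralizer (Q : Set G) := by
          rw [Subgroup.mem_centralizer_iff]
          intro x hx
          have hx' : x ∈ Q := hx
          have hc1 : h * x * h⁻¹ * x⁻¹ ∈ Q := by
            have := (Subgroup.mem_normalizer_iff.mp hhN x).mp hx'
            exact Q.mul_mem this (Q.inv_mem hx')
          have hc2 : h * x * h⁻¹ * x⁻¹ ∈ L := by
            have h3 : x * h⁻¹ * x⁻¹ ∈ L := hLn.conj_mem _ (L.inv_mem hhL) x
            have h4 : h * x * h⁻¹ * x⁻¹ = h * (x * h⁻¹ * x⁻¹) := by group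
            rw [h4]
            exact L.mul_mem hhL h3
          have hc3 : h * x * h⁻¹ * x⁻¹ ∈ Q ⊓ L := ⟨hc1, hc2⟩
          rw [hQL, Subgroup.mem_bot] at hc3
          have : x * h = h * x * h⁻¹ * x⁻¹ * (x * h) := by rw [hc3, one_mul]
          rw [this]; group
        have hker : (⟨h, hhN⟩ : Subgroup.normalizer (Q : Set G)) ∈ ν.ker := by
          rw [hν, Subgroup.normalizerMonoidHom_ker, Subgroup.mem_subgroupOf]
          exact hhC
        have hνm : (ν ⟨g, hg⟩) ^ m = 1 := by
          rw [← map_pow]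
          exact hker
        have := orderOf_dvd_of_pow_eq_one hνm
        exact hm (hℓα.trans this)
      exact hℓ.one_lt.ne' (Nat.eq_one_of_dvd_coprimes hcop h2 h1)
    have hone : ν ⟨g, hg⟩ = 1 := orderOf_eq_one_iff.mp hα1
    have hker : (⟨g, hg⟩ : Subgroup.normalizer (Q : Set G)) ∈ ν.ker := hone
    rw [hν, Subgroup.normalizerMonoidHom_ker, Subgroup.mem_subgroupOf] at hker
    exact hker

end Cfsg.Agent.S4419
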