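import Cfsg.Statements.S4420

set_option autoImplicit false
open Cfsg

namespace Cfsg.Agent.S4420

/-- Structure of groups in which every element outside some proper subgroup has square 1. Let H be a finite group with a proper subgroup A such that every element outside A has square 1. Then H has an abelian normal subgroup B of index 2 such that every element outside B is an involution inverting every element of B; and if H is not an elementary abelian 2-group, B is the only abelian normal subgroup of index 2 with this property. -/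
theorem result {H : Type*} [Group H] [Finite H] (A : Subgroup H) (hA : A ≠ ⊤) (hD : ∀ x : H, x ∉ A → x ^ 2 = 1) :
    ∃ B : Subgroup H, B.Normal ∧ IsMulCommutative ↥B ∧ B.index = 2 ∧
      (∀ x : H, x ∉ B → x ^ 2 = 1 ∧ ∀ b ∈ B, x * b * x⁻¹ = b⁻¹) ∧
      (¬ (IsMulCommutative H ∧ ∀ x : H, x ^ 2 = 1) →
        ∀ B' : Subgroup H, B'.Normal → IsMulCommutative ↥B' → B'.index = 2 →
          (∀ x : H, x ∉ B' → x ^ 2 = 1 ∧ ∀ b ∈ B', x * b * x⁻¹ = b⁻¹) → B' = B) := by
  classical
  by_cases hE : IsMulCommutative H ∧ ∀ x : H, x ^ 2 = 1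
  · -- elementary abelian case
    obtain ⟨hcomm, hexp⟩ := hE
    have hcm : ∀ a b : H, a * b = b * a := fun a b => hcomm.is_comm.comm a b
    have h2 : IsPGroup 2 H := by
      intro g
      exact ⟨1, by rw [pow_one]; exact hexp g⟩
    have : Fact (Nat.Prime 2) := ⟨Nat.prime_two⟩
    obtain ⟨n, hn⟩ := IsPGroup.iff_card.mp h2
    have hn1 : n ≠ 0 := by
      intro h0
      rw [h0, pow_zero] at hn
      apply hA
      have : Subsingleton H := (Nat.card_eq_one_iff_unique.mp hn).1
      exact Subsingleton.elim _ _
    obtain ⟨B, hB⟩ := Sylow.exists_subgroup_card_pow_prime 2 (n := n - 1)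
      (by rw [hn]; exact pow_dvd_pow 2 (Nat.sub_le n 1))
    refine ⟨B, ⟨fun b hb g => by rw [hcm g b]; simpa using hb⟩, ⟨⟨fun a b => Subtype.ext (hcm a b)⟩⟩, ?_, ?_, ?_⟩
    · have := Subgroup.card_mul_index B
      rw [hn, hB] at this
      have h3 : 2 ^ n = 2 ^ (n - 1) * 2 := by
        rw [← pow_succ]; congr 1; omega
      rw [h3] at this
      exact Nat.eq_of_mul_eq_mul_left (by positivity) this
    · intro x _
      refine ⟨hexp x, ?_⟩
      intro b _
      rw [hcm x b, mul_inv_cancel_right]
      have := hexp b
      rw [pow_two] at this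
      exact (eq_inv_of_mul_eq_one_left this)
    · intro hne
      exact absurd ⟨hcomm, hexp⟩ hne
  · -- non elementary abelian: B = A
    have hinv : ∀ x : H, x ∉ A → x⁻¹ = x := by
      intro x hx
      have := hD x hx
      rw [pow_two] at this
      exact (eq_inv_of_mul_eq_one_left this).symm
    have hinvert : ∀ x : H, x ∉ A → ∀ b ∈ A, x * b * x⁻¹ = b⁻¹ := by
      intro x hx b hb
      have hxb : x * b ∉ A := by
        intro h
        apply hx
        have := A.mul_mem h (A.inv_mem hb)
        simpa using this
      have h1 := hD _ hxb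
      rw [pow_two] at h1
      rw [hinv x hx]
      have : x * b * x * b = 1 := by rw [← h1]; group
      have h2 : x * b * x = b⁻¹ := eq_inv_of_mul_eq_one_left this
      exact h2
    -- there is an element with h0² ≠ 1
    have hex : ∃ h0 : H, h0 ^ 2 ≠ 1 := by
      by_contra hcon
      push Not at hcon
      apply hE
      refine ⟨⟨⟨fun a b => ?_⟩⟩, hcon⟩
      have h1 := hcon (a * b)
      have ha := hcon a
      have hb := hcon b
      rw [pow_two] at h1 ha hb
      have ha' : a⁻¹ = a := (eq_inv_of_mul_eq_one_left ha).symm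
      have hb' : b⁻¹ = b := (eq_inv_of_mul_eq_one_left hb).symm
      have : (a * b)⁻¹ = a * b := (eq_inv_of_mul_eq_one_left h1).symm
      rw [mul_inv_rev, ha', hb'] at this
      exact this.symm
    obtain ⟨h0, hh0⟩ := hex
    have hh0A : h0 ∈ A := by
      by_contra h
      exact hh0 (hD h0 h)
    -- T * T ⊆ A
    have hTT : ∀ x y : H, x ∉ A → y ∉ A → y * x ∈ A := by
      intro x y hx hy
      by_contra hyx
      have h1 := hinvert (y * x) hyx h0 hh0A
      have h2 : (y * x) * h0 * (y * x)⁻¹ = y * (x * h0 * x⁻¹) * y⁻¹ := by group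
      rw [h2, hinvert x hx h0 hh0A, hinvert y hy _ (A.inv_mem hh0A), inv_inv] at h1
      apply hh0
      rw [pow_two]
      calc h0 * h0 = h0 * h0⁻¹ := by rw [← h1]
        _ = 1 := mul_inv_cancel h0
    obtain ⟨x0, hx0⟩ : ∃ x0 : H, x0 ∉ A := by
      by_contra hcon
      push Not at hcon
      exact hA (eq_top_iff.mpr (fun x _ => hcon x))
    have hidx : A.index = 2 := by
      rw [Subgroup.index_eq_two_iff]
      refine ⟨x0, fun b => ?_⟩
      by_cases hb : b ∈ A
      · right
        refine ⟨hb, ?_⟩
        intro h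
        apply hx0
        have := A.mul_mem (A.inv_mem hb) h
        simpa using this
      · left
        exact ⟨hTT x0 b hx0 hb, hb⟩
    have hAcomm : ∀ a ∈ A, ∀ b ∈ A, a * b = b * a := by
      intro a ha b hb
      have h1 := hinvert x0 hx0 (a * b) (A.mul_mem ha hb)
      have h2 : x0 * (a * b) * x0⁻¹ = (x0 * a * x0⁻¹) * (x0 * b * x0⁻¹) := by group
      rw [h2, hinvert x0 hx0 a ha, hinvert x0 hx0 b hb, mul_inv_rev] at h1
      have := congrArg (fun z => z⁻¹) h1
      simp only [mul_inv_rev, inv_inv] at this
      exact this.symm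
    refine ⟨A, Subgroup.normal_of_index_eq_two hidx, ⟨⟨fun a b => Subtype.ext (hAcomm a a.2 b b.2)⟩⟩, hidx, ?_, ?_⟩
    · intro x hx
      exact ⟨hD x hx, hinvert x hx⟩
    · intro _ B' hB'n hB'c hB'i hB'
      -- B' contains h0
      have hh0B : h0 ∈ B' := by
        by_contra h
        exact hh0 (hB' h0 h).1
      by_contra hne
      -- exists x ∈ B' \ A
      have hexx : ∃ x ∈ B', x ∉ A := by
        by_contra hcon
        push Not at hcon
        have hle : B' ≤ A := hcon
        apply hne
        apply Subgroup.eq_of_le_of_card_ge hle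
        have h1 := Subgroup.card_mul_index A
        have h2 := Subgroup.card_mul_index B'
        rw [hidx] at h1
        rw [hB'i] at h2
        omega
      obtain ⟨x, hxB, hxA⟩ := hexx
      have h1 := hinvert x hxA h0 hh0A
      have h2 : x * h0 = h0 * x := by
        have := hB'c.is_comm.comm (⟨x, hxB⟩ : B') ⟨h0, hh0B⟩
        exact congrArg Subtype.val this
      rw [h2, mul_inv_cancel_right] at h1
      apply hh0
      rw [pow_two]
      calc h0 * h0 = h0 * h0⁻¹ := by rw [← h1]
        _ = 1 := mul_inv_cancel h0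

end Cfsg.Agent.S4420
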