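import Cfsg.Statements.S4421

set_option autoImplicit false
open Cfsg

namespace Cfsg.Agent.S4421

theorem mem_map_conj {G : Type*} [Group G] (A : Subgroup G) (g x : G) :
    x ∈ A.map (MulAut.conj g).toMonoidHom ↔ g⁻¹ * x * g ∈ A := by
  constructor
  · rintro ⟨a, ha, rfl⟩
    simpa [MulAut.conj_apply, mul_assoc] using ha
  · intro h
    refine ⟨g⁻¹ * x * g, h, ?_⟩
    simp [MulAut.conj_apply, mul_assoc]

theorem map_conj_mul {G : Type*} [Group G] (A : Subgroup G) (a b : G) :
    A.map (MulAut.conj (a * b)).toMonoidHom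
      = (A.map (MulAut.conj b).toMonoidHom).map (MulAut.conj a).toMonoidHom := by
  ext x
  simp only [mem_map_conj]
  simp [mul_assoc]

theorem map_conj_one {G : Type*} [Group G] (A : Subgroup G) :
    A.map (MulAut.conj (1 : G)).toMonoidHom = A := by
  ext x
  simp [mem_map_conj]

theorem map_conj_eq_self_iff {G : Type*} [Group G] (A : Subgroup G) (g : G) :
    A.map (MulAut.conj g).toMonoidHom = A ↔ g ∈ Subgroup.normalizer (A : Set G) := by
  rw [Subgroup.mem_normalizer_iff]
  constructor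
  · intro h x
    constructor
    · intro hx
      rw [← h, mem_map_conj]
      simpa [mul_assoc] using hx
    · intro hx
      rw [← h, mem_map_conj] at hx
      simpa [mul_assoc] using hx
  · intro h
    ext x
    rw [mem_map_conj]
    have := h (g⁻¹ * x * g)
    rw [this]
    simp [mul_assoc]

theorem result {G : Type*} [Group G] [Finite G] (A S H : Subgroup G)
    (hAS : A ≤ S) (hSH : S ≤ H)
    (h1 : ∀ g : G, A.map (MulAut.conj g).toMonoidHom ≤ S → ∃ s ∈ S, A.map (MulAut.conj g).toMonoidHom = A.map (MulAut.conj s).toMonoidHom)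
    (h2 : ∀ g : G, S.map (MulAut.conj g).toMonoidHom ≤ H → ∃ y ∈ H, S.map (MulAut.conj g).toMonoidHom = S.map (MulAut.conj y).toMonoidHom)
    (h3 : ∀ x ∈ Subgroup.normalizer (A : Set G), S.map (MulAut.conj x).toMonoidHom ≤ H) :
    ∀ x ∈ Subgroup.normalizer (A : Set G), ∃ y ∈ H ⊓ Subgroup.normalizer (A : Set G),
      ∃ z ∈ Subgroup.normalizer (S : Set G) ⊓ Subgroup.normalizer (A : Set G), x = y * z := by
  intro x hx
  obtain ⟨y, hyH, hy⟩ := h2 x (h3 x hx)
  have hxA : A.map (MulAut.conj x).toMonoidHom = A := (map_conj_eq_self_iff A x).2 hx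
  -- y⁻¹ x normalizes S
  have hyxS : y⁻¹ * x ∈ Subgroup.normalizer (S : Set G) := by
    rw [← map_conj_eq_self_iff, map_conj_mul, hy, ← map_conj_mul, inv_mul_cancel, map_conj_one]
  -- A^{y⁻¹} ≤ S
  have hAy : A.map (MulAut.conj y⁻¹).toMonoidHom ≤ S := by
    have e1 : A.map (MulAut.conj y⁻¹).toMonoidHom
        = (A.map (MulAut.conj x).toMonoidHom).map (MulAut.conj y⁻¹).toMonoidHom := by rw [hxA]
    rw [e1]
    have e2 : (A.map (MulAut.conj x).toMonoidHom).map (MulAut.conj y⁻¹).toMonoidHom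
        ≤ (S.map (MulAut.conj x).toMonoidHom).map (MulAut.conj y⁻¹).toMonoidHom :=
      Subgroup.map_mono (Subgroup.map_mono hAS)
    refine e2.trans ?_
    rw [hy, ← map_conj_mul, inv_mul_cancel, map_conj_one]
  obtain ⟨s, hsS, hs⟩ := h1 y⁻¹ hAy
  have hysA : y * s ∈ Subgroup.normalizer (A : Set G) := by
    rw [← map_conj_eq_self_iff, map_conj_mul, ← hs, ← map_conj_mul, mul_inv_cancel, map_conj_one]
  have hysH : y * s ∈ H := H.mul_mem hyH (hSH hsS)
  refine ⟨y * s, ⟨hysH, hysA⟩, (y * s)⁻¹ * x, ⟨?_, ?_⟩, by group⟩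
  · have : (y * s)⁻¹ * x = s⁻¹ * (y⁻¹ * x) := by group
    rw [this]
    exact Subgroup.mul_mem _ (Subgroup.inv_mem _ (Subgroup.le_normalizer hsS)) hyxS
  · exact Subgroup.mul_mem _ (Subgroup.inv_mem _ hysA) hx

end Cfsg.Agent.S4421
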