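import Cfsg.Statements.S4422
import Mathlib

set_option autoImplicit false
open Cfsg

namespace Cfsg.Agent.S4422

theorem dvd_pow_sub_one_iff (r q i : ℕ) (hq : 1 ≤ q) :
    r ∣ q ^ i - 1 ↔ ((q : ZMod r)) ^ i = 1 := by
  have h1 : 1 ≤ q ^ i := Nat.one_le_pow _ _ hq
  rw [← ZMod.natCast_eq_zero_iff, Nat.cast_sub h1, Nat.cast_pow, Nat.cast_one, sub_eq_zero]

theorem prime_case (q e r : ℕ) (hq : 2 ≤ q) (he : 1 ≤ e) (hr : r.Prime)
    (hre : r ∣ q ^ e - 1) (hcop : ∀ i : ℕ, 1 ≤ i → i < e → ¬ r ∣ q ^ i - 1) :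
    r % e = 1 % e := by
  haveI : Fact r.Prime := ⟨hr⟩
  have hq1 : 1 ≤ q := by omega
  have hqe : ((q : ZMod r)) ^ e = 1 := (dvd_pow_sub_one_iff r q e hq1).1 hre
  have hq0 : (q : ZMod r) ≠ 0 := by
    intro h0
    rw [h0, zero_pow (by omega)] at hqe
    exact zero_ne_one hqe
  have hord : orderOf (q : ZMod r) = e := by
    have hdvd : orderOf (q : ZMod r) ∣ e := orderOf_dvd_of_pow_eq_one hqe
    have hpos : 0 < orderOf (q : ZMod r) := orderOf_pos_iff.2 (isOfFinOrder_iff_pow_eq_one.2 ⟨e, by omega, hqe⟩)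
    have hle : orderOf (q : ZMod r) ≤ e := Nat.le_of_dvd (by omega) hdvd
    by_contra hne
    have hlt : orderOf (q : ZMod r) < e := lt_of_le_of_ne hle hne
    apply hcop _ hpos hlt
    rw [dvd_pow_sub_one_iff r q _ hq1]
    exact pow_orderOf_eq_one _
  have hdvd : e ∣ r - 1 := by
    rw [← hord]
    exact ZMod.orderOf_dvd_card_sub_one hq0
  obtain ⟨k, hk⟩ := hdvd
  have hr1 : r = e * k + 1 := by have := hr.two_le; omega
  rw [hr1]
  simp [Nat.add_mod]

theorem result (q e m : ℕ) (hq : 2 ≤ q) (he : 1 ≤ e)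
    (hm : m ∣ q ^ e - 1) (hcop : ∀ i : ℕ, 1 ≤ i → i < e → Nat.Coprime m (q ^ i - 1)) :
    m % e = 1 % e := by
  have hpos : 0 < q ^ e - 1 := by
    have : 2 ^ 1 ≤ q ^ e := by
      calc 2 ^ 1 ≤ q ^ 1 := by simpa using hq
        _ ≤ q ^ e := Nat.pow_le_pow_right (by omega) he
    omega
  have hm0 : m ≠ 0 := by
    rintro rfl
    rw [zero_dvd_iff] at hm
    omega
  -- all prime factors are 1 mod e
  have hprime : ∀ r : ℕ, r.Prime → r ∣ m → r % e = 1 % e := by
    intro r hr hrm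
    apply prime_case q e r hq he hr (hrm.trans hm)
    intro i hi hie hri
    have hc := hcop i hi hie
    have : r ∣ Nat.gcd m (q ^ i - 1) := Nat.dvd_gcd hrm hri
    rw [hc] at this
    have := Nat.le_of_dvd one_pos this
    have := hr.two_le
    omega
  -- induction
  clear hm hcop
  induction m using Nat.recOnMul with
  | zero => exact absurd rfl hm0
  | one => rfl
  | prime p hp => exact hprime p hp dvd_rfl
  | mul a b iha ihb =>
    have ha0 : a ≠ 0 := fun h => hm0 (by rw [h, zero_mul])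
    have hb0 : b ≠ 0 := fun h => hm0 (by rw [h, mul_zero])
    have ha := iha ha0 (fun r hr hra => hprime r hr (hra.mul_right b))
    have hb := ihb hb0 (fun r hr hrb => hprime r hr (hrb.mul_left a))
    rw [Nat.mul_mod, ha, hb, ← Nat.mul_mod]

end Cfsg.Agent.S4422
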