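import Cfsg.Statements.S4425
import Cfsg.Agent.Lib.Helper8.BrauerTilde
import Cfsg.Agent.Lib.Helper8.CharDegree

set_option autoImplicit false
open Cfsg

namespace Cfsg.Agent.S4425

open Cfsg.Agent.Lib.Helper8

/-- Let χ be an irreducible character of the finite group G, p a prime, p^a the p-part of the order of G and p^b the p-part of the degree χ(1). Let χ̃ be the class function equal to p^a · χ on p-regular elements and zero on p-singular elements. Then p^(−b) · χ̃ is a generalized character of G, while p^(−(b+1)) · χ̃ is not. -/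
theorem result {G : Type*} [Group G] [Finite G] (p : ℕ) [Fact p.Prime] (χ : Cfsg.IrrCharacter G) : Cfsg.IsGeneralizedCharacter G (fun x : G => if p ∣ orderOf x then (0 : ℂ) else ((p ^ ((Nat.card G).factorization p - (Cfsg.charDegree (χ : G → ℂ)).factorization p) : ℕ) : ℂ) * (χ : G → ℂ) x) ∧ ¬ Cfsg.IsGeneralizedCharacter G (fun x : G => if p ∣ orderOf x then (0 : ℂ) else ((p ^ (Nat.card G).factorization p : ℕ) : ℂ) / ((p ^ ((Cfsg.charDegree (χ : G → ℂ)).factorization p + 1) : ℕ) : ℂ) * (χ : G → ℂ) x) := by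
  classical
  have : Fintype G := Fintype.ofFinite G
  have hp : p.Prime := Fact.out
  obtain ⟨n', ρ, hρ, hρχ⟩ := χ.2
  have hfr : Module.finrank ℂ (Fin n' → ℂ) = Cfsg.charDegree (χ : G → ℂ) := by
    have h1 : ((Module.finrank ℂ (Fin n' → ℂ) : ℕ) : ℂ) = (Cfsg.charDegree (χ : G → ℂ) : ℂ) := by
      rw [← irr_one_eq_charDegree χ, ← hρχ, Representation.char_one]
    exact_mod_cast h1
  have hfpos : 0 < Cfsg.charDegree (χ : G → ℂ) := charDegree_pos χ
  have hfdvd : Cfsg.charDegree (χ : G → ℂ) ∣ Nat.card G := by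
    rw [← hfr]; exact degree_dvd_card hρ
  have hGpos : 0 < Nat.card G := Nat.card_pos
  have hble : (Cfsg.charDegree (χ : G → ℂ)).factorization p ≤ (Nat.card G).factorization p :=
    (Nat.factorization_le_iff_dvd hfpos.ne' hGpos.ne').mpr hfdvd p
  constructor
  · have h := ptilde_gen ρ hρ p ((Nat.card G).factorization p)
      ((Cfsg.charDegree (χ : G → ℂ)).factorization p) hble (Nat.ordProj_dvd _ p)
      (Nat.pow_succ_factorization_not_dvd hGpos.ne' hp)
      (by rw [hfr]; exact Nat.ordProj_dvd _ p)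
    rw [hρχ] at h
    exact h
  · intro hη
    obtain ⟨P⟩ : Nonempty (Sylow p G) := inferInstance
    obtain ⟨k, hk⟩ := sylow_card_dvd_of_vanish p hη (by intro g hg; simp only [if_pos hg]) P
    have h1 : ¬ p ∣ orderOf (1 : G) := by
      rw [orderOf_one]
      exact hp.one_lt.ne' ∘ Nat.dvd_one.mp
    simp only [if_neg h1] at hk
    rw [P.card_eq_multiplicity, irr_one_eq_charDegree χ] at hk
    have hpa : ((p ^ (Nat.card G).factorization p : ℕ) : ℂ) ≠ 0 :=
      Nat.cast_ne_zero.mpr (pow_pos hp.pos _).ne'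
    have hpb : ((p ^ ((Cfsg.charDegree (χ : G → ℂ)).factorization p + 1) : ℕ) : ℂ) ≠ 0 :=
      Nat.cast_ne_zero.mpr (pow_pos hp.pos _).ne'
    have h2 : ((Cfsg.charDegree (χ : G → ℂ) : ℤ) : ℂ) =
        ((k * (p ^ ((Cfsg.charDegree (χ : G → ℂ)).factorization p + 1) : ℕ) : ℤ) : ℂ) := by
      push_cast
      field_simp at hk
      push_cast at hk
      linear_combination hk
    have h3 : (Cfsg.charDegree (χ : G → ℂ) : ℤ) =
        k * (p ^ ((Cfsg.charDegree (χ : G → ℂ)).factorization p + 1) : ℕ) := by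
      exact_mod_cast h2
    have h4 : ((p ^ ((Cfsg.charDegree (χ : G → ℂ)).factorization p + 1) : ℕ) : ℤ) ∣
        (Cfsg.charDegree (χ : G → ℂ) : ℤ) := ⟨k, by rw [h3, mul_comm]⟩
    exact Nat.pow_succ_factorization_not_dvd hfpos.ne' hp (Int.natCast_dvd_natCast.mp h4)

end Cfsg.Agent.S4425
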