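import Cfsg.Statements.S4444
import Cfsg.Agent.Lib.Helper8.GlaubPGroup

set_option autoImplicit false
open Cfsg

namespace Cfsg.Agent.S4444

open Cfsg.Agent.Lib.Helper8
set_option maxHeartbeats 1000000

theorem multZ_conv {A : Type*} [Group A] [Fintype A] {φ ψ : A → ℂ} (hφ : IsCharacter A φ)
    (hψ : IsCharacter A ψ) (p : ℕ) :
    (∃ m : ℕ, Cfsg.classInner φ ψ = (m : ℂ) ∧ ¬ p ∣ m) ↔ ¬ (p : ℤ) ∣ multZ φ ψ := by
  constructor
  · rintro ⟨m, hm, hpm⟩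
    rw [multZ_eq_of_nat hm, Int.natCast_dvd_natCast]
    exact hpm
  · intro h
    obtain ⟨k, hk⟩ := classInner_character_nat hφ hψ
    refine ⟨k, hk, ?_⟩
    rw [multZ_eq_of_nat hk, Int.natCast_dvd_natCast] at h
    exact h

/-- The Glauberman correspondence for a p-group of operators. Inside a finite group Γ let S normalise G with the orders of G and S coprime, S a p-group, and let C = G ⊓ C(S) be the fixed points. Call an irreducible character χ of G S-invariant when χ(s g s⁻¹) = χ(g) for s ∈ S, g ∈ G. Then: (i) for every S-invariant χ there is exactly one irreducible character β of C whose multiplicity [χ_C, β] in the restriction of χ is not divisible by p; (ii) that multiplicity is ≡ 1 or ≡ −1 (mod p); (iii) distinct S-invariant χ give distinct β; (iv) every irreducible character of C arises in this way. So χ ↦ β is a bijection from the S-invariant irreducible characters of G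 onto the irreducible characters of C. -/
theorem result {Γ : Type*} [Group Γ] [Fintype Γ] (G S : Subgroup Γ) [Fintype G] (hnorm : ∀ s ∈ S, ∀ g ∈ G, s * g * s⁻¹ ∈ G) (hcop : (Nat.card G).Coprime (Nat.card S)) (p : ℕ) (hp : p.Prime) (hS : IsPGroup p S) (C : Subgroup Γ) [Fintype C] (hC : C = G ⊓ Subgroup.centralizer (S : Set Γ)) (hCG : C ≤ G) : (∀ χ : Cfsg.IrrCharacter G, (∀ s ∈ S, ∀ g g' : G, (g' : Γ) = s * g * s⁻¹ → (χ : G → ℂ) g' = (χ : G → ℂ) g) → ∃! β : Cfsg.IrrCharacter C, ∃ m : ℕ, Cfsg.classInner (fun c : C => (χ : G → ℂ) ⟨c, hCG c.2⟩) (β : C → ℂ) = (m : ℂ) ∧ ¬ p ∣ m) ∧ (∀ χ : Cfsg.IrrCharacter G, (∀ s ∈ S, ∀ g g' : G, (g' : Γ) = s * g * s⁻¹ → (χ : G → ℂ) g' = (χ : G → ℂ) g) → ∀ β : Cfsg.IrrCharacter C, ∀ m : ℕ, Cfsg.classInner (fun c : C => (χ : G → ℂ) ⟨c, hCG c.2⟩) (β : C → ℂ) = (m : ℂ) → ¬ p ∣ m → ((m : ℤ) ≡ 1 [ZMOD p] ∨ (m : ℤ) ≡ -1 [ZMOD p])) ∧ (∀ χ χ' : Cfsg.IrrCharacter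 G, (∀ s ∈ S, ∀ g g' : G, (g' : Γ) = s * g * s⁻¹ → (χ : G → ℂ) g' = (χ : G → ℂ) g) → (∀ s ∈ S, ∀ g g' : G, (g' : Γ) = s * g * s⁻¹ → (χ' : G → ℂ) g' = (χ' : G → ℂ) g) → ∀ β : Cfsg.IrrCharacter C, ∀ m m' : ℕ, Cfsg.classInner (fun c : C => (χ : G → ℂ) ⟨c, hCG c.2⟩) (β : C → ℂ) = (m : ℂ) → ¬ p ∣ m → Cfsg.classInner (fun c : C => (χ' : G → ℂ) ⟨c, hCG c.2⟩) (β : C → ℂ) = (m' : ℂ) → ¬ p ∣ m' → χ = χ') ∧ (∀ β : Cfsg.IrrCharacter C, ∃ χ : Cfsg.IrrCharacter G, (∀ s ∈ S, ∀ g g' : G, (g' : Γ) = s * g * s⁻¹ → (χ : G → ℂ) g' = (χ : G → ℂ) g) ∧ ∃ m : ℕ, Cfsg.classInner (fun c : C => (χ : G → ℂ) ⟨c, hCG c.2⟩) (β : C → ℂ) = (m : ℂ) ∧ ¬ p ∣ m) := by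
  classical
  haveI : Fact p.Prime := ⟨hp⟩
  have hC' : ∀ x, x ∈ C ↔ x ∈ G ∧ ∀ s ∈ S, x * s = s * x := by
    intro x
    rw [hC, Subgroup.mem_inf, Subgroup.mem_centralizer_iff]
    constructor
    · rintro ⟨h1, h2⟩
      exact ⟨h1, fun s hs => (h2 s hs).symm⟩
    · rintro ⟨h1, h2⟩
      exact ⟨h1, fun s hs => (h2 s hs).symm⟩
  obtain ⟨Q1, Q2, Q3⟩ := glaub_pgroup_aux S p hS (Nat.card G) G rfl hnorm hcop C hC' hCG
  have hresc : ∀ χ : Cfsg.IrrCharacter G, IsCharacter C (fun c : C => (χ : G → ℂ) ⟨c, hCG c.2⟩) := by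
    intro χ
    exact isCharacter_comp (Subgroup.inclusion hCG) (irr_isCharacter χ.2)
  have hpε := not_dvd_sign p hp
  refine ⟨?_, ?_, ?_, ?_⟩
  · intro χ hχ
    obtain ⟨β, ε, hε, cong⟩ := Q1 χ hχ
    refine ⟨β, ?_, ?_⟩
    · show ∃ m : ℕ, _
      rw [multZ_conv (hresc χ) (irr_isCharacter β.2)]
      intro hd
      have := cong β
      rw [if_pos rfl] at this
      exact hpε ε hε (Int.modEq_zero_iff_dvd.mp
        (this.symm.trans (Int.modEq_zero_iff_dvd.mpr hd)))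
    · intro β' hβ'
      have h1 := (multZ_conv (hresc χ) (irr_isCharacter β'.2) p).mp hβ'
      by_contra hne
      have := cong β'
      rw [if_neg hne] at this
      exact h1 (Int.modEq_zero_iff_dvd.mp this)
  · intro χ hχ β m hm hpm
    obtain ⟨β₀, ε, hε, cong⟩ := Q1 χ hχ
    have h1 : multZ (fun c : C => (χ : G → ℂ) ⟨c, hCG c.2⟩) β.1 = m := multZ_eq_of_nat hm
    have h2 := cong β
    rw [h1] at h2
    by_cases hβ : β = β₀
    · rw [if_pos hβ] at h2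
      rcases hε with rfl | rfl
      · exact Or.inl h2
      · exact Or.inr h2
    · rw [if_neg hβ] at h2
      exfalso
      have := Int.modEq_zero_iff_dvd.mp h2
      rw [Int.natCast_dvd_natCast] at this
      exact hpm this
  · intro χ χ' hχ hχ' β m m' hm hpm hm' hpm'
    apply Q2 χ χ' hχ hχ' β
    · exact (multZ_conv (hresc χ) (irr_isCharacter β.2) p).mp ⟨m, hm, hpm⟩
    · exact (multZ_conv (hresc χ') (irr_isCharacter β.2) p).mp ⟨m', hm', hpm'⟩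
  · intro β
    obtain ⟨χ, hχ, hpm⟩ := Q3 β
    exact ⟨χ, hχ, (multZ_conv (hresc χ) (irr_isCharacter β.2) p).mpr hpm⟩

end Cfsg.Agent.S4444
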