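import Cfsg.Statements.S4446
import Cfsg.Agent.Lib.Helper8.GlaubMain

set_option autoImplicit false
open Cfsg

namespace Cfsg.Agent.S4446

open Cfsg.Agent.Lib.Helper8
set_option maxHeartbeats 1000000

theorem normal_of_hnorm {Γ : Type*} [Group Γ] (G S : Subgroup Γ)
    (hnorm : ∀ s ∈ S, ∀ g ∈ G, s * g * s⁻¹ ∈ G) (htop : G ⊔ S = ⊤) : G.Normal := by
  rw [← Subgroup.normalizer_eq_top_iff]
  rw [eq_top_iff, ← htop, sup_le_iff]
  refine ⟨Subgroup.le_normalizer, ?_⟩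
  intro s hs
  rw [Subgroup.mem_normalizer_iff]
  intro g
  constructor
  · exact hnorm s hs g
  · intro h
    have := hnorm s⁻¹ (S.inv_mem hs) _ h
    simpa [mul_assoc] using this

theorem gen_pow_of_zpowers_eq {Γ : Type*} [Group Γ] [Finite Γ] (s s₀ : Γ)
    (h : Subgroup.zpowers s = Subgroup.zpowers s₀) :
    ∃ j : ℕ, j.Coprime (orderOf s₀) ∧ s = s₀ ^ j := by
  have hs : s ∈ Subgroup.zpowers s₀ := h ▸ Subgroup.mem_zpowers s
  rw [← mem_powers_iff_mem_zpowers] at hs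
  obtain ⟨j, hj⟩ := (Submonoid.mem_powers_iff _ _).mp hs
  refine ⟨j, ?_, hj.symm⟩
  have hord : orderOf s = orderOf s₀ := by rw [← Nat.card_zpowers, ← Nat.card_zpowers, h]
  rw [← hj, orderOf_pow] at hord
  have hpos := orderOf_pos s₀
  rcases Nat.div_eq_self.mp hord with h0 | h1
  · omega
  · exact Nat.Coprime.symm h1

theorem cyclic_setting {Γ : Type*} [Group Γ] [Fintype Γ] (G S : Subgroup Γ)
    (hcop : (Nat.card G).Coprime (Nat.card S)) (htop : G ⊔ S = ⊤) (hcyc : IsCyclic S)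
    (C : Subgroup Γ) (hC : C = G ⊓ Subgroup.centralizer (S : Set Γ)) :
    ∃ s₀ : Γ, Subgroup.zpowers s₀ = S ∧ orderOf s₀ = Nat.card S ∧
      Nat.Coprime (Nat.card G) (orderOf s₀) ∧ G ⊔ Subgroup.zpowers s₀ = ⊤ ∧
      ∀ x, x ∈ C ↔ x ∈ G ∧ x * s₀ = s₀ * x := by
  obtain ⟨s₀', hs₀'⟩ := hcyc.exists_generator
  have hS : Subgroup.zpowers (s₀' : Γ) = S := by
    ext x
    constructor
    · intro hx
      exact (Subgroup.zpowers_le.mpr s₀'.2) hx
    · intro hx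
      obtain ⟨i, hi⟩ := Subgroup.mem_zpowers_iff.mp (hs₀' ⟨x, hx⟩)
      rw [Subgroup.mem_zpowers_iff]
      refine ⟨i, ?_⟩
      have := congrArg Subtype.val hi
      simpa using this
  have hord : orderOf (s₀' : Γ) = Nat.card S := by
    have := Nat.card_zpowers (s₀' : Γ)
    rw [hS] at this
    exact this.symm
  refine ⟨s₀', hS, hord, by rw [hord]; exact hcop, by rw [hS]; exact htop, ?_⟩
  intro x
  rw [hC, Subgroup.mem_inf, Subgroup.mem_centralizer_iff]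
  constructor
  · rintro ⟨hx, hcent⟩
    exact ⟨hx, (hcent _ s₀'.2).symm⟩
  · rintro ⟨hx, hxs⟩
    refine ⟨hx, ?_⟩
    intro h hh
    rw [SetLike.mem_coe, ← hS] at hh
    obtain ⟨i, rfl⟩ := Subgroup.mem_zpowers_iff.mp hh
    have : Commute x (s₀' : Γ) := hxs
    exact (this.zpow_right i).symm

/-- Let the finite group Γ be generated by a normal subgroup G and a cyclic subgroup S of coprime orders, C = G ⊓ C(S), and let χ be an S-invariant irreducible character of G with canonical extension χ̂ to Γ (the extension whose determinantal order is coprime to the order of S). Then there are exactly one irreducible character β of C and one sign ε such that χ̂(c s) = ε β(c) for every c ∈ C and every generator s of S; this β is a constituent of the restriction of χ to C; distinct S-invariant χ give distinct β; and every irreducible character of C arises in this way. -/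
theorem result {Γ : Type*} [Group Γ] [Fintype Γ] (G S : Subgroup Γ) [Fintype G] (hnorm : ∀ s ∈ S, ∀ g ∈ G, s * g * s⁻¹ ∈ G) (hcop : (Nat.card G).Coprime (Nat.card S)) (htop : G ⊔ S = ⊤) (hcyc : IsCyclic S) (C : Subgroup Γ) [Fintype C] (hC : C = G ⊓ Subgroup.centralizer (S : Set Γ)) (hCG : C ≤ G) : (∀ (χ : Cfsg.IrrCharacter G) (χh : Cfsg.IrrCharacter Γ), (∀ s ∈ S, ∀ g g' : G, (g' : Γ) = s * g * s⁻¹ → (χ : G → ℂ) g' = (χ : G → ℂ) g) → (∀ g : G, (χh : Γ → ℂ) g = (χ : G → ℂ) g) → (Cfsg.detOrder (χh : Γ → ℂ)).Coprime (Nat.card S) → (∃! βε : Cfsg.IrrCharacter C × ℤ, (βε.2 = 1 ∨ βε.2 = -1) ∧ ∀ c : C, ∀ s : Γ, Subgroup.zpowers s = S → (χh : Γ → ℂ) ((c : Γ) * s) = (βε.2 : ℂ) * (βε.1 : C → ℂ) c) ∧ ∀ β : Cfsg.IrrCharacter C, ∀ ε : ℤ, (ε = 1 ∨ ε = -1) → (∀ c : C, ∀ s : Γ, Subgroup.zpowers s = S → (χh : Γ → ℂ) ((c : Γ) * s) = (ε : ℂ) * (β : C → ℂ) c) → Cfsg.classInner (fun c : C => (χ : G → ℂ) ⟨c,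 hCG c.2⟩) (β : C → ℂ) ≠ 0) ∧ (∀ (χ χ' : Cfsg.IrrCharacter G) (χh χh' : Cfsg.IrrCharacter Γ), (∀ s ∈ S, ∀ g g' : G, (g' : Γ) = s * g * s⁻¹ → (χ : G → ℂ) g' = (χ : G → ℂ) g) → (∀ s ∈ S, ∀ g g' : G, (g' : Γ) = s * g * s⁻¹ → (χ' : G → ℂ) g' = (χ' : G → ℂ) g) → (∀ g : G, (χh : Γ → ℂ) g = (χ : G → ℂ) g) → (∀ g : G, (χh' : Γ → ℂ) g = (χ' : G → ℂ) g) → (Cfsg.detOrder (χh : Γ → ℂ)).Coprime (Nat.card S) → (Cfsg.detOrder (χh' : Γ → ℂ)).Coprime (Nat.card S) → ∀ β : Cfsg.IrrCharacter C, ∀ ε ε' : ℤ, (ε = 1 ∨ ε = -1) → (ε' = 1 ∨ ε' = -1) → (∀ c : C, ∀ s : Γ, Subgroup.zpowers s = S → (χh : Γ → ℂ) ((c : Γ) * s) = (ε : ℂ) * (β : C → ℂ) c) → (∀ c : C, ∀ s : Γ, Subgroup.zpowers s = S → (χh' : Γ → ℂ) ((c : Γ) * s) = (ε' : ℂ) * (β : C → ℂ) c) → χ = χ') ∧ (∀ β : Cfsg.IrrCharacter C, ∃ (χ : Cfsg.IrrCharacter G) (χh : Cfsg.IrrCharacter Γ) (ε : ℤ), (∀ s ∈ S, ∀ g g' : G, (g' : Γ) = s * g * s⁻¹ → (χ : G → ℂ) g'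 = (χ : G → ℂ) g) ∧ (∀ g : G, (χh : Γ → ℂ) g = (χ : G → ℂ) g) ∧ (Cfsg.detOrder (χh : Γ → ℂ)).Coprime (Nat.card S) ∧ (ε = 1 ∨ ε = -1) ∧ ∀ c : C, ∀ s : Γ, Subgroup.zpowers s = S → (χh : Γ → ℂ) ((c : Γ) * s) = (ε : ℂ) * (β : C → ℂ) c) := by
  classical
  haveI hG : G.Normal := normal_of_hnorm G S hnorm htop
  obtain ⟨s₀, hS, hord, hcop', hgen, hC'⟩ := cyclic_setting G S hcop htop hcyc C hC
  have hkey : ∀ χh : Γ → ℂ, IsIrrCharacter Γ χh → IsIrrCharacter G (fun g : G => χh g) →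
      Nat.Coprime (detOrder χh) (Nat.card S) → ∀ c : C, ∀ s : Γ, Subgroup.zpowers s = S →
      χh ((c : Γ) * s) = χh ((c : Γ) * s₀) := by
    intro χh hχh hirr hd c s hs
    obtain ⟨j, hj, rfl⟩ := gen_pow_of_zpowers_eq s s₀ (hs.trans hS.symm)
    exact glaub_pow_invariant G s₀ hcop' hgen χh hχh hirr (by rw [hord]; exact hd) c
      ((hC' c).mp c.2).1 ((hC' c).mp c.2).2 j hj
  have hirrOf : ∀ (χ : Cfsg.IrrCharacter G) (χh : Cfsg.IrrCharacter Γ),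
      (∀ g : G, (χh : Γ → ℂ) g = (χ : G → ℂ) g) → IsIrrCharacter G (fun g : G => χh.1 g) := by
    intro χ χh hres
    have : (fun g : G => χh.1 g) = χ.1 := funext hres
    rw [this]; exact χ.2
  refine ⟨?_, ?_, ?_⟩
  · intro χ χh hinv hres hd
    have hirr := hirrOf χ χh hres
    have hd' : Nat.Coprime (detOrder χh.1) (orderOf s₀) := by rw [hord]; exact hd
    obtain ⟨β, ε, hε, hf⟩ := glaub_exists G s₀ hcop' hgen C hC' χh.1 χh.2 hirr hd'
    refine ⟨⟨(β, ε), ⟨hε, fun c s hs => by rw [hkey χh.1 χh.2 hirr hd c s hs, hf c]⟩, ?_⟩, ?_⟩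
    · rintro ⟨β', ε'⟩ ⟨hε', hf'⟩
      have := signed_irr_unique β' β ε' ε hε' hε (fun c => by
        rw [← hf' c s₀ hS, hf c])
      exact Prod.ext this.1 this.2
    · intro β' ε' hε' hf'
      have h1 := glaub_constituent s₀ C (fun x hx => ((hC' x).mp hx).2) χh.1
        (irr_isCharacter χh.2) β' ε' hε' (fun c => hf' c s₀ hS)
      have h2 : (fun c : C => (χ : G → ℂ) ⟨c, hCG c.2⟩) = fun c : C => χh.1 (c : Γ) := by
        funext c
        exact (hres ⟨c, hCG c.2⟩).symm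
      rw [h2]; exact h1
  · intro χ χ' χh χh' hinv hinv' hres hres' hd hd' β ε ε' hε hε' hf hf'
    have hirr := hirrOf χ χh hres
    have h1 := glaub_injective G s₀ hcop' hgen C hC' χh.1 χh'.1 χh.2 χh'.2 hirr β ε ε' hε hε'
      (fun c => hf c s₀ hS) (fun c => hf' c s₀ hS)
    apply Subtype.ext
    funext g
    rw [← hres g, ← hres' g]
    exact congrFun h1 g
  · intro β
    obtain ⟨χh, hχh, hirr, hd, ε, hε, hf⟩ := glaub_surjective G s₀ hcop' hgen C hC' β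
    have hd' : Nat.Coprime (detOrder χh) (Nat.card S) := by rw [← hord]; exact hd
    refine ⟨⟨fun g : G => χh g, hirr⟩, ⟨χh, hχh⟩, ε, ?_, fun g => rfl, hd', hε,
      fun c s hs => by
        show χh ((c : Γ) * s) = _
        rw [hkey χh hχh hirr hd' c s hs, hf c]⟩
    intro s _ g g' hg'
    show χh (g' : Γ) = χh (g : Γ)
    rw [hg']
    exact isClassFunction_of_isCharacter (irr_isCharacter hχh) g s

end Cfsg.Agent.S4446
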