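import Cfsg.Statements.S4476
import Cfsg.Agent.Lib.Helper8.CharFS
import Cfsg.Agent.Lib.Helper8.CharOdd
import Cfsg.Agent.Lib.Helper8.CharDegree
import Cfsg.Agent.Lib.Helper8.CharBurnside
import Cfsg.Agent.S0159

set_option autoImplicit false
open Cfsg

namespace Cfsg.Agent.S4476

open Cfsg.Agent.Lib.Helper8
open scoped ComplexConjugate

variable {G : Type*} [Group G]

/-- Frobenius–Schur indicator facts for an irreducible character. -/
theorem fs_indicator_facts [Fintype G] (χ : IrrCharacter G) :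
    ((Nat.card G : ℂ)⁻¹ * ∑ s : G, χ.1 (s * s) = 0 ∨ (Nat.card G : ℂ)⁻¹ * ∑ s : G, χ.1 (s * s) = 1 ∨
      (Nat.card G : ℂ)⁻¹ * ∑ s : G, χ.1 (s * s) = -1) ∧
    ((∃ s : G, (χ.1 s).im ≠ 0) → (Nat.card G : ℂ)⁻¹ * ∑ s : G, χ.1 (s * s) = 0) := by
  obtain ⟨n, ρ, hρ, hρχ⟩ := χ.2
  obtain ⟨h0, h1⟩ := fs_main n ρ hρ
  rw [hρχ] at h0 h1
  by_cases hr : ∀ g : G, (χ.1 g).im = 0
  · obtain ⟨hν, -, -⟩ := h1 hr
    refine ⟨Or.inr hν, ?_⟩
    rintro ⟨s, hs⟩
    exact absurd (hr s) hs
  · obtain ⟨hν, -⟩ := h0 hr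
    exact ⟨Or.inl hν, fun _ => hν⟩

theorem involution_count_le [Fintype G] [Fintype (IrrCharacter G)] [DecidableEq (IrrCharacter G)] (t : ℕ)
    (ht : Nat.card {x : G // orderOf x = 2} = t) :
    (t : ℝ) ≤ ∑ χ ∈ (Finset.univ.filter (fun χ : IrrCharacter G => (∀ g : G, (χ.1 g).im = 0) ∧
      χ.1 ≠ fun _ => 1)), (charDegree χ.1 : ℝ) := by
  classical
  have h159 := Cfsg.Agent.S0159.result (G := G)
  rw [finsum_eq_sum_of_fintype] at h159
  -- count of solutions of s*s=1
  have hcount : Nat.card {s : G // s * s = 1} = 1 + t := by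
    rw [← ht, Nat.card_eq_fintype_card, Nat.card_eq_fintype_card, Fintype.card_subtype, Fintype.card_subtype]
    have : Finset.univ.filter (fun s : G => s * s = 1) =
        insert 1 (Finset.univ.filter (fun x : G => orderOf x = 2)) := by
      ext s
      simp only [Finset.mem_filter, Finset.mem_univ, true_and, Finset.mem_insert]
      rw [orderOf_eq_prime_iff (p := 2), sq]
      constructor
      · intro h
        by_cases hs : s = 1
        · left; exact hs
        · right; exact ⟨h, hs⟩
      · rintro (h | h)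
        · rw [h]; simp
        · exact h.1
    rw [this, Finset.card_insert_of_notMem, add_comm]
    simp
  rw [hcount] at h159
  set ν : IrrCharacter G → ℂ := fun χ => (Nat.card G : ℂ)⁻¹ * ∑ s : G, χ.1 (s * s) with hν
  set χ₀ : IrrCharacter G := ⟨fun _ => (1 : ℂ), principal_isIrrCharacter⟩ with hχ₀
  have hGne : (Nat.card G : ℂ) ≠ 0 := Nat.cast_ne_zero.mpr Nat.card_pos.ne'
  have hν0 : ν χ₀ = 1 := by
    simp only [hν, hχ₀, Finset.sum_const, Finset.card_univ, nsmul_eq_mul, mul_one]
    rw [← Nat.card_eq_fintype_card]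
    field_simp
  have hterm : ∀ χ : IrrCharacter G, (ν χ * χ.1 1).re ≤
      if ((∀ g : G, (χ.1 g).im = 0)) then (charDegree χ.1 : ℝ) else 0 := by
    intro χ
    obtain ⟨h1, h2⟩ := fs_indicator_facts χ
    rw [irr_one_eq_charDegree χ]
    by_cases hr : ∀ g : G, (χ.1 g).im = 0
    · rw [if_pos hr]
      rcases h1 with h | h | h
      · simp only [hν]; rw [h]; simp
      · simp only [hν]; rw [h]; simp
      · simp only [hν]; rw [h]; simp
    · rw [if_neg hr]
      push Not at hr
      simp only [hν]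
      rw [h2 hr]; simp
  have hre : ((1 + t : ℕ) : ℝ) = ∑ χ : IrrCharacter G, (ν χ * χ.1 1).re := by
    have := congrArg Complex.re h159
    rw [Complex.re_sum] at this
    rw [← this]
    simp
  have hle : ((1 + t : ℕ) : ℝ) ≤ ∑ χ : IrrCharacter G,
      (if ((∀ g : G, (χ.1 g).im = 0)) then (charDegree χ.1 : ℝ) else 0) := by
    rw [hre]
    exact Finset.sum_le_sum (fun χ _ => hterm χ)
  rw [← Finset.sum_filter] at hle
  have hsplit : Finset.univ.filter (fun χ : IrrCharacter G => (∀ g : G, (χ.1 g).im = 0)) =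
      insert χ₀ (Finset.univ.filter (fun χ : IrrCharacter G => (∀ g : G, (χ.1 g).im = 0) ∧
      χ.1 ≠ fun _ => 1)) := by
    ext χ
    simp only [Finset.mem_filter, Finset.mem_univ, true_and, Finset.mem_insert]
    constructor
    · intro h
      by_cases hχ : χ = χ₀
      · left; exact hχ
      · right
        refine ⟨h, fun h1 => hχ (Subtype.ext h1)⟩
    · rintro (h | h)
      · rw [h]; intro g; simp [hχ₀]
      · exact h.1
  rw [hsplit, Finset.sum_insert] at hle
  · have hd0 : (charDegree χ₀.1 : ℝ) = 1 := by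
      have := irr_one_eq_charDegree χ₀
      simp only [hχ₀] at this
      have h2 : ((1 : ℕ) : ℂ) = (charDegree χ₀.1 : ℂ) := by simpa using this
      have h3 : charDegree χ₀.1 = 1 := (Nat.cast_injective h2).symm
      rw [h3]; simp
    rw [hd0] at hle
    push_cast at hle
    linarith
  · simp only [Finset.mem_filter, Finset.mem_univ, true_and, not_and, not_not]
    intro _
    rfl

theorem brauer_fowler_aux [Fintype G] (heven : Even (Nat.card G)) (t : ℕ) (ht : Nat.card {x : G // orderOf x = 2} = t) : (∃ x : G, x ≠ 1 ∧ ((Subgroup.centralizer ({x} : Set G)).index : ℚ) ≤ (((Nat.card G : ℚ) - 1) / t) ^ 2) ∧ ∃ χ : Cfsg.IrrCharacter G, (χ : G → ℂ) ≠ (fun _ => 1) ∧ (∀ g : G, ((χ : G → ℂ) g).im = 0) ∧ (Cfsg.charDegree (χ : G → ℂ) : ℚ) ≤ ((Nat.card G : ℚ) - 1) / t := by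
  classical
  have := irr_finite (G := G)
  have : Fintype (IrrCharacter G) := Fintype.ofFinite _
  -- t ≥ 1
  have htpos : 0 < t := by
    rw [← ht]
    obtain ⟨x, hx⟩ := exists_prime_orderOf_dvd_card' 2 (even_iff_two_dvd.mp heven) (G := G)
    exact Nat.card_pos_iff.mpr ⟨⟨⟨x, hx⟩⟩, inferInstance⟩
  have hg2 : 2 ≤ Nat.card G := by
    obtain ⟨m, hm⟩ := heven
    have : 0 < Nat.card G := Nat.card_pos
    omega
  set g : ℚ := (Nat.card G : ℚ) with hg
  have hgq : (2 : ℚ) ≤ g := by rw [hg]; exact_mod_cast hg2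
  have htq : (0 : ℚ) < (t : ℚ) := by exact_mod_cast htpos
  set α : ℚ := (g - 1) / t with hα
  have hαpos : 0 < α := div_pos (by linarith) htq
  have hαt : α * t = g - 1 := by rw [hα]; field_simp
  set R' := Finset.univ.filter (fun χ : IrrCharacter G => (∀ g : G, (χ.1 g).im = 0) ∧ χ.1 ≠ fun _ => 1) with hR'
  have hcount := involution_count_le t ht
  rw [← hR'] at hcount
  have hcountN : t ≤ ∑ χ ∈ R', charDegree χ.1 := by exact_mod_cast hcount
  have hcountQ : (t : ℚ) ≤ ∑ χ ∈ R', (charDegree χ.1 : ℚ) := by exact_mod_cast hcountN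
  -- sum of squares
  set χ₀ : IrrCharacter G := ⟨fun _ => (1 : ℂ), principal_isIrrCharacter⟩ with hχ₀
  have hd0 : charDegree χ₀.1 = 1 := by
    have := irr_one_eq_charDegree χ₀
    simp only [hχ₀] at this
    have h2 : ((1 : ℕ) : ℂ) = (charDegree χ₀.1 : ℂ) := by simpa using this
    exact (Nat.cast_injective h2).symm
  have hsq : ∑ χ ∈ R', charDegree χ.1 ^ 2 + 1 ≤ Nat.card G := by
    rw [card_eq_sum_charDegree_sq (G := G), ← Finset.add_sum_erase Finset.univ _ (Finset.mem_univ χ₀), hd0]
    have hsub : R' ⊆ Finset.univ.erase χ₀ := by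
      intro χ hχ
      rw [hR', Finset.mem_filter] at hχ
      rw [Finset.mem_erase]
      refine ⟨fun h => hχ.2.2 (by rw [h]), Finset.mem_univ _⟩
    have := Finset.sum_le_sum_of_subset (f := fun χ : IrrCharacter G => charDegree χ.1 ^ 2) hsub
    omega
  have hsqQ : ∑ χ ∈ R', (charDegree χ.1 : ℚ) ^ 2 ≤ g - 1 := by
    have : ((∑ χ ∈ R', charDegree χ.1 ^ 2 + 1 : ℕ) : ℚ) ≤ (Nat.card G : ℚ) := by exact_mod_cast hsq
    push_cast at this
    linarith
  constructor
  · -- part (a)
    by_contra hno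
    push Not at hno
    -- number of classes
    have hk := card_classes_eq_sum (G := G) (fun _ => True) (fun _ _ _ => Iff.rfl)
    have hkcard : Nat.card {C : ConjClasses G // ∀ g : G, ConjClasses.mk g = C → True} = Nat.card (ConjClasses G) := by
      apply Nat.card_congr
      exact Equiv.subtypeUnivEquiv (fun C => fun _ _ => trivial)
    rw [hkcard] at hk
    simp only [if_true] at hk
    have hGne : (Nat.card G : ℂ) ≠ 0 := Nat.cast_ne_zero.mpr Nat.card_pos.ne'
    have hkN : Nat.card (ConjClasses G) * Nat.card G = ∑ x : G, Nat.card (Subgroup.centralizer ({x} : Set G)) := by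
      have : (Nat.card (ConjClasses G) : ℂ) * (Nat.card G : ℂ) = ∑ x : G, (Nat.card (Subgroup.centralizer ({x} : Set G)) : ℂ) := by
        rw [hk]; field_simp
      exact_mod_cast this
    set k : ℚ := (Nat.card (ConjClasses G) : ℚ) with hkdef
    have hkQ : k * g = ∑ x : G, (Nat.card (Subgroup.centralizer ({x} : Set G)) : ℚ) := by
      have := congrArg (Nat.cast (R := ℚ)) hkN
      push_cast at this
      exact this
    -- real classes ≤ classes
    have hr : R'.card + 1 ≤ Nat.card (ConjClasses G) := by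
      have h1 := card_real_irr_eq (G := G)
      have h2 : Nat.card {C : ConjClasses G // ∀ g : G, ConjClasses.mk g = C → IsConj g g⁻¹} ≤ Nat.card (ConjClasses G) :=
        Finite.card_subtype_le _
      rw [← h1, Nat.card_eq_fintype_card, Fintype.card_subtype] at h2
      have h3 : (insert χ₀ R').card ≤ (Finset.univ.filter (fun χ : IrrCharacter G => ∀ g : G, (χ.1 g).im = 0)).card := by
        apply Finset.card_le_card
        intro χ hχ
        rw [Finset.mem_insert] at hχ
        rw [Finset.mem_filter]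
        refine ⟨Finset.mem_univ _, ?_⟩
        rcases hχ with h | h
        · rw [h]; intro g; simp [hχ₀]
        · rw [hR', Finset.mem_filter] at h; exact h.2.1
      rw [Finset.card_insert_of_notMem] at h3
      · omega
      · rw [hR', Finset.mem_filter]
        simp only [Finset.mem_univ, true_and, not_and, not_not]
        intro _; rfl
    have hrQ : (R'.card : ℚ) + 1 ≤ k := by rw [hkdef]; exact_mod_cast hr
    -- Cauchy-Schwarz
    have hcs : (∑ χ ∈ R', (charDegree χ.1 : ℚ)) ^ 2 ≤ R'.card * ∑ χ ∈ R', (charDegree χ.1 : ℚ) ^ 2 :=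
      sq_sum_le_card_mul_sum_sq
    have ht2 : (t : ℚ) ^ 2 ≤ (k - 1) * (g - 1) := by
      have h1 : (t : ℚ) ^ 2 ≤ (∑ χ ∈ R', (charDegree χ.1 : ℚ)) ^ 2 := by
        apply pow_le_pow_left₀ htq.le hcountQ
      have h2 : (R'.card : ℚ) * ∑ χ ∈ R', (charDegree χ.1 : ℚ) ^ 2 ≤ (k - 1) * (g - 1) := by
        apply mul_le_mul (by linarith) hsqQ (Finset.sum_nonneg (fun _ _ => by positivity)) (by linarith [Nat.cast_nonneg (α := ℚ) R'.card])
      linarith
    -- centralizer bound
    have hcx : ∀ x : G, x ≠ 1 → (Nat.card (Subgroup.centralizer ({x} : Set G)) : ℚ) * α ^ 2 < g := by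
      intro x hx
      have h1 := hno x hx
      have h2 : (Subgroup.centralizer ({x} : Set G)).index * Nat.card (Subgroup.centralizer ({x} : Set G)) = Nat.card G :=
        Subgroup.index_mul_card _
      have h3 : ((Subgroup.centralizer ({x} : Set G)).index : ℚ) * (Nat.card (Subgroup.centralizer ({x} : Set G)) : ℚ) = g := by
        rw [hg]; exact_mod_cast h2
      have hcpos : (0 : ℚ) < (Nat.card (Subgroup.centralizer ({x} : Set G)) : ℚ) := by
        exact_mod_cast Nat.card_pos
      rw [← h3]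
      rw [mul_comm]
      exact mul_lt_mul_of_pos_right h1 hcpos
    have hc1 : (Nat.card (Subgroup.centralizer ({(1 : G)} : Set G)) : ℚ) = g := by
      have : Subgroup.centralizer ({(1 : G)} : Set G) = ⊤ := by
        ext y
        simp [Subgroup.mem_centralizer_iff]
      rw [this, Subgroup.card_top]
    have hsum : (∑ x ∈ Finset.univ.erase (1 : G), (Nat.card (Subgroup.centralizer ({x} : Set G)) : ℚ) * α ^ 2) <
        ∑ x ∈ Finset.univ.erase (1 : G), g := by
      apply Finset.sum_lt_sum_of_nonempty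
      · rw [← Finset.card_pos, Finset.card_erase_of_mem (Finset.mem_univ _), Finset.card_univ, ← Nat.card_eq_fintype_card]
        omega
      · intro x hx
        exact hcx x (Finset.mem_erase.mp hx).1
    rw [Finset.sum_const, Finset.card_erase_of_mem (Finset.mem_univ _), Finset.card_univ,
      ← Nat.card_eq_fintype_card, ← Finset.sum_mul, nsmul_eq_mul] at hsum
    have hcast : ((Nat.card G - 1 : ℕ) : ℚ) = g - 1 := by
      rw [Nat.cast_sub (by omega)]; simp [hg]
    rw [hcast] at hsum
    rw [← Finset.add_sum_erase Finset.univ _ (Finset.mem_univ (1 : G)), hc1] at hkQ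
    have h5 : (∑ x ∈ Finset.univ.erase (1 : G), (Nat.card (Subgroup.centralizer ({x} : Set G)) : ℚ)) = (k - 1) * g := by
      linarith
    rw [h5] at hsum
    -- (k-1) g α² < (g-1) g
    have h6 : (k - 1) * α ^ 2 < g - 1 := by
      have hgpos : (0 : ℚ) < g := by linarith
      have : (k - 1) * α ^ 2 * g < (g - 1) * g := by linarith
      exact lt_of_mul_lt_mul_right this hgpos.le
    have h7 : α ^ 2 * (t : ℚ) ^ 2 = (g - 1) ^ 2 := by rw [← hαt]; ring
    have h8 : (k - 1) * (g - 1) ^ 2 < (g - 1) * (t : ℚ) ^ 2 := by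
      rw [← h7]
      have : (0 : ℚ) < (t : ℚ) ^ 2 := by positivity
      nlinarith
    have hg1 : (0 : ℚ) < g - 1 := by linarith
    have h9 : (k - 1) * (g - 1) < (t : ℚ) ^ 2 := by
      have : (k - 1) * (g - 1) * (g - 1) < (t : ℚ) ^ 2 * (g - 1) := by linarith
      exact lt_of_mul_lt_mul_right this hg1.le
    linarith
  · -- part (b)
    by_contra hno
    push Not at hno
    have hall : ∀ χ ∈ R', α < (charDegree χ.1 : ℚ) := by
      intro χ hχ
      rw [hR', Finset.mem_filter] at hχ
      exact hno χ hχ.2.2 hχ.2.1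
    have hne : R'.Nonempty := by
      by_contra hemp
      rw [Finset.not_nonempty_iff_eq_empty] at hemp
      rw [hemp, Finset.sum_empty] at hcountQ
      linarith
    have h1 : ∑ χ ∈ R', α * (charDegree χ.1 : ℚ) < ∑ χ ∈ R', (charDegree χ.1 : ℚ) ^ 2 := by
      apply Finset.sum_lt_sum_of_nonempty hne
      intro χ hχ
      have := hall χ hχ
      have hdpos : (0 : ℚ) < (charDegree χ.1 : ℚ) := by linarith
      nlinarith
    rw [← Finset.mul_sum] at h1
    have h2 : α * (t : ℚ) ≤ α * ∑ χ ∈ R', (charDegree χ.1 : ℚ) := mul_le_mul_of_nonneg_left hcountQ hαpos.le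
    linarith

/-- Let G be a finite group of even order g with exactly t involutions, and put α = (g − 1)/t (a rational number). Then (a) some non-identity element x of G has at most α² conjugates; and (b) some non-principal real-valued irreducible character of G has degree at most α. -/
theorem result {G : Type*} [Group G] [Fintype G] (heven : Even (Nat.card G)) (t : ℕ) (ht : Nat.card {x : G // orderOf x = 2} = t) : (∃ x : G, x ≠ 1 ∧ ((Subgroup.centralizer ({x} : Set G)).index : ℚ) ≤ (((Nat.card G : ℚ) - 1) / t) ^ 2) ∧ ∃ χ : Cfsg.IrrCharacter G, (χ : G → ℂ) ≠ (fun _ => 1) ∧ (∀ g : G, ((χ : G → ℂ) g).im = 0) ∧ (Cfsg.charDegree (χ : G → ℂ) : ℚ) ≤ ((Nat.card G : ℚ) - 1) / t := by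
  exact brauer_fowler_aux heven t ht

end Cfsg.Agent.S4476
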