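import Mathlib
import Cfsg.Statements.S4495
import Cfsg.Agent.Lib.Helper2.ClassCard

set_option autoImplicit false

open Cfsg
open scoped commutatorElement
open scoped Pointwise

namespace Cfsg.Agent.S4495

section
variable {G : Type*} [Group G] [Finite G] {p : ℕ} [hp : Fact p.Prime] {x : G}

theorem zpowers_eq_of_mem (hx : orderOf x = p) {y : G} (hy : y ∈ Subgroup.zpowers x)
    (hy1 : y ≠ 1) : Subgroup.zpowers y = Subgroup.zpowers x := by
  have hle : Subgroup.zpowers y ≤ Subgroup.zpowers x := Subgroup.zpowers_le.2 hy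
  apply Subgroup.eq_of_le_of_card_ge hle
  rw [Nat.card_zpowers, Nat.card_zpowers, hx]
  have hd : orderOf y ∣ p := by
    have := orderOf_dvd_of_mem_zpowers hy
    rwa [hx] at this
  rcases (Nat.dvd_prime hp.out).1 hd with h | h
  · exact absurd (orderOf_eq_one_iff.1 h) hy1
  · exact h.ge

theorem cent_eq (hx : orderOf x = p)
    (hC : Subgroup.centralizer ({x} : Set G) = Subgroup.zpowers x) {y : G}
    (hy : y ∈ Subgroup.zpowers x) (hy1 : y ≠ 1) :
    Subgroup.centralizer ({y} : Set G) = Subgroup.zpowers x := by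
  rw [← hC]
  exact Cfsg.Agent.Lib.Helper2.centralizer_singleton_eq_of_zpowers_eq (zpowers_eq_of_mem hx hy hy1)

theorem x_ne_one (hx : orderOf x = p) : x ≠ 1 := by
  intro h
  rw [h, orderOf_one] at hx
  exact hp.out.ne_one hx.symm

theorem exists_sylow (hx : orderOf x = p)
    (hC : Subgroup.centralizer ({x} : Set G) = Subgroup.zpowers x) :
    ∃ S : Sylow p G, (S : Subgroup G) = Subgroup.zpowers x := by
  have hpg : IsPGroup p (Subgroup.zpowers x) :=
    IsPGroup.of_card (n := 1) (by rw [Nat.card_zpowers, hx, pow_one])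
  obtain ⟨S, hS⟩ := hpg.exists_le_sylow
  refine ⟨S, le_antisymm ?_ hS⟩
  have hxS : x ∈ S := hS (Subgroup.mem_zpowers x)
  haveI : Nontrivial S := ⟨⟨⟨x, hxS⟩, 1, fun h => x_ne_one hx (congrArg Subtype.val h)⟩⟩
  haveI hnt : Nontrivial (Subgroup.center S) := S.isPGroup'.center_nontrivial
  obtain ⟨⟨z, hz⟩, hne⟩ := exists_ne (1 : Subgroup.center S)
  have hz1 : (z : G) ≠ 1 := by
    intro h
    apply hne
    apply Subtype.ext
    apply Subtype.ext
    exact h
  have hzx : (z : G) ∈ Subgroup.zpowers x := by
    rw [← hC, Subgroup.mem_centralizer_singleton_iff]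
    have := Subgroup.mem_center_iff.1 hz ⟨x, hxS⟩
    exact (congrArg Subtype.val this).symm
  have hzp := zpowers_eq_of_mem hx hzx hz1
  intro s hs
  rw [← hC, Subgroup.mem_centralizer_singleton_iff]
  have hxz : x ∈ Subgroup.zpowers (z : G) := by rw [hzp]; exact Subgroup.mem_zpowers x
  obtain ⟨i, hi⟩ := Subgroup.mem_zpowers_iff.1 hxz
  have hcomm : Commute s (z : G) := by
    have := Subgroup.mem_center_iff.1 hz ⟨s, hs⟩
    exact congrArg Subtype.val this
  have h2 : Commute s ((z : G) ^ i) := hcomm.zpow_right i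
  rw [hi] at h2
  exact h2.eq

/-- an element conjugating a nonidentity element of `P` into `P` normalizes `P` -/
theorem mem_normalizer_of_conj (hx : orderOf x = p) {y : G} (hy : y ∈ Subgroup.zpowers x)
    (hy1 : y ≠ 1) (g : G) (hg : g * y * g⁻¹ ∈ Subgroup.zpowers x) :
    g ∈ Subgroup.normalizer ((Subgroup.zpowers x : Subgroup G) : Set G) := by
  have h1 := zpowers_eq_of_mem hx hy hy1
  have hg1 : g * y * g⁻¹ ≠ 1 := by
    intro h
    apply hy1
    have : y = g⁻¹ * (g * y * g⁻¹) * g := by group
    rw [this, h]; group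
  have h2 := zpowers_eq_of_mem hx hg hg1
  rw [Subgroup.mem_normalizer_iff]
  intro h
  constructor
  · intro hh
    rw [← h1] at hh
    obtain ⟨i, rfl⟩ := Subgroup.mem_zpowers_iff.1 hh
    rw [← h2]
    have : g * y ^ i * g⁻¹ = (g * y * g⁻¹) ^ i := by
      have := map_zpow (MulAut.conj g) y i
      simpa [MulAut.conj_apply] using this
    rw [this]
    exact Subgroup.zpow_mem_zpowers _ i
  · intro hh
    rw [← h2] at hh
    obtain ⟨i, hi⟩ := Subgroup.mem_zpowers_iff.1 hh
    have : g * y ^ i * g⁻¹ = (g * y * g⁻¹) ^ i := by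
      have := map_zpow (MulAut.conj g) y i
      simpa [MulAut.conj_apply] using this
    rw [← this] at hi
    have h3 : h = y ^ i := by
      have : h = g⁻¹ * (g * h * g⁻¹) * g := by group
      rw [this, ← hi]; group
    rw [h3, ← h1]
    exact Subgroup.zpow_mem_zpowers _ i

end

theorem result {G : Type*} [Group G] [Finite G] (p : ℕ) (hp : p.Prime) (x : G) (hx : orderOf x = p) (hC : Subgroup.centralizer ({x} : Set G) = Subgroup.zpowers x) (t : ℕ) (ht : Nat.card {C : ConjClasses G // ∃ g ∈ C.carrier, orderOf g = p} = t) : (t ≠ p - 1 → (commutator G).index * t ≤ p - 1) ∧ (t = p - 1 → (commutator G).index = p) := by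
  haveI : Fact p.Prime := ⟨hp⟩
  obtain ⟨S, hS⟩ := exists_sylow hx hC
  set P := Subgroup.zpowers x with hP
  set N := Subgroup.normalizer (P : Set G) with hN
  have hPN : P ≤ N := Subgroup.le_normalizer
  set e := P.relIndex N with he
  have hepos : 0 < e := Nat.pos_of_ne_zero (by
    rw [he, Subgroup.relIndex]; exact Subgroup.index_ne_zero_of_finite)
  have hcardP : Nat.card P = p := by rw [hP, Nat.card_zpowers, hx]
  -- the target set
  set T : Set G := (P : Set G) \ {1} with hT
  have hTcard : T.ncard = p - 1 := by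
    rw [hT, Set.ncard_diff_singleton_of_mem (Subgroup.one_mem P)]
    have : (P : Set G).ncard = Nat.card P := (Nat.card_coe_set_eq _).symm
    rw [this, hcardP]
  have hTmem : ∀ y : G, y ∈ T ↔ y ∈ P ∧ y ≠ 1 := by
    intro y
    rw [hT, Set.mem_diff, Set.mem_singleton_iff, SetLike.mem_coe]
  -- classes
  have hrep : ∀ C : {C : ConjClasses G // ∃ g ∈ C.carrier, orderOf g = p},
      ∃ y : G, y ∈ P ∧ y ≠ 1 ∧ ConjClasses.mk y = C.1 := by
    rintro ⟨C, g, hgC, hgo⟩
    have hpg : IsPGroup p (Subgroup.zpowers g) :=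
      IsPGroup.of_card (n := 1) (by rw [Nat.card_zpowers, hgo, pow_one])
    obtain ⟨S', hS'⟩ := hpg.exists_le_sylow
    obtain ⟨c, hc⟩ := MulAction.exists_smul_eq G S' S
    have hgS' : g ∈ (S' : Subgroup G) := hS' (Subgroup.mem_zpowers g)
    have h1 : c * g * c⁻¹ ∈ (S : Subgroup G) := by
      rw [← hc]
      change c * g * c⁻¹ ∈ ((c • S' : Sylow p G) : Subgroup G)
      rw [Sylow.coe_subgroup_smul]
      exact (Subgroup.mem_smul_pointwise_iff_exists _ _ _).2 ⟨g, hgS', by
        rw [MulAut.smul_def, MulAut.conj_apply]⟩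
    rw [hS] at h1
    refine ⟨c * g * c⁻¹, h1, ?_, ?_⟩
    · intro h
      have hg1 : g = 1 := by
        have : g = c⁻¹ * (c * g * c⁻¹) * c := by group
        rw [this, h]; group
      rw [hg1, orderOf_one] at hgo
      exact hp.ne_one hgo.symm
    · have h2 : ConjClasses.mk g = C := ConjClasses.mem_carrier_iff_mk_eq.1 hgC
      show ConjClasses.mk (c * g * c⁻¹) = C
      rw [← h2, ConjClasses.mk_eq_mk_iff_isConj, isConj_iff]
      exact ⟨c⁻¹, by group⟩
  choose yrep hyP hy1 hymk using hrep
  -- the key inequality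
  have hineq : t * e ≤ p - 1 := by
    rw [← hTcard, ← Nat.card_coe_set_eq T, ← ht, he, Subgroup.relIndex, Subgroup.index_eq_card,
      ← Nat.card_prod]
    let F : {C : ConjClasses G // ∃ g ∈ C.carrier, orderOf g = p} × (N ⧸ P.subgroupOf N) → T :=
      fun Cq => ⟨(Cq.2.out : G) * yrep Cq.1 * (Cq.2.out : G)⁻¹, by
        rw [hTmem]
        constructor
        · have hn : (Cq.2.out : G) ∈ N := (Cq.2.out).2
          exact ((Subgroup.mem_normalizer_iff.1 hn) _).1 (hyP Cq.1)
        · intro h
          apply hy1 Cq.1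
          have : yrep Cq.1 = (Cq.2.out : G)⁻¹ * ((Cq.2.out : G) * yrep Cq.1 * (Cq.2.out : G)⁻¹)
              * (Cq.2.out : G) := by group
          rw [this, h]; group⟩
    apply Nat.card_le_card_of_injective F
    rintro ⟨C, q⟩ ⟨C', q'⟩ hF
    have hF' : (q.out : G) * yrep C * (q.out : G)⁻¹ = (q'.out : G) * yrep C' * (q'.out : G)⁻¹ :=
      congrArg Subtype.val hF
    have hCC : C = C' := by
      apply Subtype.ext
      rw [← hymk C, ← hymk C', ConjClasses.mk_eq_mk_iff_isConj, isConj_iff]
      refine ⟨(q'.out : G)⁻¹ * (q.out : G), ?_⟩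
      calc (q'.out : G)⁻¹ * (q.out : G) * yrep C * ((q'.out : G)⁻¹ * (q.out : G))⁻¹
          = (q'.out : G)⁻¹ * ((q.out : G) * yrep C * (q.out : G)⁻¹) * (q'.out : G) := by group
        _ = (q'.out : G)⁻¹ * ((q'.out : G) * yrep C' * (q'.out : G)⁻¹) * (q'.out : G) := by rw [hF']
        _ = yrep C' := by group
    subst hCC
    have hcen : (q'.out : G)⁻¹ * (q.out : G) ∈ Subgroup.centralizer ({yrep C} : Set G) := by
      rw [Subgroup.mem_centralizer_singleton_iff]
      refine Eq.symm ?_
      calc yrep C * ((q'.out : G)⁻¹ * (q.out : G))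
          = (q'.out : G)⁻¹ * ((q'.out : G) * yrep C * (q'.out : G)⁻¹) * (q.out : G) := by group
        _ = (q'.out : G)⁻¹ * ((q.out : G) * yrep C * (q.out : G)⁻¹) * (q.out : G) := by rw [hF']
        _ = (q'.out : G)⁻¹ * (q.out : G) * yrep C := by group
    rw [cent_eq hx hC (hyP C) (hy1 C)] at hcen
    have hqq : q' = q := by
      rw [← QuotientGroup.out_eq' q', ← QuotientGroup.out_eq' q, QuotientGroup.eq,
        Subgroup.mem_subgroupOf]
      simpa using hcen
    rw [hqq]
  -- e = 1 implies t = p - 1
  have he1 : e = 1 → t = p - 1 := by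
    intro h1
    have hNP : N ≤ P := Subgroup.relIndex_eq_one.1 h1
    apply le_antisymm
    · rw [h1, mul_one] at hineq; exact hineq
    · rw [← hTcard, ← Nat.card_coe_set_eq T, ← ht]
      let F : T → {C : ConjClasses G // ∃ g ∈ C.carrier, orderOf g = p} := fun y =>
        ⟨ConjClasses.mk y.1, y.1, ConjClasses.mem_carrier_mk, by
          have hy := (hTmem y.1).1 y.2
          have h2 := zpowers_eq_of_mem hx hy.1 hy.2
          have h3 : Nat.card (Subgroup.zpowers y.1) = Nat.card (Subgroup.zpowers x) := by rw [h2]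
          rw [Nat.card_zpowers, Nat.card_zpowers, hx] at h3
          exact h3⟩
      apply Nat.card_le_card_of_injective F
      rintro ⟨y, hy⟩ ⟨y', hy'⟩ hF
      have hF' : ConjClasses.mk y = ConjClasses.mk y' := congrArg Subtype.val hF
      rw [ConjClasses.mk_eq_mk_iff_isConj, isConj_iff] at hF'
      obtain ⟨g, hg⟩ := hF'
      have hyy := (hTmem y).1 hy
      have hyy' := (hTmem y').1 hy'
      have hgN : g ∈ N := mem_normalizer_of_conj hx hyy.1 hyy.2 g (by rw [hg]; exact hyy'.1)
      have hgP : g ∈ P := hNP hgN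
      have hgP' : g ∈ Subgroup.centralizer ({y} : Set G) := by
        rw [cent_eq hx hC hyy.1 hyy.2]; exact hgP
      rw [Subgroup.mem_centralizer_singleton_iff] at hgP'
      apply Subtype.ext
      show y = y'
      rw [← hg, hgP', mul_inv_cancel_right]
  constructor
  · intro hne
    have he1' : e ≠ 1 := fun h => hne (he1 h)
    have hNP : ¬ N ≤ P := fun h => he1' (Subgroup.relIndex_eq_one.2 h)
    obtain ⟨n, hnN, hnP⟩ := SetLike.not_le_iff_exists.1 hNP
    -- commutator of n and x
    have hnx : n * x * n⁻¹ ∈ P := by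
      exact ((Subgroup.mem_normalizer_iff.1 hnN) x).1 (Subgroup.mem_zpowers x)
    have hc_mem : ⁅n, x⁆ ∈ P := by
      rw [commutatorElement_def]
      exact P.mul_mem hnx (P.inv_mem (Subgroup.mem_zpowers x))
    have hc_ne : ⁅n, x⁆ ≠ 1 := by
      intro h
      apply hnP
      rw [← hC, Subgroup.mem_centralizer_singleton_iff]
      rw [commutatorElement_def] at h
      have : n * x = x * n := by
        have h2 : n * x * n⁻¹ * x⁻¹ * x * n = 1 * x * n := by rw [h]
        calc n * x = n * x * n⁻¹ * x⁻¹ * x * n := by group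
          _ = 1 * x * n := h2
          _ = x * n := by group
      exact this
    have hPD : P ≤ commutator G := by
      rw [hP, ← zpowers_eq_of_mem hx hc_mem hc_ne, Subgroup.zpowers_le, commutator_def]
      exact Subgroup.commutator_mem_commutator (Subgroup.mem_top n) (Subgroup.mem_top x)
    have hSD : (S : Subgroup G) ≤ commutator G := by rw [hS]; exact hPD
    have hfr := Sylow.normalizer_sup_eq_top' S hSD
    have hfr' : commutator G ⊔ N = ⊤ := by
      rw [sup_comm, hN, ← hS]; exact hfr
    have hidx : (commutator G).index = (commutator G).relIndex N := by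
      rw [← Subgroup.relIndex_sup_left, hfr', Subgroup.relIndex_top_right]
    have hdvd : (commutator G).relIndex N ∣ e := Subgroup.relIndex_dvd_of_le_left N hPD
    have hle : (commutator G).index ≤ e := by
      rw [hidx]; exact Nat.le_of_dvd hepos hdvd
    calc (commutator G).index * t ≤ e * t := Nat.mul_le_mul_right t hle
      _ = t * e := mul_comm _ _
      _ ≤ p - 1 := hineq
  · intro htp
    have hp1 : 0 < p - 1 := by have := hp.two_le; omega
    have he1' : e = 1 := by
      rw [htp] at hineq
      have : e ≤ 1 := by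
        by_contra hcon
        push Not at hcon
        have : (p - 1) * 2 ≤ (p - 1) * e := Nat.mul_le_mul_left _ hcon
        omega
      omega
    have hNP : N ≤ P := Subgroup.relIndex_eq_one.1 he1'
    have hPab : ∀ u ∈ P, ∀ v ∈ P, v * u = u * v := by
      intro u hu v hv
      obtain ⟨i, rfl⟩ := Subgroup.mem_zpowers_iff.1 hu
      obtain ⟨j, rfl⟩ := Subgroup.mem_zpowers_iff.1 hv
      rw [← zpow_add, ← zpow_add, add_comm]
    have hNC : Subgroup.normalizer ((S : Subgroup G) : Set G) ≤
        Subgroup.centralizer ((S : Subgroup G) : Set G) := by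
      rw [hS]
      intro u hu
      have huP : u ∈ P := hNP hu
      rw [Subgroup.mem_centralizer_iff]
      intro v hv
      exact hPab u huP v hv
    set K := (MonoidHom.transferSylow S hNC).ker with hK
    have hcomp : Subgroup.IsComplement' K (S : Subgroup G) :=
      MonoidHom.ker_transferSylow_isComplement' S hNC
    have hDK : commutator G ≤ K := by
      rw [commutator_eq_closure, Subgroup.closure_le]
      rintro _ ⟨a, b, rfl⟩
      rw [SetLike.mem_coe, hK, MonoidHom.mem_ker, map_commutatorElement, commutatorElement_def]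
      set fa := MonoidHom.transferSylow S hNC a
      set fb := MonoidHom.transferSylow S hNC b
      have hcomm : fa * fb = fb * fa := by
        apply Subtype.ext
        have h1 : (fa : G) ∈ P := by rw [← hS]; exact fa.2
        have h2 : (fb : G) ∈ P := by rw [← hS]; exact fb.2
        simpa using hPab _ h2 _ h1
      rw [hcomm, mul_inv_cancel_right, mul_inv_cancel]
    have hKD : K ≤ commutator G := by
      have hdisj : K ⊓ P = ⊥ := by
        have := hcomp.disjoint
        rw [hS] at this
        exact disjoint_iff.1 this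
      let ψ : K → K := fun k => ⟨(k : G)⁻¹ * (x * (k : G) * x⁻¹),
        K.mul_mem (K.inv_mem k.2) ((MonoidHom.normal_ker _).conj_mem _ k.2 x)⟩
      have hinj : Function.Injective ψ := by
        intro k l hkl
        have h1 : (k : G)⁻¹ * (x * (k : G) * x⁻¹) = (l : G)⁻¹ * (x * (l : G) * x⁻¹) :=
          congrArg Subtype.val hkl
        have h2 : (l : G) * (k : G)⁻¹ ∈ K ⊓ P := by
          refine ⟨K.mul_mem l.2 (K.inv_mem k.2), ?_⟩
          show (l : G) * (k : G)⁻¹ ∈ P
          rw [← hC, Subgroup.mem_centralizer_singleton_iff]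
          refine Eq.symm ?_
          calc x * ((l : G) * (k : G)⁻¹)
              = (l : G) * ((l : G)⁻¹ * (x * (l : G) * x⁻¹)) * x * (k : G)⁻¹ := by group
            _ = (l : G) * ((k : G)⁻¹ * (x * (k : G) * x⁻¹)) * x * (k : G)⁻¹ := by rw [h1]
            _ = (l : G) * (k : G)⁻¹ * x := by group
        rw [hdisj, Subgroup.mem_bot] at h2
        apply Subtype.ext
        have : (l : G) = (k : G) := by
          calc (l : G) = (l : G) * (k : G)⁻¹ * (k : G) := by group
            _ = (k : G) := by rw [h2, one_mul]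
        exact this.symm
      have hsurj : Function.Surjective ψ := Finite.injective_iff_surjective.1 hinj
      intro k hk
      obtain ⟨k', hk'⟩ := hsurj ⟨k, hk⟩
      have h1 : (k'.1)⁻¹ * (x * k'.1 * x⁻¹) = k := congrArg Subtype.val hk'
      rw [← h1, commutator_def]
      have : (k'.1)⁻¹ * (x * k'.1 * x⁻¹) = ⁅(k'.1)⁻¹, x⁆ := by
        rw [commutatorElement_def]; group
      rw [this]
      exact Subgroup.commutator_mem_commutator (Subgroup.mem_top _) (Subgroup.mem_top _)
    have hDeq : commutator G = K := le_antisymm hDK hKD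
    rw [hDeq, hcomp.symm.index_eq_card, hS]
    exact hcardP

end Cfsg.Agent.S4495
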