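import Mathlib
import Cfsg.Statements.S4496
import Cfsg.Agent.S4495
import Cfsg.Agent.Lib.Helper4.Hall

set_option autoImplicit false

open Cfsg
open scoped commutatorElement
open scoped Pointwise

namespace Cfsg.Agent.S4496

section
variable {G : Type*} [Group G] [Finite G] {p : ℕ} [hp : Fact p.Prime] {x : G}

theorem inf_zpowers (hx : orderOf x = p) (S : Subgroup G) (hS : (Nat.card S).Coprime p) :
    S ⊓ Subgroup.zpowers x = ⊥ := by
  apply Subgroup.inf_eq_bot_of_coprime
  rw [Nat.card_zpowers, hx]; exact hS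

/-- conjugation of powers -/
theorem conj_zpow (a y : G) (i : ℤ) : a * y ^ i * a⁻¹ = (a * y * a⁻¹) ^ i := by
  have := map_zpow (MulAut.conj a) y i
  simpa [MulAut.conj_apply] using this

theorem comm_mem_aux (hC : Subgroup.centralizer ({x} : Set G) = Subgroup.zpowers x) {a b : G}
    (ha : a * x * a⁻¹ ∈ Subgroup.zpowers x) (hb : b * x * b⁻¹ ∈ Subgroup.zpowers x) :
    (b * a)⁻¹ * (a * b) ∈ Subgroup.zpowers x := by
  obtain ⟨i, hi⟩ := Subgroup.mem_zpowers_iff.1 ha
  obtain ⟨j, hj⟩ := Subgroup.mem_zpowers_iff.1 hb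
  have h1 : (a * b) * x * (a * b)⁻¹ = x ^ (i * j) := by
    calc (a * b) * x * (a * b)⁻¹ = a * (b * x * b⁻¹) * a⁻¹ := by group
      _ = a * x ^ j * a⁻¹ := by rw [← hj]
      _ = (a * x * a⁻¹) ^ j := conj_zpow a x j
      _ = (x ^ i) ^ j := by rw [← hi]
      _ = x ^ (i * j) := (zpow_mul x i j).symm
  have h2 : (b * a) * x * (b * a)⁻¹ = x ^ (i * j) := by
    calc (b * a) * x * (b * a)⁻¹ = b * (a * x * a⁻¹) * b⁻¹ := by group
      _ = b * x ^ i * b⁻¹ := by rw [← hi]
      _ = (b * x * b⁻¹) ^ i := conj_zpow b x i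
      _ = (x ^ j) ^ i := by rw [← hj]
      _ = x ^ (i * j) := by rw [← zpow_mul, mul_comm]
  rw [← hC, Subgroup.mem_centralizer_singleton_iff]
  have h3 : (a * b) * x * (a * b)⁻¹ = (b * a) * x * (b * a)⁻¹ := by rw [h1, h2]
  calc (b * a)⁻¹ * (a * b) * x = (b * a)⁻¹ * ((a * b) * x * (a * b)⁻¹) * (a * b) := by group
    _ = (b * a)⁻¹ * ((b * a) * x * (b * a)⁻¹) * (a * b) := by rw [h3]
    _ = x * ((b * a)⁻¹ * (a * b)) := by group

theorem comm_mem (hC : Subgroup.centralizer ({x} : Set G) = Subgroup.zpowers x) {n m : G}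
    (hn : n ∈ Subgroup.normalizer ((Subgroup.zpowers x : Subgroup G) : Set G))
    (hm : m ∈ Subgroup.normalizer ((Subgroup.zpowers x : Subgroup G) : Set G)) :
    ⁅n, m⁆ ∈ Subgroup.zpowers x := by
  have ha := ((Subgroup.mem_normalizer_iff.1 (Subgroup.inv_mem _ hn)) x).1 (Subgroup.mem_zpowers x)
  have hb := ((Subgroup.mem_normalizer_iff.1 (Subgroup.inv_mem _ hm)) x).1 (Subgroup.mem_zpowers x)
  have := comm_mem_aux hC ha hb
  have e : ⁅n, m⁆ = (m⁻¹ * n⁻¹)⁻¹ * (n⁻¹ * m⁻¹) := by rw [commutatorElement_def]; group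
  rw [e]; exact this

theorem zpowers_le_of_dvd (hx : orderOf x = p)
    (hC : Subgroup.centralizer ({x} : Set G) = Subgroup.zpowers x) (S : Subgroup G) [hSn : S.Normal]
    (hdvd : p ∣ Nat.card S) : Subgroup.zpowers x ≤ S := by
  obtain ⟨Q, hQ⟩ := Cfsg.Agent.S4495.exists_sylow hx hC
  obtain ⟨y, hy⟩ := exists_prime_orderOf_dvd_card' (G := S) p hdvd
  have hyo : orderOf (y : G) = p := by rw [Subgroup.orderOf_coe]; exact hy
  have hpg : IsPGroup p (Subgroup.zpowers (y : G)) :=
    IsPGroup.of_card (n := 1) (by rw [Nat.card_zpowers, hyo, pow_one])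
  obtain ⟨Q', hQ'⟩ := hpg.exists_le_sylow
  obtain ⟨c, hc⟩ := MulAction.exists_smul_eq G Q' Q
  have h1 : c * (y : G) * c⁻¹ ∈ (Q : Subgroup G) := by
    rw [← hc]
    change c * (y : G) * c⁻¹ ∈ ((c • Q' : Sylow p G) : Subgroup G)
    rw [Sylow.coe_subgroup_smul]
    exact (Subgroup.mem_smul_pointwise_iff_exists _ _ _).2
      ⟨y, hQ' (Subgroup.mem_zpowers _), by rw [MulAut.smul_def, MulAut.conj_apply]⟩
  rw [hQ] at h1
  have h2 : c * (y : G) * c⁻¹ ≠ 1 := by
    intro h
    have hy1 : (y : G) = 1 := by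
      have : (y : G) = c⁻¹ * (c * y * c⁻¹) * c := by group
      rw [this, h]; group
    rw [hy1, orderOf_one] at hyo
    exact hp.out.ne_one hyo.symm
  have h3 := Cfsg.Agent.S4495.zpowers_eq_of_mem hx h1 h2
  rw [← h3, Subgroup.zpowers_le]
  exact hSn.conj_mem _ y.2 c

theorem part_a (hx : orderOf x = p)
    (hC : Subgroup.centralizer ({x} : Set G) = Subgroup.zpowers x) (S : Subgroup G) [hSn : S.Normal]
    (hdvd : p ∣ Nat.card S) : commutator G ≤ S := by
  obtain ⟨Q, hQ⟩ := Cfsg.Agent.S4495.exists_sylow hx hC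
  have hxS := zpowers_le_of_dvd hx hC S hdvd
  have hQS : (Q : Subgroup G) ≤ S := by rw [hQ]; exact hxS
  have hfr := Sylow.normalizer_sup_eq_top' Q hQS
  rw [commutator_eq_closure, Subgroup.closure_le]
  rintro _ ⟨a, b, rfl⟩
  rw [SetLike.mem_coe]
  have ha : a ∈ Subgroup.normalizer ((Q : Subgroup G) : Set G) ⊔ S := by
    have : a ∈ (⊤ : Subgroup G) := trivial
    rw [← hfr] at this; exact this
  have hb : b ∈ Subgroup.normalizer ((Q : Subgroup G) : Set G) ⊔ S := by
    have : b ∈ (⊤ : Subgroup G) := trivial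
    rw [← hfr] at this; exact this
  obtain ⟨n, hn, s, hs, rfl⟩ := Subgroup.mem_sup_of_normal_right.1 ha
  obtain ⟨m, hm, s', hs', rfl⟩ := Subgroup.mem_sup_of_normal_right.1 hb
  rw [← QuotientGroup.eq_one_iff]
  have e1 : ((n * s : G) : G ⧸ S) = (n : G ⧸ S) := by
    rw [QuotientGroup.mk_mul, (QuotientGroup.eq_one_iff s).2 hs, mul_one]
  have e2 : ((m * s' : G) : G ⧸ S) = (m : G ⧸ S) := by
    rw [QuotientGroup.mk_mul, (QuotientGroup.eq_one_iff s').2 hs', mul_one]
  have e3 : ((⁅n * s, m * s'⁆ : G) : G ⧸ S) = ((⁅n, m⁆ : G) : G ⧸ S) := by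
    have h := map_commutatorElement (QuotientGroup.mk' S) (n * s) (m * s')
    have h' := map_commutatorElement (QuotientGroup.mk' S) n m
    simp only [QuotientGroup.mk'_apply] at h h'
    rw [h, h', e1, e2]
  rw [e3, QuotientGroup.eq_one_iff]
  apply hxS
  rw [hQ] at hn hm
  exact comm_mem hC hn hm

theorem card_subgroups_eq (hx : orderOf x = p)
    (hC : Subgroup.centralizer ({x} : Set G) = Subgroup.zpowers x) :
    Nat.card {H : Subgroup G // Nat.card H = p} = Nat.card (Sylow p G) := by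
  obtain ⟨Q, hQ⟩ := Cfsg.Agent.S4495.exists_sylow hx hC
  have hcardQ : Nat.card (Q : Subgroup G) = p := by rw [hQ, Nat.card_zpowers, hx]
  have hall : ∀ Q' : Sylow p G, Nat.card (Q' : Subgroup G) = p := by
    intro Q'
    exact ((Q'.card_eq_multiplicity).trans (Q.card_eq_multiplicity).symm).trans hcardQ
  symm
  apply Nat.card_eq_of_bijective
    (fun Q' : Sylow p G => (⟨(Q' : Subgroup G), hall Q'⟩ : {H : Subgroup G // Nat.card H = p}))
  constructor
  · intro Q1 Q2 h
    exact Sylow.ext (congrArg Subtype.val h)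
  · rintro ⟨H, hH⟩
    have hpg : IsPGroup p H := IsPGroup.of_card (n := 1) (by rw [hH, pow_one])
    obtain ⟨Q', hQ'⟩ := hpg.exists_le_sylow
    refine ⟨Q', Subtype.ext ?_⟩
    show (Q' : Subgroup G) = H
    exact (Subgroup.eq_of_le_of_card_ge hQ' (by rw [hall Q', hH])).symm

theorem normalizer_inf (hx : orderOf x = p)
    (hC : Subgroup.centralizer ({x} : Set G) = Subgroup.zpowers x) (S : Subgroup G) [hSn : S.Normal]
    (hcop : (Nat.card S).Coprime p) :
    Subgroup.normalizer ((Subgroup.zpowers x : Subgroup G) : Set G) ⊓ S = ⊥ := by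
  rw [Subgroup.eq_bot_iff_forall]
  rintro s ⟨hsN, hsS⟩
  have hxP : x ∈ Subgroup.zpowers x := Subgroup.mem_zpowers x
  have h1 : s * x * s⁻¹ ∈ Subgroup.zpowers x := ((Subgroup.mem_normalizer_iff.1 hsN) x).1 hxP
  have h2 : s * x * s⁻¹ * x⁻¹ ∈ S ⊓ Subgroup.zpowers x := by
    constructor
    · have : s * x * s⁻¹ * x⁻¹ = s * (x * s⁻¹ * x⁻¹) := by group
      rw [this]
      exact S.mul_mem hsS (hSn.conj_mem _ (S.inv_mem hsS) x)
    · exact (Subgroup.zpowers x).mul_mem h1 ((Subgroup.zpowers x).inv_mem hxP)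
  rw [inf_zpowers hx S hcop, Subgroup.mem_bot] at h2
  have h3 : s ∈ Subgroup.centralizer ({x} : Set G) := by
    rw [Subgroup.mem_centralizer_singleton_iff]
    calc s * x = (s * x * s⁻¹ * x⁻¹) * x * s := by group
      _ = x * s := by rw [h2, one_mul]
  rw [hC] at h3
  have : s ∈ S ⊓ Subgroup.zpowers x := ⟨hsS, h3⟩
  rw [inf_zpowers hx S hcop, Subgroup.mem_bot] at this
  exact this

theorem card_dvd (hx : orderOf x = p)
    (hC : Subgroup.centralizer ({x} : Set G) = Subgroup.zpowers x) (S : Subgroup G) [hSn : S.Normal]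
    (hcop : (Nat.card S).Coprime p) :
    Nat.card S ∣ Nat.card {H : Subgroup G // Nat.card H = p} := by
  rw [card_subgroups_eq hx hC]
  obtain ⟨Q, hQ⟩ := Cfsg.Agent.S4495.exists_sylow hx hC
  have hnorm : Subgroup.normalizer (Q : Set G) =
      Subgroup.normalizer ((Subgroup.zpowers x : Subgroup G) : Set G) := by
    rw [← hQ]; rfl
  rw [Sylow.card_eq_index_normalizer Q, hnorm]
  have hNS := normalizer_inf hx hC S hcop
  have h1 := Cfsg.Agent.Lib.Helper4.card_sup_mul_inf_normal S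
    (Subgroup.normalizer ((Subgroup.zpowers x : Subgroup G) : Set G))
  rw [hNS, Subgroup.card_bot, mul_one] at h1
  have h2 : Nat.card (Subgroup.normalizer ((Subgroup.zpowers x : Subgroup G) : Set G) ⊔ S : Subgroup G)
      ∣ Nat.card G := Subgroup.card_subgroup_dvd_card _
  rw [h1, ← Subgroup.card_mul_index
    (Subgroup.normalizer ((Subgroup.zpowers x : Subgroup G) : Set G))] at h2
  exact Nat.dvd_of_mul_dvd_mul_left Nat.card_pos h2

theorem card_mod (hx : orderOf x = p)
    (hC : Subgroup.centralizer ({x} : Set G) = Subgroup.zpowers x) (S : Subgroup G) [hSn : S.Normal]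
    (hcop : (Nat.card S).Coprime p) : Nat.card S % p = 1 := by
  let f : Subgroup.zpowers x →* MulAut S :=
    (MulAut.conjNormal (H := S)).comp (Subgroup.zpowers x).subtype
  letI : MulAction (Subgroup.zpowers x) S := MulAction.compHom S f
  have hpg : IsPGroup p (Subgroup.zpowers x) :=
    IsPGroup.of_card (n := 1) (by rw [Nat.card_zpowers, hx, pow_one])
  have h1 := hpg.card_modEq_card_fixedPoints S
  have h2 : MulAction.fixedPoints (Subgroup.zpowers x) S = {1} := by
    ext s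
    rw [MulAction.mem_fixedPoints, Set.mem_singleton_iff]
    constructor
    · intro h
      have h1 := h ⟨x, Subgroup.mem_zpowers x⟩
      have h2 : (x * (s : G) * x⁻¹ : G) = s := by
        have := congrArg Subtype.val h1
        exact this
      have h3 : (s : G) ∈ Subgroup.centralizer ({x} : Set G) := by
        rw [Subgroup.mem_centralizer_singleton_iff]
        calc (s : G) * x = (x * s * x⁻¹) * x := by rw [h2]
          _ = x * s := by group
      rw [hC] at h3
      have : (s : G) ∈ S ⊓ Subgroup.zpowers x := ⟨s.2, h3⟩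
      rw [inf_zpowers hx S hcop, Subgroup.mem_bot] at this
      exact Subtype.ext this
    · rintro rfl g
      show f g 1 = 1
      exact map_one _
  rw [h2] at h1
  have h3 : Nat.card (({1} : Set S) : Type _) = 1 := by
    rw [Nat.card_coe_set_eq, Set.ncard_singleton]
  rw [h3] at h1
  have := h1
  rw [Nat.ModEq, Nat.mod_eq_of_lt hp.out.one_lt] at this
  exact this

theorem orderOf_mk (hx : orderOf x = p) (S : Subgroup G) [hSn : S.Normal]
    (hcop : (Nat.card S).Coprime p) : orderOf (QuotientGroup.mk x : G ⧸ S) = p := by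
  apply orderOf_eq_prime
  · rw [← QuotientGroup.mk_pow, ← hx, pow_orderOf_eq_one]; rfl
  · intro h
    rw [QuotientGroup.eq_one_iff] at h
    have : x ∈ S ⊓ Subgroup.zpowers x := ⟨h, Subgroup.mem_zpowers x⟩
    rw [inf_zpowers hx S hcop, Subgroup.mem_bot] at this
    exact Cfsg.Agent.S4495.x_ne_one hx this

theorem cent_mk (hx : orderOf x = p)
    (hC : Subgroup.centralizer ({x} : Set G) = Subgroup.zpowers x) (S : Subgroup G) [hSn : S.Normal]
    (hcop : (Nat.card S).Coprime p) :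
    Subgroup.centralizer ({(QuotientGroup.mk x : G ⧸ S)} : Set (G ⧸ S)) =
      Subgroup.zpowers (QuotientGroup.mk x : G ⧸ S) := by
  apply le_antisymm
  · intro gb hgb
    obtain ⟨g, rfl⟩ := QuotientGroup.mk_surjective gb
    rw [Subgroup.mem_centralizer_singleton_iff] at hgb
    have hc : g * x * g⁻¹ * x⁻¹ ∈ S := by
      rw [← QuotientGroup.eq_one_iff]
      have : ((g * x * g⁻¹ * x⁻¹ : G) : G ⧸ S) =
          (g : G ⧸ S) * (x : G ⧸ S) * (g : G ⧸ S)⁻¹ * (x : G ⧸ S)⁻¹ := by
        simp only [QuotientGroup.mk_mul, QuotientGroup.mk_inv]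
      rw [this, hgb]; group
    let φ : S → S := fun s => ⟨(s : G) * x * (s : G)⁻¹ * x⁻¹, by
      have : (s : G) * x * (s : G)⁻¹ * x⁻¹ = (s : G) * (x * (s : G)⁻¹ * x⁻¹) := by group
      rw [this]
      exact S.mul_mem s.2 (hSn.conj_mem _ (S.inv_mem s.2) x)⟩
    have hinj : Function.Injective φ := by
      intro s s' h
      have h1 : (s : G) * x * (s : G)⁻¹ * x⁻¹ = (s' : G) * x * (s' : G)⁻¹ * x⁻¹ :=
        congrArg Subtype.val h
      have h3 : (s : G) * x * (s : G)⁻¹ = (s' : G) * x * (s' : G)⁻¹ := by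
        have := congrArg (· * x) h1
        simpa using this
      have h2 : (s' : G)⁻¹ * (s : G) ∈ S ⊓ Subgroup.zpowers x := by
        refine ⟨S.mul_mem (S.inv_mem s'.2) s.2, ?_⟩
        show (s' : G)⁻¹ * (s : G) ∈ Subgroup.zpowers x
        rw [← hC, Subgroup.mem_centralizer_singleton_iff]
        calc (s' : G)⁻¹ * (s : G) * x = (s' : G)⁻¹ * ((s : G) * x * (s : G)⁻¹) * (s : G) := by group
          _ = (s' : G)⁻¹ * ((s' : G) * x * (s' : G)⁻¹) * (s : G) := by rw [h3]
          _ = x * ((s' : G)⁻¹ * (s : G)) := by group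
      rw [inf_zpowers hx S hcop, Subgroup.mem_bot] at h2
      apply Subtype.ext
      calc (s : G) = (s' : G) * ((s' : G)⁻¹ * (s : G)) := by group
        _ = (s' : G) := by rw [h2, mul_one]
    have hsurj := Finite.injective_iff_surjective.1 hinj
    obtain ⟨s, hs⟩ := hsurj ⟨_, hc⟩
    have hs' : (s : G) * x * (s : G)⁻¹ * x⁻¹ = g * x * g⁻¹ * x⁻¹ := congrArg Subtype.val hs
    have h3 : (s : G) * x * (s : G)⁻¹ = g * x * g⁻¹ := by
      have := congrArg (· * x) hs'
      simpa using this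
    have h4 : (s : G)⁻¹ * g ∈ Subgroup.zpowers x := by
      rw [← hC, Subgroup.mem_centralizer_singleton_iff]
      calc (s : G)⁻¹ * g * x = (s : G)⁻¹ * (g * x * g⁻¹) * g := by group
        _ = (s : G)⁻¹ * ((s : G) * x * (s : G)⁻¹) * g := by rw [h3]
        _ = x * ((s : G)⁻¹ * g) := by group
    obtain ⟨i, hi⟩ := Subgroup.mem_zpowers_iff.1 h4
    rw [Subgroup.mem_zpowers_iff]
    refine ⟨i, ?_⟩
    have hg : g = (s : G) * x ^ i := by rw [hi]; group
    rw [hg, QuotientGroup.mk_mul, (QuotientGroup.eq_one_iff (s : G)).2 s.2, one_mul,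
      QuotientGroup.mk_zpow]
  · rw [Subgroup.zpowers_le, Subgroup.mem_centralizer_singleton_iff]

end

theorem result {G : Type*} [Group G] [Finite G] (p : ℕ) (hp : p.Prime) (x : G) (hx : orderOf x = p) (hC : Subgroup.centralizer ({x} : Set G) = Subgroup.zpowers x) (S : Subgroup G) [S.Normal] : (p ∣ Nat.card S → commutator G ≤ S) ∧ (¬ p ∣ Nat.card S → Nat.card S ∣ Nat.card {H : Subgroup G // Nat.card H = p} ∧ Nat.card S % p = 1 ∧ orderOf (QuotientGroup.mk x : G ⧸ S) = p ∧ Subgroup.centralizer ({(QuotientGroup.mk x : G ⧸ S)} : Set (G ⧸ S)) = Subgroup.zpowers (QuotientGroup.mk x : G ⧸ S)) := by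
  haveI : Fact p.Prime := ⟨hp⟩
  refine ⟨fun h => part_a hx hC S h, fun h => ?_⟩
  have hcop : (Nat.card S).Coprime p := ((Nat.Prime.coprime_iff_not_dvd hp).2 h).symm
  exact ⟨card_dvd hx hC S hcop, card_mod hx hC S hcop, orderOf_mk hx S hcop, cent_mk hx hC S hcop⟩

end Cfsg.Agent.S4496
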