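import Mathlib
import Cfsg.Statements.S4497
import Cfsg.Agent.S4495
import Cfsg.Agent.S4496
import Cfsg.Agent.Lib.Helper1.Fitting

set_option autoImplicit false

open Cfsg
open scoped commutatorElement
open scoped Pointwise

namespace Cfsg.Agent.S4497

open Cfsg.Agent.Lib.Helper1

section
variable {G : Type*} [Group G] [Finite G] {p : ℕ} [hp : Fact p.Prime] {x : G}

/-- the `p'`-core of a normal subgroup lies in the `p'`-core of the group -/
theorem map_pPrimeCore_le (D : Subgroup G) [hD : D.Normal] :
    (pPrimeCore p ↥D).map D.subtype ≤ pPrimeCore p G := by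
  haveI hn := pPrimeCore_normal (G := ↥D) p
  apply le_pPrimeCore
  · constructor
    rintro _ ⟨d, hd, rfl⟩ g
    let φ : ↥D ≃* ↥D := MulAut.conjNormal g
    have h1 : (pPrimeCore p ↥D).map φ.toMonoidHom ≤ pPrimeCore p ↥D := by
      apply le_pPrimeCore
      · exact Subgroup.Normal.map hn _ φ.surjective
      · rw [Subgroup.card_map_of_injective (f := φ.toMonoidHom) φ.injective]
        exact pPrimeCore_coprime p
    refine ⟨φ d, h1 ⟨d, hd, rfl⟩, ?_⟩
    show ((MulAut.conjNormal g d : ↥D) : G) = g * d * g⁻¹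
    exact MulAut.conjNormal_apply g d
  · rw [Subgroup.card_map_of_injective D.subtype_injective]
    exact pPrimeCore_coprime p

/-- every element of a normal `p'`-subgroup is a commutator with `x` -/
theorem exists_comm (hx : orderOf x = p)
    (hC : Subgroup.centralizer ({x} : Set G) = Subgroup.zpowers x) (S : Subgroup G) [hSn : S.Normal]
    (hcop : (Nat.card S).Coprime p) {c : G} (hc : c ∈ S) :
    ∃ s ∈ S, s * x * s⁻¹ * x⁻¹ = c := by
  let φ : S → S := fun s => ⟨(s : G) * x * (s : G)⁻¹ * x⁻¹, by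
    have : (s : G) * x * (s : G)⁻¹ * x⁻¹ = (s : G) * (x * (s : G)⁻¹ * x⁻¹) := by group
    rw [this]
    exact S.mul_mem s.2 (hSn.conj_mem _ (S.inv_mem s.2) x)⟩
  have hinj : Function.Injective φ := by
    intro s s' h
    have h1 : (s : G) * x * (s : G)⁻¹ * x⁻¹ = (s' : G) * x * (s' : G)⁻¹ * x⁻¹ :=
      congrArg Subtype.val h
    have h3 : (s : G) * x * (s : G)⁻¹ = (s' : G) * x * (s' : G)⁻¹ := by
      have := congrArg (· * x) h1
      simpa using this
    have h2 : (s' : G)⁻¹ * (s : G) ∈ S ⊓ Subgroup.zpowers x := by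
      refine ⟨S.mul_mem (S.inv_mem s'.2) s.2, ?_⟩
      show (s' : G)⁻¹ * (s : G) ∈ Subgroup.zpowers x
      rw [← hC, Subgroup.mem_centralizer_singleton_iff]
      calc (s' : G)⁻¹ * (s : G) * x = (s' : G)⁻¹ * ((s : G) * x * (s : G)⁻¹) * (s : G) := by group
        _ = (s' : G)⁻¹ * ((s' : G) * x * (s' : G)⁻¹) * (s : G) := by rw [h3]
        _ = x * ((s' : G)⁻¹ * (s : G)) := by group
    rw [Cfsg.Agent.S4496.inf_zpowers hx S hcop, Subgroup.mem_bot] at h2
    apply Subtype.ext
    calc (s : G) = (s' : G) * ((s' : G)⁻¹ * (s : G)) := by group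
      _ = (s' : G) := by rw [h2, mul_one]
  have hsurj := Finite.injective_iff_surjective.1 hinj
  obtain ⟨s, hs⟩ := hsurj ⟨c, hc⟩
  exact ⟨s, s.2, congrArg Subtype.val hs⟩

theorem core_le_commutator (hx : orderOf x = p)
    (hC : Subgroup.centralizer ({x} : Set G) = Subgroup.zpowers x) :
    pPrimeCore p G ≤ commutator G := by
  haveI := pPrimeCore_normal (G := G) p
  intro c hc
  obtain ⟨s, hs, rfl⟩ := exists_comm hx hC (pPrimeCore p G) (pPrimeCore_coprime p) hc
  rw [commutator_def, ← commutatorElement_def]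
  exact Subgroup.commutator_mem_commutator (Subgroup.mem_top _) (Subgroup.mem_top _)

theorem coprime_of_index (hx : orderOf x = p)
    (hC : Subgroup.centralizer ({x} : Set G) = Subgroup.zpowers x) (D : Subgroup G)
    (hD : D.index = p) : (Nat.card D).Coprime p := by
  obtain ⟨Q, hQ⟩ := Cfsg.Agent.S4495.exists_sylow hx hC
  have hcardQ : Nat.card (Q : Subgroup G) = p := by rw [hQ, Nat.card_zpowers, hx]
  have h1 : Nat.card (Q : Subgroup G) * (Q : Subgroup G).index = Nat.card G :=
    Subgroup.card_mul_index _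
  have h2 : Nat.card D * D.index = Nat.card G := Subgroup.card_mul_index _
  rw [hcardQ] at h1; rw [hD] at h2
  have h3 : Nat.card D = (Q : Subgroup G).index := by
    have : Nat.card D * p = (Q : Subgroup G).index * p := by rw [h2, ← h1, mul_comm]
    exact Nat.eq_of_mul_eq_mul_right hp.out.pos this
  rw [h3]
  exact ((Nat.Prime.coprime_iff_not_dvd hp.out).2 Q.not_dvd_index).symm

theorem simple_quot (hx : orderOf x = p)
    (hC : Subgroup.centralizer ({x} : Set G) = Subgroup.zpowers x)
    (D : Subgroup G) [hDn : D.Normal] (hDle : D ≤ commutator G) (hxD : x ∈ D)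
    (hSD : pPrimeCore p G ≤ D)
    (hnorm : ((pPrimeCore p G).subgroupOf D).Normal) :
    IsSimpleGroup (↥D ⧸ (pPrimeCore p G).subgroupOf D) := by
  haveI hSn := pPrimeCore_normal (G := G) p
  have hScop := pPrimeCore_coprime (G := G) p
  let xD : D := ⟨x, hxD⟩
  have hxDo : orderOf xD = p := by rw [← hx]; exact Subgroup.orderOf_mk x hxD
  have hCD : Subgroup.centralizer ({xD} : Set D) = Subgroup.zpowers xD := by
    apply le_antisymm
    · intro d hd
      rw [Subgroup.mem_centralizer_singleton_iff] at hd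
      have h1 : (d : G) ∈ Subgroup.centralizer ({x} : Set G) := by
        rw [Subgroup.mem_centralizer_singleton_iff]
        exact congrArg Subtype.val hd
      rw [hC] at h1
      obtain ⟨i, hi⟩ := Subgroup.mem_zpowers_iff.1 h1
      rw [Subgroup.mem_zpowers_iff]
      refine ⟨i, Subtype.ext ?_⟩
      rw [Subgroup.coe_zpow]; exact hi
    · rw [Subgroup.zpowers_le, Subgroup.mem_centralizer_singleton_iff]
  refine { toNontrivial := ?_, eq_bot_or_eq_top_of_normal := ?_ }
  · refine ⟨⟨(QuotientGroup.mk xD), 1, ?_⟩⟩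
    intro h
    rw [QuotientGroup.eq_one_iff, Subgroup.mem_subgroupOf] at h
    have : x ∈ pPrimeCore p G ⊓ Subgroup.zpowers x := ⟨h, Subgroup.mem_zpowers x⟩
    rw [Cfsg.Agent.S4496.inf_zpowers hx _ hScop, Subgroup.mem_bot] at this
    exact Cfsg.Agent.S4495.x_ne_one hx this
  · intro Nq hNq
    have hN'n : (Nq.comap (QuotientGroup.mk' ((pPrimeCore p G).subgroupOf D))).Normal :=
      hNq.comap _
    have hker : (pPrimeCore p G).subgroupOf D ≤
        Nq.comap (QuotientGroup.mk' ((pPrimeCore p G).subgroupOf D)) := by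
      have := MonoidHom.ker_le_comap (QuotientGroup.mk' ((pPrimeCore p G).subgroupOf D)) Nq
      rwa [QuotientGroup.ker_mk'] at this
    have hmap : (Nq.comap (QuotientGroup.mk' ((pPrimeCore p G).subgroupOf D))).map
        (QuotientGroup.mk' ((pPrimeCore p G).subgroupOf D)) = Nq :=
      Subgroup.map_comap_eq_self_of_surjective (QuotientGroup.mk'_surjective _) Nq
    by_cases hdv : p ∣ Nat.card (Nq.comap (QuotientGroup.mk' ((pPrimeCore p G).subgroupOf D)))
    · right
      have h1 := Cfsg.Agent.S4496.zpowers_le_of_dvd hxDo hCD _ hdv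
      have h2 := Cfsg.Agent.S4496.part_a hxDo hCD _ hdv
      suffices hN'top : Nq.comap (QuotientGroup.mk' ((pPrimeCore p G).subgroupOf D)) = ⊤ by
        rw [← hmap, hN'top]
        exact Subgroup.map_top_of_surjective _ (QuotientGroup.mk'_surjective _)
      rw [eq_top_iff]
      by_cases hdv2 : p ∣ Nat.card (⁅D, D⁆ : Subgroup G)
      · have h3 := Cfsg.Agent.S4496.part_a hx hC (⁅D, D⁆ : Subgroup G) hdv2
        intro d _
        apply h2
        have hd : (d : G) ∈ (commutator D).map D.subtype := by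
          rw [Subgroup.map_subtype_commutator]; exact h3 (hDle d.2)
        obtain ⟨d', hd', hdd⟩ := hd
        have : d' = d := Subtype.ext hdd
        rw [← this]; exact hd'
      · have hcop2 : (Nat.card (⁅D, D⁆ : Subgroup G)).Coprime p :=
          ((Nat.Prime.coprime_iff_not_dvd hp.out).2 hdv2).symm
        have h3 : (⁅D, D⁆ : Subgroup G) ≤ pPrimeCore p G := le_pPrimeCore _ inferInstance hcop2
        intro d _
        have h4 : (QuotientGroup.mk (d : G) : G ⧸ pPrimeCore p G) ∈
            Subgroup.centralizer ({(QuotientGroup.mk x : G ⧸ pPrimeCore p G)} : Set _) := by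
          rw [Subgroup.mem_centralizer_singleton_iff]
          have h5 : ⁅(d : G), x⁆ ∈ pPrimeCore p G :=
            h3 (Subgroup.commutator_mem_commutator d.2 hxD)
          rw [← QuotientGroup.eq_one_iff, commutatorElement_def] at h5
          simp only [QuotientGroup.mk_mul, QuotientGroup.mk_inv] at h5
          calc ((d : G) : G ⧸ pPrimeCore p G) * (x : G ⧸ pPrimeCore p G)
              = (((d : G) : G ⧸ pPrimeCore p G) * (x : G ⧸ pPrimeCore p G) *
                  ((d : G) : G ⧸ pPrimeCore p G)⁻¹ * (x : G ⧸ pPrimeCore p G)⁻¹) *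
                  (x : G ⧸ pPrimeCore p G) * ((d : G) : G ⧸ pPrimeCore p G) := by group
            _ = (x : G ⧸ pPrimeCore p G) * ((d : G) : G ⧸ pPrimeCore p G) := by rw [h5, one_mul]
        rw [Cfsg.Agent.S4496.cent_mk hx hC _ hScop] at h4
        obtain ⟨i, hi⟩ := Subgroup.mem_zpowers_iff.1 h4
        rw [← QuotientGroup.mk_zpow, QuotientGroup.eq] at hi
        have hmemD : (x ^ i)⁻¹ * (d : G) ∈ D := D.mul_mem (D.inv_mem (D.zpow_mem hxD i)) d.2
        have h6 : (⟨(x ^ i)⁻¹ * (d : G), hmemD⟩ : D) ∈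
            Nq.comap (QuotientGroup.mk' ((pPrimeCore p G).subgroupOf D)) := by
          apply hker
          rw [Subgroup.mem_subgroupOf]; exact hi
        have h7 : xD ^ i ∈ Nq.comap (QuotientGroup.mk' ((pPrimeCore p G).subgroupOf D)) :=
          Subgroup.zpow_mem _ (h1 (Subgroup.mem_zpowers xD)) i
        have hdecomp : d = xD ^ i * ⟨(x ^ i)⁻¹ * (d : G), hmemD⟩ := by
          apply Subtype.ext
          rw [Subgroup.coe_mul, Subgroup.coe_zpow]
          show (d : G) = x ^ i * ((x ^ i)⁻¹ * (d : G))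
          group
        rw [hdecomp]; exact Subgroup.mul_mem _ h7 h6
    · left
      have hcopN : (Nat.card (Nq.comap (QuotientGroup.mk' ((pPrimeCore p G).subgroupOf D)))).Coprime p :=
        ((Nat.Prime.coprime_iff_not_dvd hp.out).2 hdv).symm
      have h1 : Nq.comap (QuotientGroup.mk' ((pPrimeCore p G).subgroupOf D)) ≤ pPrimeCore p D :=
        le_pPrimeCore _ hN'n hcopN
      have h2 := map_pPrimeCore_le (p := p) D
      rw [← hmap, Subgroup.map_eq_bot_iff, QuotientGroup.ker_mk']
      intro d hd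
      rw [Subgroup.mem_subgroupOf]
      exact h2 ⟨d, h1 hd, rfl⟩

end

theorem result {G : Type*} [Group G] [Finite G] (p : ℕ) (hp : p.Prime) (x : G) (hx : orderOf x = p) (hC : Subgroup.centralizer ({x} : Set G) = Subgroup.zpowers x) (t : ℕ) (ht : Nat.card {C : ConjClasses G // ∃ g ∈ C.carrier, orderOf g = p} = t) : Cfsg.pPrimeCore p G ≤ commutator G ∧ (t ≠ p - 1 → ∀ h : ((Cfsg.pPrimeCore p G).subgroupOf (commutator G)).Normal, IsSimpleGroup (↥(commutator G) ⧸ (Cfsg.pPrimeCore p G).subgroupOf (commutator G))) ∧ (t = p - 1 → commutator G = Cfsg.pPrimeCore p G) := by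
  haveI : Fact p.Prime := ⟨hp⟩
  have h95 := Cfsg.Agent.S4495.result p hp x hx hC t ht
  have hi := core_le_commutator hx hC
  refine ⟨hi, ?_, ?_⟩
  · intro hne hnorm
    have hidx := h95.1 hne
    have htpos : 0 < t := by
      rw [← ht]
      haveI : Nonempty {C : ConjClasses G // ∃ g ∈ C.carrier, orderOf g = p} :=
        ⟨⟨ConjClasses.mk x, x, ConjClasses.mem_carrier_mk, hx⟩⟩
      exact Nat.card_pos
    have hidx' : (commutator G).index < p := by
      have h1 : (commutator G).index * 1 ≤ (commutator G).index * t :=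
        Nat.mul_le_mul_left _ htpos
      have h2 := hp.two_le
      omega
    have hxD : x ∈ commutator G := by
      by_contra hcon
      have h1 : orderOf (QuotientGroup.mk x : G ⧸ commutator G) = p := by
        apply orderOf_eq_prime
        · rw [← QuotientGroup.mk_pow, ← hx, pow_orderOf_eq_one]; rfl
        · intro h; rw [QuotientGroup.eq_one_iff] at h; exact hcon h
      have h2 : p ∣ Nat.card (G ⧸ commutator G) := by rw [← h1]; exact orderOf_dvd_natCard _
      rw [← Subgroup.index_eq_card] at h2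
      have := Nat.le_of_dvd (Nat.pos_of_ne_zero Subgroup.index_ne_zero_of_finite) h2
      omega
    exact simple_quot hx hC (commutator G) le_rfl hxD hi hnorm
  · intro heq
    apply le_antisymm _ hi
    exact le_pPrimeCore _ inferInstance (coprime_of_index hx hC _ (h95.2 heq))

end Cfsg.Agent.S4497
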