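import Mathlib
import Cfsg.Statements.S4509
import Cfsg.Agent.S4495
import Cfsg.Agent.S4496
import Cfsg.Agent.S4497
import Cfsg.Agent.Lib.Helper4.Hall

set_option autoImplicit false

open Cfsg
open scoped commutatorElement
open scoped Pointwise

namespace Cfsg.Agent.S4509

section
variable {G : Type*} [Group G] [Finite G] {p : ℕ} [hp : Fact p.Prime] {x : G}

theorem card_subgroups (hx : orderOf x = p)
    (hC : Subgroup.centralizer ({x} : Set G) = Subgroup.zpowers x) :
    Nat.card {H : Subgroup G // Nat.card H = p} =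
      (Subgroup.normalizer ((Subgroup.zpowers x : Subgroup G) : Set G)).index := by
  rw [Cfsg.Agent.S4496.card_subgroups_eq hx hC]
  obtain ⟨Q, hQ⟩ := Cfsg.Agent.S4495.exists_sylow hx hC
  have hnorm : Subgroup.normalizer (Q : Set G) =
      Subgroup.normalizer ((Subgroup.zpowers x : Subgroup G) : Set G) := by
    rw [← hQ]; rfl
  rw [Sylow.card_eq_index_normalizer Q, hnorm]

theorem mk_comm_eq (S : Subgroup G) [S.Normal] {n m s s' : G} (hs : s ∈ S) (hs' : s' ∈ S) :
    ((⁅n * s, m * s'⁆ : G) : G ⧸ S) = ((⁅n, m⁆ : G) : G ⧸ S) := by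
  have e1 : ((n * s : G) : G ⧸ S) = (n : G ⧸ S) := by
    rw [QuotientGroup.mk_mul, (QuotientGroup.eq_one_iff s).2 hs, mul_one]
  have e2 : ((m * s' : G) : G ⧸ S) = (m : G ⧸ S) := by
    rw [QuotientGroup.mk_mul, (QuotientGroup.eq_one_iff s').2 hs', mul_one]
  have h := map_commutatorElement (QuotientGroup.mk' S) (n * s) (m * s')
  have h' := map_commutatorElement (QuotientGroup.mk' S) n m
  simp only [QuotientGroup.mk'_apply] at h h'
  rw [h, h', e1, e2]

theorem key (hx : orderOf x = p)
    (hC : Subgroup.centralizer ({x} : Set G) = Subgroup.zpowers x)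
    (D S : Subgroup G) [hDn : D.Normal] [hSn : S.Normal] (hcop : (Nat.card S).Coprime p)
    (hSD : S ≤ D) (hxD : x ∈ D) (hDD : ⁅D, D⁆ ≤ S) :
    Nat.card D = p * Nat.card S ∧
      (Subgroup.normalizer ((Subgroup.zpowers x : Subgroup G) : Set G)).index = Nat.card S := by
  have hdec : ∀ d ∈ D, ∃ i : ℤ, (x ^ i)⁻¹ * d ∈ S := by
    intro d hd
    have h4 : (QuotientGroup.mk d : G ⧸ S) ∈
        Subgroup.centralizer ({(QuotientGroup.mk x : G ⧸ S)} : Set _) := by
      rw [Subgroup.mem_centralizer_singleton_iff]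
      have h5 : ⁅d, x⁆ ∈ S := hDD (Subgroup.commutator_mem_commutator hd hxD)
      rw [← QuotientGroup.eq_one_iff, commutatorElement_def] at h5
      simp only [QuotientGroup.mk_mul, QuotientGroup.mk_inv] at h5
      calc (d : G ⧸ S) * (x : G ⧸ S)
          = ((d : G ⧸ S) * (x : G ⧸ S) * (d : G ⧸ S)⁻¹ * (x : G ⧸ S)⁻¹) * (x : G ⧸ S) *
              (d : G ⧸ S) := by group
        _ = (x : G ⧸ S) * (d : G ⧸ S) := by rw [h5, one_mul]
    rw [Cfsg.Agent.S4496.cent_mk hx hC S hcop] at h4
    obtain ⟨i, hi⟩ := Subgroup.mem_zpowers_iff.1 h4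
    rw [← QuotientGroup.mk_zpow, QuotientGroup.eq] at hi
    exact ⟨i, hi⟩
  have hP : Subgroup.zpowers x ≤ D := Subgroup.zpowers_le.2 hxD
  have hDeq : D = Subgroup.zpowers x ⊔ S := by
    apply le_antisymm
    · intro d hd
      obtain ⟨i, hi⟩ := hdec d hd
      have : d = x ^ i * ((x ^ i)⁻¹ * d) := by group
      rw [this]
      exact Subgroup.mul_mem _ (Subgroup.mem_sup_left (Subgroup.zpow_mem_zpowers x i))
        (Subgroup.mem_sup_right hi)
    · exact sup_le hP hSD
  have hinf : Subgroup.zpowers x ⊓ S = ⊥ := by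
    rw [inf_comm]; exact Cfsg.Agent.S4496.inf_zpowers hx S hcop
  have hcardD : Nat.card D = p * Nat.card S := by
    have h1 := Cfsg.Agent.Lib.Helper4.card_sup_mul_inf_normal S (Subgroup.zpowers x)
    rw [hinf, Subgroup.card_bot, mul_one, Nat.card_zpowers, hx] at h1
    have h2 : Nat.card D = Nat.card (Subgroup.zpowers x ⊔ S : Subgroup G) := by
      conv_lhs => rw [hDeq]
    rw [h2]; exact h1
  refine ⟨hcardD, ?_⟩
  have hNS := Cfsg.Agent.S4496.normalizer_inf hx hC S hcop
  have hND : Subgroup.normalizer ((Subgroup.zpowers x : Subgroup G) : Set G) ⊓ D =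
      Subgroup.zpowers x := by
    apply le_antisymm
    · rintro g ⟨hgN, hgD⟩
      obtain ⟨i, hi⟩ := hdec g hgD
      have h1 : (x ^ i)⁻¹ * g ∈
          Subgroup.normalizer ((Subgroup.zpowers x : Subgroup G) : Set G) ⊓ S :=
        ⟨Subgroup.mul_mem _ (Subgroup.inv_mem _
          (Subgroup.le_normalizer (Subgroup.zpow_mem_zpowers x i))) hgN, hi⟩
      rw [hNS, Subgroup.mem_bot] at h1
      have : g = x ^ i := by
        calc g = x ^ i * ((x ^ i)⁻¹ * g) := by group
          _ = x ^ i := by rw [h1, mul_one]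
      rw [this]; exact Subgroup.zpow_mem_zpowers x i
    · exact le_inf Subgroup.le_normalizer hP
  obtain ⟨Q, hQ⟩ := Cfsg.Agent.S4495.exists_sylow hx hC
  have hQD : (Q : Subgroup G) ≤ D := by rw [hQ]; exact hP
  have hfr := Sylow.normalizer_sup_eq_top' Q hQD
  have hnorm : Subgroup.normalizer (Q : Set G) =
      Subgroup.normalizer ((Subgroup.zpowers x : Subgroup G) : Set G) := by
    rw [← hQ]; rfl
  rw [hnorm] at hfr
  have h2 := Cfsg.Agent.Lib.Helper4.card_sup_mul_inf_normal D
    (Subgroup.normalizer ((Subgroup.zpowers x : Subgroup G) : Set G))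
  rw [hfr, hND, Nat.card_zpowers, hx, hcardD, Subgroup.card_top] at h2
  have h3 := Subgroup.card_mul_index
    (Subgroup.normalizer ((Subgroup.zpowers x : Subgroup G) : Set G))
  have h4 : Nat.card (Subgroup.normalizer ((Subgroup.zpowers x : Subgroup G) : Set G)) *
      (Subgroup.normalizer ((Subgroup.zpowers x : Subgroup G) : Set G)).index * p =
      Nat.card (Subgroup.normalizer ((Subgroup.zpowers x : Subgroup G) : Set G)) *
        Nat.card S * p := by
    rw [h3, h2]; ring
  have h5 := Nat.eq_of_mul_eq_mul_right hp.out.pos h4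
  exact Nat.eq_of_mul_eq_mul_left Nat.card_pos h5

theorem card_commutator_of_index (hx : orderOf x = p)
    (hC : Subgroup.centralizer ({x} : Set G) = Subgroup.zpowers x)
    (hidx : (commutator G).index = p) :
    Nat.card (commutator G) =
      (Subgroup.normalizer ((Subgroup.zpowers x : Subgroup G) : Set G)).index := by
  have hcop := Cfsg.Agent.S4497.coprime_of_index hx hC _ hidx
  have hNS := Cfsg.Agent.S4496.normalizer_inf hx hC (commutator G) hcop
  have h1 := Cfsg.Agent.Lib.Helper4.card_sup_mul_inf_normal (commutator G)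
    (Subgroup.normalizer ((Subgroup.zpowers x : Subgroup G) : Set G))
  rw [hNS, Subgroup.card_bot, mul_one] at h1
  have h2 : Nat.card (Subgroup.normalizer ((Subgroup.zpowers x : Subgroup G) : Set G) ⊔
      commutator G : Subgroup G) ∣ Nat.card G := Subgroup.card_subgroup_dvd_card _
  have h3 : Nat.card (commutator G) * (commutator G).index = Nat.card G :=
    Subgroup.card_mul_index _
  rw [hidx] at h3
  rw [h1, ← h3, mul_comm] at h2
  have h4 : Nat.card (Subgroup.normalizer ((Subgroup.zpowers x : Subgroup G) : Set G)) ∣ p :=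
    Nat.dvd_of_mul_dvd_mul_left Nat.card_pos h2
  have h5 : p ∣ Nat.card (Subgroup.normalizer ((Subgroup.zpowers x : Subgroup G) : Set G)) := by
    have := Subgroup.card_dvd_of_le
      (Subgroup.le_normalizer : Subgroup.zpowers x ≤
        Subgroup.normalizer ((Subgroup.zpowers x : Subgroup G) : Set G))
    rwa [Nat.card_zpowers, hx] at this
  have h6 := Nat.dvd_antisymm h4 h5
  have h7 := Subgroup.card_mul_index
    (Subgroup.normalizer ((Subgroup.zpowers x : Subgroup G) : Set G))
  rw [h6, ← h3, mul_comm] at h7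
  exact (Nat.eq_of_mul_eq_mul_right hp.out.pos h7).symm

theorem second_derived_le (hx : orderOf x = p)
    (hC : Subgroup.centralizer ({x} : Set G) = Subgroup.zpowers x)
    (S : Subgroup G) [hSn : S.Normal] (hcop : (Nat.card S).Coprime p)
    (hcard : Nat.card S =
      (Subgroup.normalizer ((Subgroup.zpowers x : Subgroup G) : Set G)).index) :
    ⁅commutator G, commutator G⁆ ≤ S := by
  have hNS := Cfsg.Agent.S4496.normalizer_inf hx hC S hcop
  have h1 := Cfsg.Agent.Lib.Helper4.card_sup_mul_inf_normal S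
    (Subgroup.normalizer ((Subgroup.zpowers x : Subgroup G) : Set G))
  rw [hNS, Subgroup.card_bot, mul_one, hcard, Subgroup.card_mul_index] at h1
  have htop : Subgroup.normalizer ((Subgroup.zpowers x : Subgroup G) : Set G) ⊔ S = ⊤ :=
    Subgroup.eq_top_of_card_eq _ h1
  have hD : commutator G ≤ Subgroup.zpowers x ⊔ S := by
    rw [commutator_eq_closure, Subgroup.closure_le]
    rintro _ ⟨a, b, rfl⟩
    rw [SetLike.mem_coe]
    have ha : a ∈ Subgroup.normalizer ((Subgroup.zpowers x : Subgroup G) : Set G) ⊔ S := by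
      rw [htop]; trivial
    have hb : b ∈ Subgroup.normalizer ((Subgroup.zpowers x : Subgroup G) : Set G) ⊔ S := by
      rw [htop]; trivial
    obtain ⟨n, hn, s, hs, rfl⟩ := Subgroup.mem_sup_of_normal_right.1 ha
    obtain ⟨m, hm, s', hs', rfl⟩ := Subgroup.mem_sup_of_normal_right.1 hb
    have e3 := mk_comm_eq S (n := n) (m := m) hs hs'
    rw [QuotientGroup.eq] at e3
    have hc := Cfsg.Agent.S4496.comm_mem hC hn hm
    have : ⁅n * s, m * s'⁆ = ⁅n, m⁆ * ((⁅n * s, m * s'⁆)⁻¹ * ⁅n, m⁆)⁻¹ := by group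
    rw [this]
    exact Subgroup.mul_mem _ (Subgroup.mem_sup_left hc) (Subgroup.mem_sup_right (S.inv_mem e3))
  rw [Subgroup.commutator_le]
  intro d hd d' hd'
  obtain ⟨y, hy, s, hs, rfl⟩ := Subgroup.mem_sup_of_normal_right.1 (hD hd)
  obtain ⟨y', hy', s', hs', rfl⟩ := Subgroup.mem_sup_of_normal_right.1 (hD hd')
  rw [← QuotientGroup.eq_one_iff, mk_comm_eq S hs hs', QuotientGroup.eq_one_iff]
  have : ⁅y, y'⁆ = 1 := by
    rw [commutatorElement_eq_one_iff_commute]
    obtain ⟨i, rfl⟩ := Subgroup.mem_zpowers_iff.1 hy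
    obtain ⟨j, rfl⟩ := Subgroup.mem_zpowers_iff.1 hy'
    exact (Commute.refl x).zpow_zpow i j
  rw [this]; exact S.one_mem

end

theorem result {G : Type*} [Group G] [Finite G] (p : ℕ) (hp : p.Prime) (x : G) (hx : orderOf x = p) (hC : Subgroup.centralizer ({x} : Set G) = Subgroup.zpowers x) (t : ℕ) (ht : Nat.card {C : ConjClasses G // ∃ g ∈ C.carrier, orderOf g = p} = t) (n : ℕ) (hn : Nat.card {H : Subgroup G // Nat.card H = p} = 1 + n * p) : ((∃ S : Subgroup G, S.Normal ∧ Nat.card S = 1 + n * p) ↔ (t = p - 1 ∨ (t < p - 1 ∧ derivedSeries G 2 ≠ derivedSeries G 1))) ∧ (t = p - 1 → Nat.card (commutator G) = 1 + n * p ∧ IsCyclic (G ⧸ commutator G) ∧ (commutator G).index = p) ∧ (t < p - 1 → derivedSeries G 2 ≠ derivedSeries G 1 → Nat.card (derivedSeries G 2) = 1 + n * p ∧ Nat.card (commutator G) = p * (1 + n * p)) := by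
  haveI : Fact p.Prime := ⟨hp⟩
  have h95 := Cfsg.Agent.S4495.result p hp x hx hC t ht
  have hsub := card_subgroups hx hC
  rw [hn] at hsub
  have hB : t = p - 1 → Nat.card (commutator G) = 1 + n * p ∧ IsCyclic (G ⧸ commutator G) ∧
      (commutator G).index = p := by
    intro heq
    have hidx := h95.2 heq
    refine ⟨?_, ?_, hidx⟩
    · rw [hsub]; exact card_commutator_of_index hx hC hidx
    · exact isCyclic_of_prime_card (p := p) (by rw [← Subgroup.index_eq_card]; exact hidx)
  have hle : t ≠ p - 1 → (t < p - 1 ∧ x ∈ commutator G) := by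
    intro hne
    have hidx := h95.1 hne
    have htpos : 0 < t := by
      rw [← ht]
      haveI : Nonempty {C : ConjClasses G // ∃ g ∈ C.carrier, orderOf g = p} :=
        ⟨⟨ConjClasses.mk x, x, ConjClasses.mem_carrier_mk, hx⟩⟩
      exact Nat.card_pos
    have hipos : 0 < (commutator G).index := Nat.pos_of_ne_zero Subgroup.index_ne_zero_of_finite
    have h1 : (commutator G).index * 1 ≤ (commutator G).index * t :=
      Nat.mul_le_mul_left _ htpos
    have h1' : 1 * t ≤ (commutator G).index * t := Nat.mul_le_mul_right _ hipos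
    have h2 := hp.two_le
    refine ⟨by omega, ?_⟩
    by_contra hcon
    have h3 : orderOf (QuotientGroup.mk x : G ⧸ commutator G) = p := by
      apply orderOf_eq_prime
      · rw [← QuotientGroup.mk_pow, ← hx, pow_orderOf_eq_one]; rfl
      · intro h; rw [QuotientGroup.eq_one_iff] at h; exact hcon h
    have h4 : p ∣ Nat.card (G ⧸ commutator G) := by rw [← h3]; exact orderOf_dvd_natCard _
    rw [← Subgroup.index_eq_card] at h4
    have := Nat.le_of_dvd hipos h4
    omega
  have hder2 : derivedSeries G 2 = ⁅commutator G, commutator G⁆ := rfl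
  have hC' : t < p - 1 → derivedSeries G 2 ≠ derivedSeries G 1 →
      Nat.card (derivedSeries G 2) = 1 + n * p ∧ Nat.card (commutator G) = p * (1 + n * p) := by
    intro hlt hne
    have hxD := (hle (by omega)).2
    rw [derivedSeries_one, hder2] at hne
    have hndvd : ¬ p ∣ Nat.card (⁅commutator G, commutator G⁆ : Subgroup G) := by
      intro hdv
      apply hne
      apply le_antisymm (Subgroup.commutator_le_self _)
      exact Cfsg.Agent.S4496.part_a hx hC _ hdv
    have hcop := ((Nat.Prime.coprime_iff_not_dvd hp).2 hndvd).symm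
    have hk := key hx hC (commutator G) ⁅commutator G, commutator G⁆ hcop
      (Subgroup.commutator_le_self _) hxD le_rfl
    rw [hder2, hsub, hk.2]; exact ⟨rfl, hk.1⟩
  refine ⟨⟨?_, ?_⟩, hB, hC'⟩
  · rintro ⟨S, hSn, hScard⟩
    by_cases heq : t = p - 1
    · left; exact heq
    · right
      obtain ⟨hlt, hxD⟩ := hle heq
      refine ⟨hlt, ?_⟩
      haveI := hSn
      have hcop : (Nat.card S).Coprime p := by
        rw [hScard]; exact (Nat.coprime_add_mul_right_left 1 p n).2 (Nat.coprime_one_left p)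
      have hG2 : derivedSeries G 2 ≤ S :=
        second_derived_le hx hC S hcop (by rw [hScard, hsub])
      rw [derivedSeries_one]
      intro h
      have hxS : x ∈ S := hG2 (h ▸ hxD)
      have : x ∈ S ⊓ Subgroup.zpowers x := ⟨hxS, Subgroup.mem_zpowers x⟩
      rw [Cfsg.Agent.S4496.inf_zpowers hx S hcop, Subgroup.mem_bot] at this
      exact Cfsg.Agent.S4495.x_ne_one hx this
  · rintro (heq | ⟨hlt, hne⟩)
    · exact ⟨commutator G, inferInstance, (hB heq).1⟩
    · exact ⟨derivedSeries G 2, derivedSeries_normal G 2, (hC' hlt hne).1⟩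

end Cfsg.Agent.S4509
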