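import Cfsg.Statements.S4518
import Cfsg.Agent.Lib.Helper8.CharGalois
import Cfsg.Agent.Lib.Helper8.CharClifford3
import Cfsg.Agent.Lib.Helper8.CharIto

set_option autoImplicit false
open Cfsg

namespace Cfsg.Agent.S4518

open Cfsg.Agent.Lib.Helper8
theorem pow_pow_eq_self {G : Type*} [Group G] [Fintype G] {k j : ℕ}
    (h : k ^ j ≡ 1 [MOD Nat.card G]) (x : G) : x ^ (k ^ j) = x := by
  have h1 : orderOf x ∣ Nat.card G := orderOf_dvd_natCard x
  have h2 := h.of_dvd h1
  conv_rhs => rw [← pow_one x]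
  exact pow_eq_pow_iff_modEq.mpr h2

theorem classInner_twist {N : Type*} [Group N] [Fintype N] {k : ℕ} (hk : k.Coprime (Nat.card N))
    (α β : N → ℂ) :
    Cfsg.classInner (fun n => α (n ^ k)) (fun n => β (n ^ k)) = Cfsg.classInner α β := by
  unfold Cfsg.classInner
  congr 1
  exact Equiv.sum_comp (powCoprime hk.symm) (fun m => α m * (starRingEnd ℂ) (β m))

/-- Let N be a normal subgroup of the finite group G whose index is not divisible by the prime p, and let k be coprime to the order of G with k ^ (p ^ e) ≡ 1 modulo the order of G for some e (so g ↦ g ^ k induces a field automorphism of p-power order on character values). If an irreducible character χ of G satisfies χ (g ^ k) = χ g for all g, then every irreducible constituent θ of the restriction of χ to N satisfies θ (n ^ k) = θ n for all n. -/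
theorem result {G : Type*} [Group G] [Fintype G] (p : ℕ) [Fact p.Prime] (N : Subgroup G) [N.Normal] [Fintype N] (hidx : ¬ p ∣ N.index) (k e : ℕ) (hk : Nat.Coprime k (Nat.card G)) (hke : k ^ (p ^ e) ≡ 1 [MOD Nat.card G]) (χ : Cfsg.IrrCharacter G) (hχ : ∀ g : G, (χ : G → ℂ) (g ^ k) = (χ : G → ℂ) g) (θ : Cfsg.IrrCharacter N) (hθ : Cfsg.classInner (fun n : N => (χ : G → ℂ) n) (θ : N → ℂ) ≠ 0) : ∀ n : N, (θ : N → ℂ) (n ^ k) = (θ : N → ℂ) n := by
  classical
  have hN : N.Normal := inferInstance
  have := irr_finite (G := N)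
  have : Fintype (IrrCharacter N) := Fintype.ofFinite _
  have hkN : k.Coprime (Nat.card N) :=
    Nat.Coprime.coprime_dvd_right (Subgroup.card_subgroup_dvd_card N) hk
  have hχcf : IsClassFunction G χ.1 := isClassFunction_of_isCharacter (irr_isCharacter χ.2)
  -- the orbit
  let O := {ψ : IrrCharacter N // ∃ g : G, ψ.1 = conjChar hN θ.1 g}
  -- the twist map on Irr N
  let tw : IrrCharacter N → IrrCharacter N := fun ψ =>
    ⟨fun n => ψ.1 (n ^ k), galois_conj_isIrrCharacter hkN ψ.2⟩
  have htwO : ∀ ψ : O, ∃ g : G, (tw ψ.1).1 = conjChar hN θ.1 g := by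
    intro ψ
    obtain ⟨g, hg⟩ := ψ.2
    -- tw θ is a constituent of χ_N
    have h1 : classInner (fun n : N => χ.1 n) (tw θ).1 ≠ 0 := by
      have h2 : (fun n : N => χ.1 n) = fun n : N => (fun m : N => χ.1 m) (n ^ k) := by
        ext n
        simp only [Subgroup.coe_pow]
        rw [hχ]
      rw [h2]
      have h4 := classInner_twist hkN (fun m : N => χ.1 m) θ.1
      show classInner (fun n : N => (fun m : N => χ.1 m) (n ^ k)) (fun n => θ.1 (n ^ k)) ≠ 0
      rw [h4]
      exact hθ
    have h3 : ∃ g' : G, (tw θ).1 = conjChar hN θ.1 g' := by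
      by_contra hcon
      exact h1 (clifford_inner_nonconj hN χ.2 θ.2 hθ (tw θ) hcon)
    obtain ⟨g', hg'⟩ := h3
    refine ⟨g' * g, ?_⟩
    rw [← conjChar_mul, ← hg']
    ext n
    show ψ.1.1 (n ^ k) = _
    rw [hg, conjChar_apply, conjChar_apply]
    show θ.1 _ = θ.1 (_ ^ k)
    apply congrArg θ.1
    apply Subtype.ext
    simp only [Subgroup.coe_pow]
    rw [conj_pow]
  let f : Function.End O := fun ψ => ⟨tw ψ.1, htwO ψ⟩
  have hfpow : ∀ j : ℕ, ∀ ψ : O, ∀ n : N, (((f : O → O)^[j]) ψ).1.1 n = ψ.1.1 (n ^ (k ^ j)) := by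
    intro j
    induction j with
    | zero => intro ψ n; rw [Function.iterate_zero, id_eq, pow_zero, pow_one]
    | succ j ih =>
      intro ψ n
      rw [Function.iterate_succ_apply']
      show (((f : O → O)^[j]) ψ).1.1 (n ^ k) = _
      rw [ih, ← pow_mul, ← pow_succ']
  have hpowit : ∀ j : ℕ, ((f ^ j : Function.End O) : O → O) = (f : O → O)^[j] := fun j =>
    hom_coe_pow (fun g : Function.End O => (g : O → O)) rfl (fun g h => rfl) f j
  have hke' : k ^ (p ^ e) ≡ 1 [MOD Nat.card N] :=
    hke.of_dvd (Subgroup.card_subgroup_dvd_card N)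
  have hf1 : f ^ p ^ e = 1 := by
    funext ψ
    apply Subtype.ext
    apply Subtype.ext
    ext n
    show ((f ^ p ^ e : Function.End O) ψ).1.1 n = ψ.1.1 n
    rw [hpowit, hfpow, pow_pow_eq_self hke']
  have : Fintype O := Fintype.ofFinite O
  have hmod := Equiv.Perm.card_fixedPoints_modEq (f := f) (p := p) (n := e) hf1
  -- card O divides the index
  have hcardO : Fintype.card O ∣ N.index := by
    set T := inertiaSubgroup hN θ.1 with hT
    have hθcf : IsClassFunction N θ.1 := isClassFunction_of_isCharacter (irr_isCharacter θ.2)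
    have hNT : N ≤ T := le_inertiaSubgroup hN hθcf
    have hfib : ∀ ψ : O, (Finset.univ.filter (fun x : G => conjChar hN θ.1 x = ψ.1.1)).card = Nat.card T := by
      intro ψ
      obtain ⟨g, hg⟩ := ψ.2
      rw [hg, card_conjChar_fiber hN θ.1 g, Nat.card_eq_fintype_card, Fintype.card_subtype]
      exact congrArg Finset.card (Finset.filter_congr (fun x _ => Iff.rfl))
    have htot : Fintype.card G = Fintype.card O * Nat.card T := by
      have h1 : (Finset.univ : Finset G).card =
          ∑ ψ : O, (Finset.univ.filter (fun x : G => conjChar hN θ.1 x = ψ.1.1)).card := by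
        rw [Finset.card_eq_sum_card_fiberwise (f := fun x : G =>
          (⟨⟨conjChar hN θ.1 x, conjChar_irr hN θ.2 x⟩, ⟨x, rfl⟩⟩ : O)) (t := Finset.univ)
          (fun x _ => Finset.mem_univ _)]
        apply Finset.sum_congr rfl
        intro ψ _
        congr 1
        ext x
        simp only [Finset.mem_filter, Finset.mem_univ, true_and]
        constructor
        · intro h; rw [← h]
        · intro h; apply Subtype.ext; apply Subtype.ext; exact h
      rw [Finset.card_univ] at h1
      rw [h1, Finset.sum_congr rfl (fun ψ _ => hfib ψ), Finset.sum_const, Finset.card_univ, smul_eq_mul]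
    have h2 : Nat.card N ∣ Nat.card T := Subgroup.card_dvd_of_le hNT
    obtain ⟨r, hr⟩ := h2
    have h3 : Nat.card N * N.index = Fintype.card O * (Nat.card N * r) := by
      rw [Subgroup.card_mul_index, Nat.card_eq_fintype_card, htot, hr]
    have hNpos : 0 < Nat.card N := Nat.card_pos
    have h4 : N.index = Fintype.card O * r := by
      apply Nat.eq_of_mul_eq_mul_left hNpos
      rw [h3]; ring
    exact ⟨r, h4⟩
  have hpO : ¬ p ∣ Fintype.card O := fun h => hidx (dvd_trans h hcardO)
  -- fixed point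
  have hfix : ∃ ψ : O, f ψ = ψ := by
    by_contra hcon
    push Not at hcon
    have hempty : Fintype.card (Function.fixedPoints f) = 0 := by
      rw [Fintype.card_eq_zero_iff]
      exact ⟨fun ⟨ψ, hψ⟩ => hcon ψ hψ⟩
    rw [hempty] at hmod
    exact hpO ((Nat.modEq_zero_iff_dvd).mp hmod)
  obtain ⟨ψ₀, hψ₀⟩ := hfix
  obtain ⟨g₀, hg₀⟩ := ψ₀.2
  have hψ₀k : ∀ n : N, ψ₀.1.1 (n ^ k) = ψ₀.1.1 n := by
    intro n
    have := congrArg (fun ψ : O => ψ.1.1 n) hψ₀
    exact this
  intro n
  -- θ = ψ₀ conjugated by g₀⁻¹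
  have hθ0 : θ.1 = conjChar hN ψ₀.1.1 g₀⁻¹ := by
    rw [hg₀, conjChar_mul, mul_inv_cancel, conjChar_one]
  rw [hθ0, conjChar_apply, conjChar_apply]
  have : (⟨g₀⁻¹ * ((n ^ k : N) : G) * g₀⁻¹⁻¹, hN.conj_mem _ (n ^ k).2 g₀⁻¹⟩ : N) =
      (⟨g₀⁻¹ * (n : G) * g₀⁻¹⁻¹, hN.conj_mem _ n.2 g₀⁻¹⟩ : N) ^ k := by
    apply Subtype.ext
    simp only [Subgroup.coe_pow]
    rw [conj_pow]
  rw [this, hψ₀k]

end Cfsg.Agent.S4518
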