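import Cfsg.Statements.S4558
import Cfsg.Agent.Lib.Helper8.CharConj

set_option autoImplicit false
open Cfsg

namespace Cfsg.Agent.S4558

open Cfsg.Agent.Lib.Helper8 Polynomial

theorem repMat_pow {G : Type*} [Group G] {n : ℕ} (ρ : Representation ℂ G (Fin n → ℂ)) (g : G) (m : ℕ) :
    repMat ρ (g ^ m) = repMat ρ g ^ m := by
  induction m with
  | zero => rw [pow_zero, pow_zero, repMat_one]
  | succ m ih => rw [pow_succ, pow_succ, repMat_mul, ih]

/-- A multiset of `q`-th roots of unity (`q = p^(k+1)`) summing to zero has cardinality divisible by `p`. -/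
theorem card_dvd_of_sum_roots_eq_zero (p : ℕ) [Fact p.Prime] (k : ℕ) (R : Multiset ℂ)
    (hR : ∀ μ ∈ R, μ ^ (p ^ (k + 1)) = 1) (hsum : R.sum = 0) : p ∣ Multiset.card R := by
  classical
  set q := p ^ (k + 1) with hq
  have hqpos : 0 < q := pow_pos (Fact.out : p.Prime).pos _
  have : NeZero q := ⟨hqpos.ne'⟩
  set ζ : ℂ := Complex.exp (2 * Real.pi * Complex.I / q) with hζdef
  have hζ : IsPrimitiveRoot ζ q := Complex.isPrimitiveRoot_exp q hqpos.ne'
  have hex : ∀ μ : ℂ, ∃ i : ℕ, μ ∈ R → ζ ^ i = μ := by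
    intro μ
    by_cases hμ : μ ∈ R
    · obtain ⟨i, -, hi⟩ := hζ.eq_pow_of_pow_eq_one (hR μ hμ)
      exact ⟨i, fun _ => hi⟩
    · exact ⟨0, fun h => absurd h hμ⟩
  choose a ha using hex
  set f : ℤ[X] := (R.map (fun μ => (X : ℤ[X]) ^ a μ)).sum with hf
  have haeval : aeval ζ f = 0 := by
    rw [hf, map_multiset_sum, Multiset.map_map, ← hsum]
    congr 1
    conv_rhs => rw [← Multiset.map_id R]
    apply Multiset.map_congr rfl
    intro μ hμ
    simp only [Function.comp_apply, map_pow, aeval_X, id]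
    exact ha μ hμ
  have heval : f.eval 1 = (Multiset.card R : ℤ) := by
    have : f.eval 1 = (Polynomial.evalRingHom (1 : ℤ)) f := rfl
    rw [this, hf, map_multiset_sum, Multiset.map_map]
    simp
  have hmin : cyclotomic q ℤ = minpoly ℤ ζ := cyclotomic_eq_minpoly hζ hqpos
  have hint : IsIntegral ℤ ζ := hζ.isIntegral hqpos
  have hdvd : cyclotomic q ℤ ∣ f := by
    rw [hmin]
    exact minpoly.isIntegrallyClosed_dvd hint haeval
  have h1 := Polynomial.eval_dvd (x := (1 : ℤ)) hdvd
  rw [heval, hq, eval_one_cyclotomic_prime_pow] at h1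
  exact_mod_cast h1

theorem result {G : Type*} [Group G] [Finite G] (p : ℕ) [Fact p.Prime] (χ : G → ℂ) (hχ : Cfsg.IsCharacter G χ) (g : G) (hg : ∃ j : ℕ, orderOf g = p ^ j) (h0 : χ g = 0) : p ∣ Cfsg.charDegree χ := by
  obtain ⟨n, ρ, rfl⟩ := hχ
  have hdeg : charDegree ρ.character = n := by
    unfold charDegree
    rw [Representation.char_one]
    simp
  rw [hdeg]
  obtain ⟨j, hj⟩ := hg
  cases j with
  | zero =>
    rw [pow_zero, orderOf_eq_one_iff] at hj
    rw [hj, Representation.char_one] at h0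
    have : n = 0 := by simpa using h0
    rw [this]; exact dvd_zero p
  | succ k =>
    set A := repMat ρ g with hA
    have hAq : A ^ (p ^ (k + 1)) = 1 := by
      rw [hA, ← repMat_pow, ← hj, pow_orderOf_eq_one, repMat_one]
    have htr : A.trace = 0 := by rw [hA, ← character_eq_trace]; exact h0
    rw [Matrix.trace_eq_sum_roots_charpoly] at htr
    have hcard : Multiset.card A.charpoly.roots = n := by
      rw [← (IsAlgClosed.splits A.charpoly).natDegree_eq_card_roots, Matrix.charpoly_natDegree_eq_dim]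
      simp
    rw [← hcard]
    apply card_dvd_of_sum_roots_eq_zero p k _ _ htr
    intro μ hμ
    rcases Nat.eq_zero_or_pos n with hn0 | hnpos
    · exfalso
      have hc0 : A.charpoly.roots = 0 := Multiset.card_eq_zero.mp (hcard.trans hn0)
      rw [hc0] at hμ
      exact absurd hμ (Multiset.notMem_zero μ)
    · have : Nonempty (Fin n) := ⟨⟨0, hnpos⟩⟩
      have hroot : A.charpoly.IsRoot μ := (Polynomial.mem_roots'.mp hμ).2
      have hspec : μ ∈ spectrum ℂ A := Matrix.mem_spectrum_iff_isRoot_charpoly.mpr hroot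
      have := spectrum.pow_mem_pow A (p ^ (k + 1)) hspec
      rw [hAq, spectrum.one_eq, Set.mem_singleton_iff] at this
      exact this

end Cfsg.Agent.S4558
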