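import Cfsg.Statements.S4566
import Cfsg.Agent.Lib.Helper8.CharSchur
import Cfsg.Agent.Lib.Helper8.CharConj

set_option autoImplicit false
open Cfsg

namespace Cfsg.Agent.S4566

open Cfsg.Agent.Lib.Helper8
open scoped ComplexConjugate

theorem smul_eq_smul_imp {V : Type*} [AddCommGroup V] [Module ℂ V] {a b : ℂ} {v : V} (hv : v ≠ 0)
    (h : a • v = b • v) : a = b := by
  have : (a - b) • v = 0 := by rw [sub_smul, h, sub_self]
  rcases smul_eq_zero.mp this with h1 | h1
  · exact sub_eq_zero.mp h1
  · exact absurd h1 hv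

theorem result {G : Type*} [Group G] [Fintype G] (N : Subgroup G) [Fintype N] (hN : N ≤ Subgroup.center G) (ψ : Cfsg.IrrCharacter ↥N) (hfaith : ∀ n : ↥N, (ψ : ↥N → ℂ) n = (ψ : ↥N → ℂ) 1 → n = 1) (χ : Cfsg.IrrCharacter G) (hover : Cfsg.classInner (fun n : ↥N => (χ : G → ℂ) n) (ψ : ↥N → ℂ) ≠ 0) (g x : G) (hcomm : x⁻¹ * g⁻¹ * x * g ∈ N) (hne : x⁻¹ * g⁻¹ * x * g ≠ 1) : (χ : G → ℂ) g = 0 := by
  obtain ⟨χf, hχ⟩ := χ
  obtain ⟨ψf, hψ⟩ := ψ
  obtain ⟨d, ρ, hρ, rfl⟩ := hχ
  obtain ⟨e, σ, hσ, rfl⟩ := hψ
  simp only at hfaith hover ⊢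
  -- scalars for ρ on N
  have hlam : ∀ n : N, ∃ c : ℂ, ∀ v, ρ (n : G) v = c • v := fun n => central_scalar hρ (hN n.2)
  choose lam hlam using hlam
  have hntV : Nontrivial (Fin d → ℂ) := irreducible_nontrivial hρ
  obtain ⟨v0, hv0⟩ := exists_ne (0 : Fin d → ℂ)
  have hlam_mul : ∀ n m : N, lam (n * m) = lam n * lam m := by
    intro n m
    apply smul_eq_smul_imp hv0
    rw [← hlam, Subgroup.coe_mul, map_mul, Module.End.mul_apply, hlam m, map_smul, hlam n, smul_smul,
      mul_comm]
  have hlam_one : lam 1 = 1 := by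
    apply smul_eq_smul_imp hv0
    rw [← hlam, Subgroup.coe_one, map_one, one_smul]
    rfl
  have hχmul : ∀ (h : G) (n : N), ρ.character (h * n) = lam n * ρ.character h := by
    intro h n
    unfold Representation.character
    have : ρ (h * n) = lam n • ρ h := by
      apply LinearMap.ext
      intro v
      rw [map_mul, Module.End.mul_apply, hlam n, map_smul]
      rfl
    rw [this, map_smul, smul_eq_mul]
  -- scalars for σ
  have hNcomm : IsMulCommutative N := by
    refine ⟨⟨fun a b => ?_⟩⟩
    apply Subtype.ext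
    rw [Subgroup.coe_mul, Subgroup.coe_mul]
    exact ((Subgroup.mem_center_iff.mp (hN a.2)) b).symm
  have he : Module.finrank ℂ (Fin e → ℂ) = 1 :=
    Representation.IsIrreducible.finrank_eq_one_of_isMulCommutative σ
  have hmu : ∀ n : N, ∃ c : ℂ, ∀ v, σ n v = c • v := by
    intro n
    apply schur_scalar hσ (σ n)
    intro m v
    have : n * m = m * n := hNcomm.is_comm.comm n m
    have h1 : σ (n * m) v = σ (m * n) v := by rw [this]
    simpa [map_mul] using h1
  choose mu hmu using hmu
  have hntW : Nontrivial (Fin e → ℂ) := irreducible_nontrivial hσ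
  obtain ⟨w0, hw0⟩ := exists_ne (0 : Fin e → ℂ)
  have hmu_mul : ∀ n m : N, mu (n * m) = mu n * mu m := by
    intro n m
    apply smul_eq_smul_imp hw0
    rw [← hmu, map_mul, Module.End.mul_apply, hmu m, map_smul, hmu n, smul_smul, mul_comm]
  have hmu_one : mu 1 = 1 := by
    apply smul_eq_smul_imp hw0
    rw [← hmu, map_one, one_smul]
    rfl
  have hψmu : ∀ n : N, σ.character n = mu n := by
    intro n
    unfold Representation.character
    have : σ n = mu n • (LinearMap.id : (Fin e → ℂ) →ₗ[ℂ] (Fin e → ℂ)) := by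
      apply LinearMap.ext
      intro v
      rw [hmu n]
      rfl
    rw [this, map_smul, LinearMap.trace_id, he]
    simp
  have hmu_conj : ∀ n : N, mu n * conj (mu n) = 1 := by
    intro n
    have : Finite N := Finite.of_fintype N
    rw [← hψmu n, ← character_inv σ n, hψmu, hψmu, ← hmu_mul, mul_inv_cancel, hmu_one]
  -- lam = mu
  have hlm : ∀ n : N, lam n = mu n := by
    by_contra hcon
    push Not at hcon
    obtain ⟨n₀, hn₀⟩ := hcon
    apply hover
    unfold classInner
    have hterm : ∀ n : N, ρ.character (n : G) * conj (σ.character n) =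
        (d : ℂ) * (lam n * conj (mu n)) := by
      intro n
      have h1 := hχmul 1 n
      rw [one_mul, Representation.char_one] at h1
      rw [h1, hψmu]
      simp
      ring
    simp_rw [hterm]
    rw [← Finset.mul_sum]
    -- the sum of ν vanishes
    set ν : N → ℂ := fun n => lam n * conj (mu n) with hν
    have hνmul : ∀ n m : N, ν (n * m) = ν n * ν m := by
      intro n m
      simp only [hν]
      rw [hlam_mul, hmu_mul, map_mul]
      ring
    have hν₀ : ν n₀ ≠ 1 := by
      intro h1
      apply hn₀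
      simp only [hν] at h1
      have h2 := hmu_conj n₀
      -- lam n₀ * conj (mu n₀) = 1 and mu n₀ * conj (mu n₀) = 1
      have hc : conj (mu n₀) ≠ 0 := by
        intro h0
        rw [h0, mul_zero] at h2
        exact zero_ne_one h2
      exact mul_right_cancel₀ hc (h1.trans h2.symm)
    have hsum : ∑ n : N, ν n = ν n₀ * ∑ n : N, ν n := by
      rw [Finset.mul_sum]
      simp_rw [← hνmul]
      exact (Fintype.sum_bijective (fun n => n₀ * n) (Group.mulLeft_bijective n₀) _ _ (fun n => rfl)).symm
    have hzero : ∑ n : N, ν n = 0 := by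
      have : (1 - ν n₀) * ∑ n : N, ν n = 0 := by
        rw [sub_mul, one_mul, ← hsum, sub_self]
      rcases mul_eq_zero.mp this with h1 | h1
      · exact absurd (sub_eq_zero.mp h1).symm hν₀
      · exact h1
    rw [hzero, mul_zero, mul_zero]
  -- conclusion
  set z : N := ⟨x⁻¹ * g⁻¹ * x * g, hcomm⟩ with hz
  have hz1 : z ≠ 1 := by
    intro h
    apply hne
    have := congrArg Subtype.val h
    exact this
  have hlamz : lam z ≠ 1 := by
    intro h
    apply hz1
    apply hfaith
    rw [hψmu, hψmu, ← hlm, h, hmu_one]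
  have hg : g = (x⁻¹ * g * x⁻¹⁻¹) * (z : G) := by
    simp [hz, mul_assoc]
  have h1 : ρ.character g = lam z * ρ.character g := by
    conv_lhs => rw [hg]
    rw [hχmul, Representation.char_conj]
  have h2 : (1 - lam z) * ρ.character g = 0 := by
    rw [sub_mul, one_mul, ← h1, sub_self]
  rcases mul_eq_zero.mp h2 with h3 | h3
  · exact absurd (sub_eq_zero.mp h3).symm hlamz
  · exact h3

end Cfsg.Agent.S4566
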