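import Cfsg.Statements.S4584
import Mathlib
import Cfsg.Agent.Lib.Helper4.PGroupNormal

set_option autoImplicit false
open Cfsg

namespace Cfsg.Agent.S4584


open scoped commutatorElement

section
variable {P : Type*} [Group P]

/-- `g ↦ ⁅g, x⁆` as a homomorphism when all commutators are central. -/
def kap (hc : ∀ a b : P, ⁅a, b⁆ ∈ Subgroup.center P) (x : P) : P →* P where
  toFun g := ⁅g, x⁆
  map_one' := by simp [commutatorElement_def]
  map_mul' g h := by
    show ⁅g * h, x⁆ = ⁅g, x⁆ * ⁅h, x⁆
    have hz := hc h x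
    rw [Subgroup.mem_center_iff] at hz
    have e1 : ⁅g * h, x⁆ = g * ⁅h, x⁆ * x * g⁻¹ * x⁻¹ := by
      simp only [commutatorElement_def]; group
    have e2 : ⁅h, x⁆ * g * x * g⁻¹ * x⁻¹ = ⁅h, x⁆ * ⁅g, x⁆ := by
      simp only [commutatorElement_def]; group
    rw [e1, hz g, e2]
    exact (hz ⁅g, x⁆).symm

theorem kap_apply (hc : ∀ a b : P, ⁅a, b⁆ ∈ Subgroup.center P) (x g : P) :
    kap hc x g = ⁅g, x⁆ := rfl

theorem ker_kap (hc : ∀ a b : P, ⁅a, b⁆ ∈ Subgroup.center P) (x : P) :
    (kap hc x).ker = Subgroup.centralizer {x} := by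
  ext g
  rw [MonoidHom.mem_ker, Subgroup.mem_centralizer_iff, kap_apply,
    commutatorElement_eq_one_iff_mul_comm]
  constructor
  · intro h y hy
    rw [Set.mem_singleton_iff.mp hy]
    exact h.symm
  · intro h
    exact (h x rfl).symm

theorem range_kap_le (hc : ∀ a b : P, ⁅a, b⁆ ∈ Subgroup.center P) (x : P) :
    (kap hc x).range ≤ commutator P := by
  rintro _ ⟨g, rfl⟩
  rw [kap_apply, commutator_def]
  exact Subgroup.commutator_mem_commutator (Subgroup.mem_top g) (Subgroup.mem_top x)

theorem mem_cent_single {x g : P} : g ∈ Subgroup.centralizer ({x} : Set P) ↔ x * g = g * x := by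
  rw [Subgroup.mem_centralizer_iff]
  constructor
  · intro h; exact h x rfl
  · intro h y hy; rw [Set.mem_singleton_iff.mp hy]; exact h

variable [Finite P] {p : ℕ} [hpF : Fact p.Prime]

theorem normal_card_p_le_center (hG : IsPGroup p P) (K : Subgroup P) [K.Normal]
    (hK : Nat.card K = p) : K ≤ Subgroup.center P := by
  have hp : p.Prime := Fact.out
  have hne : K ≠ ⊥ := by
    intro h
    rw [h, Subgroup.card_bot] at hK
    exact hp.one_lt.ne hK
  obtain ⟨z, hzK, hzc, hz1, hzp⟩ := Cfsg.Agent.Lib.Helper4.exists_central_order_p hG K hne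
  have hcz : Nat.card (Subgroup.zpowers z) = p := by
    rw [Nat.card_zpowers]
    exact orderOf_eq_prime hzp hz1
  have hle : Subgroup.zpowers z ≤ K := (Subgroup.zpowers_le).2 hzK
  have heq : Subgroup.zpowers z = K :=
    Subgroup.eq_of_le_of_card_ge hle (by rw [hcz, hK])
  rw [← heq]
  exact (Subgroup.zpowers_le).2 hzc

theorem card_step {H K : Subgroup P} (hle : H ≤ K) {k : P} (hk : k ∈ K) (hk' : k ∉ H)
    {a b : ℕ} (hH : Nat.card H = p ^ a) (hK : Nat.card K ∣ p ^ b) :
    ∃ j, a < j ∧ j ≤ b ∧ Nat.card K = p ^ j := by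
  have hp : p.Prime := Fact.out
  obtain ⟨j, hjb, hj⟩ := (Nat.dvd_prime_pow hp).mp hK
  have hdvd := Subgroup.card_dvd_of_le hle
  rw [hH, hj] at hdvd
  have haj : a ≤ j := (Nat.pow_dvd_pow_iff_le_right hp.one_lt).mp hdvd
  refine ⟨j, ?_, hjb, hj⟩
  rcases Nat.lt_or_ge a j with h | h
  · exact h
  · exfalso
    have haj' : a = j := le_antisymm haj h
    have : H = K := Subgroup.eq_of_le_of_card_ge hle (by rw [hH, hj, haj'])
    exact hk' (this ▸ hk)

theorem prime_card_le {A B : Subgroup P} (hA : Nat.card A = p) {g : P} (hgA : g ∈ A)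
    (hgB : g ∈ B) (hg : g ≠ 1) : A ≤ B := by
  have hp : p.Prime := Fact.out
  have hdvd := Subgroup.card_dvd_of_le (inf_le_left : A ⊓ B ≤ A)
  rw [hA] at hdvd
  rcases (Nat.dvd_prime hp).mp hdvd with h | h
  · exfalso
    rw [Subgroup.card_eq_one] at h
    have : g ∈ A ⊓ B := ⟨hgA, hgB⟩
    rw [h, Subgroup.mem_bot] at this
    exact hg this
  · have : A ⊓ B = A := Subgroup.eq_of_le_of_card_ge inf_le_left (by rw [h, hA])
    exact inf_eq_left.mp this

theorem top_of_steps (hP : Nat.card P = p ^ 4) {Z C T : Subgroup P}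
    (hZ : Nat.card Z = p ^ 2) (hC : Nat.card C = p ^ 3) (hZC : Z ≤ C) (hZT : Z ≤ T)
    {x y : P} (hxC : x ∈ C) (hxZ : x ∉ Z) (hxT : x ∈ T) (hyT : y ∈ T) (hyC : y ∉ C) :
    T = ⊤ := by
  have hp : p.Prime := Fact.out
  have h1 : Nat.card ↥(T ⊓ C) ∣ p ^ 3 := by
    rw [← hC]; exact Subgroup.card_dvd_of_le inf_le_right
  obtain ⟨j, hj2, hj3, hj⟩ := card_step (le_inf hZT hZC) (⟨hxT, hxC⟩ : x ∈ T ⊓ C)
    hxZ hZ h1
  have hj' : j = 3 := by omega
  have hTC : T ⊓ C = C := Subgroup.eq_of_le_of_card_ge inf_le_right (by rw [hj, hj', hC])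
  have hCT : C ≤ T := inf_eq_right.mp hTC
  have h2 : Nat.card ↥T ∣ p ^ 4 := by
    rw [← hP]; exact Subgroup.card_subgroup_dvd_card T
  obtain ⟨i, hi3, hi4, hi⟩ := card_step hCT hyT hyC hC h2
  have hi' : i = 4 := by omega
  exact Subgroup.eq_top_of_card_eq T (by rw [hi, hi', hP])

theorem card_of_index (hP : Nat.card P = p ^ 4) (H : Subgroup P) {a b : ℕ} (hab : a + b = 4)
    (hH : H.index = p ^ a) : Nat.card H = p ^ b := by
  have hp : p.Prime := Fact.out
  have h := Subgroup.card_mul_index H
  rw [hP, hH, ← hab, pow_add, mul_comm (p ^ a)] at h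
  exact Nat.eq_of_mul_eq_mul_right (pow_pos hp.pos a) h

theorem index_of_card (hP : Nat.card P = p ^ 4) (H : Subgroup P) {a b : ℕ} (hab : a + b = 4)
    (hH : Nat.card H = p ^ b) : H.index = p ^ a := by
  have hp : p.Prime := Fact.out
  have h := Subgroup.card_mul_index H
  rw [hP, hH, ← hab, pow_add, mul_comm (p ^ a)] at h
  exact Nat.eq_of_mul_eq_mul_left (pow_pos hp.pos b) h

theorem forward (hP : Nat.card P = p ^ 4) (h : Nat.card (commutator P) = p) :
    (Subgroup.center P).index = p ^ 2 := by
  have hp : p.Prime := Fact.out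
  have hpg : IsPGroup p P := IsPGroup.of_card hP
  have hcen : commutator P ≤ Subgroup.center P := normal_card_p_le_center hpg _ h
  have hc : ∀ a b : P, ⁅a, b⁆ ∈ Subgroup.center P := fun a b => hcen (by
    rw [commutator_def]
    exact Subgroup.commutator_mem_commutator (Subgroup.mem_top a) (Subgroup.mem_top b))
  have hidx : ∀ x : P, (Subgroup.centralizer ({x} : Set P)).index ∣ p := by
    intro x
    rw [← ker_kap hc x, Subgroup.index_ker, ← h]
    exact Subgroup.card_dvd_of_le (range_kap_le hc x)
  -- noncommuting pair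
  have hex : ∃ x y : P, x * y ≠ y * x := by
    by_contra hcon
    push Not at hcon
    have : commutator P = ⊥ := by
      rw [eq_bot_iff, commutator_def, Subgroup.commutator_le]
      intro a _ b _
      rw [Subgroup.mem_bot, commutatorElement_eq_one_iff_mul_comm]
      exact hcon a b
    rw [this, Subgroup.card_bot] at h
    exact hp.one_lt.ne h
  obtain ⟨x, y, hxy⟩ := hex
  have hxCx : x ∈ Subgroup.centralizer ({x} : Set P) := mem_cent_single.mpr rfl
  have hyCy : y ∈ Subgroup.centralizer ({y} : Set P) := mem_cent_single.mpr rfl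
  have hyCx : y ∉ Subgroup.centralizer ({x} : Set P) := fun hh => hxy (mem_cent_single.mp hh)
  have hxCy : x ∉ Subgroup.centralizer ({y} : Set P) := fun hh => hxy (mem_cent_single.mp hh).symm
  have hiCx : (Subgroup.centralizer ({x} : Set P)).index = p := by
    rcases (Nat.dvd_prime hp).mp (hidx x) with h1 | h1
    · exfalso
      rw [Subgroup.index_eq_one] at h1
      exact hyCx (h1 ▸ Subgroup.mem_top y)
    · exact h1
  have hiCy : (Subgroup.centralizer ({y} : Set P)).index = p := by
    rcases (Nat.dvd_prime hp).mp (hidx y) with h1 | h1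
    · exfalso
      rw [Subgroup.index_eq_one] at h1
      exact hxCy (h1 ▸ Subgroup.mem_top x)
    · exact h1
  have hcCx : Nat.card (Subgroup.centralizer ({x} : Set P)) = p ^ 3 :=
    card_of_index hP _ (by norm_num : 1 + 3 = 4) (by rw [hiCx, pow_one])
  -- D
  have hDdvd : Nat.card ↥(Subgroup.centralizer ({x} : Set P) ⊓ Subgroup.centralizer ({y} : Set P))
      ∣ p ^ 3 := by
    rw [← hcCx]; exact Subgroup.card_dvd_of_le inf_le_left
  obtain ⟨j, hj3, hj⟩ := (Nat.dvd_prime_pow hp).mp hDdvd
  have hDle : (Subgroup.centralizer ({x} : Set P) ⊓ Subgroup.centralizer ({y} : Set P)).index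
      ≤ p ^ 2 := by
    have := Subgroup.index_inf_le (H := Subgroup.centralizer ({x} : Set P))
      (K := Subgroup.centralizer ({y} : Set P))
    rw [hiCx, hiCy] at this
    rw [pow_two]; exact this
  have hj2 : 2 ≤ j := by
    by_contra hlt
    push Not at hlt
    have hidxD := index_of_card hP
      (Subgroup.centralizer ({x} : Set P) ⊓ Subgroup.centralizer ({y} : Set P))
      (show (4 - j) + j = 4 by omega) hj
    rw [hidxD] at hDle
    have := (Nat.pow_le_pow_iff_right hp.one_lt).mp hDle
    omega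
  have hjne : j ≠ 3 := by
    intro hj3'
    have : Subgroup.centralizer ({x} : Set P) ⊓ Subgroup.centralizer ({y} : Set P)
        = Subgroup.centralizer ({x} : Set P) :=
      Subgroup.eq_of_le_of_card_ge inf_le_left (by rw [hj, hj3', hcCx])
    have hx2 : x ∈ Subgroup.centralizer ({x} : Set P) ⊓ Subgroup.centralizer ({y} : Set P) := by
      rw [this]; exact hxCx
    exact hxCy hx2.2
  have hjeq : j = 2 := by omega
  rw [hjeq] at hj
  -- D abelian
  have hDc := (IsPGroup.isMulCommutative_of_card_eq_prime_sq hj).is_comm.comm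
  -- D ≤ center
  have hDZ : Subgroup.centralizer ({x} : Set P) ⊓ Subgroup.centralizer ({y} : Set P)
      ≤ Subgroup.center P := by
    intro z hz
    have hT : Subgroup.centralizer ({z} : Set P) = ⊤ := by
      apply top_of_steps hP hj hcCx inf_le_left _ hxCx (fun hh => hxCy hh.2) _ _ hyCx
      · intro d hd
        rw [mem_cent_single]
        exact congrArg Subtype.val (hDc ⟨z, hz⟩ ⟨d, hd⟩)
      · rw [mem_cent_single]
        exact (mem_cent_single.mp hz.1).symm
      · rw [mem_cent_single]
        exact (mem_cent_single.mp hz.2).symm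
    rw [Subgroup.mem_center_iff]
    intro g
    have hg : g ∈ Subgroup.centralizer ({z} : Set P) := hT ▸ Subgroup.mem_top g
    exact (mem_cent_single.mp hg).symm
  have hZD : Subgroup.center P = Subgroup.centralizer ({x} : Set P) ⊓
      Subgroup.centralizer ({y} : Set P) :=
    le_antisymm (le_inf (Subgroup.center_le_centralizer _) (Subgroup.center_le_centralizer _)) hDZ
  rw [hZD]
  exact index_of_card hP _ (by norm_num : 2 + 2 = 4) hj

theorem backward (hP : Nat.card P = p ^ 4) (h : (Subgroup.center P).index = p ^ 2) :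
    Nat.card (commutator P) = p := by
  have hp : p.Prime := Fact.out
  have hcZ : Nat.card (Subgroup.center P) = p ^ 2 :=
    card_of_index hP _ (by norm_num : 2 + 2 = 4) h
  have hQ : Nat.card (P ⧸ Subgroup.center P) = p ^ 2 := by
    rw [← Subgroup.index_eq_card]; exact h
  have hQc := (IsPGroup.isMulCommutative_of_card_eq_prime_sq hQ).is_comm.comm
  have hc : ∀ a b : P, ⁅a, b⁆ ∈ Subgroup.center P := by
    intro a b
    rw [← QuotientGroup.eq_one_iff]
    have := map_commutatorElement (QuotientGroup.mk' (Subgroup.center P)) a b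
    rw [QuotientGroup.mk'_apply] at this
    rw [this, commutatorElement_eq_one_iff_mul_comm]
    exact hQc _ _
  have hZtop : Subgroup.center P ≠ ⊤ := by
    intro ht
    rw [ht, Subgroup.index_top] at h
    have : 1 < p ^ 2 := Nat.one_lt_pow (by norm_num) hp.one_lt
    omega
  obtain ⟨x, hxZ⟩ : ∃ x : P, x ∉ Subgroup.center P := by
    by_contra hcon
    push Not at hcon
    exact hZtop (eq_top_iff.mpr (fun g _ => hcon g))
  obtain ⟨y, hxy⟩ : ∃ y : P, x * y ≠ y * x := by
    by_contra hcon
    push Not at hcon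
    apply hxZ
    rw [Subgroup.mem_center_iff]
    intro g
    exact (hcon g).symm
  have hyZ : y ∉ Subgroup.center P := by
    intro hy
    rw [Subgroup.mem_center_iff] at hy
    exact hxy (hy x)
  have hxCx : x ∈ Subgroup.centralizer ({x} : Set P) := mem_cent_single.mpr rfl
  have hyCy : y ∈ Subgroup.centralizer ({y} : Set P) := mem_cent_single.mpr rfl
  have hyCx : y ∉ Subgroup.centralizer ({x} : Set P) := fun hh => hxy (mem_cent_single.mp hh)
  have hxCy : x ∉ Subgroup.centralizer ({y} : Set P) := fun hh => hxy (mem_cent_single.mp hh).symm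
  have hcard3 : ∀ u v : P, u ∉ Subgroup.center P → v ∉ Subgroup.centralizer ({u} : Set P) →
      Nat.card (Subgroup.centralizer ({u} : Set P)) = p ^ 3 := by
    intro u v hu hv
    have h2 : Nat.card ↥(Subgroup.centralizer ({u} : Set P)) ∣ p ^ 4 := by
      rw [← hP]; exact Subgroup.card_subgroup_dvd_card _
    obtain ⟨j, hj2, hj4, hj⟩ := card_step (Subgroup.center_le_centralizer ({u} : Set P))
      (mem_cent_single.mpr rfl : u ∈ Subgroup.centralizer ({u} : Set P)) hu hcZ h2
    have hj4' : j ≠ 4 := by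
      intro hj4'
      have : Subgroup.centralizer ({u} : Set P) = ⊤ :=
        Subgroup.eq_top_of_card_eq _ (by rw [hj, hj4', hP])
      exact hv (this ▸ Subgroup.mem_top v)
    have : j = 3 := by omega
    rw [hj, this]
  have hcCx := hcard3 x y hxZ hyCx
  have hcCy := hcard3 y x hyZ hxCy
  have hIx : Nat.card (kap hc x).range = p := by
    rw [← Subgroup.index_ker, ker_kap]
    have := index_of_card hP _ (by norm_num : 1 + 3 = 4) hcCx
    rw [this, pow_one]
  have hIy : Nat.card (kap hc y).range = p := by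
    rw [← Subgroup.index_ker, ker_kap]
    have := index_of_card hP _ (by norm_num : 1 + 3 = 4) hcCy
    rw [this, pow_one]
  have hg0 : ⁅x, y⁆ ≠ 1 := by
    rw [Ne, commutatorElement_eq_one_iff_mul_comm]; exact hxy
  have hIyx : (kap hc y).range ≤ (kap hc x).range := by
    apply prime_card_le hIy (g := ⁅x, y⁆) ⟨x, rfl⟩ _ hg0
    rw [← commutatorElement_inv]
    exact inv_mem ⟨y, rfl⟩
  -- T
  have hT : (⨅ a : P, (kap hc x).range.comap (kap hc a)) = ⊤ := by
    apply top_of_steps hP hcZ hcCx (Subgroup.center_le_centralizer _) _ hxCx hxZ _ _ hyCx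
    · intro z hz
      rw [Subgroup.mem_iInf]
      intro a
      rw [Subgroup.mem_comap, kap_apply]
      have : ⁅z, a⁆ = 1 := by
        rw [commutatorElement_eq_one_iff_mul_comm]
        rw [Subgroup.mem_center_iff] at hz
        exact (hz a).symm
      rw [this]; exact one_mem _
    · rw [Subgroup.mem_iInf]
      intro a
      rw [Subgroup.mem_comap, kap_apply, ← commutatorElement_inv]
      exact inv_mem ⟨a, rfl⟩
    · rw [Subgroup.mem_iInf]
      intro a
      rw [Subgroup.mem_comap, kap_apply, ← commutatorElement_inv]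
      exact hIyx (inv_mem ⟨a, rfl⟩)
  have hle : commutator P ≤ (kap hc x).range := by
    rw [commutator_def, Subgroup.commutator_le]
    intro a _ b _
    have ha : a ∈ (⨅ a : P, (kap hc x).range.comap (kap hc a)) := hT ▸ Subgroup.mem_top a
    rw [Subgroup.mem_iInf] at ha
    have := ha b
    rw [Subgroup.mem_comap, kap_apply] at this
    exact this
  have heq : commutator P = (kap hc x).range := le_antisymm hle (range_kap_le hc x)
  rw [heq]
  exact hIx

end

/-- Let p be a prime and P a group of order p^4. Then the derived subgroup P' has order p if and only if the centre Z(P) has index p^2 in P. -/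
theorem result {P : Type*} [Group P] [Finite P] (p : ℕ) [Fact p.Prime] (hP : Nat.card P = p ^ 4) :
    Nat.card (commutator P) = p ↔ (Subgroup.center P).index = p ^ 2 := by
  exact ⟨forward hP, backward hP⟩

end Cfsg.Agent.S4584
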