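import Cfsg.Statements.S4585
import Mathlib
import Cfsg.Agent.Lib.Helper4.PGroupNormal
import Cfsg.Agent.S4584

set_option autoImplicit false
open Cfsg

namespace Cfsg.Agent.S4585


open scoped commutatorElement
open Cfsg.Agent.S4584

section
variable {P : Type*} [Group P] [Finite P] {p : ℕ} [Fact p.Prime]

omit [Finite P] in
theorem comm_bot_of_comm (h : ∀ a b : P, a * b = b * a) : commutator P = ⊥ := by
  rw [eq_bot_iff, commutator_def, Subgroup.commutator_le]
  intro a _ b _
  rw [Subgroup.mem_bot, commutatorElement_eq_one_iff_mul_comm]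
  exact h a b

theorem exists_normal_sq (hP : Nat.card P = p ^ 4) :
    ∃ A : Subgroup P, Nat.card A = p ^ 2 ∧ commutator P ≤ A := by
  have hp : p.Prime := Fact.out
  have hpg : IsPGroup p P := IsPGroup.of_card hP
  obtain ⟨A, -, hAn, hA⟩ := Cfsg.Agent.Lib.Helper4.exists_normal_le_card_pow hpg
    (⊤ : Subgroup P) 2 (by
      rw [Subgroup.card_top, hP]; exact Nat.pow_le_pow_right hp.pos (by norm_num))
  haveI := hAn
  refine ⟨A, hA, ?_⟩
  have hidx : A.index = p ^ 2 := index_of_card hP A (by norm_num : 2 + 2 = 4) hA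
  have hQ : Nat.card (P ⧸ A) = p ^ 2 := by rw [← Subgroup.index_eq_card]; exact hidx
  have hQc := (IsPGroup.isMulCommutative_of_card_eq_prime_sq hQ).is_comm.comm
  rw [commutator_def, Subgroup.commutator_le]
  intro a _ b _
  rw [← QuotientGroup.eq_one_iff]
  have := map_commutatorElement (QuotientGroup.mk' A) a b
  rw [QuotientGroup.mk'_apply] at this
  rw [this, commutatorElement_eq_one_iff_mul_comm]
  exact hQc _ _

theorem gamma2_ne_bot (hP : Nat.card P = p ^ 4) (hc2 : Nat.card (commutator P) = p ^ 2) :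
    ⁅commutator P, (⊤ : Subgroup P)⁆ ≠ ⊥ := by
  have hp : p.Prime := Fact.out
  have hne : commutator P ≠ ⊥ := by
    intro hb; rw [hb, Subgroup.card_bot] at hc2
    have : 1 < p ^ 2 := Nat.one_lt_pow (by norm_num) hp.one_lt
    omega
  intro hb
  have hcz : commutator P ≤ Subgroup.center P :=
    Subgroup.commutator_top_right_eq_bot_iff_le_center.mp hb
  have hZdvd : Nat.card (Subgroup.center P) ∣ p ^ 4 := by
    rw [← hP]; exact Subgroup.card_subgroup_dvd_card _
  obtain ⟨k, hk4, hk⟩ := (Nat.dvd_prime_pow hp).mp hZdvd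
  have hdvd := Subgroup.card_dvd_of_le hcz
  rw [hc2, hk] at hdvd
  have hk2 : 2 ≤ k := (Nat.pow_dvd_pow_iff_le_right hp.one_lt).mp hdvd
  have hidx : (Subgroup.center P).index = p ^ (4 - k) :=
    index_of_card hP _ (show (4 - k) + k = 4 by omega) hk
  have hk' : k = 2 ∨ k = 3 ∨ k = 4 := by omega
  rcases hk' with rfl | rfl | rfl
  · have := backward hP hidx
    rw [this] at hc2
    have h1 : p ^ 2 = p * p := pow_two p
    have h2 : p < p * p := by
      have := hp.one_lt
      nlinarith
    omega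
  · have hQ : Nat.card (P ⧸ Subgroup.center P) = p := by
      rw [← Subgroup.index_eq_card, hidx]; norm_num
    haveI : IsCyclic (P ⧸ Subgroup.center P) := isCyclic_of_prime_card hQ
    have hcomm := (MonoidHom.isMulCommutative_of_isCyclic_of_ker_le_center
      (QuotientGroup.mk' (Subgroup.center P)) (by rw [QuotientGroup.ker_mk'])).is_comm.comm
    exact hne (comm_bot_of_comm hcomm)
  · have htop : Subgroup.center P = ⊤ := Subgroup.eq_top_of_card_eq _ (by rw [hk, hP])
    apply hne
    apply comm_bot_of_comm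
    intro a b
    have hb' : b ∈ Subgroup.center P := htop ▸ Subgroup.mem_top b
    rw [Subgroup.mem_center_iff] at hb'
    exact hb' a

theorem fwd (hP : Nat.card P = p ^ 4) (h : (commutator P).index = p ^ 2) :
    Group.nilpotencyClass P = 3 := by
  have hp : p.Prime := Fact.out
  have hpg : IsPGroup p P := IsPGroup.of_card hP
  haveI : Group.IsNilpotent P := hpg.isNilpotent
  have hc2 : Nat.card (commutator P) = p ^ 2 :=
    card_of_index hP _ (by norm_num : 2 + 2 = 4) h
  have hne : commutator P ≠ ⊥ := by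
    intro hb; rw [hb, Subgroup.card_bot] at hc2
    have : 1 < p ^ 2 := Nat.one_lt_pow (by norm_num) hp.one_lt
    omega
  have hγ2ne := gamma2_ne_bot hP hc2
  have hγ2le : ⁅commutator P, (⊤ : Subgroup P)⁆ ≤ commutator P :=
    Subgroup.commutator_le_left _ _
  have hγ2lt : ⁅commutator P, (⊤ : Subgroup P)⁆ ≠ commutator P := by
    intro heq
    have hall : ∀ n, (⊤ : Subgroup P).lowerCentralSeries (n + 1) = commutator P := by
      intro n
      induction n with
      | zero => rfl
      | succ n ih => rw [Subgroup.lowerCentralSeries_succ, ih]; exact heq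
    have hbot := Subgroup.lowerCentralSeries_nilpotencyClass (G := P)
    rcases Nat.eq_zero_or_pos (Group.nilpotencyClass P) with h0 | h0
    · rw [h0] at hbot
      have htb : (⊤ : Subgroup P) = ⊥ := hbot
      have hc : Nat.card (⊤ : Subgroup P) = 1 := by rw [htb, Subgroup.card_bot]
      rw [Subgroup.card_top, hP] at hc
      have : 1 < p ^ 4 := Nat.one_lt_pow (by norm_num) hp.one_lt
      omega
    · obtain ⟨m, hm⟩ := Nat.exists_eq_add_one_of_ne_zero h0.ne'
      rw [hm, hall m] at hbot
      exact hne hbot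
  have hγ2dvd : Nat.card ↥(⁅commutator P, (⊤ : Subgroup P)⁆) ∣ p ^ 2 := by
    rw [← hc2]; exact Subgroup.card_dvd_of_le hγ2le
  obtain ⟨i, hi2, hi⟩ := (Nat.dvd_prime_pow hp).mp hγ2dvd
  have hi0 : i ≠ 0 := by
    intro h0
    rw [h0, pow_zero, Subgroup.card_eq_one] at hi
    exact hγ2ne hi
  have hi2' : i ≠ 2 := by
    intro h2
    exact hγ2lt (Subgroup.eq_of_le_of_card_ge hγ2le (by rw [hi, h2, hc2]))
  have hi1 : i = 1 := by omega
  rw [hi1, pow_one] at hi
  have hγ2Z : ⁅commutator P, (⊤ : Subgroup P)⁆ ≤ Subgroup.center P :=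
    normal_card_p_le_center hpg _ hi
  have h3 : (⊤ : Subgroup P).lowerCentralSeries 3 = ⊥ :=
    Subgroup.commutator_top_right_eq_bot_iff_le_center.mpr hγ2Z
  have hle3 : Group.nilpotencyClass P ≤ 3 :=
    Subgroup.lowerCentralSeries_eq_bot_iff_nilpotencyClass_le.mp h3
  have hnle2 : ¬ Group.nilpotencyClass P ≤ 2 := by
    intro hle
    have : (⊤ : Subgroup P).lowerCentralSeries 2 = ⊥ :=
      Subgroup.lowerCentralSeries_eq_bot_iff_nilpotencyClass_le.mpr hle
    exact hγ2ne this
  omega

theorem bwd (hP : Nat.card P = p ^ 4) (h : Group.nilpotencyClass P = 3) :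
    (commutator P).index = p ^ 2 := by
  have hp : p.Prime := Fact.out
  have hpg : IsPGroup p P := IsPGroup.of_card hP
  haveI : Group.IsNilpotent P := hpg.isNilpotent
  have h3 : (⊤ : Subgroup P).lowerCentralSeries 3 = ⊥ :=
    Subgroup.lowerCentralSeries_eq_bot_iff_nilpotencyClass_le.mpr (le_of_eq h)
  have h2 : ⁅commutator P, (⊤ : Subgroup P)⁆ ≠ ⊥ := by
    intro hb
    have : (⊤ : Subgroup P).lowerCentralSeries 2 = ⊥ := hb
    have := Subgroup.lowerCentralSeries_eq_bot_iff_nilpotencyClass_le.mp this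
    omega
  have hγ2le : ⁅commutator P, (⊤ : Subgroup P)⁆ ≤ commutator P :=
    Subgroup.commutator_le_left _ _
  have hγ2lt : ⁅commutator P, (⊤ : Subgroup P)⁆ ≠ commutator P := by
    intro heq
    have h3' : ⁅⁅commutator P, (⊤ : Subgroup P)⁆, (⊤ : Subgroup P)⁆ = ⊥ := h3
    rw [heq] at h3'
    exact h2 h3'
  obtain ⟨A, hA, hPA⟩ := exists_normal_sq hP
  have hdvd4 : Nat.card (commutator P) ∣ p ^ 4 := by
    rw [← hP]; exact Subgroup.card_subgroup_dvd_card _
  obtain ⟨j, hj4, hj⟩ := (Nat.dvd_prime_pow hp).mp hdvd4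
  have hdvdA := Subgroup.card_dvd_of_le hPA
  rw [hj, hA] at hdvdA
  have hj2 : j ≤ 2 := (Nat.pow_dvd_pow_iff_le_right hp.one_lt).mp hdvdA
  have hγdvd : Nat.card ↥(⁅commutator P, (⊤ : Subgroup P)⁆) ∣ p ^ j := by
    rw [← hj]; exact Subgroup.card_dvd_of_le hγ2le
  obtain ⟨i, hij, hi⟩ := (Nat.dvd_prime_pow hp).mp hγdvd
  have hi0 : i ≠ 0 := by
    intro h0
    rw [h0, pow_zero, Subgroup.card_eq_one] at hi
    exact h2 hi
  have hine : i ≠ j := by
    intro hij'
    exact hγ2lt (Subgroup.eq_of_le_of_card_ge hγ2le (by rw [hi, hij', hj]))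
  have hj2' : j = 2 := by omega
  rw [hj2'] at hj
  exact index_of_card hP _ (by norm_num : 2 + 2 = 4) hj

end

/-- Let p be a prime and P a group of order p^4. Then P' has index p^2 in P if and only if P has maximal nilpotency class, that is, nilpotency class exactly 3. -/
theorem result {P : Type*} [Group P] [Finite P] (p : ℕ) [Fact p.Prime] (hP : Nat.card P = p ^ 4) :
    (commutator P).index = p ^ 2 ↔ Group.nilpotencyClass P = 3 := by
  exact ⟨fwd hP, bwd hP⟩

end Cfsg.Agent.S4585
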