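import Cfsg.Statements.S4586
import Mathlib
import Cfsg.Agent.S3807

set_option autoImplicit false
open Cfsg

namespace Cfsg.Agent.S4586

open Cfsg.Agent.S3807
open scoped commutatorElement

theorem card_comap_surj {G H : Type*} [Group G] [Group H] [Finite G] (ρ : G →* H)
    (hρ : Function.Surjective ρ) (K : Subgroup H) :
    Nat.card (K.comap ρ) = Nat.card ρ.ker * Nat.card K := by
  haveI : Finite H := Finite.of_surjective ρ hρ
  have h1 : (K.comap ρ).index = K.index := Subgroup.index_comap_of_surjective K hρ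
  have h2 := Subgroup.card_mul_index (K.comap ρ)
  have h3 := Subgroup.card_mul_index K
  have h4 := Subgroup.card_mul_index ρ.ker
  have h5 : ρ.ker.index = Nat.card H := by
    rw [Subgroup.index_ker, MonoidHom.range_eq_top.2 hρ, Subgroup.card_top]
  rw [h1] at h2
  rw [h5] at h4
  have hpos : 0 < K.index := Nat.pos_of_ne_zero Subgroup.index_ne_zero_of_finite
  have : Nat.card (K.comap ρ) * K.index = Nat.card ρ.ker * Nat.card K * K.index := by
    rw [h2, mul_assoc, h3, h4]
  exact Nat.eq_of_mul_eq_mul_right hpos this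

theorem index_range {H : Type*} [Group H] [Finite H] (A : Subgroup H) (φ : A →* H) :
    φ.range.index = Nat.card φ.ker * A.index := by
  have h1 := Subgroup.card_mul_index φ.ker
  have h2 : φ.ker.index = Nat.card φ.range := Subgroup.index_ker φ
  have h3 := Subgroup.card_mul_index A
  have h4 := Subgroup.card_mul_index φ.range
  rw [h2] at h1
  have hpos : 0 < Nat.card φ.range := Nat.card_pos
  have : Nat.card φ.range * φ.range.index = Nat.card φ.range * (Nat.card φ.ker * A.index) := by
    rw [h4, ← h3, ← h1]; ring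
  exact Nat.eq_of_mul_eq_mul_left hpos this


theorem key4586 {P : Type*} [Group P] [Finite P] (p : ℕ) [hp : Fact p.Prime] (N : Subgroup P)
    [hNn : N.Normal] (hN : N.index = p) (x : P) (hx : x ∉ N) :
    (commutator P).index * Nat.card (commutator N) =
      p * Nat.card {n : N // x * n * x⁻¹ * (n : P)⁻¹ ∈ (commutator N).map N.subtype} := by
  obtain ⟨D, hD⟩ : ∃ D, D = (commutator N).map N.subtype := ⟨_, rfl⟩
  rw [← hD]
  have hDcomm : D = ⁅N, N⁆ := by rw [hD]; exact Subgroup.map_subtype_commutator N
  haveI hDn : D.Normal := by rw [hDcomm]; infer_instance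
  have hDN : D ≤ N := by rw [hD]; exact Subgroup.map_subtype_le _
  have hπs : Function.Surjective (QuotientGroup.mk' D) := QuotientGroup.mk'_surjective D
  have hker : (QuotientGroup.mk' D).ker = D := QuotientGroup.ker_mk' D
  have hπ1 : ∀ y : P, QuotientGroup.mk' D y = 1 ↔ y ∈ D := by
    intro y
    rw [← MonoidHom.mem_ker, hker]
  haveI hAn : (N.map (QuotientGroup.mk' D)).Normal := Subgroup.Normal.map hNn _ hπs
  have hAi : (N.map (QuotientGroup.mk' D)).index = p := by
    rw [Subgroup.index_map_eq N hπs (by rw [hker]; exact hDN), hN]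
  have hAc : IsMulCommutative ↥(N.map (QuotientGroup.mk' D)) := by
    refine ⟨⟨fun a b => ?_⟩⟩
    obtain ⟨n1, hn1, h1⟩ := a.2
    obtain ⟨n2, hn2, h2⟩ := b.2
    apply Subtype.ext
    show (a : P ⧸ D) * (b : P ⧸ D) = (b : P ⧸ D) * (a : P ⧸ D)
    rw [← h1, ← h2, ← map_mul, ← map_mul]
    apply (QuotientGroup.eq (s := D)).2
    have : (n1 * n2)⁻¹ * (n2 * n1) = ⁅n2⁻¹, n1⁻¹⁆ := by
      rw [commutatorElement_def]; group
    rw [this, hDcomm]
    exact Subgroup.commutator_mem_commutator (N.inv_mem hn2) (N.inv_mem hn1)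
  have hxA : QuotientGroup.mk' D x ∉ N.map (QuotientGroup.mk' D) := by
    rintro ⟨n, hn, h⟩
    apply hx
    have h1 : n⁻¹ * x ∈ D := (QuotientGroup.eq (s := D)).1 h
    have : x = n * (n⁻¹ * x) := by group
    rw [this]
    exact N.mul_mem hn (hDN h1)
  have hcomm := commutator_eq_range (N.map (QuotientGroup.mk' D)) hAc hAi hxA
  -- index of the commutator subgroup
  have h1 : (commutator (P ⧸ D)).index = (commutator P).index := by
    have e : commutator (P ⧸ D) = (commutator P).map (QuotientGroup.mk' D) := by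
      rw [commutator_def, commutator_def, Subgroup.map_commutator,
        Subgroup.map_top_of_surjective _ hπs]
    rw [e]
    apply Subgroup.index_map_eq _ hπs
    rw [hker, hDcomm, commutator_def]
    exact Subgroup.commutator_mono le_top le_top
  have h2 := index_range (N.map (QuotientGroup.mk' D))
    (phi (N.map (QuotientGroup.mk' D)) hAc (QuotientGroup.mk' D x))
  rw [← hcomm, h1, hAi] at h2
  -- counting
  have hρs := MonoidHom.subgroupMap_surjective (QuotientGroup.mk' D) N
  have h3 := card_comap_surj ((QuotientGroup.mk' D).subgroupMap N) hρs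
    (phi (N.map (QuotientGroup.mk' D)) hAc (QuotientGroup.mk' D x)).ker
  have hkerρ : ((QuotientGroup.mk' D).subgroupMap N).ker = commutator N := by
    ext n
    rw [MonoidHom.mem_ker]
    constructor
    · intro h
      have h' : QuotientGroup.mk' D (n : P) = 1 := congrArg Subtype.val h
      rw [hπ1, hD] at h'
      exact (Subgroup.mem_map_iff_mem N.subtype_injective).1 h'
    · intro h
      apply Subtype.ext
      show QuotientGroup.mk' D (n : P) = 1
      rw [hπ1, hD]
      exact Subgroup.mem_map_of_mem N.subtype h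
  rw [hkerρ] at h3
  have h4 : Nat.card {n : N // x * n * x⁻¹ * (n : P)⁻¹ ∈ D} =
      Nat.card ↥(Subgroup.comap ((QuotientGroup.mk' D).subgroupMap N)
        (phi (N.map (QuotientGroup.mk' D)) hAc (QuotientGroup.mk' D x)).ker) := by
    apply Nat.card_congr
    apply Equiv.subtypeEquivRight
    intro n
    rw [Subgroup.mem_comap, MonoidHom.mem_ker, phi_apply]
    show _ ↔ QuotientGroup.mk' D (n : P) * QuotientGroup.mk' D x * (QuotientGroup.mk' D (n : P))⁻¹ *
      (QuotientGroup.mk' D x)⁻¹ = 1
    rw [← map_inv, ← map_inv, ← map_mul, ← map_mul, ← map_mul, hπ1]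
    have e : (n : P) * x * (n : P)⁻¹ * x⁻¹ = (x * n * x⁻¹ * (n : P)⁻¹)⁻¹ := by group
    rw [e, inv_mem_iff]
  rw [h4, h3, h2]
  ring


theorem main4586 {P : Type*} [Group P] [Finite P] (p : ℕ) [Fact p.Prime] (hP : IsPGroup p P) (N : Subgroup P) [N.Normal] (hN : N.index = p) :
    ((commutator P).index = p ^ 2 ↔ ∀ x : P, x ∉ N →
        Nat.card {n : N // x * n * x⁻¹ * (n : P)⁻¹ ∈ (commutator N).map N.subtype} = p * Nat.card (commutator N)) ∧
    ((commutator P).index = p ^ 2 ↔ ∃ x : P, x ∉ N ∧
        Nat.card {n : N // x * n * x⁻¹ * (n : P)⁻¹ ∈ (commutator N).map N.subtype} = p * Nat.card (commutator N)) := by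
  have hp : p.Prime := Fact.out
  have hd : 0 < Nat.card (commutator N) := Nat.card_pos
  have hequiv : ∀ x : P, x ∉ N → ((commutator P).index = p ^ 2 ↔
      Nat.card {n : N // x * n * x⁻¹ * (n : P)⁻¹ ∈ (commutator N).map N.subtype} =
        p * Nat.card (commutator N)) := by
    intro x hx
    have hk := key4586 p N hN x hx
    constructor
    · intro h
      rw [h] at hk
      apply Nat.eq_of_mul_eq_mul_left hp.pos
      rw [← hk]
      ring
    · intro h
      rw [h] at hk
      apply Nat.eq_of_mul_eq_mul_right hd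
      rw [hk]
      ring
  obtain ⟨x0, hx0⟩ : ∃ x : P, x ∉ N := by
    by_contra hcon
    push Not at hcon
    have : N = ⊤ := eq_top_iff.2 fun y _ => hcon y
    rw [this, Subgroup.index_top] at hN
    exact hp.one_lt.ne hN
  refine ⟨⟨fun h x hx => (hequiv x hx).1 h, fun h => (hequiv x0 hx0).2 (h x0 hx0)⟩,
    ⟨fun h => ⟨x0, hx0, (hequiv x0 hx0).1 h⟩, fun ⟨x, hx, h⟩ => (hequiv x hx).2 h⟩⟩


/-- Let p be a prime, P a finite p-group and N a normal subgroup of P of index p. For x ∈ P write c(x) for the number of elements n of N whose commutator x n x⁻¹ n⁻¹ lies in the derived subgroup N' (so c(x)/#N' is the order of the centralizer of x acting on N/N'). Then [P : P'] = p² if and only if c(x) = p·#N' for every x ∈ P outside N, and also if and only if c(x) = p·#N' for some x ∈ P outside N. -/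
theorem result {P : Type*} [Group P] [Finite P] (p : ℕ) [Fact p.Prime] (hP : IsPGroup p P) (N : Subgroup P) [N.Normal] (hN : N.index = p) :
    ((commutator P).index = p ^ 2 ↔ ∀ x : P, x ∉ N →
        Nat.card {n : N // x * n * x⁻¹ * (n : P)⁻¹ ∈ (commutator N).map N.subtype} = p * Nat.card (commutator N)) ∧
    ((commutator P).index = p ^ 2 ↔ ∃ x : P, x ∉ N ∧
        Nat.card {n : N // x * n * x⁻¹ * (n : P)⁻¹ ∈ (commutator N).map N.subtype} = p * Nat.card (commutator N)) := by
  exact main4586 p hP N hN

end Cfsg.Agent.S4586
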