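import Mathlib
import Cfsg.Statements.S4601
import Cfsg.Agent.Lib.Helper7.PSolvable
import Cfsg.Agent.Lib.Helper4.CoprimeAct
import Cfsg.Agent.Lib.Helper5.SylowLib
import Cfsg.Agent.Lib.Helper3.SylowAux

set_option autoImplicit false
set_option maxHeartbeats 800000

open Cfsg

namespace Cfsg.Agent.S4601

universe u

/-- conjugation action on subgroups -/
@[reducible] def cjAct (G : Type*) [Group G] : MulAction G (Subgroup G) where
  smul g H := H.map (MulAut.conj g).toMonoidHom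
  one_smul H := by
    show H.map (MulAut.conj (1 : G)).toMonoidHom = H
    ext x
    constructor
    · rintro ⟨y, hy, rfl⟩
      simpa using hy
    · intro hx
      exact ⟨x, hx, by simp⟩
  mul_smul g h H := by
    show H.map (MulAut.conj (g * h)).toMonoidHom =
      (H.map (MulAut.conj h).toMonoidHom).map (MulAut.conj g).toMonoidHom
    ext x
    constructor
    · rintro ⟨y, hy, rfl⟩
      exact ⟨_, ⟨y, hy, rfl⟩, by simp [mul_assoc]⟩
    · rintro ⟨_, ⟨y, hy, rfl⟩, rfl⟩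
      exact ⟨y, hy, by simp [mul_assoc]⟩

theorem mem_cj {G : Type*} [Group G] (g x : G) (H : Subgroup G) :
    x ∈ H.map (MulAut.conj g).toMonoidHom ↔ g⁻¹ * x * g ∈ H := by
  constructor
  · rintro ⟨y, hy, rfl⟩
    have : g⁻¹ * ((MulAut.conj g).toMonoidHom y) * g = y := by
      show g⁻¹ * (g * y * g⁻¹) * g = y
      group
    rw [this]
    exact hy
  · intro h
    refine ⟨g⁻¹ * x * g, h, ?_⟩
    show g * (g⁻¹ * x * g) * g⁻¹ = x
    group

open scoped Pointwise in
/-- Sylow `p`-subgroups of a normal subgroup `M`, taken as `P ⊓ M`, are conjugate under `M`. -/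
theorem sylM_conj {G : Type*} [Group G] [Finite G] {p : ℕ} [hp : Fact p.Prime]
    (M : Subgroup G) [hM : M.Normal] (P₁ P₂ : Sylow p G) :
    ∃ k ∈ M, (P₁ : Subgroup G) ⊓ M = ((P₂ : Subgroup G) ⊓ M).map (MulAut.conj k).toMonoidHom := by
  obtain ⟨S₁, hS₁⟩ := Cfsg.Agent.Lib.Helper5.exists_sylow_inf_normal P₁ M
  obtain ⟨S₂, hS₂⟩ := Cfsg.Agent.Lib.Helper5.exists_sylow_inf_normal P₂ M
  obtain ⟨m, hm⟩ := MulAction.exists_smul_eq M S₂ S₁
  refine ⟨m.1, m.2, ?_⟩
  rw [← hS₁, ← hS₂, ← hm]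
  ext x
  rw [mem_cj]
  constructor
  · rintro ⟨y, hy, rfl⟩
    rw [Sylow.coe_subgroup_smul] at hy
    replace hy : y ∈ (MulAut.conj m • (S₂ : Subgroup M)) := hy
    rw [Subgroup.mem_pointwise_smul_iff_inv_smul_mem] at hy
    have hconj : (MulAut.conj m)⁻¹ • y = m⁻¹ * y * m := by
      rw [← map_inv, MulAut.smul_def, MulAut.conj_apply, inv_inv]
    rw [hconj] at hy
    exact ⟨m⁻¹ * y * m, hy, rfl⟩
  · rintro ⟨y, hy, hyx⟩
    have hxM : x ∈ M := by
      have h1 : (m : G)⁻¹ * x * m ∈ M := by rw [← hyx]; exact y.2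
      have h2 := hM.conj_mem _ h1 m
      have h3 : (m : G) * ((m : G)⁻¹ * x * m) * (m : G)⁻¹ = x := by group
      rwa [h3] at h2
    refine ⟨⟨x, hxM⟩, ?_, rfl⟩
    rw [Sylow.coe_subgroup_smul]
    show (⟨x, hxM⟩ : M) ∈ (MulAut.conj m • (S₂ : Subgroup M))
    rw [Subgroup.mem_pointwise_smul_iff_inv_smul_mem]
    have hconj : (MulAut.conj m)⁻¹ • (⟨x, hxM⟩ : M) = m⁻¹ * ⟨x, hxM⟩ * m := by
      rw [← map_inv, MulAut.smul_def, MulAut.conj_apply, inv_inv]
    rw [hconj]
    have : m⁻¹ * (⟨x, hxM⟩ : M) * m = y := Subtype.ext hyx.symm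
    rw [this]
    exact hy


open scoped Pointwise in
theorem mem_smul_sylow {G : Type*} [Group G] {p : ℕ} (g x : G) (P : Sylow p G) :
    x ∈ ((g • P : Sylow p G) : Subgroup G) ↔ g⁻¹ * x * g ∈ (P : Subgroup G) := by
  rw [Sylow.coe_subgroup_smul]
  show x ∈ (MulAut.conj g • (P : Subgroup G)) ↔ _
  rw [Subgroup.mem_pointwise_smul_iff_inv_smul_mem]
  have hconj : (MulAut.conj g)⁻¹ • x = g⁻¹ * x * g := by
    rw [← map_inv, MulAut.smul_def, MulAut.conj_apply, inv_inv]
  rw [hconj]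

theorem exists_sylow_centralizing {G : Type*} [Group G] [Finite G] {p : ℕ} [hp : Fact p.Prime]
    (y : G) (h : ¬ p ∣ (Subgroup.centralizer ({y} : Set G)).index) :
    ∃ P : Sylow p G, ∀ u ∈ (P : Subgroup G), u * y = y * u := by
  classical
  obtain ⟨P₀⟩ : Nonempty (Sylow p G) := inferInstance
  set C := Subgroup.centralizer ({y} : Set G) with hC
  have hcard : ¬ p ∣ Nat.card (G ⧸ C) := by rwa [← Subgroup.index_eq_card]
  obtain ⟨x, hx⟩ := P₀.isPGroup'.nonempty_fixed_point_of_prime_not_dvd_card (G ⧸ C) hcard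
  induction x using QuotientGroup.induction_on with
  | H g =>
  refine ⟨g⁻¹ • P₀, ?_⟩
  intro u hu
  rw [mem_smul_sylow, inv_inv] at hu
  have h1 := hx ⟨g * u * g⁻¹, hu⟩
  change (((g * u * g⁻¹) * g : G) : G ⧸ C) = (g : G ⧸ C) at h1
  rw [QuotientGroup.eq] at h1
  have h3 : (g * u * g⁻¹ * g)⁻¹ * g = u⁻¹ := by group
  rw [h3] at h1
  have h4 : u ∈ C := by simpa using C.inv_mem h1
  rw [hC, Subgroup.mem_centralizer_iff] at h4
  exact (h4 y (Set.mem_singleton y)).symm

theorem hyp_quot {G : Type*} [Group G] [Finite G] (p q : ℕ) [hp : Fact p.Prime] [hq : Fact q.Prime]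
    (M : Subgroup G) [M.Normal]
    (h : ∀ y : G, (∃ k : ℕ, orderOf y = q ^ k) →
      ¬ p ∣ (Subgroup.centralizer ({y} : Set G)).index) :
    ∀ y : G ⧸ M, (∃ k : ℕ, orderOf y = q ^ k) →
      ¬ p ∣ (Subgroup.centralizer ({y} : Set (G ⧸ M))).index := by
  rintro ybar ⟨k, hk⟩
  have hpg : IsPGroup q (Subgroup.zpowers ybar) := by
    apply IsPGroup.of_card (n := k)
    rw [Nat.card_zpowers, hk]
  obtain ⟨Qb, hQb⟩ := hpg.exists_le_sylow
  obtain ⟨Q, rfl⟩ := Sylow.mapSurjective_surjective (QuotientGroup.mk'_surjective M) q Qb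
  have hmem : ybar ∈ (Q : Subgroup G).map (QuotientGroup.mk' M) :=
    hQb (Subgroup.mem_zpowers ybar)
  obtain ⟨y, hyQ, rfl⟩ := hmem
  have hyord : ∃ j : ℕ, orderOf y = q ^ j := by
    obtain ⟨j, hj⟩ := (IsPGroup.iff_orderOf.1 Q.isPGroup') ⟨y, hyQ⟩
    exact ⟨j, by rw [← hj]; exact (Subgroup.orderOf_mk y hyQ).symm⟩
  have h1 := h y hyord
  intro hdvd
  apply h1
  have hle : (Subgroup.centralizer ({y} : Set G)).map (QuotientGroup.mk' M) ≤
      Subgroup.centralizer ({QuotientGroup.mk' M y} : Set (G ⧸ M)) := by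
    rintro _ ⟨c, hc, rfl⟩
    replace hc : c ∈ Subgroup.centralizer ({y} : Set G) := hc
    rw [Subgroup.mem_centralizer_iff] at hc ⊢
    intro z hz
    rw [Set.mem_singleton_iff] at hz
    rw [hz, ← map_mul, ← map_mul, hc y (Set.mem_singleton y)]
  have h2 := Subgroup.index_dvd_of_le hle
  have h3 : ((Subgroup.centralizer ({y} : Set G)).map (QuotientGroup.mk' M)).index ∣
      (Subgroup.centralizer ({y} : Set G)).index :=
    Subgroup.index_map_dvd _ (QuotientGroup.mk'_surjective M)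
  exact hdvd.trans (h2.trans h3)

theorem stepB {G : Type*} [Group G] [Finite G] {p q : ℕ} [hp : Fact p.Prime] [hq : Fact q.Prime]
    (M : Subgroup G) [hM : M.Normal] (hMq : (Nat.card M).Coprime q)
    (Q : Subgroup G) (hQ : IsPGroup q Q)
    (hcent : ∀ y ∈ Q, ∃ P : Sylow p G, ∀ u ∈ (P : Subgroup G), u * y = y * u) :
    ∃ P : Sylow p G, ∀ y ∈ Q, ∀ u ∈ (P : Subgroup G) ⊓ M, u * y = y * u := by
  classical
  letI : MulAction G (Subgroup G) := cjAct G
  have hsm : ∀ (g : G) (H : Subgroup G), g • H = H.map (MulAut.conj g).toMonoidHom :=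
    fun _ _ => rfl
  obtain ⟨P₀⟩ : Nonempty (Sylow p G) := inferInstance
  have hnorm : ∀ A : Subgroup G, A ≤ Subgroup.normalizer (M : Set G) := by
    intro A
    rw [Subgroup.normalizer_eq_top_iff.mpr hM]
    exact le_top
  have hconjinf : ∀ (g : G) (P : Sylow p G),
      g • ((P : Subgroup G) ⊓ M) = ((g • P : Sylow p G) : Subgroup G) ⊓ M := by
    intro g P
    rw [hsm]
    ext x
    rw [mem_cj, Subgroup.mem_inf, Subgroup.mem_inf, mem_smul_sylow]
    constructor
    · rintro ⟨h1, h2⟩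
      refine ⟨h1, ?_⟩
      have := hM.conj_mem _ h2 g
      have e : g * (g⁻¹ * x * g) * g⁻¹ = x := by group
      rwa [e] at this
    · rintro ⟨h1, h2⟩
      refine ⟨h1, ?_⟩
      have := hM.conj_mem _ h2 g⁻¹
      rwa [inv_inv] at this
  have hsyl : ∀ P₁ P₂ : Sylow p G, ∃ k ∈ M,
      (P₁ : Subgroup G) ⊓ M = k • ((P₂ : Subgroup G) ⊓ M) := by
    intro P₁ P₂
    obtain ⟨k, hk, h⟩ := sylM_conj M P₁ P₂
    exact ⟨k, hk, h⟩
  obtain ⟨n, hn⟩ := (IsPGroup.iff_card).1 hQ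
  have hcopQ : (Nat.card Q).Coprime (Nat.card M) := by
    rw [hn]
    exact Nat.Coprime.pow_left n hMq.symm
  haveI : Group.IsNilpotent Q := hQ.isNilpotent
  have hQsolv : Group.IsSolvable Q := inferInstance
  obtain ⟨k, hkM, hk⟩ := Cfsg.Agent.Lib.Helper4.glauberman_fix Q M (hnorm Q) hcopQ (Or.inl hQsolv)
    ((P₀ : Subgroup G) ⊓ M) (by
      intro y _
      rw [hconjinf]
      exact hsyl (y • P₀) P₀)
  refine ⟨k • P₀, ?_⟩
  have hR : k • ((P₀ : Subgroup G) ⊓ M) = ((k • P₀ : Sylow p G) : Subgroup G) ⊓ M := hconjinf k P₀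
  rw [hR] at hk
  set R : Subgroup G := ((k • P₀ : Sylow p G) : Subgroup G) ⊓ M with hRdef
  intro y hy u hu
  obtain ⟨Py, hPy⟩ := hcent y hy
  obtain ⟨k', hk'M, hk'⟩ := hsyl Py (k • P₀)
  have hω : ∀ a ∈ Subgroup.zpowers y, a • R = R := by
    intro a ha
    exact hk a (by obtain ⟨i, rfl⟩ := ha; exact Q.zpow_mem hy i)
  have hcommpow : ∀ a ∈ Subgroup.zpowers y, ∀ v ∈ (Py : Subgroup G), a⁻¹ * v * a = v := by
    intro a ha v hv
    obtain ⟨i, rfl⟩ := ha
    have h1 : Commute v y := hPy v hv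
    have h2 : Commute v (y ^ i) := h1.zpow_right i
    rw [mul_assoc, h2.eq, inv_mul_cancel_left]
  have hkω : ∀ a ∈ Subgroup.zpowers y, a • (k' • R) = k' • R := by
    intro a ha
    rw [← hk', hsm]
    ext x
    rw [mem_cj]
    constructor
    · intro hx
      have h1 := hcommpow a ha _ hx.1
      have h2 : a * (a⁻¹ * x * a) * a⁻¹ = x := by group
      have h3 : a * (a⁻¹ * x * a) * a⁻¹ = a⁻¹ * x * a := by
        have h4 := hcommpow a⁻¹ (Subgroup.inv_mem _ ha) _ hx.1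
        rw [inv_inv] at h4
        exact h4
      rw [← h2, h3]
      exact hx
    · intro hx
      rw [hcommpow a ha x hx.1]
      exact hx
  have hcopA : (Nat.card (Subgroup.zpowers y)).Coprime (Nat.card M) := by
    rw [Nat.card_zpowers]
    have h1 : orderOf y ∣ Nat.card Q := by
      rw [← Subgroup.orderOf_mk y hy]
      exact orderOf_dvd_natCard _
    exact Nat.Coprime.coprime_dvd_left h1 hcopQ
  have hAsolv : Group.IsSolvable (Subgroup.zpowers y) := by
    apply isSolvable_of_comm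
    intro a b
    obtain ⟨i, hi⟩ := a.2
    obtain ⟨j, hj⟩ := b.2
    apply Subtype.ext
    show a.1 * b.1 = b.1 * a.1
    rw [← hi, ← hj, ← zpow_add, ← zpow_add, add_comm]
  obtain ⟨c, hc, hcR⟩ := Cfsg.Agent.Lib.Helper4.glauberman_trans (Subgroup.zpowers y) M
    (hnorm _) hcopA (Or.inl hAsolv) R hω k' hk'M hkω
  have hcy : y * c = c * y := by
    have := (Subgroup.mem_inf.1 hc).2
    rw [Subgroup.mem_centralizer_iff] at this
    exact this y (Subgroup.mem_zpowers y)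
  have hcu : c * u * c⁻¹ ∈ (Py : Subgroup G) := by
    have h1 : c * u * c⁻¹ ∈ c • R := by
      rw [hsm, mem_cj]
      have e : c⁻¹ * (c * u * c⁻¹) * c = u := by group
      rw [e]
      exact hu
    rw [hcR, ← hk'] at h1
    exact h1.1
  have h5 := hPy _ hcu
  have hyc : c⁻¹ * y * c = y := by rw [mul_assoc, hcy, inv_mul_cancel_left]
  calc u * y = c⁻¹ * ((c * u * c⁻¹) * y) * c * (c⁻¹ * y⁻¹ * c * y) := by group
    _ = c⁻¹ * (y * (c * u * c⁻¹)) * c * (c⁻¹ * y⁻¹ * c * y) := by rw [h5]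
    _ = (c⁻¹ * y * c) * u * ((c⁻¹ * y * c)⁻¹ * y) := by group
    _ = y * u := by rw [hyc]; group


theorem finish {G : Type*} [Group G] [Finite G] {p q : ℕ} [hp : Fact p.Prime] [hq : Fact q.Prime]
    (M : Subgroup G) [hM : M.Normal] (P P₁ : Sylow p G) (Q : Sylow q G)
    (hPQM : ∀ a ∈ (P : Subgroup G), ∃ k ∈ M, a • Q = k • Q)
    (hR : ∀ y ∈ (Q : Subgroup G), ∀ u ∈ (P₁ : Subgroup G) ⊓ M, u * y = y * u) :
    ∃ (P' : Sylow p G) (Q' : Sylow q G),
      (P' : Subgroup G) ≤ Subgroup.normalizer ((Q' : Subgroup G) : Set G) := by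
  classical
  let Ω₀ : Set (Sylow q G) := MulAction.orbit M Q
  have hinv : ∀ a ∈ (P : Subgroup G), ∀ Q' ∈ Ω₀, a • Q' ∈ Ω₀ := by
    rintro a ha _ ⟨k, rfl⟩
    obtain ⟨ka, hkaM, hka⟩ := hPQM a ha
    refine ⟨⟨a * k * a⁻¹ * ka, M.mul_mem (hM.conj_mem _ k.2 a) hkaM⟩, ?_⟩
    show (a * k * a⁻¹ * ka) • Q = a • ((k : G) • Q)
    rw [mul_smul, ← hka, ← mul_smul, ← mul_smul]
    congr 1
    group
  letI : MulAction ↥(P : Subgroup G) ↥Ω₀ :=
    { smul := fun a w => ⟨(a : G) • w.1, hinv a a.2 w.1 w.2⟩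
      one_smul := fun w => Subtype.ext (one_smul G w.1)
      mul_smul := fun a b w => Subtype.ext (mul_smul (a : G) (b : G) w.1) }
  have hcard : ¬ p ∣ Nat.card ↥Ω₀ := by
    rw [Nat.card_coe_set_eq]
    show ¬ p ∣ (MulAction.orbit M Q).ncard
    rw [← MulAction.index_stabilizer]
    obtain ⟨S, hS⟩ := Cfsg.Agent.Lib.Helper5.exists_sylow_inf_normal P₁ M
    have hle : (S : Subgroup M) ≤ MulAction.stabilizer M Q := by
      intro r hr
      have hrR : (r : G) ∈ (P₁ : Subgroup G) ⊓ M := by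
        rw [← hS]
        exact ⟨r, hr, rfl⟩
      rw [MulAction.mem_stabilizer_iff]
      show (r : G) • Q = Q
      rw [Sylow.smul_eq_iff_mem_normalizer]
      show (r : G) ∈ Subgroup.normalizer (((Q : Subgroup G)) : Set G)
      refine Subgroup.mem_normalizer_iff.2 ?_
      intro x
      constructor
      · intro hx
        have := hR x hx _ hrR
        rw [this, mul_inv_cancel_right]
        exact hx
      · intro hx
        have h1 := hR _ hx _ hrR
        have h2 : x = (r : G)⁻¹ * (((r : G) * x * (r : G)⁻¹) * (r : G)) := by group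
        rw [h2, ← h1, inv_mul_cancel_left]
        exact hx
    intro hdvd
    exact S.not_dvd_index (hdvd.trans (Subgroup.index_dvd_of_le hle))
  obtain ⟨w, hw⟩ := P.isPGroup'.nonempty_fixed_point_of_prime_not_dvd_card ↥Ω₀ hcard
  refine ⟨P, w.1, ?_⟩
  intro a ha
  have h1 := hw ⟨a, ha⟩
  have h2 : a • w.1 = w.1 := congrArg Subtype.val h1
  exact Sylow.smul_eq_iff_mem_normalizer.1 h2

theorem main4601 (p q : ℕ) [hp : Fact p.Prime] [hq : Fact q.Prime] :
    ∀ n : ℕ, ∀ (G : Type u) [Group G] [Finite G], Nat.card G = n →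
      (Cfsg.IsPSolvable p G ∨ Cfsg.IsPSolvable q G) →
      (∀ y : G, (∃ k : ℕ, orderOf y = q ^ k) →
        ¬ p ∣ (Subgroup.centralizer ({y} : Set G)).index) →
      ∃ (P : Sylow p G) (Q : Sylow q G),
        (P : Subgroup G) ≤ Subgroup.normalizer ((Q : Subgroup G) : Set G) := by
  intro n
  induction n using Nat.strong_induction_on with
  | _ n ih =>
  intro G _ _ hn hsolv h
  classical
  by_cases hpq : p = q
  · subst hpq
    obtain ⟨P⟩ : Nonempty (Sylow p G) := inferInstance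
    exact ⟨P, P, Subgroup.le_normalizer⟩
  rcases subsingleton_or_nontrivial G with hsub | hnt
  · obtain ⟨P⟩ : Nonempty (Sylow p G) := inferInstance
    obtain ⟨Q⟩ : Nonempty (Sylow q G) := inferInstance
    refine ⟨P, Q, fun x _ => ?_⟩
    have : x = 1 := Subsingleton.elim _ _
    rw [this]
    exact Subgroup.one_mem _
  have hMex : ∃ M : Subgroup G, M.Normal ∧ M ≠ ⊥ ∧
      (((∃ m : ℕ, Nat.card M = p ^ m) ∨ (Nat.card M).Coprime p) ∨
        ((∃ m : ℕ, Nat.card M = q ^ m) ∨ (Nat.card M).Coprime q)) := by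
    rcases hsolv with hs | hs
    · obtain ⟨M, h1, h2, h3⟩ := Cfsg.Agent.Lib.Helper7.exists_normal_of_isPSolvable hs
      exact ⟨M, h1, h2, Or.inl h3⟩
    · obtain ⟨M, h1, h2, h3⟩ := Cfsg.Agent.Lib.Helper7.exists_normal_of_isPSolvable hs
      exact ⟨M, h1, h2, Or.inr h3⟩
  obtain ⟨M, hMn, hMne, hMtype⟩ := hMex
  haveI := hMn
  have hlt : Nat.card (G ⧸ M) < n := by
    rw [← hn]
    have h1 := Subgroup.card_eq_card_quotient_mul_card_subgroup M
    have h2 : 1 < Nat.card M := by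
      rw [Subgroup.one_lt_card_iff_ne_bot]; exact hMne
    have h3 : 0 < Nat.card (G ⧸ M) := Nat.card_pos
    nlinarith
  have hsolv' : Cfsg.IsPSolvable p (G ⧸ M) ∨ Cfsg.IsPSolvable q (G ⧸ M) := by
    rcases hsolv with hs | hs
    · exact Or.inl (Cfsg.Agent.Lib.Helper7.isPSolvable_quotient hp.out hs M)
    · exact Or.inr (Cfsg.Agent.Lib.Helper7.isPSolvable_quotient hq.out hs M)
  obtain ⟨Pb, Qb, hPQb⟩ := ih _ hlt (G ⧸ M) rfl hsolv' (hyp_quot p q M h)
  obtain ⟨P, rfl⟩ := Sylow.mapSurjective_surjective (QuotientGroup.mk'_surjective M) p Pb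
  obtain ⟨Q, rfl⟩ := Sylow.mapSurjective_surjective (QuotientGroup.mk'_surjective M) q Qb
  -- `P` normalizes `QM`
  have hPQM : ∀ a ∈ (P : Subgroup G), ∃ k ∈ M, a • Q = k • Q := by
    intro a ha
    have haN : QuotientGroup.mk' M a ∈
        Subgroup.normalizer (((Q : Subgroup G).map (QuotientGroup.mk' M) : Subgroup (G ⧸ M)) : Set (G ⧸ M)) :=
      hPQb ⟨a, ha, rfl⟩
    have hsub : ((a • Q : Sylow q G) : Subgroup G) ≤ (Q : Subgroup G) ⊔ M := by
      intro x hx
      rw [mem_smul_sylow] at hx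
      have h1 : QuotientGroup.mk' M (a⁻¹ * x * a) ∈ (Q : Subgroup G).map (QuotientGroup.mk' M) :=
        ⟨_, hx, rfl⟩
      have h2 := (Subgroup.mem_normalizer_iff.1 haN _).1 h1
      have h3 : QuotientGroup.mk' M a * QuotientGroup.mk' M (a⁻¹ * x * a) * (QuotientGroup.mk' M a)⁻¹ =
          QuotientGroup.mk' M x := by
        rw [← map_inv, ← map_mul, ← map_mul]
        congr 1
        group
      rw [h3] at h2
      obtain ⟨y', hy', hyx⟩ := h2
      have h4 : y'⁻¹ * x ∈ M := QuotientGroup.eq.1 hyx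
      have h5 : x = y' * (y'⁻¹ * x) := by group
      rw [h5]
      exact Subgroup.mul_mem _ (Subgroup.mem_sup_left hy') (Subgroup.mem_sup_right h4)
    obtain ⟨c, hc, R, hRle, hRp, hQR, hmapR⟩ :=
      Cfsg.Agent.Lib.Helper3.exists_conj_le_common_pgroup ((Q : Subgroup G) ⊔ M) (Q : Subgroup G)
        ((a • Q : Sylow q G) : Subgroup G) le_sup_left hsub Q.isPGroup' (a • Q).isPGroup'
    have hRQ : R = (Q : Subgroup G) := Q.is_maximal' hRp hQR
    have hle : ((c • (a • Q) : Sylow q G) : Subgroup G) ≤ (Q : Subgroup G) := by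
      intro x hx
      rw [mem_smul_sylow] at hx
      rw [← hRQ]
      apply hmapR
      rw [mem_cj]
      exact hx
    have heq : c • (a • Q) = Q := by
      apply Sylow.ext
      exact ((c • (a • Q)).is_maximal' Q.isPGroup' hle).symm
    obtain ⟨y, hy, m, hm, hym⟩ := Subgroup.mem_sup_of_normal_right.1 hc
    refine ⟨m⁻¹, M.inv_mem hm, ?_⟩
    have h6 : a • Q = c⁻¹ • Q := by
      have h60 : c⁻¹ • (c • (a • Q)) = c⁻¹ • Q := by rw [heq]
      rwa [inv_smul_smul] at h60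
    have h7 : y⁻¹ • Q = Q :=
      Sylow.smul_eq_iff_mem_normalizer.2 (Subgroup.le_normalizer ((Q : Subgroup G).inv_mem hy))
    rw [h6, ← hym, mul_inv_rev, mul_smul, h7]
  -- elements of `Q` are centralized by Sylow `p`-subgroups
  have hcentQ : ∀ y ∈ (Q : Subgroup G), ∃ P' : Sylow p G, ∀ u ∈ (P' : Subgroup G), u * y = y * u := by
    intro y hy
    obtain ⟨j, hj⟩ := (IsPGroup.iff_orderOf.1 Q.isPGroup') ⟨y, hy⟩
    exact exists_sylow_centralizing y (h y ⟨j, by rw [← hj]; exact (Subgroup.orderOf_mk y hy).symm⟩)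
  -- a Sylow `p`-subgroup of `M` centralized by `Q`
  have hp' : (Nat.card M).Coprime p → ∃ P₁ : Sylow p G, ∀ y ∈ (Q : Subgroup G),
      ∀ u ∈ (P₁ : Subgroup G) ⊓ M, u * y = y * u := by
    intro hcop
    refine ⟨P, ?_⟩
    intro y _ u hu
    have h1 : orderOf u ∣ Nat.card M := by
      rw [← Subgroup.orderOf_mk u hu.2]
      exact orderOf_dvd_natCard _
    obtain ⟨j, hj⟩ := (IsPGroup.iff_orderOf.1 P.isPGroup') ⟨u, hu.1⟩
    have h2 : orderOf u = p ^ j := by rw [← hj]; exact (Subgroup.orderOf_mk u hu.1).symm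
    have h3 : (orderOf u).Coprime (Nat.card M) := by
      rw [h2]
      exact Nat.Coprime.pow_left j hcop.symm
    have h4 : orderOf u = 1 := Nat.Coprime.eq_one_of_dvd h3 h1
    rw [orderOf_eq_one_iff.1 h4, one_mul, mul_one]
  have hR : ∃ P₁ : Sylow p G, ∀ y ∈ (Q : Subgroup G),
      ∀ u ∈ (P₁ : Subgroup G) ⊓ M, u * y = y * u := by
    rcases hMtype with (⟨m, hm⟩ | hcop) | (⟨m, hm⟩ | hcop)
    · refine ⟨P, ?_⟩
      intro y hy u hu
      obtain ⟨Py, hPy⟩ := hcentQ y hy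
      have hMp : IsPGroup p M := IsPGroup.of_card hm
      obtain ⟨P₂, hP₂⟩ := hMp.exists_le_sylow
      obtain ⟨g, hg⟩ := MulAction.exists_smul_eq G Py P₂
      have h1 : g * u * g⁻¹ ∈ (P₂ : Subgroup G) := hP₂ (hMn.conj_mem u hu.2 g)
      rw [← hg, mem_smul_sylow] at h1
      have h2 : g⁻¹ * (g * u * g⁻¹) * g = u := by group
      rw [h2] at h1
      exact hPy u h1
    · exact hp' hcop
    · apply hp'
      rw [hm]
      apply Nat.Coprime.pow_left
      exact (Nat.coprime_primes hq.out hp.out).2 (Ne.symm hpq)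
    · exact stepB M hcop (Q : Subgroup G) Q.isPGroup' hcentQ
  obtain ⟨P₁, hP₁⟩ := hR
  exact finish M P P₁ Q hPQM hP₁

/-- Let p and q be primes and G a finite group that is p-solvable or q-solvable, in which no q-element has conjugacy class size divisible by p. Then some Sylow p-subgroup of G normalizes some Sylow q-subgroup of G. -/
theorem result {G : Type*} [Group G] [Finite G] (p q : ℕ) [Fact p.Prime] [Fact q.Prime] (hsolv : Cfsg.IsPSolvable p G ∨ Cfsg.IsPSolvable q G)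
    (h : ∀ y : G, (∃ k : ℕ, orderOf y = q ^ k) → ¬ p ∣ (Subgroup.centralizer ({y} : Set G)).index) :
    ∃ (P : Sylow p G) (Q : Sylow q G), (P : Subgroup G) ≤ Subgroup.normalizer ((Q : Subgroup G) : Set G) := by
  exact main4601 p q _ G rfl hsolv h

end Cfsg.Agent.S4601
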