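import Cfsg.Statements.S4602
import Cfsg.Agent.Lib.Helper3.PSolv2
import Cfsg.Agent.Lib.Helper1.Fitting

set_option autoImplicit false
open Cfsg

namespace Cfsg.Agent.S4602

open Cfsg.Agent.Lib.Helper1 Cfsg.Agent.Lib.Helper3

theorem pq_elem_trivial {X : Type*} [Group X] {p q : ℕ} (hp : p.Prime) (hq : q.Prime)
    (hpq : p ≠ q) (g : X) (a b : ℕ) (ha : g ^ p ^ a = 1) (hb : g ^ q ^ b = 1) : g = 1 := by
  have h1 : orderOf g ∣ p ^ a := orderOf_dvd_of_pow_eq_one ha
  have h2 : orderOf g ∣ q ^ b := orderOf_dvd_of_pow_eq_one hb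
  have hcop : Nat.Coprime (p ^ a) (q ^ b) :=
    Nat.Coprime.pow _ _ ((Nat.coprime_primes hp hq).mpr hpq)
  have h3 := Nat.eq_one_of_dvd_coprimes hcop h1 h2
  exact orderOf_eq_one_iff.mp h3

theorem forward {G : Type*} [Group G] [Finite G] (p q : ℕ) [Fact p.Prime] [Fact q.Prime]
    (hpq : p ≠ q) (hsolv : Cfsg.IsPSolvable p G) (P : Sylow p G) (Q : Sylow q G)
    (hPQ : (P : Subgroup G) ≤ Subgroup.normalizer ((Q : Subgroup G) : Set G)) :
    ¬ q ∣ (Cfsg.pPrimeCore p G).index := by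
  have h0 : Cfsg.pPrimeCore p (G ⧸ Cfsg.pPrimeCore p G) = ⊥ := pPrimeCore_quotient_eq_bot p
  have hHH := centralizer_pCore_le_of_psolvable_quotient hsolv (Cfsg.pPrimeCore p G) h0
  obtain ⟨π, hπ⟩ : ∃ π : G →* G ⧸ Cfsg.pPrimeCore p G,
      π = QuotientGroup.mk' (Cfsg.pPrimeCore p G) := ⟨_, rfl⟩
  have hπs : Function.Surjective π := by rw [hπ]; exact QuotientGroup.mk'_surjective _
  have hRP : Cfsg.pCore p (G ⧸ Cfsg.pPrimeCore p G) ≤ (P : Subgroup G).map π := by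
    have h := pCore_le_sylow (P.mapSurjective hπs)
    rwa [Sylow.coe_mapSurjective] at h
  have hRp : IsPGroup p ↥(Cfsg.pCore p (G ⧸ Cfsg.pPrimeCore p G)) := pCore_isPGroup
  have hQK : (Q : Subgroup G) ≤ Cfsg.pPrimeCore p G := by
    intro x hx
    obtain ⟨b, hb0⟩ := Q.2 ⟨x, hx⟩
    have hb : x ^ q ^ b = 1 := by simpa using congrArg Subtype.val hb0
    have hcent : π x ∈ Subgroup.centralizer
        (Cfsg.pCore p (G ⧸ Cfsg.pPrimeCore p G) : Set (G ⧸ Cfsg.pPrimeCore p G)) := by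
      rw [Subgroup.mem_centralizer_iff]
      intro r hr
      obtain ⟨y, hyP, rfl⟩ := hRP hr
      have hyN := hPQ hyP
      have hcQ : y * x * y⁻¹ * x⁻¹ ∈ (Q : Subgroup G) := by
        have h1 : y * x * y⁻¹ ∈ (Q : Subgroup G) := (Subgroup.mem_normalizer_iff.mp hyN x).mp hx
        exact Subgroup.mul_mem _ h1 (Subgroup.inv_mem _ hx)
      have hcR : π (y * x * y⁻¹ * x⁻¹) ∈ Cfsg.pCore p (G ⧸ Cfsg.pPrimeCore p G) := by
        have hn : (Cfsg.pCore p (G ⧸ Cfsg.pPrimeCore p G)).Normal := inferInstance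
        have h1 : π x * (π y)⁻¹ * (π x)⁻¹ ∈ Cfsg.pCore p (G ⧸ Cfsg.pPrimeCore p G) :=
          hn.conj_mem _ (Subgroup.inv_mem _ hr) (π x)
        have e : π (y * x * y⁻¹ * x⁻¹) = π y * (π x * (π y)⁻¹ * (π x)⁻¹) := by
          simp only [map_mul, map_inv]; group
        rw [e]; exact Subgroup.mul_mem _ hr h1
      have hc1 : π (y * x * y⁻¹ * x⁻¹) = 1 := by
        obtain ⟨a, ha0⟩ := hRp ⟨_, hcR⟩
        have ha : (π (y * x * y⁻¹ * x⁻¹)) ^ p ^ a = 1 := by
          simpa using congrArg Subtype.val ha0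
        obtain ⟨b', hb0'⟩ := Q.2 ⟨_, hcQ⟩
        have hb' : (y * x * y⁻¹ * x⁻¹) ^ q ^ b' = 1 := by
          simpa using congrArg Subtype.val hb0'
        have hb3 : (π (y * x * y⁻¹ * x⁻¹)) ^ q ^ b' = 1 := by rw [← map_pow, hb', map_one]
        exact pq_elem_trivial Fact.out Fact.out hpq _ a b' ha hb3
      have e2 : π (y * x * y⁻¹ * x⁻¹) = π y * π x * (π y)⁻¹ * (π x)⁻¹ := by
        simp only [map_mul, map_inv]
      rw [e2] at hc1
      calc π y * π x = (π y * π x * (π y)⁻¹ * (π x)⁻¹) * (π x * π y) := by group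
        _ = π x * π y := by rw [hc1, one_mul]
    have hR := hHH hcent
    obtain ⟨a, ha0⟩ := hRp ⟨_, hR⟩
    have ha : (π x) ^ p ^ a = 1 := by simpa using congrArg Subtype.val ha0
    have hb' : (π x) ^ q ^ b = 1 := by rw [← map_pow, hb, map_one]
    have h1 : π x = 1 := pq_elem_trivial Fact.out Fact.out hpq _ a b ha hb'
    rw [hπ] at h1
    exact (QuotientGroup.eq_one_iff x).mp h1
  intro hdvd
  exact Q.not_dvd_index (hdvd.trans (Subgroup.index_dvd_of_le hQK))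

theorem backward {G : Type*} [Group G] [Finite G] (p q : ℕ) [Fact p.Prime] [Fact q.Prime]
    (hq : ¬ q ∣ (Cfsg.pPrimeCore p G).index) :
    ∃ (P : Sylow p G) (Q : Sylow q G),
      (P : Subgroup G) ≤ Subgroup.normalizer ((Q : Subgroup G) : Set G) := by
  obtain ⟨Q₀⟩ : Nonempty (Sylow q ↥(Cfsg.pPrimeCore p G)) := inferInstance
  have hQ'q : IsPGroup q ↥((Q₀ : Subgroup ↥(Cfsg.pPrimeCore p G)).map
      (Cfsg.pPrimeCore p G).subtype) := Q₀.2.map _
  have hQ'i : ¬ q ∣ ((Q₀ : Subgroup ↥(Cfsg.pPrimeCore p G)).map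
      (Cfsg.pPrimeCore p G).subtype).index := by
    rw [Subgroup.index_map_subtype]
    exact Nat.Prime.not_dvd_mul Fact.out Q₀.not_dvd_index hq
  have hfr := Sylow.normalizer_sup_eq_top Q₀
  obtain ⟨N, hN⟩ : ∃ N : Subgroup G, N = Subgroup.normalizer
      (((Q₀ : Subgroup ↥(Cfsg.pPrimeCore p G)).map (Cfsg.pPrimeCore p G).subtype : Subgroup G) :
        Set G) := ⟨_, rfl⟩
  rw [← hN] at hfr
  have hNi : ¬ p ∣ N.index := by
    have h1 := card_sup_dvd_mul N (Cfsg.pPrimeCore p G)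
    rw [hfr, Subgroup.card_top, ← N.card_mul_index] at h1
    have h2 : N.index ∣ Nat.card ↥(Cfsg.pPrimeCore p G) :=
      Nat.dvd_of_mul_dvd_mul_left Nat.card_pos h1
    intro h3
    have h4 : p ∣ Nat.card ↥(Cfsg.pPrimeCore p G) := h3.trans h2
    have h5 := pPrimeCore_coprime (G := G) p
    exact (Nat.Prime.coprime_iff_not_dvd Fact.out).mp h5.symm h4
  obtain ⟨P₀⟩ : Nonempty (Sylow p ↥N) := inferInstance
  have hP'p : IsPGroup p ↥((P₀ : Subgroup ↥N).map N.subtype) := P₀.2.map _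
  have hP'i : ¬ p ∣ ((P₀ : Subgroup ↥N).map N.subtype).index := by
    rw [Subgroup.index_map_subtype]
    exact Nat.Prime.not_dvd_mul Fact.out P₀.not_dvd_index hNi
  refine ⟨hP'p.toSylow hP'i, hQ'q.toSylow hQ'i, ?_⟩
  rw [IsPGroup.toSylow_coe, IsPGroup.toSylow_coe, ← hN]
  exact Subgroup.map_subtype_le _

/-- Let G be a finite p-solvable group and q a prime different from p. Some Sylow p-subgroup of G normalizes some Sylow q-subgroup of G if and only if q does not divide the order of G/O_{p'}(G), the quotient by the largest normal subgroup of order prime to p. -/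
theorem result {G : Type*} [Group G] [Finite G] (p q : ℕ) [Fact p.Prime] [Fact q.Prime] (hpq : p ≠ q) (hsolv : Cfsg.IsPSolvable p G) :
    (∃ (P : Sylow p G) (Q : Sylow q G), (P : Subgroup G) ≤ Subgroup.normalizer ((Q : Subgroup G) : Set G)) ↔ ¬ q ∣ (Cfsg.pPrimeCore p G).index := by
  constructor
  · rintro ⟨P, Q, hPQ⟩
    exact forward p q hpq hsolv P Q hPQ
  · intro hq
    exact backward p q hq

end Cfsg.Agent.S4602
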