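import Mathlib
import Cfsg.Statements.S4620
import Cfsg.Agent.Lib.Helper5.PCore
import Cfsg.Agent.Lib.Helper4.Cores

set_option autoImplicit false
set_option maxHeartbeats 800000
open Cfsg
open scoped Pointwise

namespace Cfsg.Agent.S4620

variable {H : Type*} [Group H] [Finite H] (p : ℕ) [Fact p.Prime]

/-- `A` is normalized by `N`. -/
def NN (N A : Subgroup H) : Prop := ∀ n ∈ N, ∀ a ∈ A, n * a * n⁻¹ ∈ A

/-- elementwise trivial-intersection property -/
def TIe (S : Subgroup H) : Prop :=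
  ∀ g x : H, x ∈ S → x ≠ 1 → g * x * g⁻¹ ∈ S → ∀ y ∈ S, g * y * g⁻¹ ∈ S

omit [Finite H] in
theorem tie_of_hTI (P : Sylow p H)
    (hTI : ∀ g : H, g ∉ Subgroup.normalizer ((P : Subgroup H) : Set H) →
      (P : Subgroup H) ⊓ (MulAut.conj g • (P : Subgroup H)) = ⊥) : TIe (P : Subgroup H) := by
  intro g x hx hx1 hgx y hy
  by_contra hcon
  have hg : g ∉ Subgroup.normalizer ((P : Subgroup H) : Set H) := by
    intro hg
    exact hcon ((Subgroup.mem_normalizer_iff.mp hg y).mp hy)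
  have h0 := hTI g hg
  have hmem : g * x * g⁻¹ ∈ (P : Subgroup H) ⊓ (MulAut.conj g • (P : Subgroup H)) := by
    refine Subgroup.mem_inf.mpr ⟨hgx, ?_⟩
    rw [Subgroup.mem_smul_pointwise_iff_exists]
    exact ⟨x, hx, by rw [MulAut.smul_def, MulAut.conj_apply]⟩
  rw [h0, Subgroup.mem_bot] at hmem
  apply hx1
  have e : x = g⁻¹ * (g * x * g⁻¹) * g := by group
  rw [e, hmem]
  group

theorem tie_all (P : Sylow p H)
    (hTI : ∀ g : H, g ∉ Subgroup.normalizer ((P : Subgroup H) : Set H) →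
      (P : Subgroup H) ⊓ (MulAut.conj g • (P : Subgroup H)) = ⊥) (S : Sylow p H) :
    TIe (S : Subgroup H) := by
  obtain ⟨c, rfl⟩ := MulAction.exists_smul_eq H P S
  have hP := tie_of_hTI p P hTI
  have hS : ((c • P : Sylow p H) : Subgroup H) =
      (P : Subgroup H).map (MulAut.conj c).toMonoidHom := by
    rw [Sylow.coe_subgroup_smul]
    rfl
  have hmem : ∀ s : H, s ∈ ((c • P : Sylow p H) : Subgroup H) ↔ c⁻¹ * s * c ∈ (P : Subgroup H) := by
    intro s
    rw [hS, Subgroup.mem_map]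
    constructor
    · rintro ⟨u, hu, rfl⟩
      have e : c⁻¹ * ((MulAut.conj c).toMonoidHom u) * c = u := by
        show c⁻¹ * (c * u * c⁻¹) * c = u
        group
      rw [e]
      exact hu
    · intro h
      refine ⟨c⁻¹ * s * c, h, ?_⟩
      show c * (c⁻¹ * s * c) * c⁻¹ = s
      group
  intro g x hx hx1 hgx y hy
  rw [hmem] at hx hgx hy ⊢
  have hx1' : c⁻¹ * x * c ≠ 1 := by
    intro h
    apply hx1
    have e : x = c * (c⁻¹ * x * c) * c⁻¹ := by group
    rw [e, h]
    group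
  have h1 : (c⁻¹ * g * c) * (c⁻¹ * x * c) * (c⁻¹ * g * c)⁻¹ ∈ (P : Subgroup H) := by
    have e : (c⁻¹ * g * c) * (c⁻¹ * x * c) * (c⁻¹ * g * c)⁻¹ = c⁻¹ * (g * x * g⁻¹) * c := by group
    rw [e]
    exact hgx
  have h2 := hP (c⁻¹ * g * c) (c⁻¹ * x * c) hx hx1' h1 (c⁻¹ * y * c) hy
  have e : c⁻¹ * (g * y * g⁻¹) * c = (c⁻¹ * g * c) * (c⁻¹ * y * c) * (c⁻¹ * g * c)⁻¹ := by group
  rw [e]
  exact h2

omit [Finite H] [Fact p.Prime] in
theorem zp_isPGroup (b : H) (k : ℕ) (hb : b ^ (p ^ k) = 1) : IsPGroup p (Subgroup.zpowers b) := by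
  rintro ⟨c, hc⟩
  obtain ⟨m, rfl⟩ := Subgroup.mem_zpowers_iff.mp hc
  refine ⟨k, Subtype.ext ?_⟩
  show (b ^ m) ^ (p ^ k) = 1
  rw [← zpow_natCast, ← zpow_mul, mul_comm, zpow_mul, zpow_natCast, hb, one_zpow]

omit [Finite H] in
/-- a `p`-element normalizing a Sylow `p`-subgroup lies in it -/
theorem psub_le (S : Sylow p H) (b : H) (k : ℕ) (hb : b ^ (p ^ k) = 1)
    (hn : b ∈ Subgroup.normalizer ((S : Subgroup H) : Set H)) : b ∈ (S : Subgroup H) := by
  have h1 : IsPGroup p (Subgroup.zpowers b) := zp_isPGroup p b k hb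
  have h2 : Subgroup.zpowers b ≤ Subgroup.normalizer ((S : Subgroup H) : Set H) :=
    Subgroup.zpowers_le.mpr hn
  have h3 := IsPGroup.to_sup_of_normal_right' h1 S.isPGroup' h2
  have h4 := S.is_maximal' h3 le_sup_right
  rw [← h4]
  exact Subgroup.mem_sup_left (Subgroup.mem_zpowers b)

theorem keyK (N : Subgroup H)
    (hp : ∀ A : Subgroup H, A ≤ N → NN N A → IsPGroup p A → A = ⊥)
    (hp' : ∀ A : Subgroup H, A ≤ N → NN N A → (Nat.card A).Coprime p → A = ⊥)
    (hTI : ∀ S : Sylow p H, TIe (S : Subgroup H))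
    (M M' : Subgroup H) (hM : M ≤ N) (hM' : M' ≤ N) (hMn : NN N M) (hM'n : NN N M')
    (hM1 : M ≠ ⊥) (hM'1 : M' ≠ ⊥) (hcomm : ∀ a ∈ M, ∀ b ∈ M', a * b = b * a) : False := by
  have hpr : p.Prime := Fact.out
  have hdvd : ∀ A : Subgroup H, A ≤ N → NN N A → A ≠ ⊥ → ∃ x ∈ A, orderOf x = p := by
    intro A hA hAn hA1
    have h1 : p ∣ Nat.card A := by
      by_contra hnd
      apply hA1
      apply hp' A hA hAn
      exact ((Nat.Prime.coprime_iff_not_dvd hpr).mpr hnd).symm
    obtain ⟨x, hx⟩ := exists_prime_orderOf_dvd_card' p h1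
    refine ⟨(x : H), x.2, ?_⟩
    rw [Subgroup.orderOf_coe]
    exact hx
  obtain ⟨x, hxM', hxo⟩ := hdvd M' hM' hM'n hM'1
  obtain ⟨y, hyM, hyo⟩ := hdvd M hM hMn hM1
  have hx1 : x ≠ 1 := by
    intro h
    rw [h, orderOf_one] at hxo
    exact hpr.one_lt.ne hxo
  have hy1 : y ≠ 1 := by
    intro h
    rw [h, orderOf_one] at hyo
    exact hpr.one_lt.ne hyo
  have hxp : x ^ (p ^ 1) = 1 := by rw [pow_one, ← hxo, pow_orderOf_eq_one]
  have hyp : y ^ (p ^ 1) = 1 := by rw [pow_one, ← hyo, pow_orderOf_eq_one]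
  obtain ⟨S, hS⟩ := (zp_isPGroup p x 1 hxp).exists_le_sylow
  have hxS : x ∈ (S : Subgroup H) := hS (Subgroup.mem_zpowers x)
  -- M normalizes S
  have hconj : ∀ g ∈ M, ∀ s ∈ (S : Subgroup H), g * s * g⁻¹ ∈ (S : Subgroup H) := by
    intro g hg s hs
    apply hTI S g x hxS hx1 _ s hs
    have : g * x * g⁻¹ = x := by rw [hcomm g hg x hxM', mul_inv_cancel_right]
    rw [this]
    exact hxS
  have hMS : M ≤ Subgroup.normalizer ((S : Subgroup H) : Set H) := by
    intro g hg
    rw [Subgroup.mem_normalizer_iff]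
    intro s
    constructor
    · exact hconj g hg s
    · intro h
      have := hconj g⁻¹ (M.inv_mem hg) _ h
      have e : g⁻¹ * (g * s * g⁻¹) * g⁻¹⁻¹ = s := by group
      rw [e] at this
      exact this
  have hyS : y ∈ (S : Subgroup H) := psub_le p S y 1 hyp (hMS hyM)
  -- T₁
  have hT : (S : Subgroup H) ⊓ M = ⊥ := by
    apply hp _ (le_trans inf_le_right hM)
    · intro n hn a ha
      have haM : n * a * n⁻¹ ∈ M := hMn n hn a ha.2
      refine ⟨?_, haM⟩
      obtain ⟨k, hk⟩ := S.isPGroup' ⟨a, ha.1⟩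
      have hk' : a ^ (p ^ k) = 1 := by
        have := congrArg Subtype.val hk
        simpa using this
      apply psub_le p S _ k _ (hMS haM)
      rw [conj_pow, hk']
      group
    · exact S.isPGroup'.to_le inf_le_left
  have : y ∈ (S : Subgroup H) ⊓ M := ⟨hyS, hyM⟩
  rw [hT, Subgroup.mem_bot] at this
  exact hy1 this


theorem lchar_p (hOp : Cfsg.pCore p H = ⊥) (N : Subgroup H) [hN : N.Normal] (A : Subgroup H)
    (hA : A ≤ N) (hAn : NN N A) (hAp : IsPGroup p A) : A = ⊥ := by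
  have hBn : (A.subgroupOf N).Normal := by
    constructor
    intro b hb n
    rw [Subgroup.mem_subgroupOf] at hb ⊢
    rw [Subgroup.coe_mul, Subgroup.coe_mul, Subgroup.coe_inv]
    exact hAn n n.2 b hb
  have hBp : IsPGroup p (A.subgroupOf N) := hAp.comap_subtype
  have hB : A.subgroupOf N ≤ Cfsg.pCore p ↥N := Cfsg.Agent.Lib.Helper5.le_pCore _ hBn hBp
  have hcn : (Cfsg.pCore p ↥N).Normal := Cfsg.Agent.Lib.Helper4.pCore_normal p
  have hcp : IsPGroup p (Cfsg.pCore p ↥N) := Cfsg.Agent.Lib.Helper5.isPGroup_pCore p ↥N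
  have hXn : ((Cfsg.pCore p ↥N).map N.subtype).Normal := by
    constructor
    intro x hx h
    obtain ⟨y, hy, rfl⟩ := Subgroup.mem_map.mp hx
    have hYn : ((Cfsg.pCore p ↥N).map (MulAut.conjNormal h : ↥N ≃* ↥N).toMonoidHom).Normal :=
      hcn.map _ (MulAut.conjNormal h : ↥N ≃* ↥N).surjective
    have hYp : IsPGroup p ((Cfsg.pCore p ↥N).map (MulAut.conjNormal h : ↥N ≃* ↥N).toMonoidHom) :=
      hcp.map _
    have hY := Cfsg.Agent.Lib.Helper5.le_pCore _ hYn hYp
    have hmem : (MulAut.conjNormal h : ↥N ≃* ↥N) y ∈ Cfsg.pCore p ↥N :=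
      hY (Subgroup.mem_map_of_mem _ hy)
    refine Subgroup.mem_map.mpr ⟨_, hmem, ?_⟩
    rw [Subgroup.coe_subtype, MulAut.conjNormal_apply]
  have hXp : IsPGroup p ((Cfsg.pCore p ↥N).map N.subtype) := hcp.map _
  have hX := Cfsg.Agent.Lib.Helper5.le_pCore _ hXn hXp
  rw [hOp] at hX
  rw [eq_bot_iff]
  intro a ha
  apply hX
  exact Subgroup.mem_map.mpr ⟨⟨a, hA ha⟩, hB (Subgroup.mem_subgroupOf.mpr ha), rfl⟩

theorem lchar_p' (hOp' : Cfsg.pPrimeCore p H = ⊥) (N : Subgroup H) [hN : N.Normal] (A : Subgroup H)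
    (hA : A ≤ N) (hAn : NN N A) (hAp : (Nat.card A).Coprime p) : A = ⊥ := by
  have hBn : (A.subgroupOf N).Normal := by
    constructor
    intro b hb n
    rw [Subgroup.mem_subgroupOf] at hb ⊢
    rw [Subgroup.coe_mul, Subgroup.coe_mul, Subgroup.coe_inv]
    exact hAn n n.2 b hb
  have hBp : (Nat.card (A.subgroupOf N)).Coprime p := by
    rw [Nat.card_congr (Subgroup.subgroupOfEquivOfLe hA).toEquiv]
    exact hAp
  have hB : A.subgroupOf N ≤ Cfsg.pPrimeCore p ↥N := Cfsg.Agent.Lib.Helper5.le_pPrimeCore _ hBn hBp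
  have hcn : (Cfsg.pPrimeCore p ↥N).Normal := Cfsg.Agent.Lib.Helper4.pPrimeCore_normal p
  have hcp : (Nat.card (Cfsg.pPrimeCore p ↥N)).Coprime p :=
    Cfsg.Agent.Lib.Helper5.card_pPrimeCore_coprime p
  have hXn : ((Cfsg.pPrimeCore p ↥N).map N.subtype).Normal := by
    constructor
    intro x hx h
    obtain ⟨y, hy, rfl⟩ := Subgroup.mem_map.mp hx
    have hYn : ((Cfsg.pPrimeCore p ↥N).map (MulAut.conjNormal h : ↥N ≃* ↥N).toMonoidHom).Normal :=
      hcn.map _ (MulAut.conjNormal h : ↥N ≃* ↥N).surjective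
    have hYp : (Nat.card ((Cfsg.pPrimeCore p ↥N).map
        (MulAut.conjNormal h : ↥N ≃* ↥N).toMonoidHom)).Coprime p := by
      have hc := Subgroup.card_map_of_injective (K := Cfsg.pPrimeCore p ↥N)
        (f := (MulAut.conjNormal h : ↥N ≃* ↥N).toMonoidHom)
        (MulAut.conjNormal h : ↥N ≃* ↥N).injective
      rw [hc]
      exact hcp
    have hY := Cfsg.Agent.Lib.Helper5.le_pPrimeCore _ hYn hYp
    have hmem : (MulAut.conjNormal h : ↥N ≃* ↥N) y ∈ Cfsg.pPrimeCore p ↥N :=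
      hY (Subgroup.mem_map_of_mem _ hy)
    refine Subgroup.mem_map.mpr ⟨_, hmem, ?_⟩
    rw [Subgroup.coe_subtype, MulAut.conjNormal_apply]
  have hXp : (Nat.card ((Cfsg.pPrimeCore p ↥N).map N.subtype)).Coprime p := by
    rw [Subgroup.card_map_of_injective N.subtype_injective]
    exact hcp
  have hX := Cfsg.Agent.Lib.Helper5.le_pPrimeCore _ hXn hXp
  rw [hOp'] at hX
  rw [eq_bot_iff]
  intro a ha
  apply hX
  exact Subgroup.mem_map.mpr ⟨⟨a, hA ha⟩, hB (Subgroup.mem_subgroupOf.mpr ha), rfl⟩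


theorem main4620 (hOp : Cfsg.pCore p H = ⊥) (hOp' : Cfsg.pPrimeCore p H = ⊥) (P : Sylow p H)
    (hP1 : (P : Subgroup H) ≠ ⊥)
    (hTI : ∀ g : H, g ∉ Subgroup.normalizer ((P : Subgroup H) : Set H) →
      (P : Subgroup H) ⊓ (MulAut.conj g • (P : Subgroup H)) = ⊥) :
    ∃ N : Subgroup H, N.Normal ∧ N ≠ ⊥ ∧ (∀ K : Subgroup H, K.Normal → K ≠ ⊥ → N ≤ K) ∧
      IsSimpleGroup N ∧ ¬ IsMulCommutative N ∧ Subgroup.centralizer (N : Set H) = ⊥ ∧
      ∀ Q : Sylow p N, (Q : Subgroup N) ≠ ⊥ ∧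
        ∀ n : N, n ∉ Subgroup.normalizer ((Q : Subgroup N) : Set N) →
          (Q : Subgroup N) ⊓ (MulAut.conj n • (Q : Subgroup N)) = ⊥ := by
  classical
  have hpr : p.Prime := Fact.out
  have hTIall := tie_all p P hTI
  have hNNtop : ∀ A : Subgroup H, A.Normal → NN ⊤ A := fun A hA n _ a ha => hA.conj_mem a ha n
  have hpT : ∀ A : Subgroup H, A ≤ ⊤ → NN ⊤ A → IsPGroup p A → A = ⊥ := fun A hA hAn hAp =>
    lchar_p p hOp ⊤ A hA hAn hAp
  have hpT' : ∀ A : Subgroup H, A ≤ ⊤ → NN ⊤ A → (Nat.card A).Coprime p → A = ⊥ :=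
    fun A hA hAn hAp => lchar_p' p hOp' ⊤ A hA hAn hAp
  have hPtop : (fun K : Subgroup H => K.Normal ∧ K ≠ ⊥) ⊤ := by
    refine ⟨inferInstance, ?_⟩
    intro h
    apply hP1
    rw [eq_bot_iff, ← h]
    exact le_top
  obtain ⟨N, _, hNmin⟩ := Finite.exists_le_minimal
    (p := fun K : Subgroup H => K.Normal ∧ K ≠ ⊥) (a := ⊤) hPtop
  obtain ⟨hNn, hN1⟩ := hNmin.prop
  haveI := hNn
  have huniq : ∀ K : Subgroup H, K.Normal → K ≠ ⊥ → N ≤ K := by
    intro K hKn hK1
    by_contra hle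
    have hinf : N ⊓ K = ⊥ := by
      by_contra hne
      haveI := hKn
      have hP' : (fun K : Subgroup H => K.Normal ∧ K ≠ ⊥) (N ⊓ K) := ⟨inferInstance, hne⟩
      have := hNmin.le_of_le hP' inf_le_left
      exact hle (le_trans this inf_le_right)
    exact keyK p ⊤ hpT hpT' hTIall N K le_top le_top (hNNtop N hNn) (hNNtop K hKn) hN1 hK1
      (fun a ha b hb => (Subgroup.commute_of_normal_of_disjoint N K hNn hKn
        (disjoint_iff.mpr hinf) a b ha hb).eq)
  have hpN : ∀ A : Subgroup H, A ≤ N → NN N A → IsPGroup p A → A = ⊥ :=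
    fun A hA hAn hAp => lchar_p p hOp N A hA hAn hAp
  have hpN' : ∀ A : Subgroup H, A ≤ N → NN N A → (Nat.card A).Coprime p → A = ⊥ :=
    fun A hA hAn hAp => lchar_p' p hOp' N A hA hAn hAp
  have hNNN : NN N N := fun n hn a ha => N.mul_mem (N.mul_mem hn ha) (N.inv_mem hn)
  have hdvdN : p ∣ Nat.card N := by
    by_contra hnd
    exact hN1 (hpN' N le_rfl hNNN ((Nat.Prime.coprime_iff_not_dvd hpr).mpr hnd).symm)
  have hnab : ¬ (∀ a ∈ N, ∀ b ∈ N, a * b = b * a) := by
    intro hab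
    obtain ⟨x, hx⟩ := exists_prime_orderOf_dvd_card' p hdvdN
    have hxo : orderOf (x : H) = p := by
      rw [Subgroup.orderOf_coe]
      exact hx
    have hxp : (x : H) ^ (p ^ 1) = 1 := by rw [pow_one, ← hxo, pow_orderOf_eq_one]
    have h1 : Subgroup.zpowers (x : H) = ⊥ := by
      apply hpN _ (Subgroup.zpowers_le.mpr x.2) _ (zp_isPGroup p _ 1 hxp)
      intro n hn a ha
      have haN : a ∈ N := (Subgroup.zpowers_le.mpr x.2) ha
      rw [hab n hn a haN, mul_inv_cancel_right]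
      exact ha
    have h2 : (x : H) = 1 := by
      have := Subgroup.mem_zpowers (x : H)
      rw [h1, Subgroup.mem_bot] at this
      exact this
    rw [h2, orderOf_one] at hxo
    exact hpr.one_lt.ne hxo
  refine ⟨N, hNn, hN1, huniq, ?_, ?_, ?_, ?_⟩
  · haveI : Nontrivial ↥N := (Subgroup.nontrivial_iff_ne_bot N).mpr hN1
    refine ⟨fun L hL => ?_⟩
    by_contra hcon
    push Not at hcon
    obtain ⟨hL1, hLtop⟩ := hcon
    have hPmN : (fun M : Subgroup H => M ≤ N ∧ NN N M ∧ M ≠ ⊥) N := ⟨le_rfl, hNNN, hN1⟩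
    obtain ⟨M, _, hMmin⟩ := Finite.exists_le_minimal
      (p := fun M : Subgroup H => M ≤ N ∧ NN N M ∧ M ≠ ⊥) (a := N) hPmN
    obtain ⟨hMN, hMn, hM1⟩ := hMmin.prop
    by_cases hMeq : M = N
    · have hLm : (fun M : Subgroup H => M ≤ N ∧ NN N M ∧ M ≠ ⊥) (L.map N.subtype) := by
        refine ⟨Subgroup.map_subtype_le L, ?_, ?_⟩
        · intro n hn a ha
          obtain ⟨b, hb, rfl⟩ := Subgroup.mem_map.mp ha
          refine Subgroup.mem_map.mpr ⟨⟨n, hn⟩ * b * ⟨n, hn⟩⁻¹, hL.conj_mem b hb ⟨n, hn⟩, ?_⟩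
          simp
        · intro h
          apply hL1
          exact (Subgroup.map_eq_bot_iff_of_injective L N.subtype_injective).mp h
      have h1 := hMmin.le_of_le hLm (by rw [hMeq]; exact Subgroup.map_subtype_le L)
      apply hLtop
      rw [eq_top_iff]
      intro x _
      have hx : (x : H) ∈ L.map N.subtype := h1 (by rw [hMeq]; exact x.2)
      obtain ⟨y, hy, hyx⟩ := Subgroup.mem_map.mp hx
      have : y = x := Subtype.ext hyx
      rw [← this]
      exact hy
    · have hconj : ∃ h : H, M.map (MulAut.conj h).toMonoidHom ≠ M := by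
        by_contra hall
        push Not at hall
        have hMnorm : M.Normal := by
          constructor
          intro a ha g
          rw [← hall g]
          exact Subgroup.mem_map.mpr ⟨a, ha, rfl⟩
        exact hMeq (le_antisymm hMN (huniq M hMnorm hM1))
      obtain ⟨h, hh⟩ := hconj
      obtain ⟨M', hM'def⟩ : ∃ M' : Subgroup H, M' = M.map (MulAut.conj h).toMonoidHom := ⟨_, rfl⟩
      have hmemM' : ∀ x, x ∈ M' ↔ ∃ u ∈ M, h * u * h⁻¹ = x := by
        intro x
        rw [hM'def, Subgroup.mem_map]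
        rfl
      have hM'N : M' ≤ N := by
        intro x hx
        obtain ⟨u, hu, rfl⟩ := (hmemM' x).mp hx
        exact hNn.conj_mem u (hMN hu) h
      have hM'n : NN N M' := by
        intro n hn x hx
        obtain ⟨u, hu, rfl⟩ := (hmemM' x).mp hx
        rw [hmemM']
        refine ⟨(h⁻¹ * n * h) * u * (h⁻¹ * n * h)⁻¹, hMn _ ?_ u hu, by group⟩
        have := hNn.conj_mem n hn h⁻¹
        simpa using this
      have hM'1 : M' ≠ ⊥ := by
        intro hb
        apply hM1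
        rw [hM'def] at hb
        exact (Subgroup.map_eq_bot_iff_of_injective M (MulAut.conj h).injective).mp hb
      have hcard : Nat.card M' = Nat.card M := by
        rw [hM'def]
        exact Subgroup.card_map_of_injective (MulAut.conj h).injective
      have hinf : M ⊓ M' = ⊥ := by
        by_contra hne
        have hPinf : (fun M : Subgroup H => M ≤ N ∧ NN N M ∧ M ≠ ⊥) (M ⊓ M') :=
          ⟨le_trans inf_le_left hMN,
            fun n hn a ha => ⟨hMn n hn a ha.1, hM'n n hn a ha.2⟩, hne⟩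
        have h1 := hMmin.le_of_le hPinf inf_le_left
        have h2 : M ≤ M' := le_trans h1 inf_le_right
        have h3 : M = M' := Subgroup.eq_of_le_of_card_ge h2 (by rw [hcard])
        apply hh
        rw [← hM'def, ← h3]
      apply keyK p N hpN hpN' hTIall M M' hMN hM'N hMn hM'n hM1 hM'1
      intro a ha b hb
      have h1 : a * b * a⁻¹ * b⁻¹ ∈ M ⊓ M' := by
        refine Subgroup.mem_inf.mpr ⟨?_, ?_⟩
        · have h2 : b * a⁻¹ * b⁻¹ ∈ M := hMn b (hM'N hb) a⁻¹ (M.inv_mem ha)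
          have h3 := M.mul_mem ha h2
          have e : a * b * a⁻¹ * b⁻¹ = a * (b * a⁻¹ * b⁻¹) := by group
          rw [e]
          exact h3
        · have h2 : a * b * a⁻¹ ∈ M' := hM'n a (hMN ha) b hb
          exact M'.mul_mem h2 (M'.inv_mem hb)
      rw [hinf, Subgroup.mem_bot] at h1
      calc a * b = (a * b * a⁻¹ * b⁻¹) * (b * a) := by group
        _ = b * a := by rw [h1, one_mul]
  · intro hc
    apply hnab
    intro a ha b hb
    have := hc.is_comm.comm (⟨a, ha⟩ : N) ⟨b, hb⟩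
    exact congrArg Subtype.val this
  · by_contra hne
    have hCn : (Subgroup.centralizer (N : Set H)).Normal := Subgroup.normal_centralizer
    have hle := huniq _ hCn hne
    apply hnab
    intro a ha b hb
    have h1 := hle ha
    rw [Subgroup.mem_centralizer_iff] at h1
    exact (h1 b hb).symm
  · intro Q
    refine ⟨Sylow.ne_bot_of_dvd_card Q hdvdN, ?_⟩
    intro n hn
    rw [eq_bot_iff]
    intro x hx
    rw [Subgroup.mem_bot]
    by_contra hx1
    obtain ⟨hxQ, hxQ'⟩ := Subgroup.mem_inf.mp hx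
    rw [Subgroup.mem_smul_pointwise_iff_exists] at hxQ'
    obtain ⟨u, hu, hux⟩ := hxQ'
    rw [MulAut.smul_def, MulAut.conj_apply] at hux
    have hQp : IsPGroup p ((Q : Subgroup N).map N.subtype) := Q.isPGroup'.map _
    obtain ⟨S, hS⟩ := hQp.exists_le_sylow
    have hQS : ∀ q ∈ (Q : Subgroup N), (q : H) ∈ (S : Subgroup H) :=
      fun q hq => hS (Subgroup.mem_map_of_mem _ hq)
    have hR : (S : Subgroup H).subgroupOf N = (Q : Subgroup N) := by
      apply Q.is_maximal' (S.isPGroup'.comap_subtype)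
      intro q hq
      exact Subgroup.mem_subgroupOf.mpr (hQS q hq)
    have hu1 : (u : H) ≠ 1 := by
      intro h
      apply hx1
      have hu' : u = 1 := Subtype.ext h
      rw [← hux, hu']
      group
    have hxH : (n : H) * (u : H) * (n : H)⁻¹ = (x : H) := by
      rw [← hux]
      simp
    have hfwd : ∀ y ∈ (S : Subgroup H), (n : H) * y * (n : H)⁻¹ ∈ (S : Subgroup H) :=
      hTIall S n u (hQS u hu) hu1 (by rw [hxH]; exact hQS x hxQ)
    have hbwd : ∀ y ∈ (S : Subgroup H), (n : H)⁻¹ * y * ((n : H)⁻¹)⁻¹ ∈ (S : Subgroup H) := by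
      have hx1' : (x : H) ≠ 1 := fun h => hx1 (Subtype.ext h)
      apply hTIall S (n : H)⁻¹ x (hQS x hxQ) hx1'
      have e : (n : H)⁻¹ * (x : H) * ((n : H)⁻¹)⁻¹ = u := by
        rw [← hxH]
        group
      rw [e]
      exact hQS u hu
    apply hn
    rw [Subgroup.mem_normalizer_iff]
    intro q
    rw [← hR, Subgroup.mem_subgroupOf, Subgroup.mem_subgroupOf]
    constructor
    · intro hq
      have := hfwd _ hq
      simpa using this
    · intro hq
      have h1 := hbwd _ hq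
      have e : (n : H)⁻¹ * ((n * q * n⁻¹ : N) : H) * ((n : H)⁻¹)⁻¹ = (q : H) := by
        simp only [Subgroup.coe_mul, Subgroup.coe_inv]
        group
      rw [e] at h1
      exact h1

/-- Let H be a finite group with no nontrivial normal p-subgroup and no nontrivial normal subgroup of order prime to p, whose Sylow p-subgroup P is nontrivial and a trivial-intersection set (P meets its conjugates by elements outside N_H(P) trivially). Then H has a unique minimal normal subgroup N; N is non-abelian simple with trivial centralizer in H (so H embeds in Aut(N)), and a Sylow p-subgroup of N is again a nontrivial trivial-intersection set in N. -/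
theorem result {H : Type*} [Group H] [Finite H] (p : ℕ) [Fact p.Prime] (hOp : Cfsg.pCore p H = ⊥) (hOp' : Cfsg.pPrimeCore p H = ⊥) (P : Sylow p H) (hP1 : (P : Subgroup H) ≠ ⊥)
    (hTI : ∀ g : H, g ∉ Subgroup.normalizer ((P : Subgroup H) : Set H) → (P : Subgroup H) ⊓ (MulAut.conj g • (P : Subgroup H)) = ⊥) :
    ∃ N : Subgroup H, N.Normal ∧ N ≠ ⊥ ∧ (∀ K : Subgroup H, K.Normal → K ≠ ⊥ → N ≤ K) ∧
      IsSimpleGroup N ∧ ¬ IsMulCommutative N ∧ Subgroup.centralizer (N : Set H) = ⊥ ∧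
      ∀ Q : Sylow p N, (Q : Subgroup N) ≠ ⊥ ∧
        ∀ n : N, n ∉ Subgroup.normalizer ((Q : Subgroup N) : Set N) → (Q : Subgroup N) ⊓ (MulAut.conj n • (Q : Subgroup N)) = ⊥ := by
  exact main4620 p hOp hOp' P hP1 hTI

end Cfsg.Agent.S4620
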