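import Cfsg.Statements.S4636

set_option autoImplicit false
open scoped Pointwise
open Cfsg

namespace Cfsg.Agent.S4636

theorem cyc_mem {C : Type*} [Group C] [Finite C] [IsCyclic C] (p : ℕ) (hp : p.Prime)
    (Z : Subgroup C) (hZ : Nat.card Z = p) (y : C) (hy : y ^ p = 1) : y ∈ Z := by
  classical
  have := Fintype.ofFinite C
  have hle := IsCyclic.card_pow_eq_one_le (α := C) (n := p) hp.pos
  have hsub : (Z : Set C).toFinset ⊆ Finset.univ.filter (fun a : C => a ^ p = 1) := by
    intro z hz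
    simp only [Set.mem_toFinset, SetLike.mem_coe] at hz
    simp only [Finset.mem_filter, Finset.mem_univ, true_and]
    have := pow_card_eq_one' (G := Z) (x := ⟨z, hz⟩)
    rw [hZ] at this
    simpa using congrArg Subtype.val this
  have hcard : ((Z : Set C).toFinset).card = p := by
    rw [Set.toFinset_card, ← Nat.card_eq_fintype_card]
    exact hZ
  have heq := Finset.eq_of_subset_of_card_le hsub (by rw [hcard]; exact hle)
  have : y ∈ Finset.univ.filter (fun a : C => a ^ p = 1) := by simp [hy]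
  rw [← heq] at this
  simpa using this

theorem L1 {G : Type*} [Group G] [Finite G] (p : ℕ) (hp : p.Prime) (P : Subgroup G)
    (hcyc : IsCyclic P) (Z : Subgroup G) (hZ : Z ≤ P) (hZcard : Nat.card Z = p)
    (y : G) (hyP : y ∈ P) (hy : y ^ p = 1) : y ∈ Z := by
  have h1 : Nat.card (Z.subgroupOf P) = p := by
    rw [← hZcard]
    exact Nat.card_congr (Subgroup.subgroupOfEquivOfLe hZ).toEquiv
  have := cyc_mem (C := P) p hp (Z.subgroupOf P) h1 ⟨y, hyP⟩ (by ext; simpa using hy)
  simpa [Subgroup.mem_subgroupOf] using this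

theorem L3 {G : Type*} [Group G] [Finite G] (p : ℕ) (hp : p.Prime) (P : Subgroup G)
    (hcyc : IsCyclic P) (Z : Subgroup G) (hZ : Z ≤ P) (hZcard : Nat.card Z = p)
    (Z' : Subgroup G) (hZ' : Z' ≤ P) (hZ'card : Nat.card Z' = p) : Z' = Z := by
  apply Subgroup.eq_of_le_of_card_ge
  · intro z hz
    apply L1 p hp P hcyc Z hZ hZcard z (hZ' hz)
    have := pow_card_eq_one' (G := Z') (x := ⟨z, hz⟩)
    rw [hZ'card] at this
    simpa using congrArg Subtype.val this
  · rw [hZcard, hZ'card]

theorem L2 {G : Type*} [Group G] [Finite G] (p : ℕ) [hp : Fact p.Prime] (P : Subgroup G)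
    (hP : IsPGroup p P)
    (hcyc : IsCyclic P) (Z : Subgroup G) (hZ : Z ≤ P) (hZcard : Nat.card Z = p)
    (Q : Subgroup G) (hQ : Q ≤ P) (hQ1 : Q ≠ ⊥) : Z ≤ Q := by
  have hQp : IsPGroup p Q := hP.to_le hQ
  obtain ⟨k, hk⟩ := IsPGroup.iff_card.mp hQp
  have hk0 : k ≠ 0 := by
    rintro rfl
    apply hQ1
    rw [pow_zero] at hk
    exact Subgroup.card_eq_one.mp hk
  have hdvd : p ∣ Nat.card Q := by
    rw [hk]; exact dvd_pow_self p hk0
  obtain ⟨y, hy⟩ := exists_prime_orderOf_dvd_card' (G := Q) p hdvd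
  have hyG : orderOf (y : G) = p := by rw [Subgroup.orderOf_coe]; exact hy
  have hyZ : (y : G) ∈ Z := by
    apply L1 p hp.out P hcyc Z hZ hZcard y (hQ y.2)
    rw [← hyG]; exact pow_orderOf_eq_one _
  have : Subgroup.zpowers (y : G) = Z := by
    apply Subgroup.eq_of_le_of_card_ge
    · exact Subgroup.zpowers_le_of_mem hyZ
    · rw [hZcard, Nat.card_zpowers, hyG]
  rw [← this]
  exact Subgroup.zpowers_le_of_mem y.2

/-- Let P be a nontrivial cyclic p-subgroup of the finite group G and Z its subgroup of order p. For every x outside N_G(Z), P meets its conjugate xPx⁻¹ trivially; consequently N_G(Q) ≤ N_G(Z) for every nontrivial subgroup Q of P. -/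
theorem result {G : Type*} [Group G] [Finite G] (p : ℕ) [Fact p.Prime] (P : Subgroup G) (hP : IsPGroup p P) (hP1 : P ≠ ⊥) (hcyc : IsCyclic P) (Z : Subgroup G) (hZ : Z ≤ P) (hZcard : Nat.card Z = p) : (∀ x : G, x ∉ Subgroup.normalizer (Z : Set G) → P ⊓ MulAut.conj x • P = ⊥) ∧ ∀ Q : Subgroup G, Q ≤ P → Q ≠ ⊥ → Subgroup.normalizer (Q : Set G) ≤ Subgroup.normalizer (Z : Set G) := by
  have hp : p.Prime := Fact.out
  have hsmulcard : ∀ x : G, Nat.card (MulAut.conj x • Z : Subgroup G) = p := by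
    intro x
    rw [← hZcard]
    exact (Nat.card_congr (Subgroup.equivSMul (MulAut.conj x) Z).toEquiv).symm
  constructor
  · intro x hx
    by_contra hne
    apply hx
    have h1 : Z ≤ P ⊓ MulAut.conj x • P := L2 p P hP hcyc Z hZ hZcard _ inf_le_left hne
    have hcyc' : IsCyclic (MulAut.conj x • P : Subgroup G) :=
      isCyclic_of_surjective (Subgroup.equivSMul (MulAut.conj x) P)
        (Subgroup.equivSMul (MulAut.conj x) P).surjective
    have hP' : IsPGroup p (MulAut.conj x • P : Subgroup G) :=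
      hP.of_equiv (Subgroup.equivSMul (MulAut.conj x) P)
    have hZ' : MulAut.conj x • Z ≤ MulAut.conj x • P :=
      Subgroup.pointwise_smul_le_pointwise_smul_iff.mpr hZ
    have h2 : MulAut.conj x • Z ≤ P ⊓ MulAut.conj x • P :=
      L2 p _ hP' hcyc' _ hZ' (hsmulcard x) _ inf_le_right hne
    have h3 : MulAut.conj x • Z = Z :=
      L3 p hp P hcyc Z hZ hZcard _ (h2.trans inf_le_left) (hsmulcard x)
    exact Subgroup.mem_normalizer_iff_map_conj_eq.mpr h3
  · intro Q hQ hQ1 g hg
    have hgQ : MulAut.conj g • Q = Q := Subgroup.mem_normalizer_iff_map_conj_eq.mp hg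
    have h1 : Z ≤ Q := L2 p P hP hcyc Z hZ hZcard Q hQ hQ1
    have h2 : MulAut.conj g • Z ≤ P := by
      have : MulAut.conj g • Z ≤ MulAut.conj g • Q :=
        Subgroup.pointwise_smul_le_pointwise_smul_iff.mpr h1
      rw [hgQ] at this
      exact this.trans hQ
    have h3 : MulAut.conj g • Z = Z := L3 p hp P hcyc Z hZ hZcard _ h2 (hsmulcard g)
    exact Subgroup.mem_normalizer_iff_map_conj_eq.mpr h3

end Cfsg.Agent.S4636
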