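import Cfsg.Statements.S4713
import Cfsg.Agent.Lib.Helper8.ItoMichler
import Cfsg.Agent.Lib.Helper8.CharIto

set_option autoImplicit false
open Cfsg

namespace Cfsg.Agent.S4713

open Cfsg.Agent.Lib.Helper8

/-- Let p be a prime and G a finite p-solvable group. Then G has a normal abelian Sylow p-subgroup if and only if the degree of every irreducible character of G is prime to p. -/
theorem result {G : Type*} [Group G] [Finite G] (p : ℕ) [Fact p.Prime] (hsolv : Cfsg.IsPSolvable p G) (P : Sylow p G) : ((P : Subgroup G).Normal ∧ IsMulCommutative P) ↔ ∀ χ : Cfsg.IrrCharacter G, ¬ p ∣ Cfsg.charDegree (χ : G → ℂ) := by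
  classical
  have hp : p.Prime := Fact.out
  haveI : Fintype G := Fintype.ofFinite G
  constructor
  · rintro ⟨hPn, hPc⟩ χ hdvd
    haveI := hPn
    have hab : ∀ a ∈ (P : Subgroup G), ∀ b ∈ (P : Subgroup G), a * b = b * a := by
      intro a ha b hb
      have := hPc.is_comm.comm (⟨a, ha⟩ : ↥(P : Subgroup G)) ⟨b, hb⟩
      exact congrArg Subtype.val this
    have h1 := ito_character (P : Subgroup G) hab χ
    exact P.not_dvd_index (dvd_trans hdvd h1)
  · intro hdeg
    obtain ⟨Q, hQn, hQp, hQi⟩ := ito_psolvable_aux p hp _ G rfl hsolv hdeg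
    haveI := hQn
    have hPQ : (P : Subgroup G) ≤ Q := by
      intro x hx
      obtain ⟨k, hk⟩ := P.2 ⟨x, hx⟩
      have hxk : x ^ p ^ k = 1 := by simpa using congrArg Subtype.val hk
      exact mem_of_normal_sylow Q hQi hp x hxk
    have hQP : Q = (P : Subgroup G) := P.3 hQp hPQ
    have hPn : (P : Subgroup G).Normal := by rw [← hQP]; exact hQn
    refine ⟨hPn, ?_⟩
    haveI : Fintype ↥(P : Subgroup G) := Fintype.ofFinite _
    have hlin : ∀ θ : Cfsg.IrrCharacter ↥(P : Subgroup G), Cfsg.charDegree θ.1 = 1 := by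
      intro θ
      obtain ⟨χ, hχ⟩ := charDegree_dvd_of_normal (P : Subgroup G) hPn θ
      have h1 : ¬ p ∣ Cfsg.charDegree θ.1 := fun h => hdeg χ (dvd_trans h hχ)
      obtain ⟨a, ha⟩ := (P.2 : IsPGroup p ↥(P : Subgroup G)).exists_card_eq
      have h2 : Cfsg.charDegree θ.1 ∣ p ^ a := by rw [← ha]; exact charDegree_dvd_card θ
      obtain ⟨i, _, hi⟩ := (Nat.dvd_prime_pow hp).mp h2
      rcases Nat.eq_zero_or_pos i with h0 | hpos
      · rw [hi, h0, pow_zero]
      · exfalso; apply h1; rw [hi]; exact dvd_pow_self p hpos.ne'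
    have hab := abelian_of_all_linear hlin
    exact ⟨⟨fun a b => hab a b⟩⟩

end Cfsg.Agent.S4713
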