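import Cfsg.Statements.S4754
import Cfsg.Agent.Lib.Helper8.CharAvg
import Cfsg.Agent.S0136

set_option autoImplicit false
open Cfsg

namespace Cfsg.Agent.S4754

/-- For elements x, y of a finite group G, the conjugacy class of x y equals the set of all products of a conjugate of x with a conjugate of y if and only if χ(1) χ(a x a⁻¹ b y b⁻¹) = χ(x) χ(y) for all a, b ∈ G and every irreducible character χ. -/
theorem result {G : Type*} [Group G] [Finite G] (x y : G) : (∀ z : G, IsConj (x * y) z ↔ ∃ a b : G, z = a * x * a⁻¹ * (b * y * b⁻¹)) ↔ ∀ (a b : G) (χ : Cfsg.IrrCharacter G), (χ : G → ℂ) 1 * (χ : G → ℂ) (a * x * a⁻¹ * (b * y * b⁻¹)) = (χ : G → ℂ) x * (χ : G → ℂ) y := by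
  classical
  open Cfsg.Agent.Lib.Helper8 in
  have : Fintype G := Fintype.ofFinite G
  have hGne : (Nat.card G : ℂ) ≠ 0 := Nat.cast_ne_zero.mpr Nat.card_pos.ne'
  constructor
  · intro hcl a b χ
    have h1 : ∀ a b : G, (χ : G → ℂ) (a * x * a⁻¹ * (b * y * b⁻¹)) = (χ : G → ℂ) (x * y) := by
      intro a b
      have hc : IsConj (x * y) (a * x * a⁻¹ * (b * y * b⁻¹)) := (hcl _).mpr ⟨a, b, rfl⟩
      exact (character_isConj (irr_isCharacter χ.2) hc).symm
    have h2 := irr_sum_conj_mul χ x y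
    have h3 : ∀ h : G, χ.1 (h * x * h⁻¹ * y) = χ.1 (x * y) := by
      intro h
      have := h1 h 1
      simpa using this
    simp_rw [h3] at h2
    rw [Finset.sum_const, Finset.card_univ, nsmul_eq_mul, ← Nat.card_eq_fintype_card] at h2
    have h4 := irr_one_ne_zero χ
    rw [h1 a b]
    field_simp at h2
    linear_combination h2
  · intro hχ z
    constructor
    · intro hc
      obtain ⟨g, hg⟩ := isConj_iff.mp hc
      exact ⟨g, g, by rw [← hg]; group⟩
    · rintro ⟨a, b, rfl⟩
      rw [Cfsg.Agent.S0136.result]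
      intro χ
      have h1 := hχ a b χ
      have h2 := hχ 1 1 χ
      simp only [one_mul, inv_one, mul_one] at h2
      have h4 := irr_one_ne_zero χ
      have h5 : (χ : G → ℂ) 1 * (χ : G → ℂ) (x * y) = (χ : G → ℂ) 1 * (χ : G → ℂ) (a * x * a⁻¹ * (b * y * b⁻¹)) := by
        rw [h1, h2]
      exact mul_left_cancel₀ h4 h5

end Cfsg.Agent.S4754
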