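import Cfsg.Statements.S4755
import Cfsg.Agent.Lib.Helper8.CharAvg
import Cfsg.Agent.Lib.Helper8.CharLinear
import Cfsg.Agent.S0136

set_option autoImplicit false
open Cfsg

namespace Cfsg.Agent.S4755

/-- Let x, y be non-identity elements of the finite group G such that χ(x' y') = χ(x') χ(y') for all conjugates x' of x, y' of y and every irreducible character χ. Then the conjugacy class of x y is the set of all products of a conjugate of x with a conjugate of y; every irreducible character of degree greater than 1 vanishes at x y; and the conjugacy class of x y is the coset of the commutator subgroup containing x y. -/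
theorem result {G : Type*} [Group G] [Finite G] (x y : G) (hx : x ≠ 1) (hy : y ≠ 1) (h : ∀ (a b : G) (χ : Cfsg.IrrCharacter G), (χ : G → ℂ) (a * x * a⁻¹ * (b * y * b⁻¹)) = (χ : G → ℂ) (a * x * a⁻¹) * (χ : G → ℂ) (b * y * b⁻¹)) : (∀ z : G, IsConj (x * y) z ↔ ∃ a b : G, z = a * x * a⁻¹ * (b * y * b⁻¹)) ∧ (∀ χ : Cfsg.IrrCharacter G, (χ : G → ℂ) 1 ≠ 1 → (χ : G → ℂ) (x * y) = 0) ∧ (∀ z : G, IsConj (x * y) z ↔ (x * y)⁻¹ * z ∈ commutator G) := by
  classical
  open Cfsg.Agent.Lib.Helper8 in
  open scoped commutatorElement in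
  have : Fintype G := Fintype.ofFinite G
  have := irr_finite (G := G)
  have : Fintype (IrrCharacter G) := Fintype.ofFinite _
  have hGne : (Nat.card G : ℂ) ≠ 0 := Nat.cast_ne_zero.mpr Nat.card_pos.ne'
  have hconjval : ∀ (χ : IrrCharacter G) (a g : G), χ.1 (a * g * a⁻¹) = χ.1 g :=
    fun χ a g => isClassFunction_of_isCharacter (irr_isCharacter χ.2) g a
  have hprod : ∀ (a b : G) (χ : IrrCharacter G), χ.1 (a * x * a⁻¹ * (b * y * b⁻¹)) = χ.1 x * χ.1 y := by
    intro a b χ
    rw [h a b χ, hconjval, hconjval]
  have hxy : ∀ χ : IrrCharacter G, χ.1 (x * y) = χ.1 x * χ.1 y := by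
    intro χ
    have := hprod 1 1 χ
    simpa using this
  have part1 : ∀ z : G, IsConj (x * y) z ↔ ∃ a b : G, z = a * x * a⁻¹ * (b * y * b⁻¹) := by
    intro z
    constructor
    · intro hc
      obtain ⟨g, hg⟩ := isConj_iff.mp hc
      exact ⟨g, g, by rw [← hg]; group⟩
    · rintro ⟨a, b, rfl⟩
      rw [Cfsg.Agent.S0136.result]
      intro χ
      rw [hprod a b χ, hxy χ]
  have part2 : ∀ χ : IrrCharacter G, (χ : G → ℂ) 1 ≠ 1 → (χ : G → ℂ) (x * y) = 0 := by
    intro χ hχ1
    have h2 := irr_sum_conj_mul χ x y
    have h3 : ∀ g : G, χ.1 (g * x * g⁻¹ * y) = χ.1 x * χ.1 y := by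
      intro g
      have := hprod g 1 χ
      simpa using this
    simp_rw [h3] at h2
    rw [Finset.sum_const, Finset.card_univ, nsmul_eq_mul, ← Nat.card_eq_fintype_card] at h2
    have h4 := irr_one_ne_zero χ
    have h5 : (Nat.card G : ℂ) * (χ.1 x * χ.1 y) * (χ.1 1 - 1) = 0 := by
      field_simp at h2
      linear_combination (Nat.card G : ℂ) * h2
    rw [hxy χ]
    rcases mul_eq_zero.mp h5 with h6 | h6
    · rcases mul_eq_zero.mp h6 with h7 | h7
      · exact absurd h7 hGne
      · exact h7
    · exact absurd (sub_eq_zero.mp h6) hχ1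
  refine ⟨part1, part2, ?_⟩
  -- linear characters have absolute value one
  have hlin : ∀ χ : IrrCharacter G, (χ : G → ℂ) 1 = 1 → ∀ g : G, χ.1 g * (starRingEnd ℂ) (χ.1 g) = 1 := by
    intro χ hχ1 g
    obtain ⟨n, ρ, hρ, hρχ⟩ := χ.2
    have hn : Module.finrank ℂ (Fin n → ℂ) = 1 := by
      have := hχ1
      rw [← hρχ, Representation.char_one] at this
      exact_mod_cast this
    have hm : 0 < orderOf g := orderOf_pos g
    have hpow := rep_pow_orderOf ρ g
    have h1 : ρ.character g = (ρ g).charpoly.roots.sum := trace_eq_roots_sum (ρ g)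
    have hcard : Multiset.card (ρ g).charpoly.roots = 1 := by rw [card_roots_charpoly, hn]
    obtain ⟨μ, hμ⟩ := Multiset.card_eq_one.mp hcard
    rw [← hρχ, h1, hμ, Multiset.sum_singleton]
    have hμn : ‖μ‖ = 1 := norm_eq_one_of_pow_eq_one' hm (root_pow_eq_one hpow (by rw [hμ]; exact Multiset.mem_singleton_self μ))
    rw [Complex.mul_conj, Complex.normSq_eq_norm_sq, hμn]; simp
  -- centralizer order
  have hcent : Nat.card (Subgroup.centralizer ({x * y} : Set G)) = (commutator G).index := by
    have h1 := irr_sum_mul_conj (x * y) (x * y)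
    rw [if_pos (IsConj.refl _)] at h1
    have h2 : ∑ χ : IrrCharacter G, χ.1 (x * y) * (starRingEnd ℂ) (χ.1 (x * y)) =
        ∑ χ : IrrCharacter G, if χ.1 1 = 1 then (1 : ℂ) else 0 := by
      apply Finset.sum_congr rfl
      intro χ _
      by_cases hχ1 : χ.1 1 = 1
      · rw [if_pos hχ1, hlin χ hχ1]
      · rw [if_neg hχ1, part2 χ hχ1, zero_mul]
    rw [h2, Finset.sum_boole] at h1
    have h3 : (Finset.univ.filter (fun χ : IrrCharacter G => χ.1 1 = 1)).card =
        Nat.card {χ : IrrCharacter G // χ.1 1 = 1} := by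
      rw [Nat.card_eq_fintype_card, Fintype.card_subtype]
    rw [h3, card_linear_characters] at h1
    exact_mod_cast h1.symm
  intro z
  constructor
  · intro hc
    obtain ⟨g, hg⟩ := isConj_iff.mp hc
    have : (x * y)⁻¹ * z = ⁅(x * y)⁻¹, g⁆ := by
      rw [commutatorElement_def, ← hg]; group
    rw [this, commutator_def]
    exact Subgroup.commutator_mem_commutator (Subgroup.mem_top _) (Subgroup.mem_top _)
  · intro hz
    -- compare cardinalities
    set S : Set G := {w | IsConj (x * y) w} with hS
    set T : Set G := {w | (x * y)⁻¹ * w ∈ commutator G} with hT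
    have hST : S ⊆ T := by
      intro w hw
      obtain ⟨g, hg⟩ := isConj_iff.mp hw
      have : (x * y)⁻¹ * w = ⁅(x * y)⁻¹, g⁆ := by
        rw [commutatorElement_def, ← hg]; group
      show (x * y)⁻¹ * w ∈ commutator G
      rw [this, commutator_def]
      exact Subgroup.commutator_mem_commutator (Subgroup.mem_top _) (Subgroup.mem_top _)
    have hScard : S.ncard = (Subgroup.centralizer ({x * y} : Set G)).index := by
      rw [← ncard_orbit_eq_index]
      congr 1
      ext w
      rw [hS, Set.mem_ofPred_eq, ConjAct.mem_orbit_conjAct]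
      exact ⟨fun h => h.symm, fun h => h.symm⟩
    have hTcard : T.ncard = Nat.card (commutator G) := by
      have : T = (fun c : G => (x * y) * c) '' (commutator G : Set G) := by
        ext w
        simp only [hT, Set.mem_ofPred_eq, Set.mem_image, SetLike.mem_coe]
        constructor
        · intro hw
          exact ⟨(x * y)⁻¹ * w, hw, by group⟩
        · rintro ⟨c, hc, rfl⟩
          have : (x * y)⁻¹ * (x * y * c) = c := by group
          rw [this]; exact hc
      rw [this, Set.ncard_image_of_injective _ (mul_right_injective (x * y))]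
      rfl
    have hcards : T.ncard ≤ S.ncard := by
      rw [hScard, hTcard]
      have e1 := Subgroup.card_mul_index (Subgroup.centralizer ({x * y} : Set G))
      have e2 := Subgroup.card_mul_index (commutator G)
      rw [hcent] at e1
      have hpos : 0 < (commutator G).index := Nat.pos_of_ne_zero (Subgroup.index_ne_zero_of_finite)
      have : (commutator G).index * (Subgroup.centralizer ({x * y} : Set G)).index =
          (commutator G).index * Nat.card (commutator G) := by
        rw [e1, mul_comm, e2]
      exact le_of_eq (Nat.eq_of_mul_eq_mul_left hpos this).symm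
    have hEq : S = T := Set.eq_of_subset_of_ncard_le hST hcards (Set.toFinite T)
    have : z ∈ T := hz
    rw [← hEq] at this
    exact this

end Cfsg.Agent.S4755
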