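import Cfsg.Statements.S4784
import Cfsg.Agent.Lib.Helper8.CharFS
import Cfsg.Agent.Lib.Helper8.CharOdd
import Cfsg.Agent.Lib.Helper8.CharKernel2
import Cfsg.Agent.Lib.Helper8.CharInd
import Cfsg.Agent.Lib.Helper8.BrauerPerm
import Cfsg.Agent.Lib.Helper8.CharBurnside
import Cfsg.Agent.Lib.Helper8.CharDecomp
import Cfsg.Agent.Lib.Helper8.CharDegree

set_option autoImplicit false
open Cfsg

namespace Cfsg.Agent.S4784

open Cfsg.Agent.Lib.Helper8
open scoped ComplexConjugate

theorem irr_norm_le {G : Type*} [Group G] [Finite G] (ψ : Cfsg.IrrCharacter G) (g : G) :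
    ‖ψ.1 g‖ ≤ (Cfsg.charDegree ψ.1 : ℝ) := by
  obtain ⟨k, ρ, hρ, hψ⟩ := ψ.2
  have h1 := norm_character_le ρ g
  have h2 : (Cfsg.charDegree ψ.1 : ℂ) = (Module.finrank ℂ (Fin k → ℂ) : ℂ) := by
    rw [← irr_one_eq_charDegree, ← hψ, Representation.char_one]
  have h3 : Cfsg.charDegree ψ.1 = Module.finrank ℂ (Fin k → ℂ) := by exact_mod_cast h2
  rw [hψ] at h1
  rw [h3]
  exact h1

theorem fs_values {G : Type*} [Group G] [Fintype G] (χ : Cfsg.IrrCharacter G) :
    ((¬ ∀ g, conj (χ.1 g) = χ.1 g) → (Nat.card G : ℂ)⁻¹ * ∑ g : G, χ.1 (g * g) = 0) ∧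
    ((∀ g, conj (χ.1 g) = χ.1 g) → ((Nat.card G : ℂ)⁻¹ * ∑ g : G, χ.1 (g * g) = 1 ∨
      (Nat.card G : ℂ)⁻¹ * ∑ g : G, χ.1 (g * g) = -1)) := by
  obtain ⟨n, ρ, hρ, hχ⟩ := χ.2
  have h := fs_main n ρ hρ
  rw [hχ] at h
  have hreal : (∀ g, conj (χ.1 g) = χ.1 g) ↔ ∀ g : G, (χ.1 g).im = 0 := by
    constructor
    · intro h g; exact Complex.conj_eq_iff_im.mp (h g)
    · intro h g; exact Complex.conj_eq_iff_im.mpr (h g)
  rw [hreal]
  exact ⟨fun h1 => (h.1 h1).1, fun h1 => (h.2 h1).1⟩

/-- Let H be a subgroup of the finite group G and consider the permutation character of G on the cosets of H (the function induced from the principal character of H). Then exactly one irreducible constituent of it is real-valued with Frobenius–Schur indicator +1 (namely the principal character) if and only if the normal core of H has odd index in G. -/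
theorem result {G : Type*} [Group G] [Fintype G] (H : Subgroup G) : Nat.card {χ : Cfsg.IrrCharacter G // Cfsg.classInner (Cfsg.indFun H (fun _ : H => (1 : ℂ))) (χ : G → ℂ) ≠ 0 ∧ (∀ g : G, (starRingEnd ℂ) ((χ : G → ℂ) g) = (χ : G → ℂ) g) ∧ (Nat.card G : ℂ)⁻¹ * ∑ g : G, (χ : G → ℂ) (g * g) = 1} = 1 ↔ Odd H.normalCore.index := by
  classical
  have := irr_finite (G := G)
  haveI : Fintype (Cfsg.IrrCharacter G) := Fintype.ofFinite _
  set π : G → ℂ := Cfsg.indFun H (fun _ : H => (1 : ℂ)) with hπ
  have hπc : Cfsg.IsCharacter G π :=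
    isCharacter_indFun H (irr_isCharacter principal_isIrrCharacter)
  obtain ⟨mm, hmm⟩ := isCharacter_decomp hπc
  have hπeq : π = fun g => ∑ ψ : Cfsg.IrrCharacter G, (mm ψ : ℂ) * ψ.1 g := funext hmm
  have hinner : ∀ χ : Cfsg.IrrCharacter G, Cfsg.classInner π χ.1 = mm χ := fun χ => by
    rw [hπeq]; exact classInner_comb_irr _ χ
  let c : G → ℕ := fun g => (Finset.univ.filter (fun y : G => y⁻¹ * g * y ∈ H)).card
  have hHne : (Nat.card H : ℂ) ≠ 0 := Nat.cast_ne_zero.mpr Nat.card_pos.ne'
  have hGne : (Nat.card G : ℂ) ≠ 0 := Nat.cast_ne_zero.mpr Nat.card_pos.ne'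
  have hπc' : ∀ g, π g = (Nat.card H : ℂ)⁻¹ * (c g : ℂ) := by
    intro g
    rw [hπ, indFun_apply]
    simp_rw [extendByZero_one_apply]
    rw [← Finset.sum_filter, Finset.sum_const, nsmul_eq_mul, mul_one]
  have hcle : ∀ g, c g ≤ c (g * g) := by
    intro g
    apply Finset.card_le_card
    intro y hy
    rw [Finset.mem_filter] at hy ⊢
    refine ⟨hy.1, ?_⟩
    have : y⁻¹ * (g * g) * y = (y⁻¹ * g * y) * (y⁻¹ * g * y) := by group
    rw [this]
    exact H.mul_mem hy.2 hy.2
  let P : Cfsg.IrrCharacter G := ⟨fun _ => 1, principal_isIrrCharacter⟩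
  have hmP : mm P = 1 := by
    have h1 := hinner P
    rw [hπ, frobenius_reciprocity H _ P.1
      (isClassFunction_of_isCharacter (irr_isCharacter P.2))] at h1
    have h2 : Cfsg.classInner (fun _ : H => (1 : ℂ)) (fun h : H => P.1 h) = 1 := by
      unfold Cfsg.classInner
      simp only [P, map_one, mul_one, Finset.sum_const, Finset.card_univ, nsmul_eq_mul]
      rw [← Nat.card_eq_fintype_card]
      exact inv_mul_cancel₀ hHne
    rw [h2] at h1
    exact_mod_cast h1.symm
  have hsumc : ∑ g : G, c g = Nat.card G * Nat.card H := by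
    have h1 := hinner P
    rw [hmP] at h1
    unfold Cfsg.classInner at h1
    simp only [P, map_one, mul_one] at h1
    simp_rw [hπc'] at h1
    rw [← Finset.mul_sum] at h1
    have h2 : (∑ g : G, (c g : ℂ)) = (Nat.card G : ℂ) * (Nat.card H : ℂ) := by
      field_simp at h1
      linear_combination h1
    exact_mod_cast h2
  let ν : Cfsg.IrrCharacter G → ℂ := fun χ => (Nat.card G : ℂ)⁻¹ * ∑ g : G, χ.1 (g * g)
  have hI : ∑ χ : Cfsg.IrrCharacter G, (mm χ : ℂ) * ν χ =
      (Nat.card G : ℂ)⁻¹ * ((Nat.card H : ℂ)⁻¹ * ∑ g : G, (c (g * g) : ℂ)) := by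
    simp only [ν]
    have : ∀ χ : Cfsg.IrrCharacter G, (mm χ : ℂ) * ((Nat.card G : ℂ)⁻¹ * ∑ g : G, χ.1 (g * g)) =
        (Nat.card G : ℂ)⁻¹ * ∑ g : G, (mm χ : ℂ) * χ.1 (g * g) := by
      intro χ; rw [Finset.mul_sum, Finset.mul_sum, Finset.mul_sum]
      apply Finset.sum_congr rfl; intro g _; ring
    simp_rw [this]
    rw [← Finset.mul_sum, Finset.sum_comm]
    congr 1
    rw [Finset.mul_sum]
    apply Finset.sum_congr rfl
    intro g _
    rw [← hmm (g * g), hπc']
  have hPmem : Cfsg.classInner π P.1 ≠ 0 ∧ (∀ g : G, conj (P.1 g) = P.1 g) ∧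
      (Nat.card G : ℂ)⁻¹ * ∑ g : G, P.1 (g * g) = 1 := by
    refine ⟨?_, ?_, ?_⟩
    · rw [hinner, hmP]; simp
    · intro g; simp [P]
    · simp only [P, Finset.sum_const, Finset.card_univ, nsmul_eq_mul, mul_one]
      rw [← Nat.card_eq_fintype_card]
      exact inv_mul_cancel₀ hGne
  constructor
  · intro hcard
    have hss : ∀ χ : Cfsg.IrrCharacter G, Cfsg.classInner π χ.1 ≠ 0 →
        (∀ g : G, conj (χ.1 g) = χ.1 g) → ν χ = 1 → χ = P := by
      intro χ h1 h2 h3
      have hsub := (Nat.card_eq_one_iff_unique.mp hcard).1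
      have := hsub.elim ⟨χ, h1, h2, h3⟩ ⟨P, hPmem⟩
      exact congrArg Subtype.val this
    -- real part estimate
    have hre : ∀ χ : Cfsg.IrrCharacter G, ((mm χ : ℂ) * ν χ).re ≤ if χ = P then 1 else 0 := by
      intro χ
      by_cases hχP : χ = P
      · rw [if_pos hχP, hχP, hmP]
        have : ν P = 1 := hPmem.2.2
        rw [this]; simp
      · rw [if_neg hχP]
        by_cases hm0 : mm χ = 0
        · rw [hm0]; simp
        · by_cases hreal : ∀ g : G, conj (χ.1 g) = χ.1 g
          · rcases (fs_values χ).2 hreal with h1 | h1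
            · exfalso
              apply hχP
              apply hss χ _ hreal h1
              rw [hinner]; exact_mod_cast hm0
            · have : ν χ = -1 := h1
              rw [this]
              simp
          · have : ν χ = 0 := (fs_values χ).1 hreal
            rw [this]; simp
    have hre2 : (∑ χ : Cfsg.IrrCharacter G, (mm χ : ℂ) * ν χ).re ≤ 1 := by
      rw [Complex.re_sum]
      calc ∑ χ : Cfsg.IrrCharacter G, ((mm χ : ℂ) * ν χ).re
          ≤ ∑ χ : Cfsg.IrrCharacter G, (if χ = P then (1 : ℝ) else 0) :=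
            Finset.sum_le_sum (fun χ _ => hre χ)
        _ = 1 := by simp
    rw [hI] at hre2
    have hle : ∑ g : G, c (g * g) ≤ ∑ g : G, c g := by
      rw [hsumc]
      have h1 : ((Nat.card G : ℂ)⁻¹ * ((Nat.card H : ℂ)⁻¹ * ∑ g : G, (c (g * g) : ℂ))).re =
          ((∑ g : G, c (g * g) : ℕ) : ℝ) / ((Nat.card G : ℝ) * (Nat.card H : ℝ)) := by
        have : (Nat.card G : ℂ)⁻¹ * ((Nat.card H : ℂ)⁻¹ * ∑ g : G, (c (g * g) : ℂ)) =
            ((((∑ g : G, c (g * g) : ℕ) : ℝ) / ((Nat.card G : ℝ) * (Nat.card H : ℝ)) : ℝ) : ℂ) := by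
          push_cast
          field_simp
        rw [this, Complex.ofReal_re]
      rw [h1] at hre2
      have hpos : (0 : ℝ) < (Nat.card G : ℝ) * (Nat.card H : ℝ) := by
        apply mul_pos <;> exact Nat.cast_pos.mpr Nat.card_pos
      rw [div_le_one hpos] at hre2
      exact_mod_cast hre2
    have heq : ∀ g : G, c g = c (g * g) := by
      have h1 : ∑ g : G, c g = ∑ g : G, c (g * g) :=
        le_antisymm (Finset.sum_le_sum (fun g _ => hcle g)) hle
      have := (Finset.sum_eq_sum_iff_of_le (fun g _ => hcle g)).mp h1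
      exact fun g => this g (Finset.mem_univ _)
    have hsq : ∀ g : G, g * g ∈ H → g ∈ H := by
      intro g hg
      have hsub : Finset.univ.filter (fun y : G => y⁻¹ * g * y ∈ H) ⊆
          Finset.univ.filter (fun y : G => y⁻¹ * (g * g) * y ∈ H) := by
        intro y hy
        rw [Finset.mem_filter] at hy ⊢
        refine ⟨hy.1, ?_⟩
        have : y⁻¹ * (g * g) * y = (y⁻¹ * g * y) * (y⁻¹ * g * y) := by group
        rw [this]
        exact H.mul_mem hy.2 hy.2
      have := Finset.eq_of_subset_of_card_le hsub (le_of_eq (heq g).symm)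
      have h1 : (1 : G) ∈ Finset.univ.filter (fun y : G => y⁻¹ * (g * g) * y ∈ H) := by
        rw [Finset.mem_filter]; exact ⟨Finset.mem_univ _, by simpa using hg⟩
      rw [← this, Finset.mem_filter] at h1
      simpa using h1.2
    by_contra hodd
    rw [Nat.not_odd_iff_even] at hodd
    have h2 : 2 ∣ Nat.card (G ⧸ H.normalCore) := by
      rw [← Subgroup.index_eq_card]; exact hodd.two_dvd
    haveI : Fact (Nat.Prime 2) := ⟨Nat.prime_two⟩
    obtain ⟨q, hq⟩ := exists_prime_orderOf_dvd_card' 2 h2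
    induction q using QuotientGroup.induction_on with
    | H t =>
      have ht2 : t * t ∈ H.normalCore := by
        have := pow_orderOf_eq_one (QuotientGroup.mk (s := H.normalCore) t)
        rw [hq, ← QuotientGroup.mk_pow, QuotientGroup.eq_one_iff, pow_two] at this
        exact this
      have ht1 : t ∉ H.normalCore := by
        intro h
        have : (QuotientGroup.mk (s := H.normalCore) t) = 1 := (QuotientGroup.eq_one_iff t).mpr h
        rw [this, orderOf_one] at hq
        norm_num at hq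
      apply ht1
      intro b
      apply hsq
      have := ht2 b
      have e : b * t * b⁻¹ * (b * t * b⁻¹) = b * (t * t) * b⁻¹ := by group
      rw [e]; exact this
  · intro hodd
    rw [Nat.card_eq_one_iff_unique]
    refine ⟨⟨?_⟩, ⟨⟨P, hPmem⟩⟩⟩
    have key : ∀ χ : Cfsg.IrrCharacter G, Cfsg.classInner π χ.1 ≠ 0 →
        (∀ g : G, conj (χ.1 g) = χ.1 g) → χ = P := by
      intro χ h1 hreal
      have hm0 : mm χ ≠ 0 := by
        intro h0; apply h1; rw [hinner, h0]; simp
      have hker : ∀ n ∈ H.normalCore, χ.1 n = χ.1 1 := by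
        intro n hn
        have hc : c n = c 1 := by
          simp only [c]
          congr 1
          ext y
          simp only [Finset.mem_filter, Finset.mem_univ, true_and]
          constructor
          · intro _; simp
          · intro _
            have := hn y⁻¹
            simpa using this
        have hπn : π n = π 1 := by rw [hπc', hπc', hc]
        rw [hmm n, hmm 1] at hπn
        have hz : ∑ ψ : Cfsg.IrrCharacter G,
            (mm ψ : ℝ) * ((Cfsg.charDegree ψ.1 : ℝ) - (ψ.1 n).re) = 0 := by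
          have h2 := congrArg Complex.re hπn
          rw [Complex.re_sum, Complex.re_sum] at h2
          have h3 : ∀ ψ : Cfsg.IrrCharacter G, ((mm ψ : ℂ) * ψ.1 1).re =
              (mm ψ : ℝ) * (Cfsg.charDegree ψ.1 : ℝ) := by
            intro ψ; rw [irr_one_eq_charDegree]; simp
          have h4 : ∀ ψ : Cfsg.IrrCharacter G, ((mm ψ : ℂ) * ψ.1 n).re =
              (mm ψ : ℝ) * (ψ.1 n).re := by
            intro ψ; simp
          simp_rw [h3, h4] at h2
          simp_rw [mul_sub]
          rw [Finset.sum_sub_distrib, h2, sub_self]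
        have hnn : ∀ ψ ∈ (Finset.univ : Finset (Cfsg.IrrCharacter G)),
            0 ≤ (mm ψ : ℝ) * ((Cfsg.charDegree ψ.1 : ℝ) - (ψ.1 n).re) := by
          intro ψ _
          apply mul_nonneg (Nat.cast_nonneg _)
          have := irr_norm_le ψ n
          have h5 := Complex.re_le_norm (ψ.1 n)
          linarith
        have h6 := (Finset.sum_eq_zero_iff_of_nonneg hnn).mp hz χ (Finset.mem_univ _)
        have h7 : (Cfsg.charDegree χ.1 : ℝ) - (χ.1 n).re = 0 := by
          rcases mul_eq_zero.mp h6 with h | h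
          · exfalso; exact hm0 (by exact_mod_cast h)
          · exact h
        have h8 : (χ.1 n).im = 0 := Complex.conj_eq_iff_im.mp (hreal n)
        rw [irr_one_eq_charDegree]
        apply Complex.ext
        · simp; linarith
        · simp [h8]
      obtain ⟨K, hK, hKmem, ψ, hψ, hψχ⟩ := irr_quotient_char χ
      have hNK : H.normalCore ≤ K := fun n hn => (hKmem n).mpr (hker n hn)
      have hoddK : Odd (Nat.card (G ⧸ K)) := by
        rw [← Subgroup.index_eq_card]
        obtain ⟨t, ht⟩ := Subgroup.index_dvd_of_le hNK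
        rw [ht] at hodd
        exact (Nat.odd_mul.mp hodd).1
      have hψreal : ∀ q : G ⧸ K, (ψ q).im = 0 := by
        intro q
        induction q using QuotientGroup.induction_on with
        | H g =>
          have := hψχ g
          rw [QuotientGroup.mk'_apply] at this
          rw [this]
          exact Complex.conj_eq_iff_im.mp (hreal g)
      have h9 := real_irr_of_odd hoddK ⟨ψ, hψ⟩ hψreal
      apply Subtype.ext
      funext g
      rw [← hψχ g]
      show ψ _ = 1
      rw [show ψ = fun _ => 1 from h9]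
    rintro ⟨χ, h1, h2, h3⟩ ⟨χ', h1', h2', h3'⟩
    apply Subtype.ext
    show χ = χ'
    rw [key χ h1 h2, key χ' h1' h2']

end Cfsg.Agent.S4784
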