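import Cfsg.Statements.S4796
import Cfsg.Agent.Lib.Helper8.CharKernel2
import Cfsg.Agent.Lib.Helper8.SylowPF
import Cfsg.Agent.Lib.Helper8.FrobeniusPF
import Cfsg.Agent.Lib.Helper8.CharExtraspecial
import Cfsg.Agent.Lib.Helper8.CharClifford
import Cfsg.Agent.S4798

set_option autoImplicit false
open Cfsg

namespace Cfsg.Agent.S4796

open Cfsg.Agent.Lib.Helper8

/-- Let G be a finite group with a faithful irreducible complex character χ whose codegree #G / χ(1) is a prime p (for a faithful character the kernel is trivial, so the codegree is #G / χ(1)). Then either G is cyclic of order p, or G is a Frobenius group whose Frobenius kernel has order p: some proper non-trivial subgroup H satisfies H ∩ gHg⁻¹ = 1 for every element g outside H, and the set of elements lying in no conjugate of H, together with the identity, has exactly p elements. -/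
theorem result {G : Type*} [Group G] [Finite G] (χ : Cfsg.IrrCharacter G) (hfaith : ∀ g : G, (χ : G → ℂ) g = (χ : G → ℂ) 1 → g = 1) (p : ℕ) (hp : p.Prime) (hcod : Nat.card G = p * Cfsg.charDegree (χ : G → ℂ)) : (IsCyclic G ∧ Nat.card G = p) ∨ ∃ H : Subgroup G, Cfsg.IsFrobeniusComplement H ∧ Nat.card ↥(Cfsg.frobeniusKernel H) = p := by
  classical
  have : Fintype G := Fintype.ofFinite G
  have : Fact p.Prime := ⟨hp⟩
  have hfpos : 0 < Cfsg.charDegree (χ : G → ℂ) := charDegree_pos χ
  -- f < p
  have hfp : Cfsg.charDegree (χ : G → ℂ) < p := by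
    obtain ⟨K, hKn, hK, hdvd, hlt⟩ := irr_degree_sq_lt_index χ
    have hKbot : K = ⊥ := by
      rw [eq_bot_iff]
      intro g hg
      exact Subgroup.mem_bot.mpr (hfaith g ((hK g).mp hg))
    rw [hKbot, Subgroup.index_bot, hcod] at hlt
    rcases hlt with h | h
    · exfalso
      have h1 : Nat.card G = 1 := by
        rw [← Subgroup.card_top, ← h, Subgroup.card_bot]
      rw [hcod] at h1
      have := hp.one_lt
      have h2 : p ∣ 1 := ⟨_, h1.symm⟩
      exact hp.one_lt.ne' (Nat.dvd_one.mp h2)
    · rw [sq] at h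
      exact lt_of_mul_lt_mul_right h (Nat.zero_le _)
  by_cases hf1 : Cfsg.charDegree (χ : G → ℂ) = 1
  · left
    rw [hf1, mul_one] at hcod
    exact ⟨isCyclic_of_prime_card hcod, hcod⟩
  right
  obtain ⟨P, θ, hθ, hχθ⟩ := Cfsg.Agent.S4798.forward p χ 1 (by rw [pow_one]; exact hcod)
  obtain ⟨hPn, hPcard, hidx⟩ := sylow_normal_of_card_eq p _ hfpos hfp hcod P
  have hdegθ : Cfsg.charDegree θ = 1 := by
    have h1 := Cfsg.Agent.S4798.charDegree_indFun (P : Subgroup G) hθ
    rw [← hχθ, hidx] at h1
    have h2 : Cfsg.charDegree (χ : G → ℂ) * 1 = Cfsg.charDegree (χ : G → ℂ) * Cfsg.charDegree θ := by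
      rw [mul_one]; exact h1
    exact (Nat.eq_of_mul_eq_mul_left hfpos h2).symm
  have hθ1 : θ 1 = 1 := by
    rw [isCharacter_one_eq_charDegree hθ, hdegθ]; simp
  have hθirr : Cfsg.IsIrrCharacter (P : Subgroup G) θ := irr_of_degree_one hθ hθ1
  have key := card_mul_norm_indFun hPn hθirr
  rw [← hχθ, irr_classInner χ.2 χ.2, if_pos rfl, mul_one, hPcard] at key
  have hcardstab : (Finset.univ.filter (fun x : G => conjChar hPn θ x = θ)).card = p := by
    exact_mod_cast key.symm
  -- the centralizer of P is contained in the stabilizer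
  have hCcard : Nat.card (Subgroup.centralizer ((P : Subgroup G) : Set G)) ≤ p := by
    refine le_of_le_of_eq ?_ hcardstab
    rw [Nat.card_eq_fintype_card, ← Finset.card_univ]
    apply Finset.card_le_card_of_injOn (fun x => x.1)
    · intro x _
      rw [Finset.mem_coe, Finset.mem_filter]
      refine ⟨Finset.mem_univ _, ?_⟩
      funext h
      rw [conjChar_apply]
      congr 1
      apply Subtype.ext
      have := (Subgroup.mem_centralizer_iff.mp x.2) h.1 h.2
      show x.1 * h.1 * x.1⁻¹ = h.1
      rw [← this]; group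
    · intro x _ y _ hxy
      exact Subtype.ext hxy
  have hPle : (P : Subgroup G) ≤ Subgroup.centralizer ((P : Subgroup G) : Set G) := by
    have hcyc : IsCyclic (P : Subgroup G) := isCyclic_of_prime_card hPcard
    intro x hx
    rw [Subgroup.mem_centralizer_iff]
    intro y hy
    obtain ⟨c, hc⟩ := hcyc.exists_generator
    obtain ⟨i, hi⟩ := Subgroup.mem_zpowers_iff.mp (hc ⟨x, hx⟩)
    obtain ⟨j, hj⟩ := Subgroup.mem_zpowers_iff.mp (hc ⟨y, hy⟩)
    have h1 : (⟨y, hy⟩ : (P : Subgroup G)) * ⟨x, hx⟩ = ⟨x, hx⟩ * ⟨y, hy⟩ := by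
      rw [← hi, ← hj]
      exact (Commute.refl c).zpow_zpow j i
    exact congrArg Subtype.val h1
  have hC : Subgroup.centralizer ((P : Subgroup G) : Set G) ≤ (P : Subgroup G) := by
    have h1 : (P : Subgroup G) = Subgroup.centralizer ((P : Subgroup G) : Set G) :=
      Subgroup.eq_of_le_of_card_ge hPle (by rw [hPcard]; exact hCcard)
    rw [← h1]
  have hcop : Nat.Coprime (Nat.card (P : Subgroup G)) (P : Subgroup G).index := by
    rw [hPcard, hidx]
    exact (Nat.Prime.coprime_iff_not_dvd hp).mpr
      (fun h => absurd (Nat.le_of_dvd hfpos h) (by omega))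
  obtain ⟨H, hH⟩ := Subgroup.exists_right_complement'_of_coprime hcop
  have hHcard : Nat.card H = Cfsg.charDegree (χ : G → ℂ) := by
    have h1 := hH.card_mul_card
    rw [hPcard, hcod] at h1
    exact Nat.eq_of_mul_eq_mul_left hp.pos h1
  have hHne : H ≠ ⊥ := by
    intro h
    rw [h, Subgroup.card_bot] at hHcard
    exact hf1 hHcard.symm
  obtain ⟨hF, hker⟩ := frobenius_of_selfcentralizing p (P : Subgroup G) hPcard hC H hH hHne
  refine ⟨H, hF, ?_⟩
  rw [hker]
  exact hPcard

end Cfsg.Agent.S4796
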