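import Cfsg.Statements.S4802
import Cfsg.Agent.Lib.Helper8.CharNormalAvg
import Cfsg.Agent.Lib.Helper8.CharBessel

set_option autoImplicit false
open Cfsg

namespace Cfsg.Agent.S4802

open Cfsg.Agent.Lib.Helper8
open scoped ComplexConjugate

variable {G : Type*} [Group G]

theorem class_eq_diff_iff [Finite G] (N M : Subgroup G) [hNn : N.Normal] [hMn : M.Normal] (hNM : N < M) (g : G) (hgM : g ∈ M) (hgN : g ∉ N) : {h : G | IsConj g h} = (M : Set G) \ (N : Set G) ↔ ((∀ χ : Cfsg.IrrCharacter G, (∀ x ∈ N, (χ : G → ℂ) x = (χ : G → ℂ) 1) → ∀ x ∈ M, x ∉ N → ∀ y ∈ M, y ∉ N → (χ : G → ℂ) x = (χ : G → ℂ) y) ∧ (∀ χ : Cfsg.IrrCharacter G, (∃ x ∈ N, (χ : G → ℂ) x ≠ (χ : G → ℂ) 1) → (χ : G → ℂ) g = 0)) := by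
  classical
  have : Fintype G := Fintype.ofFinite G
  have := irr_finite (G := G)
  have : Fintype (IrrCharacter G) := Fintype.ofFinite _
  have : Fintype N := Fintype.ofFinite N
  have hNne : (Fintype.card N : ℂ) ≠ 0 := Nat.cast_ne_zero.mpr Fintype.card_ne_zero
  -- the class of g is inside M \ N
  have hsub : {h : G | IsConj g h} ⊆ (M : Set G) \ (N : Set G) := by
    intro h hh
    obtain ⟨c, hc⟩ := isConj_iff.mp hh
    constructor
    · rw [← hc]; exact hMn.conj_mem g hgM c
    · intro hhN
      apply hgN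
      have := hNn.conj_mem h hhN c⁻¹
      rw [← hc] at this
      simpa [mul_assoc] using this
  have hcoset : ∀ x : G, x ∈ M → x ∉ N → ∀ n ∈ N, x * n ∈ (M : Set G) \ (N : Set G) := by
    intro x hxM hxN n hn
    constructor
    · exact M.mul_mem hxM (hNM.le hn)
    · intro h
      apply hxN
      have := N.mul_mem h (N.inv_mem hn)
      simpa using this
  constructor
  · intro hcl
    constructor
    · intro χ _ x hxM hxN y hyM hyN
      have hx : IsConj g x := by
        have : x ∈ (M : Set G) \ (N : Set G) := ⟨hxM, hxN⟩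
        rw [← hcl] at this; exact this
      have hy : IsConj g y := by
        have : y ∈ (M : Set G) \ (N : Set G) := ⟨hyM, hyN⟩
        rw [← hcl] at this; exact this
      rw [← character_isConj (irr_isCharacter χ.2) hx, ← character_isConj (irr_isCharacter χ.2) hy]
    · intro χ hχ
      have h0 := (irr_normal_avg χ N).2 hχ g
      have h1 : ∀ n : N, χ.1 (g * (n : G)) = χ.1 g := by
        intro n
        have : g * (n : G) ∈ (M : Set G) \ (N : Set G) := hcoset g hgM hgN n n.2
        rw [← hcl] at this
        exact (character_isConj (irr_isCharacter χ.2) this).symm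
      simp_rw [h1] at h0
      rw [Finset.sum_const, Finset.card_univ, nsmul_eq_mul] at h0
      rcases mul_eq_zero.mp h0 with h | h
      · exact absurd h hNne
      · exact h
  · rintro ⟨ha, hb⟩
    apply Set.Subset.antisymm hsub
    intro y hy
    obtain ⟨hyM, hyN⟩ := hy
    -- the key double sum
    have hkey : ∀ x : G, ∑ χ : IrrCharacter G, (∑ n : N, χ.1 (x * (n : G))) * conj (χ.1 g) =
        ((Finset.univ.filter (fun n : N => IsConj (x * (n : G)) g)).card : ℂ) *
          (Nat.card (Subgroup.centralizer ({g} : Set G)) : ℂ) := by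
      intro x
      simp_rw [Finset.sum_mul]
      rw [Finset.sum_comm]
      simp_rw [irr_sum_mul_conj]
      rw [← Finset.sum_filter, Finset.sum_const, nsmul_eq_mul]
    -- F(x) := Σ_χ with N in kernel
    have hF : ∀ x : G, x ∈ M → x ∉ N →
        ∑ χ : IrrCharacter G, (∑ n : N, χ.1 (x * (n : G))) * conj (χ.1 g) =
        (Fintype.card N : ℂ) * ∑ χ : IrrCharacter G, χ.1 g * conj (χ.1 g) := by
      intro x hxM hxN
      rw [Finset.mul_sum]
      apply Finset.sum_congr rfl
      intro χ _
      by_cases hker : ∀ z ∈ N, χ.1 z = χ.1 1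
      · have h1 := (irr_normal_avg χ N).1 hker x
        have h2 : ∀ n : N, χ.1 (x * (n : G)) = χ.1 x := fun n => h1 n n.2
        simp_rw [h2]
        rw [Finset.sum_const, Finset.card_univ, nsmul_eq_mul, ha χ hker x hxM hxN g hgM hgN]
        ring
      · push Not at hker
        rw [(irr_normal_avg χ N).2 hker x, hb χ hker]
        simp
    have horth := irr_sum_mul_conj g g
    rw [if_pos (IsConj.refl g)] at horth
    have hcne : (Nat.card (Subgroup.centralizer ({g} : Set G)) : ℂ) ≠ 0 :=
      Nat.cast_ne_zero.mpr Nat.card_pos.ne'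
    have h1 := hkey y
    rw [hF y hyM hyN, horth] at h1
    have h2 : ((Finset.univ.filter (fun n : N => IsConj (y * (n : G)) g)).card : ℂ) = (Fintype.card N : ℂ) :=
      (mul_right_cancel₀ hcne h1).symm
    have h3 : (Finset.univ.filter (fun n : N => IsConj (y * (n : G)) g)).card = Fintype.card N := by
      exact_mod_cast h2
    have h4 : Finset.univ.filter (fun n : N => IsConj (y * (n : G)) g) = Finset.univ := by
      apply Finset.eq_univ_of_card
      exact h3
    have h5 : (1 : N) ∈ Finset.univ.filter (fun n : N => IsConj (y * (n : G)) g) := by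
      rw [h4]; exact Finset.mem_univ _
    rw [Finset.mem_filter] at h5
    have h6 : IsConj y g := by simpa using h5.2
    exact h6.symm

/-- Let N < M be normal subgroups of the finite group G and g ∈ M ∖ N. Then the conjugacy class of g is exactly M ∖ N if and only if every irreducible complex character of G whose kernel contains N takes the same value at all elements of M ∖ N, and every irreducible complex character of G whose kernel does not contain N vanishes at g. -/
theorem result {G : Type*} [Group G] [Finite G] (N M : Subgroup G) [N.Normal] [M.Normal] (hNM : N < M) (g : G) (hgM : g ∈ M) (hgN : g ∉ N) : {h : G | IsConj g h} = (M : Set G) \ (N : Set G) ↔ ((∀ χ : Cfsg.IrrCharacter G, (∀ x ∈ N, (χ : G → ℂ) x = (χ : G → ℂ) 1) → ∀ x ∈ M, x ∉ N → ∀ y ∈ M, y ∉ N → (χ : G → ℂ) x = (χ : G → ℂ) y) ∧ (∀ χ : Cfsg.IrrCharacter G, (∃ x ∈ N, (χ : G → ℂ) x ≠ (χ : G → ℂ) 1) → (χ : G → ℂ) g = 0)) := by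
  exact class_eq_diff_iff N M hNM g hgM hgN

end Cfsg.Agent.S4802
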