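import Cfsg.Statements.S4814
import Cfsg.Agent.Lib.Helper8.CharAvg

set_option autoImplicit false
open Cfsg

namespace Cfsg.Agent.S4814

/-- Let G be a finite group such that the sum, over the irreducible complex characters χ of G, of 1/χ(1)² is less than 2. Then every element of G is a product of two commutators. -/
theorem result {G : Type*} [Group G] [Finite G]
    (h : ∑ᶠ χ : Cfsg.IrrCharacter G, 1 / ‖(χ : G → ℂ) 1‖ ^ 2 < (2 : ℝ)) (g : G) :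
    ∃ a b c d : G, (a * b * a⁻¹ * b⁻¹) * (c * d * c⁻¹ * d⁻¹) = g := by
  classical
  open Cfsg.Agent.Lib.Helper8 in
  have : Fintype G := Fintype.ofFinite G
  have := irr_finite (G := G)
  have : Fintype (IrrCharacter G) := Fintype.ofFinite _
  rw [finsum_eq_sum_of_fintype] at h
  have hcount := two_commutator_count g
  have hGne : (Nat.card G : ℂ) ≠ 0 := Nat.cast_ne_zero.mpr Nat.card_pos.ne'
  set χ₀ : IrrCharacter G := ⟨fun _ => (1 : ℂ), principal_isIrrCharacter⟩ with hχ₀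
  -- bound on the values
  have hbound : ∀ ψ : IrrCharacter G, ‖ψ.1 g / ψ.1 1 ^ 3‖ ≤ 1 / ‖ψ.1 1‖ ^ 2 := by
    intro ψ
    have h1 : ‖ψ.1 g‖ ≤ ‖ψ.1 1‖ := by
      obtain ⟨n, ρ, hρ, hρψ⟩ := ψ.2
      rw [← hρψ, Representation.char_one]
      simp only [Complex.norm_natCast]
      exact norm_character_le ρ g
    have h2 : 0 < ‖ψ.1 1‖ := norm_pos_iff.mpr (irr_one_ne_zero ψ)
    rw [norm_div, norm_pow, div_le_div_iff₀ (pow_pos h2 3) (pow_pos h2 2)]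
    calc ‖ψ.1 g‖ * ‖ψ.1 1‖ ^ 2 ≤ ‖ψ.1 1‖ * ‖ψ.1 1‖ ^ 2 :=
          mul_le_mul_of_nonneg_right h1 (pow_nonneg h2.le 2)
      _ = 1 * ‖ψ.1 1‖ ^ 3 := by ring
  have hsumne : ∑ ψ : IrrCharacter G, ψ.1 g / ψ.1 1 ^ 3 ≠ 0 := by
    intro h0
    rw [← Finset.add_sum_erase Finset.univ _ (Finset.mem_univ χ₀)] at h0 h
    have h1 : χ₀.1 g / χ₀.1 1 ^ 3 = 1 := by simp [hχ₀]
    have h2 : (1 : ℝ) / ‖χ₀.1 1‖ ^ 2 = 1 := by simp [hχ₀]
    rw [h1] at h0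
    rw [h2] at h
    have h3 : ‖∑ ψ ∈ Finset.univ.erase χ₀, ψ.1 g / ψ.1 1 ^ 3‖ = 1 := by
      have : ∑ ψ ∈ Finset.univ.erase χ₀, ψ.1 g / ψ.1 1 ^ 3 = -1 := by
        linear_combination h0
      rw [this]; simp
    have h4 : ‖∑ ψ ∈ Finset.univ.erase χ₀, ψ.1 g / ψ.1 1 ^ 3‖ ≤
        ∑ ψ ∈ Finset.univ.erase χ₀, 1 / ‖ψ.1 1‖ ^ 2 :=
      (norm_sum_le _ _).trans (Finset.sum_le_sum (fun ψ _ => hbound ψ))
    linarith
  have hne : (Finset.univ.filter (fun p : (G × G) × (G × G) =>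
      (p.1.1 * p.1.2 * p.1.1⁻¹ * p.1.2⁻¹) * (p.2.1 * p.2.2 * p.2.1⁻¹ * p.2.2⁻¹) = g)).card ≠ 0 := by
    intro h0
    rw [h0] at hcount
    simp only [Nat.cast_zero] at hcount
    rcases mul_eq_zero.mp hcount.symm with h5 | h5
    · exact hGne (pow_eq_zero_iff (by norm_num) |>.mp h5)
    · exact hsumne h5
  obtain ⟨p, hp⟩ := Finset.card_ne_zero.mp hne
  simp only [Finset.mem_filter, Finset.mem_univ, true_and] at hp
  exact ⟨p.1.1, p.1.2, p.2.1, p.2.2, hp⟩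

end Cfsg.Agent.S4814
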