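import Cfsg.Statements.S4859
import Cfsg.Agent.Lib.Helper8.FrobSchur

set_option autoImplicit false
open Cfsg

namespace Cfsg.Agent.S4859

open Cfsg.Agent.Lib.Helper8
theorem not_square_aux {G : Type*} [Group G] [Finite G] (p : ℕ) [Fact p.Prime] (hp : p ≠ 2)
    (x : G) (hx : ∃ k : ℕ, orderOf x = p ^ k)
    (heven : Even (Nat.card (Subgroup.centralizer ({x} : Set G)))) (y : G)
    (hy : y ∈ Subgroup.centralizer ({x} : Set G)) (hy2 : ∃ k : ℕ, orderOf y = 2 ^ k)
    (hmax : ∀ z ∈ Subgroup.centralizer ({x} : Set G), (∃ k : ℕ, orderOf z = 2 ^ k) →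
      orderOf z ≤ orderOf y) : ¬ ∃ u : G, u * u = x * y := by
  rintro ⟨u, hu⟩
  obtain ⟨k, hk⟩ := hx
  obtain ⟨j, hj⟩ := hy2
  have hxy : Commute x y := Subgroup.mem_centralizer_iff.mp hy x rfl
  have hpodd : Odd p := (Fact.out : p.Prime).odd_of_ne_two hp
  have hnodd : Odd (orderOf x) := by rw [hk]; exact hpodd.pow
  have hcop : Nat.Coprime (2 ^ j) (orderOf x) :=
    Nat.Coprime.pow_left j (Nat.coprime_two_left.mpr hnodd)
  have hc1 : Commute u (x * y) := by
    rw [← hu]; exact (Commute.refl u).mul_right (Commute.refl u)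
  have hpow : (x * y) ^ (2 ^ j) = x ^ (2 ^ j) := by
    rw [hxy.mul_pow, ← hj, pow_orderOf_eq_one, mul_one]
  obtain ⟨s, hs⟩ := exists_pow_eq_self_of_coprime hcop
  have hux : Commute u x := by
    have := (hc1.pow_right (2 ^ j)).pow_right s
    rwa [hpow, hs] at this
  obtain ⟨n, hn⟩ : ∃ n, n = orderOf x := ⟨_, rfl⟩
  have hN0 : orderOf u ≠ 0 := (orderOf_pos u).ne'
  obtain ⟨a, m, hmodd, hNm⟩ := Nat.exists_eq_two_pow_mul_odd hN0
  obtain ⟨t, ht⟩ : ∃ t, t = n * m := ⟨_, rfl⟩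
  have htodd : Odd t := by rw [ht, hn]; exact hnodd.mul hmodd
  obtain ⟨v, hv⟩ : ∃ v, v = u ^ t := ⟨_, rfl⟩
  have hvC : v ∈ Subgroup.centralizer ({x} : Set G) := by
    rw [Subgroup.mem_centralizer_iff]
    intro h hh
    rw [Set.mem_singleton_iff.mp hh, hv]
    exact ((hux.pow_left t).eq).symm
  have hvv : v * v = y ^ t := by
    rw [hv, ← (Commute.refl u).mul_pow, hu, hxy.mul_pow]
    have : x ^ t = 1 := by rw [ht, hn, pow_mul, pow_orderOf_eq_one, one_pow]
    rw [this, one_mul]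
  have hoy : orderOf (y ^ t) = orderOf y := by
    apply Nat.Coprime.orderOf_pow
    rw [hj]
    exact Nat.Coprime.pow_left j (Nat.coprime_two_left.mpr htodd)
  have hv2a : v ^ (2 ^ a) = 1 := by
    rw [hv, ← pow_mul, ht]
    have : n * m * 2 ^ a = orderOf u * n := by rw [hNm]; ring
    rw [this, pow_mul, pow_orderOf_eq_one, one_pow]
  obtain ⟨b, hb, hvb⟩ := (Nat.dvd_prime_pow Nat.prime_two).mp (orderOf_dvd_of_pow_eq_one hv2a)
  have hle : orderOf v ≤ orderOf y := hmax v hvC ⟨b, hvb⟩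
  have hoy2 : orderOf y = orderOf (v ^ 2) := by rw [pow_two, hvv, hoy]
  rcases Nat.eq_zero_or_pos b with hb0 | hbpos
  · -- v = 1, so y = 1, contradiction via Cauchy
    rw [hb0, pow_zero] at hvb
    have hv1 : v = 1 := orderOf_eq_one_iff.mp hvb
    have hy1 : orderOf y = 1 := by rw [hoy2, hv1, one_pow, orderOf_one]
    haveI : Fintype ↥(Subgroup.centralizer ({x} : Set G)) := Fintype.ofFinite _
    have h2 : 2 ∣ Fintype.card ↥(Subgroup.centralizer ({x} : Set G)) := by
      rw [← Nat.card_eq_fintype_card]; exact heven.two_dvd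
    obtain ⟨z, hz⟩ := exists_prime_orderOf_dvd_card 2 h2
    have hz' : orderOf (z : G) = 2 := by rw [Subgroup.orderOf_coe]; exact hz
    have := hmax z z.2 ⟨1, by rw [hz', pow_one]⟩
    rw [hz', hy1] at this
    omega
  · obtain ⟨b', rfl⟩ : ∃ b', b = b' + 1 := ⟨b - 1, by omega⟩
    have h1 : (v ^ 2) ^ (2 ^ b') = 1 := by
      rw [← pow_mul, ← pow_succ', ← hvb, pow_orderOf_eq_one]
    have h2 : orderOf (v ^ 2) ≤ 2 ^ b' :=
      Nat.le_of_dvd (by positivity) (orderOf_dvd_of_pow_eq_one h1)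
    rw [hvb, hoy2] at hle
    have h3 : 2 ^ b' < 2 ^ (b' + 1) := Nat.pow_lt_pow_right (by norm_num) (by omega)
    omega

/-- Let p be an odd prime, G a finite group and x an element of G whose order is a power of p (possibly 1) and whose centralizer has even order. Let y be a 2-element of the centralizer of x whose order is largest among the 2-elements of that centralizer. Then x * y is not a square in G, and some non-principal real-valued irreducible character of G does not vanish at x * y. -/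
theorem result {G : Type*} [Group G] [Finite G] (p : ℕ) [Fact p.Prime] (hp : p ≠ 2) (x : G) (hx : ∃ k : ℕ, orderOf x = p ^ k) (heven : Even (Nat.card (Subgroup.centralizer ({x} : Set G)))) (y : G) (hy : y ∈ Subgroup.centralizer ({x} : Set G)) (hy2 : ∃ k : ℕ, orderOf y = 2 ^ k) (hmax : ∀ z ∈ Subgroup.centralizer ({x} : Set G), (∃ k : ℕ, orderOf z = 2 ^ k) → orderOf z ≤ orderOf y) : (¬ ∃ u : G, u * u = x * y) ∧ ∃ χ : Cfsg.IrrCharacter G, ¬ ((χ : G → ℂ) = fun _ => (1 : ℂ)) ∧ (∀ g : G, ((χ : G → ℂ) g).im = 0) ∧ (χ : G → ℂ) (x * y) ≠ 0 := by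
  have hns := not_square_aux p hp x hx heven y hy hy2 hmax
  exact ⟨hns, exists_real_nonvanishing (x * y) hns⟩

end Cfsg.Agent.S4859
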