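import Cfsg.Statements.S4866
import Cfsg.Agent.Lib.Helper8.OrbitCount
import Cfsg.Agent.Lib.Helper8.CharPerm
import Cfsg.Agent.Lib.Helper8.CharClifford
import Cfsg.Agent.Lib.Helper8.CharComplete2
import Cfsg.Agent.Lib.Helper8.CharAvg

set_option autoImplicit false
open Cfsg

namespace Cfsg.Agent.S4866

open Cfsg.Agent.Lib.Helper8
open scoped ComplexConjugate

/-- conjugation on the normal subgroup `K` by `g`. -/
def cj {G : Type*} [Group G] (K : Subgroup G) [hK : K.Normal] (g : G) (k : K) : K :=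
  ⟨g * k * g⁻¹, hK.conj_mem k k.2 g⟩

theorem cj_mul {G : Type*} [Group G] (K : Subgroup G) [hK : K.Normal] (a b : G) (k : K) :
    cj K (a * b) k = cj K a (cj K b k) := by
  apply Subtype.ext; simp only [cj]; group

theorem cj_one {G : Type*} [Group G] (K : Subgroup G) [hK : K.Normal] (k : K) :
    cj K 1 k = k := by
  apply Subtype.ext; simp [cj]

theorem cj_inv {G : Type*} [Group G] (K : Subgroup G) [hK : K.Normal] (g : G) (k : K) :
    cj K g k⁻¹ = (cj K g k)⁻¹ := by
  apply Subtype.ext; simp only [cj, Subgroup.coe_inv]; group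

theorem cj_isConj {G : Type*} [Group G] (K : Subgroup G) [hK : K.Normal] (g : G) {k k' : K}
    (h : IsConj k k') : IsConj (cj K g k) (cj K g k') := by
  obtain ⟨c, hc⟩ := isConj_iff.mp h
  refine isConj_iff.mpr ⟨cj K g c, ?_⟩
  apply Subtype.ext
  have := congrArg Subtype.val hc
  simp only [Subgroup.coe_mul, Subgroup.coe_inv] at this
  simp only [cj, Subgroup.coe_mul, Subgroup.coe_inv]
  rw [← this]; group

theorem cj_mem {G : Type*} [Group G] (K : Subgroup G) [hK : K.Normal] {m : G} (hm : m ∈ K) (k : K) :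
    IsConj (cj K m k) k := by
  refine isConj_iff.mpr ⟨⟨m, hm⟩⁻¹, ?_⟩
  apply Subtype.ext
  simp only [cj, Subgroup.coe_mul, Subgroup.coe_inv, inv_inv]
  group

theorem isConj_inv_inv {H : Type*} [Group H] {a b : H} (h : IsConj a b) : IsConj a⁻¹ b⁻¹ := by
  obtain ⟨c, hc⟩ := isConj_iff.mp h
  refine isConj_iff.mpr ⟨c, ?_⟩
  rw [← hc]; group

theorem cj_even {G : Type*} [Group G] (K : Subgroup G) [hK : K.Normal] (g : G) (k : K)
    (h : IsConj (cj K g k) k⁻¹) (j : ℕ) : IsConj (cj K (g ^ (2 * j)) k) k := by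
  have h2 : IsConj (cj K (g ^ 2) k) k := by
    rw [pow_two, cj_mul]
    have h1 := cj_isConj K g h
    rw [cj_inv] at h1
    have h3 := isConj_inv_inv h
    rw [inv_inv] at h3
    exact h1.trans h3
  induction j with
  | zero => simp only [Nat.mul_zero, pow_zero]; rw [cj_one]
  | succ j ih =>
    have : g ^ (2 * (j + 1)) = g ^ (2 * j) * g ^ 2 := by rw [← pow_add, Nat.mul_succ]
    rw [this, cj_mul]
    exact (cj_isConj K (g ^ (2 * j)) h2).trans ih

theorem class_fixed_iff {G : Type*} [Group G] (K : Subgroup G) [hK : K.Normal] (hodd : Odd K.index)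
    (g : G) (k : K) :
    IsConj (cj K g k⁻¹) k ↔ (IsConj k k⁻¹ ∧ IsConj (cj K g k) k) := by
  constructor
  · intro h
    have h' : IsConj (cj K g k) k⁻¹ := by
      have := isConj_inv_inv h
      rw [cj_inv, inv_inv] at this
      exact this
    obtain ⟨t, ht⟩ := hodd
    have hev := cj_even K g k h' t
    have hn : IsConj (cj K (g ^ K.index) k) k := cj_mem K (K.pow_index_mem g) k
    have hn2 : IsConj (cj K (g ^ K.index) k) k⁻¹ := by
      rw [ht, pow_succ, cj_mul]
      have h1 := cj_isConj K (g ^ (2 * t)) h'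
      rw [cj_inv] at h1
      exact h1.trans (isConj_inv_inv hev)
    have hreal : IsConj k k⁻¹ := hn.symm.trans hn2
    exact ⟨hreal, h'.trans hreal.symm⟩
  · rintro ⟨h1, h2⟩
    rw [cj_inv]
    exact (isConj_inv_inv h2).trans h1.symm

theorem conjChar_conj {G : Type*} [Group G] {K : Subgroup G} (hK : K.Normal) (θ : K → ℂ) (g : G) :
    conjChar hK (fun k => conj (θ k)) g = fun k => conj (conjChar hK θ g k) := rfl

theorem char_even {G : Type*} [Group G] {K : Subgroup G} (hK : K.Normal) (θ : K → ℂ) (g : G)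
    (h : conjChar hK θ g = fun k => conj (θ k)) (j : ℕ) : conjChar hK θ (g ^ (2 * j)) = θ := by
  have h2 : conjChar hK θ (g ^ 2) = θ := by
    rw [pow_two, ← conjChar_mul, h, conjChar_conj, h]
    funext k; simp
  induction j with
  | zero => simp only [Nat.mul_zero, pow_zero]; exact conjChar_one hK θ
  | succ j ih =>
    have : g ^ (2 * (j + 1)) = g ^ (2 * j) * g ^ 2 := by rw [← pow_add, Nat.mul_succ]
    rw [this, ← conjChar_mul, ih, h2]

theorem char_fixed_iff {G : Type*} [Group G] [Finite G] (K : Subgroup G) [hK : K.Normal]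
    (hodd : Odd K.index) (g : G) (χ : IrrCharacter ↥K) :
    (χ.1 ∘ (fun k => cj K g k⁻¹) = χ.1) ↔
      ((∀ k, (χ.1 k).im = 0) ∧ conjChar hK χ.1 g = χ.1) := by
  have hcls := isClassFunction_of_isCharacter (irr_isCharacter χ.2)
  constructor
  · intro h
    have h' : conjChar hK χ.1 g = fun k => conj (χ.1 k) := by
      funext k
      have := congrFun h k⁻¹
      simp only [Function.comp_apply, inv_inv] at this
      rw [irr_inv] at this
      exact this
    obtain ⟨t, ht⟩ := hodd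
    have hev := char_even hK χ.1 g h' t
    have hn : conjChar hK χ.1 (g ^ K.index) = χ.1 := by
      funext k
      have := hcls k ⟨g ^ K.index, K.pow_index_mem g⟩
      rw [← this]
      rfl
    have hn2 : conjChar hK χ.1 (g ^ K.index) = fun k => conj (χ.1 k) := by
      rw [ht, pow_succ, ← conjChar_mul, hev, h']
    have hreal : ∀ k, conj (χ.1 k) = χ.1 k := by
      intro k
      have := congrFun (hn2.symm.trans hn) k
      exact this
    refine ⟨fun k => Complex.conj_eq_iff_im.mp (hreal k), ?_⟩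
    rw [h']
    funext k; exact hreal k
  · rintro ⟨h1, h2⟩
    funext k
    simp only [Function.comp_apply]
    rw [cj_inv, irr_inv]
    have := congrFun h2 k
    have e : cj K g k = ⟨g * k * g⁻¹, hK.conj_mem k k.2 g⟩ := rfl
    rw [e]
    rw [conjChar_apply] at this
    rw [this]
    exact Complex.conj_eq_iff_im.mpr (h1 k)

theorem main {G : Type*} [Group G] [Finite G] (K : Subgroup G) [hK : K.Normal] (hodd : Odd K.index) :
    Nat.card (Quot (fun θ η : {θ : Cfsg.IrrCharacter ↥K // (∀ k : ↥K, ((θ : ↥K → ℂ) k).im = 0)} =>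
      ∃ g : G, ∀ k k' : ↥K, (k' : G) = g * (k : G) * g⁻¹ → (η.1 : ↥K → ℂ) k' = (θ.1 : ↥K → ℂ) k)) =
    Nat.card (Quot (fun x y : {x : ↥K // IsConj x x⁻¹} => ∃ g : G, (y.1 : G) = g * x.1 * g⁻¹)) := by
  classical
  haveI := irr_finite (G := ↥K)
  -- the two actions
  let act₁ : G → {θ : Cfsg.IrrCharacter ↥K // (∀ k : ↥K, ((θ : ↥K → ℂ) k).im = 0)} →
      {θ : Cfsg.IrrCharacter ↥K // (∀ k : ↥K, ((θ : ↥K → ℂ) k).im = 0)} := fun g θ =>
    ⟨⟨conjChar hK θ.1.1 g⁻¹, conjChar_irr hK θ.1.2 g⁻¹⟩, fun k => θ.2 _⟩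
  have hreal₂ : ∀ (g : G) (C : {C : ConjClasses ↥K // ∀ k : ↥K, ConjClasses.mk k = C → IsConj k k⁻¹}),
      ∀ k : ↥K, ConjClasses.mk k = ConjClasses.map (MulAut.conjNormal g : MulAut ↥K).toMonoidHom C.1 →
        IsConj k k⁻¹ := by
    intro g C k hk
    obtain ⟨k₀, hk₀⟩ := ConjClasses.exists_rep C.1
    rw [← hk₀] at hk
    have h1 : IsConj k (cj K g k₀) := ConjClasses.mk_eq_mk_iff_isConj.mp hk
    have h2 : IsConj k₀ k₀⁻¹ := C.2 k₀ hk₀
    have h3 := cj_isConj K g h2
    rw [cj_inv] at h3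
    exact (h1.trans h3).trans (isConj_inv_inv h1).symm
  let act₂ : G → {C : ConjClasses ↥K // ∀ k : ↥K, ConjClasses.mk k = C → IsConj k k⁻¹} →
      {C : ConjClasses ↥K // ∀ k : ↥K, ConjClasses.mk k = C → IsConj k k⁻¹} := fun g C =>
    ⟨ConjClasses.map (MulAut.conjNormal g : MulAut ↥K).toMonoidHom C.1, hreal₂ g C⟩
  have hact₂ : ∀ (g : G) (k : ↥K) (h : ∀ k' : ↥K, ConjClasses.mk k' = ConjClasses.mk k → IsConj k' k'⁻¹),
      (act₂ g ⟨ConjClasses.mk k, h⟩).1 = ConjClasses.mk (cj K g k) := fun g k h => rfl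
  have h1₁ : ∀ θ, act₁ 1 θ = θ := by
    intro θ
    apply Subtype.ext; apply Subtype.ext
    show conjChar hK θ.1.1 1⁻¹ = θ.1.1
    rw [inv_one, conjChar_one]
  have hmul₁ : ∀ g h θ, act₁ (g * h) θ = act₁ g (act₁ h θ) := by
    intro g h θ
    apply Subtype.ext; apply Subtype.ext
    show conjChar hK θ.1.1 (g * h)⁻¹ = conjChar hK (conjChar hK θ.1.1 h⁻¹) g⁻¹
    rw [conjChar_mul, mul_inv_rev]
  have h1₂ : ∀ C, act₂ 1 C = C := by
    intro C
    obtain ⟨k₀, hk₀⟩ := ConjClasses.exists_rep C.1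
    apply Subtype.ext
    obtain ⟨C, hC⟩ := C
    subst hk₀
    rw [hact₂, cj_one]
  have hmul₂ : ∀ g h C, act₂ (g * h) C = act₂ g (act₂ h C) := by
    intro g h C
    obtain ⟨k₀, hk₀⟩ := ConjClasses.exists_rep C.1
    apply Subtype.ext
    obtain ⟨C, hC⟩ := C
    subst hk₀
    rw [hact₂, cj_mul]
    rfl
  -- fixed point counts
  have hfix : ∀ g : G, Nat.card {θ : {θ : Cfsg.IrrCharacter ↥K // (∀ k : ↥K, ((θ : ↥K → ℂ) k).im = 0)} //
        act₁ g θ = θ} =
      Nat.card {C : {C : ConjClasses ↥K // ∀ k : ↥K, ConjClasses.mk k = C → IsConj k k⁻¹} //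
        act₂ g C = C} := by
    intro g
    have hP := perm_lemma (G := ↥K) (fun k => cj K g k⁻¹)
      (fun k h hkh => cj_isConj K g (isConj_inv_inv hkh))
      (fun χ => by
        have h1 : χ.1 ∘ (fun k => cj K g k⁻¹) = fun k => conj (conjChar hK χ.1 g k) := by
          funext k
          simp only [Function.comp_apply]
          rw [cj_inv, irr_inv]
          rfl
        rw [h1]
        exact irr_conj (conjChar_irr hK χ.2 g))
    have e₁ : {θ : {θ : Cfsg.IrrCharacter ↥K // (∀ k : ↥K, ((θ : ↥K → ℂ) k).im = 0)} // act₁ g θ = θ} ≃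
        {χ : Cfsg.IrrCharacter ↥K // χ.1 ∘ (fun k => cj K g k⁻¹) = χ.1} :=
      { toFun := fun θ => ⟨θ.1.1, (char_fixed_iff K hodd g θ.1.1).mpr ⟨θ.1.2, by
          have h := congrArg (fun x => x.1.1) θ.2
          have h' : conjChar hK θ.1.1.1 g⁻¹ = θ.1.1.1 := h
          have := congrArg (fun f => conjChar hK f g) h'
          beta_reduce at this
          rw [conjChar_mul, inv_mul_cancel, conjChar_one] at this
          exact this.symm⟩⟩
        invFun := fun χ => ⟨⟨χ.1, ((char_fixed_iff K hodd g χ.1).mp χ.2).1⟩, by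
          apply Subtype.ext; apply Subtype.ext
          show conjChar hK χ.1.1 g⁻¹ = χ.1.1
          have h := ((char_fixed_iff K hodd g χ.1).mp χ.2).2
          have := congrArg (fun f => conjChar hK f g⁻¹) h
          beta_reduce at this
          rw [conjChar_mul, mul_inv_cancel, conjChar_one] at this
          exact this.symm⟩
        left_inv := fun θ => rfl
        right_inv := fun χ => rfl }
    have e₂ : {C : {C : ConjClasses ↥K // ∀ k : ↥K, ConjClasses.mk k = C → IsConj k k⁻¹} // act₂ g C = C} ≃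
        {C : ConjClasses ↥K // ∀ k : ↥K, ConjClasses.mk k = C → IsConj (cj K g k⁻¹) k} :=
      { toFun := fun C => ⟨C.1.1, by
          intro k hk
          rw [class_fixed_iff K hodd]
          refine ⟨C.1.2 k hk, ?_⟩
          have h := congrArg Subtype.val C.2
          obtain ⟨⟨C, hC⟩, hC'⟩ := C
          simp only at hk h
          subst hk
          rw [hact₂] at h
          exact ConjClasses.mk_eq_mk_iff_isConj.mp h⟩
        invFun := fun C => ⟨⟨C.1, fun k hk => ((class_fixed_iff K hodd g k).mp (C.2 k hk)).1⟩, by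
          obtain ⟨C, hC⟩ := C
          obtain ⟨k₀, hk₀⟩ := ConjClasses.exists_rep C
          subst hk₀
          apply Subtype.ext
          rw [hact₂]
          exact ConjClasses.mk_eq_mk_iff_isConj.mpr ((class_fixed_iff K hodd g k₀).mp (hC k₀ rfl)).2⟩
        left_inv := fun C => rfl
        right_inv := fun C => rfl }
    rw [Nat.card_congr e₁, Nat.card_congr e₂, hP]
  have hmain := card_quot_eq_of_fixed act₁ h1₁ hmul₁ act₂ h1₂ hmul₂ hfix
  -- LHS
  have hL : Nat.card (Quot (fun θ η : {θ : Cfsg.IrrCharacter ↥K // (∀ k : ↥K, ((θ : ↥K → ℂ) k).im = 0)} =>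
      ∃ g : G, ∀ k k' : ↥K, (k' : G) = g * (k : G) * g⁻¹ → (η.1 : ↥K → ℂ) k' = (θ.1 : ↥K → ℂ) k)) =
      Nat.card (Quot (fun θ η : {θ : Cfsg.IrrCharacter ↥K // (∀ k : ↥K, ((θ : ↥K → ℂ) k).im = 0)} =>
        ∃ g, act₁ g θ = η)) := by
    apply Nat.card_congr
    refine Quot.congrRight (fun θ η => ?_)
    constructor
    · rintro ⟨g, hg⟩
      refine ⟨g, ?_⟩
      apply Subtype.ext; apply Subtype.ext
      funext k'
      show θ.1.1 ⟨g⁻¹ * k' * g⁻¹⁻¹, _⟩ = η.1.1 k'
      exact (hg ⟨g⁻¹ * k' * g⁻¹⁻¹, hK.conj_mem k' k'.2 g⁻¹⟩ k' (by simp only; group)).symm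
    · rintro ⟨g, hg⟩
      refine ⟨g, ?_⟩
      intro k k' hkk'
      rw [← hg]
      show θ.1.1 ⟨g⁻¹ * k' * g⁻¹⁻¹, _⟩ = θ.1.1 k
      exact congrArg θ.1.1 (Subtype.ext (by simp only; rw [hkk']; group))
  -- RHS
  have hR : Nat.card (Quot (fun x y : {x : ↥K // IsConj x x⁻¹} => ∃ g : G, (y.1 : G) = g * x.1 * g⁻¹)) =
      Nat.card (Quot (fun C D : {C : ConjClasses ↥K // ∀ k : ↥K, ConjClasses.mk k = C → IsConj k k⁻¹} =>
        ∃ g, act₂ g C = D)) := by
    have hfreal : ∀ x : {x : ↥K // IsConj x x⁻¹}, ∀ k : ↥K, ConjClasses.mk k = ConjClasses.mk x.1 →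
        IsConj k k⁻¹ := by
      intro x k hk
      have h1 : IsConj k x.1 := ConjClasses.mk_eq_mk_iff_isConj.mp hk
      exact (h1.trans x.2).trans (isConj_inv_inv h1).symm
    let f : {x : ↥K // IsConj x x⁻¹} →
        {C : ConjClasses ↥K // ∀ k : ↥K, ConjClasses.mk k = C → IsConj k k⁻¹} :=
      fun x => ⟨ConjClasses.mk x.1, hfreal x⟩
    have hf : ∀ x y : {x : ↥K // IsConj x x⁻¹}, (∃ g : G, (y.1 : G) = g * x.1 * g⁻¹) →
        ∃ g, act₂ g (f x) = f y := by
      rintro x y ⟨g, hg⟩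
      refine ⟨g, ?_⟩
      apply Subtype.ext
      show ConjClasses.mk (cj K g x.1) = ConjClasses.mk y.1
      congr 1
      apply Subtype.ext
      exact hg.symm
    have hequiv : Equivalence (fun C D : {C : ConjClasses ↥K // ∀ k : ↥K, ConjClasses.mk k = C →
        IsConj k k⁻¹} => ∃ g, act₂ g C = D) := by
      refine ⟨fun C => ⟨1, h1₂ C⟩, ?_, ?_⟩
      · rintro C D ⟨g, hg⟩
        refine ⟨g⁻¹, ?_⟩
        rw [← hg, ← hmul₂, inv_mul_cancel, h1₂]
      · rintro C D E ⟨g, hg⟩ ⟨h, hh⟩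
        refine ⟨h * g, ?_⟩
        rw [hmul₂, hg, hh]
    apply Nat.card_eq_of_bijective (Quot.map f hf)
    constructor
    · intro p q
      induction p using Quot.ind with | _ x => ?_
      induction q using Quot.ind with | _ y => ?_
      intro h
      have h' : Quot.mk _ (f x) = Quot.mk _ (f y) := h
      have h2 := hequiv.eqvGen_iff.mp (Quot.eqvGen_exact h')
      obtain ⟨g, hg⟩ := h2
      have h3 := congrArg Subtype.val hg
      have h4 : ConjClasses.mk (cj K g x.1) = ConjClasses.mk y.1 := h3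
      obtain ⟨m, hm⟩ := isConj_iff.mp (ConjClasses.mk_eq_mk_iff_isConj.mp h4)
      apply Quot.sound
      refine ⟨(m : G) * g, ?_⟩
      have := congrArg Subtype.val hm
      simp only [Subgroup.coe_mul, Subgroup.coe_inv, cj] at this
      rw [← this]; group
    · intro q
      induction q using Quot.ind with | _ C => ?_
      obtain ⟨k₀, hk₀⟩ := ConjClasses.exists_rep C.1
      refine ⟨Quot.mk _ ⟨k₀, C.2 k₀ hk₀⟩, ?_⟩
      show Quot.mk _ (f ⟨k₀, C.2 k₀ hk₀⟩) = Quot.mk _ C
      congr 1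
      apply Subtype.ext
      exact hk₀
  rw [hL, hR, hmain]

/-- Let K be a normal subgroup of odd index in the finite group G. Then G has as many orbits on the real-valued irreducible complex characters of K (acting by conjugation) as it has orbits on the conjugacy classes of K that are real in K; equivalently, the number of G-orbits of real-valued irreducible characters of K equals the number of G-conjugacy classes of elements of K that are conjugate in K to their inverses. -/
theorem result {G : Type*} [Group G] [Finite G] (K : Subgroup G) [K.Normal] (hodd : Odd K.index) : Nat.card (Quot (fun θ η : {θ : Cfsg.IrrCharacter ↥K // (∀ k : ↥K, ((θ : ↥K → ℂ) k).im = 0)} => ∃ g : G, ∀ k k' : ↥K, (k' : G) = g * (k : G) * g⁻¹ → (η.1 : ↥K → ℂ) k' = (θ.1 : ↥K → ℂ) k)) = Nat.card (Quot (fun x y : {x : ↥K // IsConj x x⁻¹} => ∃ g : G, (y.1 : G) = g * x.1 * g⁻¹)) := by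
  exact main K hodd

end Cfsg.Agent.S4866
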