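import Cfsg.Statements.S4870
import Cfsg.Agent.Lib.Helper8.GlaubOrth
import Cfsg.Agent.Lib.Helper8.CharCliffordCorr
import Cfsg.Agent.Lib.Helper8.CharClassSum
import Cfsg.Agent.Lib.Helper8.CharPerm
import Cfsg.Agent.Lib.Helper8.CharAbelQuot
import Cfsg.Agent.Lib.Helper8.CharExtraspecial
import Cfsg.Agent.Lib.Helper8.CharGallagher
import Cfsg.Agent.Lib.Helper8.CharAvg
import Cfsg.Agent.Lib.Helper8.CharDegree

set_option autoImplicit false
open Cfsg

namespace Cfsg.Agent.S4870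

open Cfsg.Agent.Lib.Helper8
open scoped ComplexConjugate

/-- the product of a linear character with an irreducible character is irreducible -/
theorem lin_mul_irr {G : Type*} [Group G] [Fintype G] (β : IrrCharacter G) (h1 : β.1 1 = 1)
    {ψ : G → ℂ} (hψ : IsIrrCharacter G ψ) : IsIrrCharacter G (β.1 * ψ) := by
  apply isIrrCharacter_of_norm_one (isCharacter_mul (irr_isCharacter β.2) (irr_isCharacter hψ))
  rw [classInner_mul_linear β h1, irr_classInner hψ hψ, if_pos rfl]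

/-- a linear character is trivial on a non-abelian minimal normal subgroup -/
theorem lin_trivial_on_min {G : Type*} [Group G] [Finite G] (N : Subgroup G) (hN : N.Normal)
    (hmin : ∀ M : Subgroup G, M.Normal → M ≤ N → M = ⊥ ∨ M = N) (hna : ¬ IsMulCommutative ↥N)
    (μ : IrrCharacter G) (h1 : μ.1 1 = 1) : ∀ n ∈ N, μ.1 n = 1 := by
  have hmul := linear_char_mul μ h1
  have hinv : ∀ x : G, μ.1 x * μ.1 x⁻¹ = 1 := by
    intro x; rw [← hmul, mul_inv_cancel, h1]
  have hcf : IsClassFunction G μ.1 := isClassFunction_of_isCharacter (irr_isCharacter μ.2)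
  let M : Subgroup G :=
    { carrier := {x | x ∈ N ∧ μ.1 x = 1}
      mul_mem' := by
        rintro a b ⟨ha, ha1⟩ ⟨hb, hb1⟩
        exact ⟨N.mul_mem ha hb, by rw [hmul, ha1, hb1, mul_one]⟩
      one_mem' := ⟨N.one_mem, h1⟩
      inv_mem' := by
        rintro a ⟨ha, ha1⟩
        refine ⟨N.inv_mem ha, ?_⟩
        have := hinv a
        rw [ha1, one_mul] at this
        exact this }
  have hMmem : ∀ x, x ∈ M ↔ x ∈ N ∧ μ.1 x = 1 := fun x => Iff.rfl
  have hMn : M.Normal := by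
    constructor
    intro x hx g
    rw [hMmem] at hx ⊢
    exact ⟨hN.conj_mem x hx.1 g, by rw [hcf x g]; exact hx.2⟩
  have hMN : M ≤ N := fun x hx => ((hMmem x).1 hx).1
  rcases hmin M hMn hMN with h | h
  · exfalso
    apply hna
    refine ⟨⟨fun a b => ?_⟩⟩
    have hc : (a : G) * b * (a : G)⁻¹ * (b : G)⁻¹ ∈ M := by
      rw [hMmem]
      refine ⟨N.mul_mem (N.mul_mem (N.mul_mem a.2 b.2) (N.inv_mem a.2)) (N.inv_mem b.2), ?_⟩
      rw [hmul, hmul, hmul]
      have e1 := hinv (a : G)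
      have e2 := hinv (b : G)
      linear_combination (μ.1 (b : G) * μ.1 (b : G)⁻¹) * e1 + e2
    rw [h, Subgroup.mem_bot] at hc
    apply Subtype.ext
    show (a : G) * b = b * a
    have : (a : G) * b = ((a : G) * b * (a : G)⁻¹ * (b : G)⁻¹) * (b * a) := by group
    rw [this, hc, one_mul]
  · intro n hn
    have : n ∈ M := by rw [h]; exact hn
    exact ((hMmem n).1 this).2

/-- the number of linear characters trivial on a subgroup is at most its index -/
theorem card_lin_trivial_le_index {G : Type*} [Group G] [Fintype G] [Fintype (IrrCharacter G)]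
    [DecidableEq (IrrCharacter G)]
    (I : Subgroup G) [Fintype I] (T : Finset (IrrCharacter G))
    (hT : ∀ μ ∈ T, ∀ x ∈ I, μ.1 x = 1) : T.card ≤ I.index := by
  have hΨ : IsCharacter G (indFun I (fun _ : I => (1 : ℂ))) :=
    isCharacter_indFun I (irr_isCharacter principal_isIrrCharacter)
  obtain ⟨m, hm⟩ := isCharacter_decomp hΨ
  have hΨeq : indFun I (fun _ : I => (1 : ℂ)) = fun g => ∑ ψ : IrrCharacter G, (m ψ : ℂ) * ψ.1 g :=
    funext hm
  have hmμ : ∀ μ ∈ T, m μ = 1 := by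
    intro μ hμ
    have h1 : classInner (indFun I (fun _ : I => (1 : ℂ))) μ.1 = (m μ : ℂ) := by
      rw [hΨeq]; exact classInner_comb_irr (fun ψ => (m ψ : ℂ)) μ
    rw [frobenius_reciprocity I _ μ.1 (isClassFunction_of_isCharacter (irr_isCharacter μ.2))] at h1
    have h2 : (fun h : I => μ.1 (h : G)) = fun _ => (1 : ℂ) := by
      funext h; exact hT μ hμ h h.2
    rw [h2, irr_classInner principal_isIrrCharacter principal_isIrrCharacter, if_pos rfl] at h1
    exact_mod_cast h1.symm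
  have h1 := hm 1
  rw [indFun_one, mul_one] at h1
  have h2 : (I.index : ℂ) = ((∑ ψ : IrrCharacter G, m ψ * charDegree ψ.1 : ℕ) : ℂ) := by
    rw [h1]
    push_cast
    apply Finset.sum_congr rfl
    intro ψ _
    rw [irr_one_eq_charDegree ψ]
  have h3 : I.index = ∑ ψ : IrrCharacter G, m ψ * charDegree ψ.1 := by exact_mod_cast h2
  rw [h3]
  calc T.card = ∑ ψ ∈ T, 1 := by simp
    _ ≤ ∑ ψ ∈ T, m ψ * charDegree ψ.1 := by
        apply Finset.sum_le_sum
        intro ψ hψ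
        rw [hmμ ψ hψ, one_mul]
        have hpos : charDegree ψ.1 ≠ 0 := by
          intro h0
          have := irr_one_eq_charDegree ψ
          rw [h0] at this
          exact irr_one_ne_zero ψ (by simpa using this)
        omega
    _ ≤ ∑ ψ : IrrCharacter G, m ψ * charDegree ψ.1 :=
        Finset.sum_le_sum_of_subset (Finset.subset_univ T)

/-- Let G be a finite group with a non-abelian minimal normal subgroup N, and let φ be an irreducible complex character of N with stabilizer I in G (the elements g with φ(g n g⁻¹) = φ(n) for all n ∈ N) such that φ extends to an irreducible character of I. Put d = φ(1)·[G : I]. Then the number of linear characters of G is at most [G : I] times the number of irreducible characters of G of degree d. -/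
theorem result {G : Type*} [Group G] [Finite G] (N : Subgroup G) (hN : N.Normal) (hN1 : N ≠ ⊥) (hmin : ∀ M : Subgroup G, M.Normal → M ≤ N → M = ⊥ ∨ M = N) (hna : ¬ IsMulCommutative ↥N) (φ : Cfsg.IrrCharacter ↥N) (I : Subgroup G) (hI : ∀ g : G, g ∈ I ↔ ∀ n n' : ↥N, (n' : G) = g * (n : G) * g⁻¹ → (φ : ↥N → ℂ) n' = (φ : ↥N → ℂ) n) (hNI : N ≤ I) (hext : ∃ ψ : Cfsg.IrrCharacter ↥I, ∀ n : ↥N, (ψ : ↥I → ℂ) (Subgroup.inclusion hNI n) = (φ : ↥N → ℂ) n) : Nat.card {χ : Cfsg.IrrCharacter G // Cfsg.charDegree (χ : G → ℂ) = 1} ≤ I.index * Nat.card {χ : Cfsg.IrrCharacter G // Cfsg.charDegree (χ : G → ℂ) = Cfsg.charDegree (φ : ↥N → ℂ) * I.index} := by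
  classical
  haveI : Fintype G := Fintype.ofFinite G
  haveI : Fintype ↥I := Fintype.ofFinite _
  haveI : Fintype ↥N := Fintype.ofFinite _
  haveI : Fintype ↥(N.subgroupOf I) := Fintype.ofFinite _
  haveI : Finite (Cfsg.IrrCharacter G) := irr_finite
  haveI : Fintype (Cfsg.IrrCharacter G) := Fintype.ofFinite _
  haveI : Finite (Cfsg.IrrCharacter ↥I) := irr_finite
  haveI : Fintype (Cfsg.IrrCharacter ↥I) := Fintype.ofFinite _
  haveI hNn : N.Normal := hN
  haveI hN'n : (N.subgroupOf I).Normal := Subgroup.normal_subgroupOf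
  obtain ⟨ψ, hψ⟩ := hext
  -- the inertia group in the form needed
  have hT : ∀ g : G, g ∈ I ↔ ∀ h : N, φ.1 ⟨g * h * g⁻¹, hN.conj_mem h h.2 g⟩ = φ.1 h := by
    intro g
    rw [hI g]
    constructor
    · intro h n; exact h n ⟨g * n * g⁻¹, hN.conj_mem n n.2 g⟩ rfl
    · intro h n n' hn'
      have := h n
      rw [← this]
      exact congrArg φ.1 (Subtype.ext hn')
  obtain ⟨m, hm1, -, hm3, hm4⟩ := clifford_corr_main N I φ.1 φ.2 hT hNI
  -- restriction of ψ to N
  have hψN : (fun n : ↥(N.subgroupOf I) => ψ.1 (n : ↥I)) = subOfFun N I φ.1 := by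
    funext n
    have := hψ ⟨((n : ↥I) : G), Subgroup.mem_subgroupOf.1 n.2⟩
    show ψ.1 (n : ↥I) = φ.1 ⟨((n : ↥I) : G), _⟩
    rw [← this]
    exact congrArg ψ.1 (Subtype.ext rfl)
  have hθ'irr : Cfsg.IsIrrCharacter ↥(N.subgroupOf I) (subOfFun N I φ.1) := subOfFun_irr hNI φ.2
  -- which characters of I are constituents
  have hconst : ∀ ψ' : Cfsg.IrrCharacter ↥I,
      (fun n : ↥(N.subgroupOf I) => ψ'.1 (n : ↥I)) = subOfFun N I φ.1 → m ψ' ≠ 0 := by
    intro ψ' h
    have h1 := hm1 ψ'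
    rw [frobenius_reciprocity _ _ ψ'.1 (isClassFunction_of_isCharacter (irr_isCharacter ψ'.2)), h,
      irr_classInner hθ'irr hθ'irr, if_pos rfl] at h1
    intro h0
    rw [h0] at h1
    simp at h1
  have hmψ : m ψ ≠ 0 := hconst ψ hψN
  obtain ⟨χ₀, hχ₀⟩ : ∃ χ₀ : G → ℂ, χ₀ = Cfsg.indFun I ψ.1 := ⟨_, rfl⟩
  have hχ₀irr : Cfsg.IsIrrCharacter G χ₀ := by
    rw [hχ₀]
    exact isIrrCharacter_of_norm_one (isCharacter_indFun I (irr_isCharacter ψ.2)) (hm3 ψ hmψ)
  have hχ₀one : χ₀ 1 = (I.index : ℂ) * φ.1 1 := by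
    rw [hχ₀, indFun_one]
    congr 1
    have := hψ 1
    rw [← this]
    exact congrArg ψ.1 (Subtype.ext rfl)
  -- key: μ χ₀ = χ₀ implies μ trivial on I
  have hkey : ∀ μ : Cfsg.IrrCharacter G, μ.1 1 = 1 → μ.1 * χ₀ = χ₀ → ∀ x ∈ I, μ.1 x = 1 := by
    intro μ hμ1 hμχ
    have hμN := lin_trivial_on_min N hN hmin hna μ hμ1
    obtain ⟨β, hβ⟩ : ∃ β : Cfsg.IrrCharacter ↥I, β.1 = fun i : ↥I => μ.1 (i : G) :=
      ⟨⟨fun i : ↥I => μ.1 (i : G), irr_of_degree_one (isCharacter_restrict I (irr_isCharacter μ.2))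
        (by simpa using hμ1)⟩, rfl⟩
    have hβ1 : β.1 1 = 1 := by rw [hβ]; simpa using hμ1
    obtain ⟨ψ', hψ'⟩ : ∃ ψ' : Cfsg.IrrCharacter ↥I, ψ'.1 = β.1 * ψ.1 :=
      ⟨⟨β.1 * ψ.1, lin_mul_irr β hβ1 ψ.2⟩, rfl⟩
    have hψ'N : (fun n : ↥(N.subgroupOf I) => ψ'.1 (n : ↥I)) = subOfFun N I φ.1 := by
      rw [← hψN]
      funext n
      rw [hψ', Pi.mul_apply, hβ]
      simp only
      rw [hμN _ (Subgroup.mem_subgroupOf.1 n.2), one_mul]
    have hmψ' : m ψ' ≠ 0 := hconst ψ' hψ'N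
    have hind : Cfsg.indFun I ψ'.1 = χ₀ := by
      have h1 := indFun_mul_restrict I ψ.1
        (isClassFunction_of_isCharacter (irr_isCharacter μ.2))
      rw [← hχ₀] at h1
      have h2 : ψ'.1 = fun n : ↥I => ψ.1 n * μ.1 (n : G) := by
        rw [hψ', hβ]; funext n; rw [Pi.mul_apply, mul_comm]
      rw [h2, h1, mul_comm, hμχ]
    have heq : ψ' = ψ := by
      by_contra hne
      have := hm4 ψ' ψ hmψ' hmψ hne
      rw [hind, ← hχ₀, irr_classInner hχ₀irr hχ₀irr, if_pos rfl] at this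
      exact one_ne_zero this
    have hβψ : β.1 * ψ.1 = ψ.1 := by rw [← hψ', heq]
    have hηN : Cfsg.IsIrrCharacter ↥(N.subgroupOf I) (fun n : ↥(N.subgroupOf I) => ψ.1 (n : ↥I)) := by
      rw [hψN]; exact hθ'irr
    have hβN : ∀ x ∈ N.subgroupOf I, β.1 x = β.1 1 := by
      intro x hx
      rw [hβ1, hβ]
      exact hμN _ (Subgroup.mem_subgroupOf.1 hx)
    have hβtriv := gallagher_injective (N.subgroupOf I) ψ.1 ψ.2 hηN β hβN hβψ
    intro x hx
    have := congrFun hβtriv ⟨x, hx⟩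
    rw [hβ] at this
    exact this
  -- linear characters
  have hdeg1 : ∀ χ : Cfsg.IrrCharacter G, Cfsg.charDegree χ.1 = 1 → χ.1 1 = 1 := by
    intro χ h
    rw [irr_one_eq_charDegree χ, h]; simp
  -- counting
  obtain ⟨d, hd⟩ : ∃ d : ℕ, d = Cfsg.charDegree (φ : ↥N → ℂ) * I.index := ⟨_, rfl⟩
  rw [← hd]
  have hFdeg : ∀ lam : Cfsg.IrrCharacter G, lam.1 1 = 1 →
      Cfsg.charDegree (lam.1 * χ₀) = d := by
    intro lam h1
    have hirr := lin_mul_irr lam h1 hχ₀irr
    have h2 := irr_one_eq_charDegree ⟨lam.1 * χ₀, hirr⟩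
    simp only [Pi.mul_apply] at h2
    rw [h1, one_mul, hχ₀one, irr_one_eq_charDegree φ] at h2
    have h3 : ((I.index * Cfsg.charDegree φ.1 : ℕ) : ℂ) = (Cfsg.charDegree (lam.1 * χ₀) : ℂ) := by
      rw [← h2]; push_cast; ring
    have h4 : I.index * Cfsg.charDegree φ.1 = Cfsg.charDegree (lam.1 * χ₀) := by exact_mod_cast h3
    rw [hd, ← h4, mul_comm]
  rw [Nat.card_eq_fintype_card, Nat.card_eq_fintype_card]
  obtain ⟨F, hF⟩ : ∃ F : {χ : Cfsg.IrrCharacter G // Cfsg.charDegree (χ : G → ℂ) = 1} →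
      {χ : Cfsg.IrrCharacter G // Cfsg.charDegree (χ : G → ℂ) = d},
      ∀ lam, ((F lam).1).1 = lam.1.1 * χ₀ :=
    ⟨fun lam => ⟨⟨lam.1.1 * χ₀, lin_mul_irr lam.1 (hdeg1 lam.1 lam.2) hχ₀irr⟩,
      hFdeg lam.1 (hdeg1 lam.1 lam.2)⟩, fun lam => rfl⟩
  have hcount := Finset.card_le_mul_card_image (f := F) Finset.univ I.index (by
    intro b hb
    obtain ⟨lam₀, -, rfl⟩ := Finset.mem_image.1 hb
    -- the set of linear characters trivial on I
    obtain ⟨T, hTdef⟩ : ∃ T : Finset (Cfsg.IrrCharacter G),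
        T = Finset.univ.filter (fun μ : Cfsg.IrrCharacter G => ∀ x ∈ I, μ.1 x = 1) := ⟨_, rfl⟩
    have hTcard : T.card ≤ I.index := card_lin_trivial_le_index I T (by
      intro μ hμ
      rw [hTdef] at hμ
      exact (Finset.mem_filter.1 hμ).2)
    refine le_trans ?_ hTcard
    have hlam₀1 := hdeg1 lam₀.1 lam₀.2
    have hconj₀ : Cfsg.IsIrrCharacter G (fun g => conj (lam₀.1.1 g)) := irr_conj lam₀.1.2
    -- the map lam ↦ lam * conj lam₀
    have hprodirr : ∀ lam : {χ : Cfsg.IrrCharacter G // Cfsg.charDegree (χ : G → ℂ) = 1},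
        Cfsg.IsIrrCharacter G (lam.1.1 * fun g => conj (lam₀.1.1 g)) :=
      fun lam => lin_mul_irr lam.1 (hdeg1 lam.1 lam.2) hconj₀
    apply Finset.card_le_card_of_injOn
      (fun lam => (⟨lam.1.1 * fun g => conj (lam₀.1.1 g), hprodirr lam⟩ : Cfsg.IrrCharacter G))
    · intro lam hlam
      have hlam' := (Finset.mem_filter.1 (Finset.mem_coe.1 hlam)).2
      have hFeq : lam.1.1 * χ₀ = lam₀.1.1 * χ₀ := by
        rw [← hF lam, ← hF lam₀, hlam']
      rw [Finset.mem_coe, hTdef, Finset.mem_filter]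
      refine ⟨Finset.mem_univ _, ?_⟩
      have hμ1 : (lam.1.1 * fun g => conj (lam₀.1.1 g)) 1 = 1 := by
        rw [Pi.mul_apply, hdeg1 lam.1 lam.2, hlam₀1]; simp
      apply hkey ⟨_, hprodirr lam⟩ hμ1
      funext g
      have e1 := congrFun hFeq g
      simp only [Pi.mul_apply] at e1 ⊢
      have e2 := linear_char_norm lam₀.1 hlam₀1 g
      calc lam.1.1 g * conj (lam₀.1.1 g) * χ₀ g
          = conj (lam₀.1.1 g) * (lam.1.1 g * χ₀ g) := by ring
        _ = conj (lam₀.1.1 g) * (lam₀.1.1 g * χ₀ g) := by rw [e1]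
        _ = (lam₀.1.1 g * conj (lam₀.1.1 g)) * χ₀ g := by ring
        _ = χ₀ g := by rw [e2, one_mul]
    · intro lam _ lam' _ heq
      have h1 : lam.1.1 * (fun g => conj (lam₀.1.1 g)) = lam'.1.1 * fun g => conj (lam₀.1.1 g) :=
        congrArg Subtype.val heq
      apply Subtype.ext
      apply Subtype.ext
      funext g
      have e1 := congrFun h1 g
      simp only [Pi.mul_apply] at e1
      have e2 := linear_char_norm lam₀.1 hlam₀1 g
      calc lam.1.1 g = lam.1.1 g * (lam₀.1.1 g * conj (lam₀.1.1 g)) := by rw [e2, mul_one]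
        _ = (lam.1.1 g * conj (lam₀.1.1 g)) * lam₀.1.1 g := by ring
        _ = (lam'.1.1 g * conj (lam₀.1.1 g)) * lam₀.1.1 g := by rw [e1]
        _ = lam'.1.1 g * (lam₀.1.1 g * conj (lam₀.1.1 g)) := by ring
        _ = lam'.1.1 g := by rw [e2, mul_one])
  rw [Finset.card_univ] at hcount
  refine le_trans hcount ?_
  apply Nat.mul_le_mul_left
  exact le_trans (Finset.card_le_univ _) (le_of_eq rfl)

end Cfsg.Agent.S4870
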