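import Cfsg.Statements.S4911
import Cfsg.Agent.Lib.Helper8.GlaubConj
import Cfsg.Agent.Lib.Helper8.Coherence
import Cfsg.Agent.S4444

set_option autoImplicit false
open Cfsg

namespace Cfsg.Agent.S4911

open Cfsg.Agent.Lib.Helper8
open scoped ComplexConjugate

abbrev PInv {G : Type*} [Group G] (K P : Subgroup G) (θ : ↥K → ℂ) : Prop :=
  ∀ x ∈ P, ∀ k k' : ↥K, (k' : G) = x * (k : G) * x⁻¹ → θ k' = θ k

abbrev GCorr {G : Type*} [Group G] (K C : Subgroup G) [Fintype ↥C] (hCK : C ≤ K) (p : ℕ)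
    (θ : ↥K → ℂ) (β : ↥C → ℂ) : Prop :=
  ∃ m : ℕ, Cfsg.classInner (fun c : ↥C => θ ⟨c, hCK c.2⟩) β = (m : ℂ) ∧ ¬ p ∣ m

noncomputable def cjI {H : Type*} [Group H] [Finite H] (θ : Cfsg.IrrCharacter H) : Cfsg.IrrCharacter H :=
  ⟨fun k => conj (θ.1 k), irr_conj θ.2⟩

theorem cjI_eq_iff {H : Type*} [Group H] [Finite H] (θ : Cfsg.IrrCharacter H) :
    cjI θ = θ ↔ ∀ k, (θ.1 k).im = 0 := by
  constructor
  · intro h k
    have := congrFun (congrArg Subtype.val h) k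
    exact Complex.conj_eq_iff_im.mp this
  · intro h
    apply Subtype.ext
    funext k
    exact Complex.conj_eq_iff_im.mpr (h k)

theorem gcorr_conj {G : Type*} [Group G] [Finite G] (K C : Subgroup G) [Fintype ↥C] (hCK : C ≤ K)
    (p : ℕ) (θ : Cfsg.IrrCharacter ↥K) (β : Cfsg.IrrCharacter ↥C) (h : GCorr K C hCK p θ.1 β.1) :
    GCorr K C hCK p (cjI θ).1 (cjI β).1 := by
  obtain ⟨m, hm, hpm⟩ := h
  refine ⟨m, ?_, hpm⟩
  have := classInner_conjFun_conjFun (fun c : ↥C => θ.1 ⟨c, hCK c.2⟩) β.1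
  rw [hm] at this
  simp only [map_natCast] at this
  exact this

theorem main {G : Type*} [Group G] [Finite G] (p : ℕ) [Fact p.Prime] (P K : Subgroup G) (hP : IsPGroup p ↥P) (hK : ¬ p ∣ Nat.card ↥K) (hPK : P ≤ Subgroup.normalizer (K : Set G)) : Nat.card {θ : Cfsg.IrrCharacter ↥K // (∀ k : ↥K, ((θ : ↥K → ℂ) k).im = 0) ∧ (∀ x ∈ P, ∀ k k' : ↥K, (k' : G) = x * (k : G) * x⁻¹ → (θ : ↥K → ℂ) k' = (θ : ↥K → ℂ) k)} = Nat.card {c : ConjClasses ↥K // (∀ k : ↥K, ConjClasses.mk k = c → IsConj k k⁻¹) ∧ ∀ k : ↥K, ConjClasses.mk k = c → ∀ x ∈ P, ∀ k' : ↥K, (k' : G) = x * (k : G) * x⁻¹ → ConjClasses.mk k' = c} ∧ ((∀ θ : Cfsg.IrrCharacter ↥K, (∀ k : ↥K, ((θ : ↥K → ℂ) k).im = 0) → (∀ x ∈ P, ∀ k k' : ↥K, (k' : G) = x * (k : G) * x⁻¹ → (θ : ↥K → ℂ) k' = (θ : ↥K → ℂ) k)) → ∀ k : ↥K, IsConj k k⁻¹ → ∃ k' : ↥K, IsConj k k' ∧ ∀ x ∈ P, x * (k' : G) * x⁻¹ = (k' : G)) := by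
  classical
  haveI : Fintype G := Fintype.ofFinite G
  haveI : Fintype ↥K := Fintype.ofFinite _
  obtain ⟨C, hCdef⟩ : ∃ C : Subgroup G, C = K ⊓ Subgroup.centralizer (P : Set G) := ⟨_, rfl⟩
  haveI : Fintype ↥C := Fintype.ofFinite _
  have hCK : C ≤ K := by rw [hCdef]; exact inf_le_left
  have hp : p.Prime := Fact.out
  have hnorm : ∀ s ∈ P, ∀ g ∈ K, s * g * s⁻¹ ∈ K :=
    fun s hs g hg => (Subgroup.mem_set_normalizer_iff.mp (hPK hs) g).mp hg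
  have hcopPK : (Nat.card ↥P).Coprime (Nat.card ↥K) := by
    obtain ⟨n, hn⟩ := hP.exists_card_eq
    rw [hn]; exact Nat.Coprime.pow_left n ((Nat.Prime.coprime_iff_not_dvd hp).mpr hK)
  have hsolvP : Group.IsSolvable ↥P := by
    haveI := hP.isNilpotent
    infer_instance
  obtain ⟨hG1, -, hG3, hG4⟩ := Cfsg.Agent.S4444.result K P hnorm hcopPK.symm p hp hP C hCdef hCK
  have hCfix : ∀ c ∈ C, ∀ x ∈ P, x * c * x⁻¹ = c := by
    intro c hc x hx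
    rw [hCdef] at hc
    have := Subgroup.mem_centralizer_iff.mp hc.2 x hx
    rw [this]; group
  have hCmem : ∀ c ∈ K, (∀ x ∈ P, x * c * x⁻¹ = c) → c ∈ C := by
    intro c hc h
    rw [hCdef]
    refine ⟨hc, Subgroup.mem_centralizer_iff.mpr (fun x hx => ?_)⟩
    have := h x hx
    calc x * c = (x * c * x⁻¹) * x := by group
      _ = c * x := by rw [this]
  -- real-ness transfers
  have hInvconj : ∀ θ : Cfsg.IrrCharacter ↥K, PInv K P θ.1 → PInv K P (cjI θ).1 := by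
    intro θ h x hx k k' hkk'
    show conj (θ.1 k') = conj (θ.1 k)
    rw [h x hx k k' hkk']
  have B1 : ∀ (θ : Cfsg.IrrCharacter ↥K) (β : Cfsg.IrrCharacter ↥C), (∀ k, (θ.1 k).im = 0) →
      PInv K P θ.1 → GCorr K C hCK p θ.1 β.1 → ∀ c, (β.1 c).im = 0 := by
    intro θ β hre hinv hcorr
    have h1 := gcorr_conj K C hCK p θ β hcorr
    rw [(cjI_eq_iff θ).mpr hre] at h1
    have := (hG1 θ hinv).unique h1 hcorr
    exact (cjI_eq_iff β).mp this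
  have B2 : ∀ (θ : Cfsg.IrrCharacter ↥K) (β : Cfsg.IrrCharacter ↥C), (∀ c, (β.1 c).im = 0) →
      PInv K P θ.1 → GCorr K C hCK p θ.1 β.1 → ∀ k, (θ.1 k).im = 0 := by
    intro θ β hre hinv hcorr
    have h1 := gcorr_conj K C hCK p θ β hcorr
    rw [(cjI_eq_iff β).mpr hre] at h1
    obtain ⟨m, hm, hpm⟩ := hcorr
    obtain ⟨m', hm', hpm'⟩ := h1
    have := hG3 θ (cjI θ) hinv (hInvconj θ hinv) β m m' hm hpm hm' hpm'
    exact (cjI_eq_iff θ).mp this.symm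
  -- Step A/B: real P-invariant characters of K ↔ real characters of C
  have hAB : Nat.card {θ : Cfsg.IrrCharacter ↥K // (∀ k : ↥K, ((θ : ↥K → ℂ) k).im = 0) ∧ PInv K P θ.1} =
      Nat.card {β : Cfsg.IrrCharacter ↥C // ∀ c : ↥C, (β.1 c).im = 0} := by
    have hex : ∀ θ : {θ : Cfsg.IrrCharacter ↥K // (∀ k : ↥K, ((θ : ↥K → ℂ) k).im = 0) ∧ PInv K P θ.1},
        ∃ β : {β : Cfsg.IrrCharacter ↥C // ∀ c : ↥C, (β.1 c).im = 0}, GCorr K C hCK p θ.1.1 β.1.1 := by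
      intro θ
      obtain ⟨β, hβ, -⟩ := hG1 θ.1 θ.2.2
      exact ⟨⟨β, B1 θ.1 β θ.2.1 θ.2.2 hβ⟩, hβ⟩
    choose f hf using hex
    apply Nat.card_eq_of_bijective f
    constructor
    · intro θ θ' h
      obtain ⟨m, hm, hpm⟩ := hf θ
      obtain ⟨m', hm', hpm'⟩ := hf θ'
      rw [← h] at hm'
      exact Subtype.ext (hG3 θ.1 θ'.1 θ.2.2 θ'.2.2 (f θ).1 m m' hm hpm hm' hpm')
    · intro β
      obtain ⟨χ, hχinv, hχ⟩ := hG4 β.1
      refine ⟨⟨χ, B2 χ β.1 β.2 hχinv hχ, hχinv⟩, ?_⟩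
      exact Subtype.ext ((hG1 χ hχinv).unique (hf ⟨χ, B2 χ β.1 β.2 hχinv hχ, hχinv⟩) hχ)
  -- Step D
  have hKconj : ∀ (k₁ k₂ : ↥K), IsConj k₁ k₂ ↔ ∃ m ∈ K, m * (k₁ : G) * m⁻¹ = k₂ := by
    intro k₁ k₂
    rw [isConj_iff]
    constructor
    · rintro ⟨m, hm⟩
      refine ⟨m, m.2, ?_⟩
      have := congrArg Subtype.val hm
      simpa using this
    · rintro ⟨m, hm, h⟩
      exact ⟨⟨m, hm⟩, Subtype.ext (by simpa using h)⟩
  have hCconj : ∀ (c₁ c₂ : ↥C), IsConj c₁ c₂ ↔ ∃ m ∈ C, m * (c₁ : G) * m⁻¹ = c₂ := by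
    intro k₁ k₂
    rw [isConj_iff]
    constructor
    · rintro ⟨m, hm⟩
      refine ⟨m, m.2, ?_⟩
      have := congrArg Subtype.val hm
      simpa using this
    · rintro ⟨m, hm, h⟩
      exact ⟨⟨m, hm⟩, Subtype.ext (by simpa using h)⟩
  -- fixed point existence in an invariant class
  have hfixpt : ∀ k₀ : ↥K, (∀ x ∈ P, ∀ k' : ↥K, (k' : G) = x * (k₀ : G) * x⁻¹ →
      ConjClasses.mk k' = ConjClasses.mk k₀) →
      ∃ m ∈ K, ∀ a ∈ P, a * (m * (k₀ : G) * m⁻¹) * a⁻¹ = m * (k₀ : G) * m⁻¹ := by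
    intro k₀ hinv
    apply glaub_conj_fix P K hPK hcopPK (Or.inl hsolvP) (k₀ : G)
    intro a ha
    have h1 := hinv a ha ⟨a * (k₀ : G) * a⁻¹, hnorm a ha _ k₀.2⟩ rfl
    have h2 : IsConj k₀ ⟨a * (k₀ : G) * a⁻¹, hnorm a ha _ k₀.2⟩ :=
      (ConjClasses.mk_eq_mk_iff_isConj.mp h1).symm
    obtain ⟨m, hm, hmk⟩ := (hKconj _ _).mp h2
    exact ⟨m, hm, hmk.symm⟩
  have hCtrans : ∀ c₀ ∈ C, ∀ m ∈ K, m * c₀ * m⁻¹ ∈ C → ∃ c ∈ C, c * c₀ * c⁻¹ = m * c₀ * m⁻¹ := by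
    intro c₀ hc₀ m hm hmc
    have := glaub_conj_trans P K hPK hcopPK (Or.inl hsolvP) c₀ (hCfix c₀ hc₀) m hm (hCfix _ hmc)
    rw [← hCdef] at this
    exact this
  have hCD : Nat.card {Cl : ConjClasses ↥C // ∀ c : ↥C, ConjClasses.mk c = Cl → IsConj c⁻¹ c} =
      Nat.card {c : ConjClasses ↥K // (∀ k : ↥K, ConjClasses.mk k = c → IsConj k k⁻¹) ∧
        ∀ k : ↥K, ConjClasses.mk k = c → ∀ x ∈ P, ∀ k' : ↥K, (k' : G) = x * (k : G) * x⁻¹ →
          ConjClasses.mk k' = c} := by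
    have hwell : ∀ Cl : {Cl : ConjClasses ↥C // ∀ c : ↥C, ConjClasses.mk c = Cl → IsConj c⁻¹ c},
        (∀ k : ↥K, ConjClasses.mk k = ConjClasses.map (Subgroup.inclusion hCK) Cl.1 → IsConj k k⁻¹) ∧
        ∀ k : ↥K, ConjClasses.mk k = ConjClasses.map (Subgroup.inclusion hCK) Cl.1 → ∀ x ∈ P,
          ∀ k' : ↥K, (k' : G) = x * (k : G) * x⁻¹ →
          ConjClasses.mk k' = ConjClasses.map (Subgroup.inclusion hCK) Cl.1 := by
      rintro ⟨Cl, hCl⟩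
      obtain ⟨c₀, rfl⟩ := ConjClasses.mk_surjective Cl
      have hc₀ := hCl c₀ rfl
      have hmap : ConjClasses.map (Subgroup.inclusion hCK) (ConjClasses.mk c₀) =
          ConjClasses.mk (Subgroup.inclusion hCK c₀) := rfl
      simp only [hmap]
      have hι : IsConj (Subgroup.inclusion hCK c₀)⁻¹ (Subgroup.inclusion hCK c₀) := by
        have := (Subgroup.inclusion hCK).map_isConj hc₀
        rwa [map_inv] at this
      constructor
      · intro k hk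
        have h1 : IsConj k (Subgroup.inclusion hCK c₀) := ConjClasses.mk_eq_mk_iff_isConj.mp hk
        exact (h1.trans hι.symm).trans (isConj_inv_inv' h1).symm
      · intro k hk x hx k' hkk'
        have h1 : IsConj k (Subgroup.inclusion hCK c₀) := ConjClasses.mk_eq_mk_iff_isConj.mp hk
        obtain ⟨m, hm, hmk⟩ := (hKconj _ _).mp h1
        apply ConjClasses.mk_eq_mk_iff_isConj.mpr
        apply (hKconj _ _).mpr
        refine ⟨x * m * x⁻¹, hnorm x hx m hm, ?_⟩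
        rw [hkk']
        have hmk' : m * (k : G) * m⁻¹ = (c₀ : G) := hmk
        calc x * m * x⁻¹ * (x * (k : G) * x⁻¹) * (x * m * x⁻¹)⁻¹
            = x * (m * (k : G) * m⁻¹) * x⁻¹ := by group
          _ = x * (c₀ : G) * x⁻¹ := by rw [hmk']
          _ = (c₀ : G) := hCfix _ c₀.2 x hx
    apply Nat.card_eq_of_bijective
      (fun Cl => ⟨ConjClasses.map (Subgroup.inclusion hCK) Cl.1, hwell Cl⟩)
    constructor
    · rintro ⟨Cl, hCl⟩ ⟨Cl', hCl'⟩ h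
      obtain ⟨c₀, rfl⟩ := ConjClasses.mk_surjective Cl
      obtain ⟨c₁, rfl⟩ := ConjClasses.mk_surjective Cl'
      have h1 : ConjClasses.mk (Subgroup.inclusion hCK c₀) = ConjClasses.mk (Subgroup.inclusion hCK c₁) :=
        congrArg Subtype.val h
      obtain ⟨m, hm, hmk⟩ := (hKconj _ _).mp (ConjClasses.mk_eq_mk_iff_isConj.mp h1)
      have hmk' : m * (c₀ : G) * m⁻¹ = (c₁ : G) := hmk
      obtain ⟨c, hc, hcc⟩ := hCtrans c₀ c₀.2 m hm (by rw [hmk']; exact c₁.2)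
      apply Subtype.ext
      apply ConjClasses.mk_eq_mk_iff_isConj.mpr
      apply (hCconj _ _).mpr
      exact ⟨c, hc, hcc.trans hmk'⟩
    · rintro ⟨D, hDreal, hDinv⟩
      obtain ⟨k₀, rfl⟩ := ConjClasses.mk_surjective D
      obtain ⟨m, hm, hfix⟩ := hfixpt k₀ (hDinv k₀ rfl)
      have hc₀K : m * (k₀ : G) * m⁻¹ ∈ K := K.mul_mem (K.mul_mem hm k₀.2) (K.inv_mem hm)
      have hc₀C : m * (k₀ : G) * m⁻¹ ∈ C := hCmem _ hc₀K hfix
      have hconj : IsConj k₀ ⟨m * (k₀ : G) * m⁻¹, hc₀K⟩ := (hKconj _ _).mpr ⟨m, hm, rfl⟩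
      have hrealK : IsConj (⟨m * (k₀ : G) * m⁻¹, hc₀K⟩ : ↥K) (⟨m * (k₀ : G) * m⁻¹, hc₀K⟩ : ↥K)⁻¹ :=
        hDreal _ (ConjClasses.mk_eq_mk_iff_isConj.mpr hconj.symm)
      obtain ⟨n, hn, hnk⟩ := (hKconj _ _).mp hrealK
      have hnk' : n * (m * (k₀ : G) * m⁻¹) * n⁻¹ = (m * (k₀ : G) * m⁻¹)⁻¹ := by simpa using hnk
      obtain ⟨c, hc, hcc⟩ := hCtrans _ hc₀C n hn (by rw [hnk']; exact C.inv_mem hc₀C)
      have hrealC : IsConj (⟨m * (k₀ : G) * m⁻¹, hc₀C⟩ : ↥C)⁻¹ ⟨m * (k₀ : G) * m⁻¹, hc₀C⟩ := by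
        apply IsConj.symm
        apply (hCconj _ _).mpr
        refine ⟨c, hc, ?_⟩
        rw [hcc, hnk']
        simp
      refine ⟨⟨ConjClasses.mk ⟨m * (k₀ : G) * m⁻¹, hc₀C⟩, ?_⟩, ?_⟩
      · intro c' hc'
        have h1 : IsConj c' ⟨m * (k₀ : G) * m⁻¹, hc₀C⟩ := ConjClasses.mk_eq_mk_iff_isConj.mp hc'
        exact ((isConj_inv_inv' h1).trans hrealC).trans h1.symm
      · apply Subtype.ext
        show ConjClasses.mk (Subgroup.inclusion hCK ⟨m * (k₀ : G) * m⁻¹, hc₀C⟩) = ConjClasses.mk k₀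
        exact ConjClasses.mk_eq_mk_iff_isConj.mpr hconj.symm
  have hpart1 : Nat.card {θ : Cfsg.IrrCharacter ↥K // (∀ k : ↥K, ((θ : ↥K → ℂ) k).im = 0) ∧
      PInv K P θ.1} = Nat.card {c : ConjClasses ↥K // (∀ k : ↥K, ConjClasses.mk k = c → IsConj k k⁻¹) ∧
        ∀ k : ↥K, ConjClasses.mk k = c → ∀ x ∈ P, ∀ k' : ↥K, (k' : G) = x * (k : G) * x⁻¹ →
          ConjClasses.mk k' = c} := by
    rw [hAB, ← real_classes_eq_real_chars, hCD]
  refine ⟨hpart1, ?_⟩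
  intro hall k hk
  -- all real classes are invariant
  have hcount : Nat.card {c : {c : ConjClasses ↥K // ∀ k : ↥K, ConjClasses.mk k = c → IsConj k⁻¹ k} //
      ∀ k : ↥K, ConjClasses.mk k = c.1 → ∀ x ∈ P, ∀ k' : ↥K, (k' : G) = x * (k : G) * x⁻¹ →
          ConjClasses.mk k' = c.1} =
      Nat.card {c : ConjClasses ↥K // ∀ k : ↥K, ConjClasses.mk k = c → IsConj k⁻¹ k} := by
    rw [real_classes_eq_real_chars]
    have e1 : Nat.card {θ : Cfsg.IrrCharacter ↥K // ∀ k : ↥K, (θ.1 k).im = 0} =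
        Nat.card {θ : Cfsg.IrrCharacter ↥K // (∀ k : ↥K, ((θ : ↥K → ℂ) k).im = 0) ∧ PInv K P θ.1} := by
      apply Nat.card_congr
      apply Equiv.subtypeEquivRight
      intro θ
      exact ⟨fun h => ⟨h, hall θ h⟩, fun h => h.1⟩
    rw [e1, hpart1]
    apply Nat.card_congr
    refine (Equiv.subtypeSubtypeEquivSubtypeInter
      (fun c : ConjClasses ↥K => ∀ k : ↥K, ConjClasses.mk k = c → IsConj k⁻¹ k)
      (fun c : ConjClasses ↥K => ∀ k : ↥K, ConjClasses.mk k = c → ∀ x ∈ P, ∀ k' : ↥K,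
        (k' : G) = x * (k : G) * x⁻¹ → ConjClasses.mk k' = c)).trans ?_
    apply Equiv.subtypeEquivRight
    intro c
    constructor
    · rintro ⟨h1, h2⟩
      exact ⟨fun k hk => (h1 k hk).symm, h2⟩
    · rintro ⟨h1, h2⟩
      exact ⟨fun k hk => (h1 k hk).symm, h2⟩
  have hkreal : ∀ k' : ↥K, ConjClasses.mk k' = ConjClasses.mk k → IsConj k'⁻¹ k' := by
    intro k' hk'
    have h1 : IsConj k' k := ConjClasses.mk_eq_mk_iff_isConj.mp hk'
    exact ((isConj_inv_inv' h1).trans hk.symm).trans h1.symm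
  have hinvk : ∀ k'' : ↥K, ConjClasses.mk k'' = ConjClasses.mk k → ∀ x ∈ P, ∀ k' : ↥K,
      (k' : G) = x * (k'' : G) * x⁻¹ → ConjClasses.mk k' = ConjClasses.mk k := by
    by_contra hcon
    have := Finite.card_subtype_lt (α := {c : ConjClasses ↥K // ∀ k : ↥K, ConjClasses.mk k = c → IsConj k⁻¹ k})
      (p := fun c => ∀ k : ↥K, ConjClasses.mk k = c.1 → ∀ x ∈ P, ∀ k' : ↥K, (k' : G) = x * (k : G) * x⁻¹ →
          ConjClasses.mk k' = c.1) (x := ⟨ConjClasses.mk k, hkreal⟩) hcon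
    rw [hcount] at this
    exact lt_irrefl _ this
  obtain ⟨m, hm, hfix⟩ := hfixpt k (hinvk k rfl)
  have hmK : m * (k : G) * m⁻¹ ∈ K := K.mul_mem (K.mul_mem hm k.2) (K.inv_mem hm)
  exact ⟨⟨m * (k : G) * m⁻¹, hmK⟩, (hKconj _ _).mpr ⟨m, hm, rfl⟩, hfix⟩

/-- Let P and K be subgroups of a finite group with P a p-group normalizing K and K of order prime to p. Then the number of P-invariant real-valued irreducible complex characters of K equals the number of conjugacy classes of K that are real (closed under inversion) and P-invariant. Moreover, if every real-valued irreducible character of K is P-invariant, then every real element of K (one conjugate in K to its inverse) is conjugate in K to an element centralized by P. -/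
theorem result {G : Type*} [Group G] [Finite G] (p : ℕ) [Fact p.Prime] (P K : Subgroup G) (hP : IsPGroup p ↥P) (hK : ¬ p ∣ Nat.card ↥K) (hPK : P ≤ Subgroup.normalizer (K : Set G)) : Nat.card {θ : Cfsg.IrrCharacter ↥K // (∀ k : ↥K, ((θ : ↥K → ℂ) k).im = 0) ∧ (∀ x ∈ P, ∀ k k' : ↥K, (k' : G) = x * (k : G) * x⁻¹ → (θ : ↥K → ℂ) k' = (θ : ↥K → ℂ) k)} = Nat.card {c : ConjClasses ↥K // (∀ k : ↥K, ConjClasses.mk k = c → IsConj k k⁻¹) ∧ ∀ k : ↥K, ConjClasses.mk k = c → ∀ x ∈ P, ∀ k' : ↥K, (k' : G) = x * (k : G) * x⁻¹ → ConjClasses.mk k' = c} ∧ ((∀ θ : Cfsg.IrrCharacter ↥K, (∀ k : ↥K, ((θ : ↥K → ℂ) k).im = 0) → (∀ x ∈ P, ∀ k k' : ↥K, (k' : G) = x * (k : G) * x⁻¹ → (θ : ↥K → ℂ) k' = (θ : ↥K → ℂ) k)) → ∀ k : ↥K, IsConj k k⁻¹ → ∃ k' : ↥K, IsConj k k' ∧ ∀ x ∈ P, x * (k' : G) * x⁻¹ = (k' : G)) := by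
  exact main p P K hP hK hPK

end Cfsg.Agent.S4911
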