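import Mathlib
import Cfsg.Statements.S4956
import Cfsg.Agent.Lib.Helper7.CoprimeAbelian

set_option autoImplicit false
set_option maxHeartbeats 800000

open Cfsg

namespace Cfsg.Agent.S4956

theorem decomp {X : Type*} [Group X] (V : Subgroup X) (G : Subgroup X)
    (hGV : Subgroup.IsComplement' V G) (x : X) : ∃ v ∈ V, ∃ g ∈ G, x = v * g := by
  obtain ⟨⟨⟨v, hv⟩, ⟨g, hg⟩⟩, h, -⟩ := (Subgroup.isComplement_iff_existsUnique.mp hGV) x
  exact ⟨v, hv, g, hg, h.symm⟩

theorem uniq {X : Type*} [Group X] (V : Subgroup X) (G : Subgroup X)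
    (hGV : Subgroup.IsComplement' V G) {v v' g g' : X} (hv : v ∈ V) (hv' : v' ∈ V) (hg : g ∈ G)
    (hg' : g' ∈ G) (h : v * g = v' * g') : v = v' ∧ g = g' := by
  have hd : Disjoint V G := hGV.disjoint
  have h1 : v'⁻¹ * v = g' * g⁻¹ := by
    calc v'⁻¹ * v = v'⁻¹ * (v * g) * g⁻¹ := by group
      _ = v'⁻¹ * (v' * g') * g⁻¹ := by rw [h]
      _ = g' * g⁻¹ := by group
  have h2 : v'⁻¹ * v ∈ V ⊓ G :=
    ⟨V.mul_mem (V.inv_mem hv') hv, by rw [h1]; exact G.mul_mem hg' (G.inv_mem hg)⟩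
  rw [hd.eq_bot, Subgroup.mem_bot] at h2
  constructor
  · exact (inv_mul_eq_one.mp h2).symm
  · have : g' * g⁻¹ = 1 := by rw [← h1, h2]
    exact (mul_inv_eq_one.mp this).symm

theorem conj_to_fixed {X : Type*} [Group X] [Finite X] (V : Subgroup X) [V.Normal]
    (hab : ∀ a ∈ V, ∀ b ∈ V, a * b = b * a) (G : Subgroup X)
    (hcop : (Nat.card V).Coprime (Nat.card G)) {v g : X} (hv : v ∈ V) (hg : g ∈ G) :
    ∃ u ∈ V, ∃ c ∈ V, c * g = g * c ∧ u * (v * g) * u⁻¹ = c * g := by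
  letI : CommGroup V :=
    { (inferInstance : Group V) with mul_comm := fun a b => Subtype.ext (hab a a.2 b b.2) }
  let α : MulAut V := MulAut.conjNormal g
  have hα : α ^ (orderOf g) = 1 := by
    rw [← map_pow, pow_orderOf_eq_one, map_one]
  have hcop' : Nat.Coprime (orderOf g) (Nat.card V) := by
    have : orderOf g ∣ Nat.card G := by
      have := orderOf_dvd_natCard (⟨g, hg⟩ : G)
      rwa [Subgroup.orderOf_mk] at this
    exact (Nat.Coprime.coprime_dvd_right this hcop).symm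
  obtain ⟨u, hu⟩ := Cfsg.Agent.Lib.Helper7.CoprimeAbelian.exists_fixed_mul_div α (orderOf g) hα hcop' ⟨v, hv⟩
  have hu' := congrArg Subtype.val hu
  have e1 : ((⟨v, hv⟩ * (u / α u) : V) : X) = v * ((u : X) * (g * (u : X) * g⁻¹)⁻¹) := by
    have : ((u / α u : V) : X) = (u : X) * (g * (u : X) * g⁻¹)⁻¹ := by
      have h1 : (u / α u : V) = u * (α u)⁻¹ := div_eq_mul_inv _ _
      rw [h1]
      rfl
    calc ((⟨v, hv⟩ * (u / α u) : V) : X) = v * ((u / α u : V) : X) := rfl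
      _ = _ := by rw [this]
  have e2 : ((α (⟨v, hv⟩ * (u / α u)) : V) : X) = g * ((⟨v, hv⟩ * (u / α u) : V) : X) * g⁻¹ := rfl
  rw [e2, e1] at hu'
  set c : X := v * ((u : X) * (g * (u : X) * g⁻¹)⁻¹) with hc
  have hcV : c ∈ V := by
    rw [← e1]; exact (⟨v, hv⟩ * (u / α u) : V).2
  refine ⟨u, u.2, c, hcV, ?_, ?_⟩
  · calc c * g = (g * c * g⁻¹) * g := by rw [hu']
      _ = g * c := by group
  · have huv : (u : X) * v = v * u := hab _ u.2 _ hv
    calc (u : X) * (v * g) * (u : X)⁻¹ = ((u : X) * v) * g * (u : X)⁻¹ := by group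
      _ = (v * u) * g * (u : X)⁻¹ := by rw [huv]
      _ = c * g := by rw [hc]; group

theorem pow_lemma {X : Type*} [Group X] [Finite X] (V G : Subgroup X)
    (hcop : (Nat.card V).Coprime (Nat.card G)) :
    ∃ N : ℕ, (∀ v ∈ V, v ^ N = v) ∧ (∀ g ∈ G, g ^ N = 1) := by
  obtain ⟨N, h1, h2⟩ := Nat.chineseRemainder hcop 1 0
  refine ⟨N, ?_, ?_⟩
  · intro v hv
    have : (⟨v, hv⟩ : V) ^ N = ⟨v, hv⟩ := by
      rw [← pow_mod_natCard, h1, pow_mod_natCard, pow_one]
    exact congrArg Subtype.val this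
  · intro g hg
    obtain ⟨m, hm⟩ := (Nat.modEq_zero_iff_dvd).mp h2
    have : (⟨g, hg⟩ : G) ^ N = 1 := by
      rw [hm, pow_mul, pow_card_eq_one', one_pow]
    exact congrArg Subtype.val this

/-- Let X be a finite group, V an abelian normal subgroup of X (any two elements of V commute) and G a complement to V in X whose order is coprime to that of V. Let S be a set of representatives of the orbits of G on V under conjugation: S lies in V and every element of V is conjugate under G to exactly one member of S. Then the number of conjugacy classes of X equals the sum, over s in S, of the number of conjugacy classes of the centralizer of s in G. -/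
theorem result {X : Type*} [Group X] [Finite X] (V : Subgroup X) [V.Normal] (hab : ∀ a ∈ V, ∀ b ∈ V, a * b = b * a) (G : Subgroup X) (hGV : Subgroup.IsComplement' V G) (hcop : (Nat.card V).Coprime (Nat.card G)) (S : Finset X) (hSV : ∀ s ∈ S, s ∈ V) (hrep : ∀ v ∈ V, ∃! s, s ∈ S ∧ ∃ g ∈ G, g * v * g⁻¹ = s) : Nat.card (ConjClasses X) = ∑ s ∈ S, Nat.card (ConjClasses ↥(G ⊓ Subgroup.centralizer ({s} : Set X))) := by
  classical
  obtain ⟨N, hNV, hNG⟩ := pow_lemma V G hcop
  obtain ⟨N', hN'G, hN'V⟩ := pow_lemma G V hcop.symm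
  -- key facts about conjugacy of s*h
  have key : ∀ s ∈ S, ∀ s' ∈ S, ∀ h ∈ G, ∀ h' ∈ G, s * h = h * s → s' * h' = h' * s' →
      IsConj (s * h) (s' * h') → s = s' ∧ ∃ k ∈ G, k * s = s * k ∧ k * h * k⁻¹ = h' := by
    intro s hs s' hs' h hh h' hh' hsh hsh' hconj
    obtain ⟨x, hx⟩ := isConj_iff.mp hconj
    have hsV := hSV s hs
    have hs'V := hSV s' hs'
    obtain ⟨u, hu, k, hk, rfl⟩ := decomp V G hGV x
    -- N-th powers
    have p1 : (s * h) ^ N = s := by
      rw [(show Commute s h from hsh).mul_pow, hNV s hsV, hNG h hh, mul_one]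
    have p1' : (s' * h') ^ N = s' := by
      rw [(show Commute s' h' from hsh').mul_pow, hNV s' hs'V, hNG h' hh', mul_one]
    have p2 : (s * h) ^ N' = h := by
      rw [(show Commute s h from hsh).mul_pow, hN'V s hsV, hN'G h hh, one_mul]
    have p2' : (s' * h') ^ N' = h' := by
      rw [(show Commute s' h' from hsh').mul_pow, hN'V s' hs'V, hN'G h' hh', one_mul]
    have c1 : (u * k) * s * (u * k)⁻¹ = s' := by
      rw [← p1, ← p1', ← hx, conj_pow]
    have c2 : (u * k) * h * (u * k)⁻¹ = h' := by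
      rw [← p2, ← p2', ← hx, conj_pow]
    have hksV : k * s * k⁻¹ ∈ V := ‹V.Normal›.conj_mem s hsV k
    have c1' : k * s * k⁻¹ = s' := by
      have : (u * k) * s * (u * k)⁻¹ = u * (k * s * k⁻¹) * u⁻¹ := by group
      rw [this, hab u hu _ hksV] at c1
      rw [← c1]; group
    have hss' : s = s' := by
      obtain ⟨s0, _, huniq⟩ := hrep s hsV
      have e1 := huniq s ⟨hs, 1, G.one_mem, by group⟩
      have e2 := huniq s' ⟨hs', k, hk, c1'⟩
      rw [e1, e2]
    refine ⟨hss', k, hk, ?_, ?_⟩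
    · rw [← hss'] at c1'
      calc k * s = (k * s * k⁻¹) * k := by group
        _ = s * k := by rw [c1']
    · -- project c2 to G
      have hV1 : u * (k * h * k⁻¹) * u⁻¹ * (k * h * k⁻¹)⁻¹ ∈ V := by
        have : u * (k * h * k⁻¹) * u⁻¹ * (k * h * k⁻¹)⁻¹ = u * ((k * h * k⁻¹) * u⁻¹ * (k * h * k⁻¹)⁻¹) := by group
        rw [this]
        exact V.mul_mem hu (‹V.Normal›.conj_mem _ (V.inv_mem hu) _)
      have hG1 : k * h * k⁻¹ ∈ G := G.mul_mem (G.mul_mem hk hh) (G.inv_mem hk)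
      have e : (u * (k * h * k⁻¹) * u⁻¹ * (k * h * k⁻¹)⁻¹) * (k * h * k⁻¹) = 1 * h' := by
        rw [one_mul, ← c2]; group
      exact (uniq V G hGV hV1 V.one_mem hG1 hh' e).2
  have memC : ∀ (s h : X), h ∈ G ⊓ Subgroup.centralizer ({s} : Set X) ↔ h ∈ G ∧ s * h = h * s := by
    intro s h
    rw [Subgroup.mem_inf, Subgroup.mem_centralizer_singleton_iff, eq_comm]
  let rep : ∀ s : X, ConjClasses ↥(G ⊓ Subgroup.centralizer ({s} : Set X)) →
      ↥(G ⊓ Subgroup.centralizer ({s} : Set X)) :=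
    fun s c => Classical.choose (ConjClasses.exists_rep c)
  have hrepc : ∀ (s : X) (c : ConjClasses ↥(G ⊓ Subgroup.centralizer ({s} : Set X))),
      ConjClasses.mk (rep s c) = c := fun s c => Classical.choose_spec (ConjClasses.exists_rep c)
  let Φ : (Σ s : S, ConjClasses ↥(G ⊓ Subgroup.centralizer ({(s : X)} : Set X))) → ConjClasses X :=
    fun t => ConjClasses.mk ((t.1 : X) * ((rep (t.1 : X) t.2 : ↥(G ⊓ Subgroup.centralizer ({(t.1 : X)} : Set X))) : X))
  have hΦinj : Function.Injective Φ := by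
    rintro ⟨⟨s, hs⟩, c⟩ ⟨⟨s', hs'⟩, c'⟩ hEq
    simp only [Φ] at hEq
    rw [ConjClasses.mk_eq_mk_iff_isConj] at hEq
    have h1 := (memC s (rep s c)).mp (rep s c).2
    have h1' := (memC s' (rep s' c')).mp (rep s' c').2
    obtain ⟨hss, k, hk, hks, hkh⟩ := key s hs s' hs' _ h1.1 _ h1'.1 h1.2 h1'.2 hEq
    subst hss
    have : c = c' := by
      rw [← hrepc s c, ← hrepc s c', ConjClasses.mk_eq_mk_iff_isConj, isConj_iff]
      refine ⟨⟨k, (memC s k).mpr ⟨hk, hks.symm⟩⟩, ?_⟩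
      apply Subtype.ext
      simpa using hkh
    rw [this]
  have hΦsurj : Function.Surjective Φ := by
    intro cx
    obtain ⟨x, rfl⟩ := ConjClasses.exists_rep cx
    obtain ⟨v, hv, g, hg, rfl⟩ := decomp V G hGV x
    obtain ⟨u, hu, c, hc, hcg, hconj⟩ := conj_to_fixed V hab G hcop hv hg
    obtain ⟨s, ⟨hsS, k, hk, hks⟩, -⟩ := hrep c hc
    -- element of C_s
    have hkg : k * g * k⁻¹ ∈ G ⊓ Subgroup.centralizer ({s} : Set X) := by
      rw [memC]
      refine ⟨G.mul_mem (G.mul_mem hk hg) (G.inv_mem hk), ?_⟩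
      rw [← hks]
      calc k * c * k⁻¹ * (k * g * k⁻¹) = k * (c * g) * k⁻¹ := by group
        _ = k * (g * c) * k⁻¹ := by rw [hcg]
        _ = k * g * k⁻¹ * (k * c * k⁻¹) := by group
    refine ⟨⟨⟨s, hsS⟩, ConjClasses.mk ⟨k * g * k⁻¹, hkg⟩⟩, ?_⟩
    simp only [Φ]
    rw [ConjClasses.mk_eq_mk_iff_isConj]
    -- rep is conjugate to k g k⁻¹ in C_s
    have hr := hrepc s (ConjClasses.mk ⟨k * g * k⁻¹, hkg⟩)
    rw [ConjClasses.mk_eq_mk_iff_isConj, isConj_iff] at hr
    obtain ⟨⟨d, hd⟩, hd2⟩ := hr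
    have hd' := (memC s d).mp hd
    obtain ⟨r, hrdef⟩ : ∃ r : X, r = (rep s (ConjClasses.mk ⟨k * g * k⁻¹, hkg⟩) : X) := ⟨_, rfl⟩
    have hd3 : d * r * d⁻¹ = k * g * k⁻¹ := by
      have := congrArg Subtype.val hd2
      rw [hrdef]
      simpa using this
    rw [← hrdef, isConj_iff]
    refine ⟨(d⁻¹ * k * u)⁻¹, ?_⟩
    have e1 : u * (v * g) * u⁻¹ = c * g := hconj
    have e2 : v * g = u⁻¹ * (c * g) * u := by rw [← e1]; group
    rw [e2]
    have e3 : s * r = d⁻¹ * (s * (k * g * k⁻¹)) * d := by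
      rw [← hd3]
      have : d⁻¹ * (s * (d * r * d⁻¹)) * d = (d⁻¹ * s * d) * r := by group
      rw [this]
      have : d⁻¹ * s * d = s := by
        calc d⁻¹ * s * d = d⁻¹ * (s * d) := by group
          _ = d⁻¹ * (d * s) := by rw [hd'.2]
          _ = s := by group
      rw [this]
    rw [e3, ← hks]
    group
  have hbij : Function.Bijective Φ := ⟨hΦinj, hΦsurj⟩
  rw [← Nat.card_eq_of_bijective Φ hbij, Nat.card_sigma]
  exact Finset.sum_coe_sort S (fun s => Nat.card (ConjClasses ↥(G ⊓ Subgroup.centralizer ({s} : Set X))))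

end Cfsg.Agent.S4956
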