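import Mathlib
import Cfsg.Statements.S4965

set_option autoImplicit false
set_option maxHeartbeats 800000

open Cfsg

namespace Cfsg.Agent.S4965

/-- Let X be a finite group with an abelian normal subgroup V (any two elements of V commute), and let φ be the action of X ⧸ V on V induced by conjugation (well defined because V is abelian; the hypothesis hφ says that the class of x acts as conjugation by x). Then X has at most as many conjugacy classes as the semidirect product of V by X ⧸ V formed with this action: the split extension has the largest class number among extensions with the given action. -/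
theorem result {X : Type*} [Group X] [Finite X] (V : Subgroup X) [V.Normal] (hab : ∀ a ∈ V, ∀ b ∈ V, a * b = b * a) (φ : X ⧸ V →* MulAut ↥V) (hφ : ∀ (x : X) (v : ↥V), ((φ (QuotientGroup.mk x) v : ↥V) : X) = x * v * x⁻¹) : Nat.card (ConjClasses X) ≤ Nat.card (ConjClasses (SemidirectProduct ↥V (X ⧸ V) φ)) := by
  classical
  haveI : Finite (SemidirectProduct ↥V (X ⧸ V) φ) :=
    Finite.of_equiv _ SemidirectProduct.equivProd.symm
  let base : (X ⧸ V) × (X ⧸ V) → X × X := fun q =>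
    if h : ∃ p : X × X, (p.1 : X ⧸ V) = q.1 ∧ (p.2 : X ⧸ V) = q.2 ∧ Commute p.1 p.2 then
      Classical.choose h else (1, 1)
  have hbase : ∀ x y : X, Commute x y →
      (((base ((x : X ⧸ V), (y : X ⧸ V))).1 : X) : X ⧸ V) = (x : X ⧸ V) ∧
      (((base ((x : X ⧸ V), (y : X ⧸ V))).2 : X) : X ⧸ V) = (y : X ⧸ V) ∧
      Commute (base ((x : X ⧸ V), (y : X ⧸ V))).1 (base ((x : X ⧸ V), (y : X ⧸ V))).2 := by
    intro x y hxy
    have h : ∃ p : X × X, (p.1 : X ⧸ V) = ((x : X ⧸ V), (y : X ⧸ V)).1 ∧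
        (p.2 : X ⧸ V) = ((x : X ⧸ V), (y : X ⧸ V)).2 ∧ Commute p.1 p.2 := ⟨(x, y), rfl, rfl, hxy⟩
    simp only [base, dif_pos h]
    exact Classical.choose_spec h
  let toV : X → ↥V := fun z => if h : z ∈ V then ⟨z, h⟩ else 1
  have htoV : ∀ z (h : z ∈ V), ((toV z : ↥V) : X) = z := by
    intro z h; simp [toV, h]
  have hmemV : ∀ x x0 : X, ((x0 : X) : X ⧸ V) = (x : X ⧸ V) → x * x0⁻¹ ∈ V := by
    intro x x0 h
    have h1 : x0⁻¹ * x ∈ V := QuotientGroup.eq.mp h
    have : x * x0⁻¹ = x0 * (x0⁻¹ * x) * x0⁻¹ := by group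
    rw [this]
    exact ‹V.Normal›.conj_mem _ h1 _
  let A : X → X → SemidirectProduct ↥V (X ⧸ V) φ := fun x y =>
    ⟨toV (x * (base ((x : X ⧸ V), (y : X ⧸ V))).1⁻¹), (x : X ⧸ V)⟩
  let B : X → X → SemidirectProduct ↥V (X ⧸ V) φ := fun x y =>
    ⟨toV (y * (base ((x : X ⧸ V), (y : X ⧸ V))).2⁻¹), (y : X ⧸ V)⟩
  have hcomm : ∀ x y : X, Commute x y → Commute (A x y) (B x y) := by
    intro x y hxy
    obtain ⟨hx0, hy0, hc0⟩ := hbase x y hxy
    set x0 := (base ((x : X ⧸ V), (y : X ⧸ V))).1 with hx0def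
    set y0 := (base ((x : X ⧸ V), (y : X ⧸ V))).2 with hy0def
    have hv : x * x0⁻¹ ∈ V := hmemV x x0 hx0
    have hw : y * y0⁻¹ ∈ V := hmemV y y0 hy0
    set v := x * x0⁻¹ with hvdef
    set w := y * y0⁻¹ with hwdef
    have hxv : x = v * x0 := by rw [hvdef]; group
    have hyw : y = w * y0 := by rw [hwdef]; group
    have hA' : x0 * w * x0⁻¹ ∈ V := ‹V.Normal›.conj_mem _ hw _
    have hB' : y0 * v * y0⁻¹ ∈ V := ‹V.Normal›.conj_mem _ hv _
    have e1 : x * w * x⁻¹ = x0 * w * x0⁻¹ := by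
      have : x * w * x⁻¹ = v * (x0 * w * x0⁻¹) * v⁻¹ := by rw [hxv]; group
      rw [this, hab v hv _ hA']; group
    have e2 : y * v * y⁻¹ = y0 * v * y0⁻¹ := by
      have : y * v * y⁻¹ = w * (y0 * v * y0⁻¹) * w⁻¹ := by rw [hyw]; group
      rw [this, hab w hw _ hB']; group
    have e3 : v * (x0 * w * x0⁻¹) = w * (y0 * v * y0⁻¹) := by
      have h1 : x * y = v * (x0 * w * x0⁻¹) * (x0 * y0) := by rw [hxv, hyw]; group
      have h2 : y * x = w * (y0 * v * y0⁻¹) * (x0 * y0) := by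
        rw [hc0.eq, hxv, hyw]; group
      have h3 : v * (x0 * w * x0⁻¹) * (x0 * y0) = w * (y0 * v * y0⁻¹) * (x0 * y0) := by
        rw [← h1, ← h2]; exact hxy.eq
      exact mul_right_cancel h3
    show A x y * B x y = B x y * A x y
    apply SemidirectProduct.ext
    · rw [SemidirectProduct.mul_left, SemidirectProduct.mul_left]
      apply Subtype.ext
      show ((toV v : ↥V) : X) * ((φ (x : X ⧸ V) (toV w) : ↥V) : X) =
        ((toV w : ↥V) : X) * ((φ (y : X ⧸ V) (toV v) : ↥V) : X)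
      rw [hφ, hφ, htoV v hv, htoV w hw, e1, e2, e3]
    · rw [SemidirectProduct.mul_right, SemidirectProduct.mul_right]
      show (x : X ⧸ V) * (y : X ⧸ V) = (y : X ⧸ V) * (x : X ⧸ V)
      rw [← QuotientGroup.mk_mul, ← QuotientGroup.mk_mul, hxy.eq]
  let F : {p : X × X // Commute p.1 p.2} →
      {p : SemidirectProduct ↥V (X ⧸ V) φ × SemidirectProduct ↥V (X ⧸ V) φ // Commute p.1 p.2} :=
    fun p => ⟨(A p.1.1 p.1.2, B p.1.1 p.1.2), hcomm _ _ p.2⟩
  have hF : Function.Injective F := by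
    rintro ⟨⟨x, y⟩, hxy⟩ ⟨⟨x', y'⟩, hxy'⟩ hEq
    have h1 : A x y = A x' y' := congrArg (fun p => p.1.1) hEq
    have h2 : B x y = B x' y' := congrArg (fun p => p.1.2) hEq
    have hq1 : (x : X ⧸ V) = (x' : X ⧸ V) := congrArg SemidirectProduct.right h1
    have hq2 : (y : X ⧸ V) = (y' : X ⧸ V) := congrArg SemidirectProduct.right h2
    have hl1 : toV (x * (base ((x : X ⧸ V), (y : X ⧸ V))).1⁻¹) =
        toV (x' * (base ((x' : X ⧸ V), (y' : X ⧸ V))).1⁻¹) := congrArg SemidirectProduct.left h1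
    have hl2 : toV (y * (base ((x : X ⧸ V), (y : X ⧸ V))).2⁻¹) =
        toV (y' * (base ((x' : X ⧸ V), (y' : X ⧸ V))).2⁻¹) := congrArg SemidirectProduct.left h2
    rw [← hq1, ← hq2] at hl1 hl2
    obtain ⟨hx0, hy0, hc0⟩ := hbase x y hxy
    have m1 := hmemV x _ hx0
    have m1' := hmemV x' _ (hx0.trans hq1)
    have m2 := hmemV y _ hy0
    have m2' := hmemV y' _ (hy0.trans hq2)
    have k1 := congrArg Subtype.val hl1
    have k2 := congrArg Subtype.val hl2
    rw [htoV _ m1, htoV _ m1'] at k1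
    rw [htoV _ m2, htoV _ m2'] at k2
    have ex : x = x' := mul_right_cancel k1
    have ey : y = y' := mul_right_cancel k2
    subst ex; subst ey
    rfl
  have hle := Nat.card_le_card_of_injective F hF
  rw [card_comm_eq_card_conjClasses_mul_card, card_comm_eq_card_conjClasses_mul_card,
    SemidirectProduct.card] at hle
  have hX : Nat.card X = Nat.card (X ⧸ V) * Nat.card V := Subgroup.card_eq_card_quotient_mul_card_subgroup V
  rw [hX, mul_comm (Nat.card (X ⧸ V))] at hle
  have hpos : 0 < Nat.card ↥V * Nat.card (X ⧸ V) := Nat.mul_pos Nat.card_pos Nat.card_pos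
  exact Nat.le_of_mul_le_mul_right hle hpos

end Cfsg.Agent.S4965
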