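import Cfsg.Statements.S4969
import Cfsg.Agent.Lib.Helper8.CharBessel

set_option autoImplicit false
open Cfsg

namespace Cfsg.Agent.S4969

open Cfsg.Agent.Lib.Helper8

/-- Let G be a finite group with k conjugacy classes, g ∈ G, and N > 0. Then the sum over the irreducible complex characters χ of G with χ(1) ≥ N of |χ(g)|/χ(1) is at most √(k · #C_G(g)) / N. -/
theorem result {G : Type*} [Group G] [Finite G] (g : G) (N : ℝ) (hN : 0 < N) :
    ∑ᶠ χ : Cfsg.IrrCharacter G, (if N ≤ ‖(χ : G → ℂ) 1‖ then ‖(χ : G → ℂ) g‖ / ‖(χ : G → ℂ) 1‖ else 0) ≤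
      Real.sqrt ((Nat.card (ConjClasses G) : ℝ) * (Nat.card ↥(Subgroup.centralizer ({g} : Set G)) : ℝ)) / N := by
  classical
  have := irr_finite (G := G)
  have : Fintype (IrrCharacter G) := Fintype.ofFinite _
  rw [finsum_eq_sum_of_fintype]
  -- termwise bound
  have hterm : ∀ χ : IrrCharacter G,
      (if N ≤ ‖(χ : G → ℂ) 1‖ then ‖(χ : G → ℂ) g‖ / ‖(χ : G → ℂ) 1‖ else 0) ≤ ‖(χ : G → ℂ) g‖ / N := by
    intro χ
    split_ifs with h
    · exact div_le_div_of_nonneg_left (norm_nonneg _) hN h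
    · exact div_nonneg (norm_nonneg _) hN.le
  have h1 : ∑ χ : IrrCharacter G, (if N ≤ ‖(χ : G → ℂ) 1‖ then ‖(χ : G → ℂ) g‖ / ‖(χ : G → ℂ) 1‖ else 0)
      ≤ (∑ χ : IrrCharacter G, ‖(χ : G → ℂ) g‖) / N := by
    rw [Finset.sum_div]
    exact Finset.sum_le_sum (fun χ _ => hterm χ)
  refine le_trans h1 ?_
  apply div_le_div_of_nonneg_right _ hN.le
  -- Cauchy–Schwarz
  have hcs := Finset.sum_mul_sq_le_sq_mul_sq (Finset.univ : Finset (IrrCharacter G))
    (fun _ => (1 : ℝ)) (fun χ => ‖(χ : G → ℂ) g‖)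
  simp only [one_mul, one_pow, Finset.sum_const, Finset.card_univ, nsmul_eq_mul, mul_one] at hcs
  have hbes := irr_sum_sq_le (Finset.univ : Finset (IrrCharacter G)) g
  have hcard : (Fintype.card (IrrCharacter G) : ℝ) ≤ (Nat.card (ConjClasses G) : ℝ) := by
    have := card_irr_le (G := G)
    rw [Nat.card_eq_fintype_card] at this
    exact_mod_cast this
  apply Real.le_sqrt_of_sq_le
  calc (∑ χ : IrrCharacter G, ‖(χ : G → ℂ) g‖) ^ 2
      ≤ (Fintype.card (IrrCharacter G) : ℝ) * ∑ χ : IrrCharacter G, ‖(χ : G → ℂ) g‖ ^ 2 := hcs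
    _ ≤ (Nat.card (ConjClasses G) : ℝ) * (Nat.card ↥(Subgroup.centralizer ({g} : Set G)) : ℝ) := by
        apply mul_le_mul hcard hbes
        · exact Finset.sum_nonneg (fun _ _ => sq_nonneg _)
        · exact Nat.cast_nonneg _

end Cfsg.Agent.S4969
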