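import Cfsg.Statements.S4996
import Cfsg.Agent.Lib.Helper8.CharCosetAvg2
import Cfsg.Agent.Lib.Helper8.CharVanish
import Cfsg.Agent.Lib.Helper8.CharPerm
import Cfsg.Agent.S0868

set_option autoImplicit false
open Cfsg

namespace Cfsg.Agent.S4996

open Cfsg.Agent.Lib.Helper8

/-- Let N be a normal subgroup of the finite group G and χ an irreducible complex character of G. Then the restriction of χ to N is not irreducible if and only if χ vanishes on some whole coset Nx of N in G. -/
theorem result {G : Type*} [Group G] [Finite G] (N : Subgroup G) [N.Normal] (χ : Cfsg.IrrCharacter G) : ¬ Cfsg.IsIrrCharacter ↥N (fun n : ↥N => (χ : G → ℂ) n) ↔ ∃ x : G, ∀ n : ↥N, (χ : G → ℂ) ((n : G) * x) = 0 := by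
  classical
  have : Fintype G := Fintype.ofFinite G
  have : Fintype N := Fintype.ofFinite N
  have hN : N.Normal := inferInstance
  have hχchar : IsCharacter G χ.1 := irr_isCharacter χ.2
  have hGne : (Nat.card G : ℂ) ≠ 0 := Nat.cast_ne_zero.mpr Nat.card_pos.ne'
  have hNne : (Nat.card N : ℂ) ≠ 0 := Nat.cast_ne_zero.mpr Nat.card_pos.ne'
  constructor
  · intro hred
    by_contra hcon
    push Not at hcon
    -- Ψ = χ χ̄
    set Ψ : G → ℂ := χ.1 * (fun g => (starRingEnd ℂ) (χ.1 g)) with hΨ
    have hΨchar : IsCharacter G Ψ := isCharacter_mul hχchar (irr_isCharacter (irr_conj χ.2))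
    set η := cosetAvg N Ψ with hη
    have hηchar : IsCharacter G η := cosetAvg_isCharacter N hΨchar
    -- real-valued description
    set ηR : G → ℝ := fun g => (Nat.card N : ℝ)⁻¹ * ∑ n : N, Complex.normSq (χ.1 ((n : G) * g)) with hηR
    have hηeq : ∀ g, η g = ((ηR g : ℝ) : ℂ) := by
      intro g
      simp only [hη, cosetAvg, hηR, hΨ, Pi.mul_apply]
      push_cast
      congr 1
      apply Finset.sum_congr rfl
      intro n _
      rw [Complex.mul_conj]
    have hηRnn : ∀ g, 0 ≤ ηR g := by
      intro g
      apply mul_nonneg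
      · positivity
      · exact Finset.sum_nonneg (fun n _ => Complex.normSq_nonneg _)
    have hηRpos : ∀ g, 0 < ηR g := by
      intro g
      obtain ⟨n, hn⟩ := hcon g
      apply mul_pos
      · have : 0 < Nat.card N := Nat.card_pos
        positivity
      · apply Finset.sum_pos'
        · intro m _; exact Complex.normSq_nonneg _
        · exact ⟨n, Finset.mem_univ _, Complex.normSq_pos.mpr hn⟩
    -- total sum
    have htotal : ∑ g : G, ηR g = (Nat.card G : ℝ) := by
      have h1 : ∑ g : G, η g = (Nat.card G : ℂ) := by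
        rw [hη, sum_cosetAvg]
        have := irr_norm_sum χ.2
        rw [← this]
        rfl
      rw [Finset.sum_congr rfl (fun g _ => hηeq g), ← Complex.ofReal_sum] at h1
      exact_mod_cast h1
    -- η(1) ≥ 2
    have hη1 : (2 : ℝ) ≤ ηR 1 := by
      have hresχ : IsCharacter N (fun n : N => χ.1 n) := isCharacter_restrict N hχchar
      obtain ⟨k, hk⟩ := classInner_character_nat hresχ hresχ
      have hne0 : (fun n : N => χ.1 n) ≠ 0 := by
        intro h0
        have := congrFun h0 1
        simp only [Pi.zero_apply, OneMemClass.coe_one] at this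
        exact irr_one_ne_zero χ this
      have hk1 : 1 ≤ k := one_le_norm_of_character hresχ hne0 hk
      have hkne : k ≠ 1 := by
        intro h1
        apply hred
        apply isIrrCharacter_of_norm_one hresχ
        rw [hk, h1]; simp
      have hk2 : 2 ≤ k := by omega
      have h3 : ηR 1 = (k : ℝ) := by
        have h4 : ((ηR 1 : ℝ) : ℂ) = (k : ℂ) := by
          rw [← hηeq, ← hk]
          simp only [hη, cosetAvg, classInner, hΨ, Pi.mul_apply, mul_one]
        exact_mod_cast h4
      rw [h3]
      exact_mod_cast hk2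
    -- Galois averaging
    obtain ⟨d, ρ, hρ⟩ := hηchar
    set U := (ZMod (Fintype.card G))ˣ with hU
    have hNZ : NeZero (Fintype.card G) := ⟨Fintype.card_ne_zero⟩
    have hUpos : (0 : ℝ) < Fintype.card U := by
      have : 0 < Fintype.card U := Fintype.card_pos
      exact_mod_cast this
    have hper : ∀ x : G, (Fintype.card U : ℝ) ≤ ∑ u : U, ηR (x ^ (u : ZMod (Fintype.card G)).val) := by
      intro x
      have hf : (ρ x) ^ (Fintype.card G) = 1 := by rw [← map_pow, pow_card_eq_one, map_one]
      obtain ⟨S, c, hS, htr⟩ := trace_pow_eq_sum (Fintype.card_pos) hf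
      have hchar : ∀ j : ℕ, η (x ^ j) = ∑ μ ∈ S, (c μ : ℂ) * μ ^ j := by
        intro j
        rw [← htr j, ← hρ, Representation.character, map_pow]
      have hx0 : ∑ μ ∈ S, (c μ : ℂ) * μ ≠ 0 := by
        have := hchar 1
        simp only [pow_one] at this
        rw [← this, hηeq]
        exact_mod_cast (hηRpos x).ne'
      have hprod := (cyclotomic_key (Fintype.card G) S c hS).2 hx0
      apply card_le_sum_of_one_le_prod _ (fun u => hηRnn _)
      calc (1 : ℝ) ≤ ∏ u : U, ‖∑ μ ∈ S, (c μ : ℂ) * μ ^ (u : ZMod (Fintype.card G)).val‖ := hprod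
        _ = ∏ u : U, ηR (x ^ (u : ZMod (Fintype.card G)).val) := by
          apply Finset.prod_congr rfl
          intro u _
          rw [← hchar, hηeq, Complex.norm_real, Real.norm_of_nonneg (hηRnn _)]
    have hcol : ∀ u : U, ∑ x : G, ηR (x ^ (u : ZMod (Fintype.card G)).val) = (Nat.card G : ℝ) := by
      intro u
      rw [← htotal]
      have hcop : (Nat.card G).Coprime (u : ZMod (Fintype.card G)).val := by
        rw [Nat.card_eq_fintype_card]
        exact (ZMod.val_coe_unit_coprime u).symm
      exact Equiv.sum_comp (powCoprime hcop) ηR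
    have hdouble : ∑ x : G, ∑ u : U, ηR (x ^ (u : ZMod (Fintype.card G)).val) =
        (Fintype.card U : ℝ) * (Nat.card G : ℝ) := by
      rw [Finset.sum_comm, Finset.sum_congr rfl (fun u _ => hcol u), Finset.sum_const, Finset.card_univ,
        nsmul_eq_mul]
    -- the identity term is too big
    have h1term : ∑ u : U, ηR ((1 : G) ^ (u : ZMod (Fintype.card G)).val) = (Fintype.card U : ℝ) * ηR 1 := by
      simp only [one_pow, Finset.sum_const, Finset.card_univ, nsmul_eq_mul]
    have hsplit : ∑ x : G, ∑ u : U, ηR (x ^ (u : ZMod (Fintype.card G)).val) =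
        (∑ u : U, ηR ((1 : G) ^ (u : ZMod (Fintype.card G)).val)) +
        ∑ x ∈ Finset.univ.erase (1 : G), ∑ u : U, ηR (x ^ (u : ZMod (Fintype.card G)).val) :=
      (Finset.add_sum_erase Finset.univ _ (Finset.mem_univ (1 : G))).symm
    have hrest : ((Finset.univ.erase (1 : G)).card : ℝ) * (Fintype.card U : ℝ) ≤
        ∑ x ∈ Finset.univ.erase (1 : G), ∑ u : U, ηR (x ^ (u : ZMod (Fintype.card G)).val) := by
      rw [← nsmul_eq_mul, ← Finset.sum_const]
      exact Finset.sum_le_sum (fun x _ => hper x)
    have hcardE : ((Finset.univ.erase (1 : G)).card : ℝ) = (Nat.card G : ℝ) - 1 := by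
      rw [Finset.card_erase_of_mem (Finset.mem_univ _), Finset.card_univ, Nat.card_eq_fintype_card]
      have : 1 ≤ Fintype.card G := Fintype.card_pos
      push_cast [Nat.cast_sub this]
      ring
    rw [hsplit, h1term] at hdouble
    rw [hcardE] at hrest
    nlinarith
  · rintro ⟨x, hx⟩ hirr
    have h := (Cfsg.Agent.S0868.result N χ.1 χ.2 hirr χ.1 χ.2 _ rfl).2.2 rfl
    have h1 := congrFun h x
    have h2 : ∑ n : N, χ.1 ((n : G) * x) * (starRingEnd ℂ) (χ.1 ((n : G) * x)) = 0 := by
      apply Finset.sum_eq_zero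
      intro n _
      rw [hx n, zero_mul]
    rw [h2, mul_zero] at h1
    exact zero_ne_one h1

end Cfsg.Agent.S4996
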