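import Cfsg.Statements.S5011

set_option autoImplicit false

namespace Cfsg.Agent.S5011

theorem result {G : Type*} [Group G] [Finite G] [IsSimpleGroup G]
    (hG : ¬ IsMulCommutative G) {V : Type*} [AddCommGroup V] [Module ℂ V] [FiniteDimensional ℂ V]
    (ρ : Representation ℂ G V)
    (hirr : ∀ W : Submodule ℂ V, (∀ x : G, ∀ v ∈ W, ρ x v ∈ W) → W = ⊥ ∨ W = ⊤)
    (hdim : 1 < Module.finrank ℂ V) (g : G) (hg : g ≠ 1) :
    ∃ W : Submodule ℂ V, W ≠ ⊥ ∧ W ≠ ⊤ ∧ ∀ c ∈ Subgroup.centralizer ({g} : Set G), ∀ v ∈ W, ρ c v ∈ W := by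
  have hnt : Nontrivial V := Module.nontrivial_of_finrank_pos (R := ℂ) (by omega)
  obtain ⟨μ, hμ⟩ := Module.End.exists_eigenvalue (ρ g)
  refine ⟨Module.End.eigenspace (ρ g) μ, hμ, ?_, ?_⟩
  · intro htop
    -- ρ g is the scalar μ
    have hscal : ∀ v : V, ρ g v = μ • v := by
      intro v
      have : v ∈ Module.End.eigenspace (ρ g) μ := by rw [htop]; trivial
      exact Module.End.mem_eigenspace_iff.mp this
    -- kernel of ρ
    have hker : (ρ : G →* (V →ₗ[ℂ] V)).ker = ⊥ ∨ (ρ : G →* (V →ₗ[ℂ] V)).ker = ⊤ :=
      IsSimpleGroup.eq_bot_or_eq_top_of_normal _ (MonoidHom.normal_ker _)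
    rcases hker with hker | hker
    · -- ρ injective: g central
      have hcen : g ∈ Subgroup.center G := by
        rw [Subgroup.mem_center_iff]
        intro x
        have h1 : ρ (x * g) = ρ (g * x) := by
          apply LinearMap.ext
          intro v
          simp only [map_mul, Module.End.mul_apply, hscal, map_smul]
        have h2 : (x * g) * (g * x)⁻¹ ∈ (ρ : G →* (V →ₗ[ℂ] V)).ker := by
          rw [MonoidHom.mem_ker, map_mul, h1, ← map_mul, mul_inv_cancel, map_one]
        rw [hker, Subgroup.mem_bot] at h2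
        exact mul_inv_eq_one.mp h2
      have hc : Subgroup.center G = ⊥ ∨ Subgroup.center G = ⊤ :=
        IsSimpleGroup.eq_bot_or_eq_top_of_normal _ inferInstance
      rcases hc with hc | hc
      · rw [hc, Subgroup.mem_bot] at hcen
        exact hg hcen
      · apply hG
        constructor
        constructor
        intro a b
        have : a ∈ Subgroup.center G := by rw [hc]; trivial
        exact ((Subgroup.mem_center_iff.mp this) b).symm
    · -- ρ trivial
      have htriv : ∀ x : G, ρ x = 1 := by
        intro x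
        have : x ∈ (ρ : G →* (V →ₗ[ℂ] V)).ker := by rw [hker]; trivial
        exact MonoidHom.mem_ker.mp this
      obtain ⟨v, hv⟩ := exists_ne (0 : V)
      have := hirr (Submodule.span ℂ {v}) (by
        intro x w hw
        rw [htriv x]
        exact hw)
      rcases this with h | h
      · rw [Submodule.span_singleton_eq_bot] at h
        exact hv h
      · have h1 : Module.finrank ℂ (Submodule.span ℂ ({v} : Set V)) = 1 :=
          finrank_span_singleton hv
        rw [h, finrank_top] at h1
        omega
  · intro c hc v hv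
    rw [Subgroup.mem_centralizer_iff] at hc
    have hcg : g * c = c * g := hc g rfl
    rw [Module.End.mem_eigenspace_iff] at hv ⊢
    have : ρ g (ρ c v) = ρ (g * c) v := by simp
    rw [this, hcg]
    simp [hv]

end Cfsg.Agent.S5011
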