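import Cfsg.Statements.S5013
import Cfsg.Agent.Lib.Helper8.RankOne

set_option autoImplicit false

namespace Cfsg.Agent.S5013

open Cfsg.Agent.Lib.Helper8

theorem result {G : Type*} [Group G] {A B : Subgroup G} (h : Cfsg.IsRankOnePair A B) :
    (∀ a ∈ A, a ≠ 1 → ∃! b : G, b ∈ B ∧ b ≠ 1 ∧ Cfsg.conjBy A b⁻¹ = Cfsg.conjBy B a⁻¹) ∧
    (∀ b ∈ B, b ≠ 1 → ∃! a : G, a ∈ A ∧ a ≠ 1 ∧ Cfsg.conjBy A b⁻¹ = Cfsg.conjBy B a⁻¹) ∧
    A ⊓ Subgroup.normalizer (B : Set G) = ⊥ ∧ B ⊓ Subgroup.normalizer (A : Set G) = ⊥ := by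
  have hAB : A ⊓ Subgroup.normalizer (B : Set G) = ⊥ := rankOne_inf_normalizer h.ne h.cond_left
  have hBA : B ⊓ Subgroup.normalizer (A : Set G) = ⊥ := rankOne_inf_normalizer h.ne.symm h.cond_right
  refine ⟨?_, ?_, hAB, hBA⟩
  · intro a ha ha1
    obtain ⟨b, hb, hb1, hab⟩ := h.cond_left a ha ha1
    refine ⟨b, ⟨hb, hb1, hab⟩, ?_⟩
    rintro b' ⟨hb', -, hab'⟩
    exact rankOne_unique hBA hb' hb hab' hab
  · intro b hb hb1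
    obtain ⟨a, ha, ha1, hab⟩ := h.cond_right b hb hb1
    refine ⟨a, ⟨ha, ha1, hab.symm⟩, ?_⟩
    rintro a' ⟨ha', -, hab'⟩
    exact rankOne_unique hAB ha' ha hab'.symm hab

end Cfsg.Agent.S5013
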