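import Cfsg.Statements.S5015
import Cfsg.Agent.Lib.Helper8.RankOneOmega

set_option autoImplicit false
open Cfsg

namespace Cfsg.Agent.S5015

open Cfsg.Agent.Lib.Helper8

/-- Let a group Y act doubly transitively on a set Ω with at least three points, and suppose that the stabilizer of a point α contains a nilpotent subgroup A, normalized by that stabilizer, which acts regularly on the points other than α. Then for any y in Y moving α, the subgroups A and y A y⁻¹ are the unipotent subgroups of a rank one group, and the normal closure of A in Y (the subgroup generated by all conjugates of A) is generated by A and y A y⁻¹ alone. -/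
theorem result {Y Ω : Type*} [Group Y] [MulAction Y Ω]
    (h2 : MulAction.IsMultiplyPretransitive Y Ω 2) (hΩ : 3 ≤ ENat.card Ω) (α : Ω) (A : Subgroup Y)
    (hA : A ≤ MulAction.stabilizer Y α) (hAn : ∀ y ∈ MulAction.stabilizer Y α, Cfsg.conjBy A y = A)
    (hnil : Group.IsNilpotent A) (hreg : ∀ β γ : Ω, β ≠ α → γ ≠ α → ∃! a : Y, a ∈ A ∧ a • β = γ)
    (y : Y) (hy : y ∉ MulAction.stabilizer Y α) :
    Cfsg.IsRankOnePair A (Cfsg.conjBy A y) ∧ Subgroup.normalClosure (A : Set Y) = A ⊔ Cfsg.conjBy A y := by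
  have hβ : y • α ≠ α := by
    intro h; exact hy (MulAction.mem_stabilizer_iff.mpr h)
  have hfix : ∀ a ∈ A, a • α = α := fun a ha => MulAction.mem_stabilizer_iff.mp (hA ha)
  have W : ∀ g g' : Y, g • α = g' • α → conjBy A g = conjBy A g' := by
    intro g g' hgg
    have hs : g'⁻¹ * g ∈ MulAction.stabilizer Y α := by
      rw [MulAction.mem_stabilizer_iff, mul_smul, hgg, inv_smul_smul]
    have : g = g' * (g'⁻¹ * g) := by simp
    rw [this, ← conjBy_conjBy, hAn _ hs]
  have F : ∀ a ∈ A, ∀ γ : Ω, γ ≠ α → a • γ = γ → a = 1 := by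
    intro a ha γ hγ haγ
    obtain ⟨a0, -, huniq⟩ := hreg γ γ hγ hγ
    rw [huniq a ⟨ha, haγ⟩, huniq 1 ⟨A.one_mem, one_smul _ _⟩]
  have T : ∀ γ δ : Ω, γ ≠ α → δ ≠ α → ∃ a ∈ A, a • γ = δ := by
    intro γ δ hγ hδ
    obtain ⟨a, ⟨ha, haγ⟩, -⟩ := hreg γ δ hγ hδ
    exact ⟨a, ha, haγ⟩
  have hBfix : ∀ b ∈ conjBy A y, b • (y • α) = y • α := by
    intro b hb
    rw [mem_conjBy] at hb
    have := hfix _ hb
    rw [mul_smul, mul_smul] at this
    have h3 := congrArg (fun t => y • t) this
    simpa using h3
  have FB : ∀ b ∈ conjBy A y, ∀ γ : Ω, γ ≠ y • α → b • γ = γ → b = 1 := by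
    intro b hb γ hγ hbγ
    rw [mem_conjBy] at hb
    have hγ' : y⁻¹ • γ ≠ α := by
      intro h; apply hγ; rw [← h]; simp
    have h1 : (y⁻¹ * b * y) • (y⁻¹ • γ) = y⁻¹ • γ := by
      rw [mul_smul, mul_smul, smul_inv_smul, hbγ]
    have h2' := F _ hb _ hγ' h1
    have := congrArg (fun t => y * t * y⁻¹) h2'
    simpa [mul_assoc] using this
  have TB : ∀ γ δ : Ω, γ ≠ y • α → δ ≠ y • α → ∃ b ∈ conjBy A y, b • γ = δ := by
    intro γ δ hγ hδ
    have hγ' : y⁻¹ • γ ≠ α := by
      intro h; apply hγ; rw [← h]; simp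
    have hδ' : y⁻¹ • δ ≠ α := by
      intro h; apply hδ; rw [← h]; simp
    obtain ⟨a, ha, haγ⟩ := T _ _ hγ' hδ'
    refine ⟨y * a * y⁻¹, ?_, ?_⟩
    · rw [mem_conjBy]; simpa [mul_assoc] using ha
    · rw [mul_smul, mul_smul, haγ, smul_inv_smul]
  have hne : A ≠ conjBy A y := by
    intro hAB
    obtain ⟨γ, hγα, hγβ⟩ := ENat.exists_ne_ne_of_three_le hΩ α (y • α)
    obtain ⟨a, ha, haγ⟩ := T _ _ hβ hγα
    have : a ∈ conjBy A y := hAB ▸ ha
    have := hBfix a this
    rw [haγ] at this
    exact hγβ this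
  have hαβ : α ≠ y • α := fun h => hβ h.symm
  have hpair : IsRankOnePair A (conjBy A y) := by
    refine ⟨hne, hnil, conjBy_nilpotent hnil y, ?_, ?_⟩
    · intro a ha ha1
      have hδβ : a⁻¹ • (y • α) ≠ y • α := by
        intro h
        apply ha1
        apply F a ha _ hβ
        have := congrArg (fun t => a • t) h
        simpa using this.symm
      have hδα : a⁻¹ • (y • α) ≠ α := by
        intro h
        apply hβ
        have := congrArg (fun t => a • t) h
        simp only [smul_inv_smul] at this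
        rw [this, hfix a ha]
      obtain ⟨b, hb, hbδ⟩ := TB _ _ hδβ hαβ
      refine ⟨b, hb, ?_, ?_⟩
      · intro hb1
        rw [hb1, one_smul] at hbδ
        exact hδα hbδ
      · rw [conjBy_conjBy]
        apply W
        rw [mul_smul, inv_smul_eq_iff]
        exact hbδ.symm
    · intro b hb hb1
      have hδα : b⁻¹ • α ≠ α := by
        intro h
        apply hb1
        apply FB b hb _ hαβ
        have := congrArg (fun t => b • t) h
        simpa using this.symm
      have hδβ : b⁻¹ • α ≠ y • α := by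
        intro h
        apply hαβ
        have := congrArg (fun t => b • t) h
        simp only [smul_inv_smul] at this
        exact this.trans (hBfix b hb)
      obtain ⟨a, ha, haδ⟩ := T _ _ hδα hβ
      refine ⟨a, ha, ?_, ?_⟩
      · intro ha1
        rw [ha1, one_smul] at haδ
        exact hδβ haδ
      · rw [conjBy_conjBy]
        apply W
        rw [mul_smul, inv_smul_eq_iff]
        exact haδ.symm
  refine ⟨hpair, ?_⟩
  have Cj : ∀ g : Y, conjBy A g ≤ A ⊔ conjBy A y := by
    intro g
    by_cases hg : g • α = α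
    · rw [hAn g (MulAction.mem_stabilizer_iff.mpr hg)]
      exact le_sup_left
    · obtain ⟨a, ha, haβ⟩ := T _ _ hβ hg
      have : conjBy A g = conjBy A (a * y) := by
        apply W
        rw [mul_smul, haβ]
      rw [this, ← conjBy_conjBy]
      exact conjBy_le_of_mem le_sup_right (Subgroup.mem_sup_left ha)
  apply le_antisymm
  · have hnormal : (A ⊔ conjBy A y).Normal := by
      constructor
      intro n hn g
      have h1 : g * n * g⁻¹ ∈ conjBy (A ⊔ conjBy A y) g := by
        rw [mem_conjBy]; simpa [mul_assoc] using hn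
      have h2' : conjBy (A ⊔ conjBy A y) g ≤ A ⊔ conjBy A y := by
        rw [conjBy_sup, conjBy_conjBy]
        exact sup_le (Cj g) (Cj (g * y))
      exact h2' h1
    exact Subgroup.normalClosure_le_normal (show (A : Set Y) ⊆ ((A ⊔ conjBy A y : Subgroup Y) : Set Y) from
      fun x hx => Subgroup.mem_sup_left hx)
  · apply sup_le Subgroup.le_normalClosure
    intro x hx
    rw [mem_conjBy] at hx
    have h1 : y⁻¹ * x * y ∈ Subgroup.normalClosure (A : Set Y) := Subgroup.le_normalClosure hx
    have := (Subgroup.normalClosure_normal (s := (A : Set Y))).conj_mem _ h1 y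
    simpa [mul_assoc] using this

end Cfsg.Agent.S5015
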