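import Cfsg.Statements.S5016
import Cfsg.Agent.Lib.Helper8.SL2

set_option autoImplicit false
open Cfsg

namespace Cfsg.Agent.S5016

open Cfsg.Agent.Lib.Helper8

variable {k : Type*} [Field k]

theorem mem_conj_lower {s : k} {x : Matrix.SpecialLinearGroup (Fin 2) k} :
    x ∈ conjBy (lowerUnipotentSL2 k) (uSL s)⁻¹ ↔ ∃ r : k, x = (uSL s)⁻¹ * lSL r * uSL s := by
  rw [mem_conjBy, inv_inv, mem_lower_iff]
  constructor
  · rintro ⟨r, hr⟩
    refine ⟨r, ?_⟩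
    rw [← hr]; simp [mul_assoc]
  · rintro ⟨r, rfl⟩
    refine ⟨r, ?_⟩
    simp [mul_assoc]

theorem mem_conj_upper {t : k} {x : Matrix.SpecialLinearGroup (Fin 2) k} :
    x ∈ conjBy (upperUnipotentSL2 k) (lSL t)⁻¹ ↔ ∃ r : k, x = (lSL t)⁻¹ * uSL r * lSL t := by
  rw [mem_conjBy, inv_inv, mem_upper_iff]
  constructor
  · rintro ⟨r, hr⟩
    refine ⟨r, ?_⟩
    rw [← hr]; simp [mul_assoc]
  · rintro ⟨r, rfl⟩
    refine ⟨r, ?_⟩
    simp [mul_assoc]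

theorem conj_eq {s t : k} (hst : s * t = 1) :
    conjBy (lowerUnipotentSL2 k) (uSL s)⁻¹ = conjBy (upperUnipotentSL2 k) (lSL t)⁻¹ := by
  ext x
  rw [mem_conj_lower, mem_conj_upper]
  constructor
  · rintro ⟨r, rfl⟩
    exact ⟨-(s ^ 2 * r), key_conj hst r⟩
  · rintro ⟨r, rfl⟩
    refine ⟨-(t ^ 2 * r), ?_⟩
    rw [key_conj hst]
    have : -(s ^ 2 * -(t ^ 2 * r)) = r := by
      have : s ^ 2 * t ^ 2 = 1 := by rw [← mul_pow, hst, one_pow]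
      linear_combination r * this
    rw [this]

theorem lower_comm : IsMulCommutative ↥(lowerUnipotentSL2 k) := by
  refine ⟨⟨fun a b => ?_⟩⟩
  obtain ⟨s, hs⟩ := mem_lower_iff.mp a.2
  obtain ⟨t, ht⟩ := mem_lower_iff.mp b.2
  apply Subtype.ext
  rw [Subgroup.coe_mul, Subgroup.coe_mul, hs, ht, lSL_mul, lSL_mul, add_comm]

theorem upper_comm : IsMulCommutative ↥(upperUnipotentSL2 k) := by
  refine ⟨⟨fun a b => ?_⟩⟩
  obtain ⟨s, hs⟩ := mem_upper_iff.mp a.2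
  obtain ⟨t, ht⟩ := mem_upper_iff.mp b.2
  apply Subtype.ext
  rw [Subgroup.coe_mul, Subgroup.coe_mul, hs, ht, uSL_mul, uSL_mul, add_comm]

theorem pair : IsRankOnePair (lowerUnipotentSL2 k) (upperUnipotentSL2 k) := by
  refine ⟨?_, ?_, ?_, ?_, ?_⟩
  · intro h
    have h1 : lSL (1 : k) ∈ upperUnipotentSL2 k := h ▸ lSL_mem 1
    obtain ⟨t, ht⟩ := mem_upper_iff.mp h1
    have := congrArg (fun g : Matrix.SpecialLinearGroup (Fin 2) k => g 1 0) ht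
    simp at this
  · exact ⟨⟨1, Subgroup.upperCentralSeries_one_eq_top_iff.mpr lower_comm⟩⟩
  · exact ⟨⟨1, Subgroup.upperCentralSeries_one_eq_top_iff.mpr upper_comm⟩⟩
  · intro a ha ha1
    obtain ⟨t, rfl⟩ := mem_lower_iff.mp ha
    have ht : t ≠ 0 := fun h => ha1 (lSL_eq_one_iff.mpr h)
    refine ⟨uSL t⁻¹, uSL_mem _, ?_, conj_eq (inv_mul_cancel₀ ht)⟩
    intro h
    exact (inv_ne_zero ht) (uSL_eq_one_iff.mp h)
  · intro b hb hb1
    obtain ⟨s, rfl⟩ := mem_upper_iff.mp hb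
    have hs : s ≠ 0 := fun h => hb1 (uSL_eq_one_iff.mpr h)
    refine ⟨lSL s⁻¹, lSL_mem _, ?_, (conj_eq (mul_inv_cancel₀ hs)).symm⟩
    intro h
    exact (inv_ne_zero hs) (lSL_eq_one_iff.mp h)

theorem result (k : Type*) [Field k] :
    Cfsg.IsRankOneGroup (Matrix.SpecialLinearGroup (Fin 2) k) (Cfsg.lowerUnipotentSL2 k) (Cfsg.upperUnipotentSL2 k) ∧
    Cfsg.IsSpecialRankOnePair (Cfsg.lowerUnipotentSL2 k) (Cfsg.upperUnipotentSL2 k) ∧
    Cfsg.HasAbelianUnipotents (Cfsg.lowerUnipotentSL2 k) (Cfsg.upperUnipotentSL2 k) := by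
  refine ⟨⟨sl2_generated, pair⟩, ⟨pair, ?_⟩, ⟨lower_comm, upper_comm⟩⟩
  intro a ha ha1 b hb hb1 hab
  obtain ⟨t, rfl⟩ := mem_lower_iff.mp ha
  obtain ⟨s, rfl⟩ := mem_upper_iff.mp hb
  have ht : t ≠ 0 := fun h => ha1 (lSL_eq_one_iff.mpr h)
  have hBA := rankOne_inf_normalizer (pair (k := k)).ne.symm (pair (k := k)).cond_right
  have h2 : conjBy (lowerUnipotentSL2 k) (uSL t⁻¹)⁻¹ = conjBy (upperUnipotentSL2 k) (lSL t)⁻¹ :=
    conj_eq (inv_mul_cancel₀ ht)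
  have hs_eq : uSL s = uSL t⁻¹ := rankOne_unique hBA (uSL_mem s) (uSL_mem _) hab h2
  have hs : s = t⁻¹ := uSL_injective hs_eq
  have hst : s * t = 1 := by rw [hs]; exact inv_mul_cancel₀ ht
  rw [key_conj hst t]
  have : -(s ^ 2 * t) = -s := by
    have : s ^ 2 * t = s * (s * t) := by ring
    rw [this, hst, mul_one]
  rw [this, ← uSL_inv]

end Cfsg.Agent.S5016
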