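import Cfsg.Statements.S5017
import Cfsg.Agent.Lib.Helper8.RankOneGroup

set_option autoImplicit false
open Cfsg

namespace Cfsg.Agent.S5017

open Cfsg.Agent.Lib.Helper8

/-- Let X be a rank one group with unipotent subgroups A and B and N a normal subgroup of X. Then either X = N A or N lies in the centre of X. Consequently a perfect rank one group is quasisimple. -/
theorem result {X : Type*} [Group X] {A B : Subgroup X} (h : Cfsg.IsRankOneGroup X A B) :
    (∀ N : Subgroup X, N.Normal → N ⊔ A = ⊤ ∨ N ≤ Subgroup.center X) ∧
    (Group.IsPerfect X → Cfsg.IsQuasisimple X) := by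
  refine ⟨fun N hN => rankOneGroup_normal h N hN, ?_⟩
  intro hperf
  refine ⟨hperf, ?_⟩
  have hnt : Nontrivial (X ⧸ Subgroup.center X) :=
    QuotientGroup.nontrivial_iff.mpr (rankOneGroup_center_ne_top h)
  refine { toNontrivial := hnt, eq_bot_or_eq_top_of_normal := ?_ }
  intro M hM
  set N : Subgroup X := M.comap (QuotientGroup.mk' (Subgroup.center X)) with hN_def
  have hNn : N.Normal := hM.comap _
  rcases rankOneGroup_normal h N hNn with h1 | h1
  · right
    -- X / N is perfect and nilpotent, hence trivial
    have hNtop : N = ⊤ := by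
      by_contra hne
      have : Nontrivial (X ⧸ N) := QuotientGroup.nontrivial_iff.mpr hne
      have : Group.IsNilpotent A := h.2.nilpotent_left
      have hsurj : Function.Surjective ((QuotientGroup.mk' N).comp A.subtype) := by
        intro q
        obtain ⟨x, rfl⟩ := QuotientGroup.mk'_surjective N q
        have hx : x ∈ N ⊔ A := by rw [h1]; trivial
        rw [Subgroup.mem_sup_of_normal_left] at hx
        obtain ⟨n, hn, a, ha, rfl⟩ := hx
        refine ⟨⟨a, ha⟩, ?_⟩
        simp only [MonoidHom.coe_comp, Function.comp_apply, Subgroup.coe_subtype,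
          QuotientGroup.mk'_apply]
        rw [QuotientGroup.eq]
        have : a⁻¹ * (n * a) = a⁻¹ * n * a := by simp [mul_assoc]
        rw [this]
        have := hNn.conj_mem n hn a⁻¹
        simpa using this
      have hnil : Group.IsNilpotent (X ⧸ N) := Group.nilpotent_of_surjective _ hsurj
      exact Group.IsPerfect.not_isNilpotent (X ⧸ N) hnil
    rw [eq_top_iff]
    intro m _
    obtain ⟨x, rfl⟩ := QuotientGroup.mk'_surjective (Subgroup.center X) m
    have hx : x ∈ N := by rw [hNtop]; trivial
    exact hx
  · left
    rw [eq_bot_iff]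
    intro m hm
    obtain ⟨x, rfl⟩ := QuotientGroup.mk'_surjective (Subgroup.center X) m
    have hx : x ∈ N := hm
    have hxZ := h1 hx
    rw [Subgroup.mem_bot]
    exact (QuotientGroup.eq_one_iff x).mpr hxZ

end Cfsg.Agent.S5017
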