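import Cfsg.Statements.S5019
import Mathlib
import Cfsg.Agent.Lib.Helper8.RankOne
import Cfsg.Agent.S5017


set_option autoImplicit false
open Cfsg

namespace Cfsg.Agent.S5019


open Cfsg Cfsg.Agent.Lib.Helper8

section
variable {X : Type*} [Group X] {N : Type*} [AddCommGroup N] [DistribMulAction X N]

/-- quadratic action of a subgroup -/
def Quad (S : Subgroup X) (N : Type*) [AddCommGroup N] [DistribMulAction X N] : Prop :=
  ∀ s ∈ S, ∀ s' ∈ S, ∀ v : N, s' • (s • v - v) = s • v - v

/-- the fixed points of a subgroup -/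
def FixS (S : Subgroup X) (N : Type*) [AddCommGroup N] [DistribMulAction X N] : AddSubgroup N where
  carrier := {v | ∀ s ∈ S, s • v = v}
  add_mem' := by
    intro v w hv hw s hs
    rw [smul_add, hv s hs, hw s hs]
  zero_mem' := fun s _ => smul_zero s
  neg_mem' := by
    intro v hv s hs
    rw [smul_neg, hv s hs]

theorem mem_FixS {S : Subgroup X} {v : N} : v ∈ FixS S N ↔ ∀ s ∈ S, s • v = v := Iff.rfl

theorem word_eval (s t : X) (m : N) (hsm : s • m = m)
    (htp : t • (t • m - m) = t • m - m)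
    (hsq : s • (s • (t • m - m) - (t • m - m)) = s • (t • m - m) - (t • m - m))
    (hfix : t • (s • t⁻¹ • m) = s • t⁻¹ • m) :
    (t⁻¹ * s * t) • m = (s⁻¹ * t⁻¹ * s) • m ∧ (s⁻¹ * t * s) • m = (t⁻¹ * s⁻¹ * t) • m ∧
    m - (s • (t • m - m) - (t • m - m)) = s • t⁻¹ • m + (t • m - m) := by
  obtain ⟨p, hp⟩ : ∃ p, p = t • m - m := ⟨_, rfl⟩
  rw [← hp] at htp hsq ⊢
  obtain ⟨q, hq⟩ : ∃ q, q = s • p - p := ⟨_, rfl⟩
  rw [← hq] at hsq ⊢
  have e1 : t • m = m + p := by rw [hp]; abel
  have e2 : t⁻¹ • m = m - p := by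
    rw [inv_smul_eq_iff, smul_sub, e1, htp]; abel
  have e3 : t⁻¹ • p = p := by rw [inv_smul_eq_iff, htp]
  have e4 : s • p = p + q := by rw [hq]; abel
  have e5 : s⁻¹ • p = p - q := by rw [inv_smul_eq_iff, smul_sub, e4, hsq]; abel
  have e6 : s⁻¹ • q = q := by rw [inv_smul_eq_iff, hsq]
  have e7 : s⁻¹ • m = m := by rw [inv_smul_eq_iff, hsm]
  have e8 : t • q = p + q := by
    have h := hfix
    simp only [e2, smul_sub, smul_add, hsm, e4, e1, htp] at h
    calc t • q = m + p - p - (m + p - (p + t • q)) := by abel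
      _ = m + p - p - (m - (p + q)) := by rw [h]
      _ = p + q := by abel
  have e9 : t⁻¹ • q = q - p := by rw [inv_smul_eq_iff, smul_sub, e8, htp]; abel
  refine ⟨?_, ?_, ?_⟩
  · simp only [mul_smul, e1, smul_add, smul_sub, hsm, e4, e2, e3, e9, e7, e5]
    abel
  · simp only [mul_smul, e1, smul_add, smul_sub, hsm, e4, e2, e3, e9, e7, e5, e6]
    abel
  · simp only [e2, smul_sub, hsm, e4]
    abel

theorem conj_smul (g s : X) (w : N) : s • g • w = g • (g⁻¹ * s * g) • w := by
  rw [← mul_smul s g w, ← mul_smul g (g⁻¹ * s * g) w]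
  congr 1
  group

theorem quad_conj {A : Subgroup X} (g : X) (hq : Quad A N) : Quad (conjBy A g) N := by
  intro s hs s' hs' v
  rw [mem_conjBy] at hs hs'
  obtain ⟨w, hw⟩ : ∃ w, v = g • w := ⟨g⁻¹ • v, (smul_inv_smul g v).symm⟩
  have h := hq _ hs _ hs' w
  have e1 : s • v - v = g • ((g⁻¹ * s * g) • w - w) := by
    rw [hw, conj_smul g s w, smul_sub]
  rw [e1, conj_smul g s' _, h]

theorem fix_conj {A : Subgroup X} (g : X) {m : N} (hm : m ∈ FixS A N) :
    g • m ∈ FixS (conjBy A g) N := by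
  intro s hs
  rw [mem_conjBy] at hs
  have h := hm _ hs
  rw [conj_smul g s m, h]

theorem step_inv {S₁ S₂ : Subgroup X} (hq : Quad S₁ N) {s : X} (hs : s ∈ S₁) {v : N}
    (hv : v ∈ FixS S₁ N ⊔ FixS S₂ N) : s • v ∈ FixS S₁ N ⊔ FixS S₂ N := by
  rw [AddSubgroup.mem_sup] at hv ⊢
  obtain ⟨m, hm, m', hm', rfl⟩ := hv
  refine ⟨m + (s • m' - m'), ?_, m', hm', ?_⟩
  · apply AddSubgroup.add_mem _ hm
    intro s' hs'
    exact hq s hs s' hs' m'
  · rw [smul_add, hm s hs]; abel

end
/-- Let X be a rank one group with abelian unipotent subgroups A and B, and suppose X acts on an abelian group N (written additively) in such a way that A acts quadratically, meaning a' • (a • n − n) = a • n − n for all a, a' in A and n in N, while X as a whole does not: y • (x • n − n) ≠ x • n − n for some x, y in X and n in N. Then X is a special rank one group. -/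
theorem result {X : Type*} [Group X] {A B : Subgroup X} (h : Cfsg.IsRankOneGroup X A B)
    (hab : Cfsg.HasAbelianUnipotents A B) {N : Type*} [AddCommGroup N] [DistribMulAction X N]
    (hq : ∀ a ∈ A, ∀ a' ∈ A, ∀ n : N, a' • (a • n - n) = a • n - n)
    (hX : ∃ x y : X, ∃ n : N, y • (x • n - n) ≠ x • n - n) : Cfsg.IsSpecialRankOnePair A B := by
  refine ⟨h.2, ?_⟩
  intro a ha ha1 b hb hb1 hR
  have hne := h.2.ne
  -- B is a conjugate of A
  have hBg : B = conjBy A (a * b⁻¹) := by
    have := conjBy_eq_iff.mp hR.symm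
    rw [conjBy_conjBy, inv_inv] at this
    exact this
  have hqA : Quad A N := hq
  have hqB : Quad B N := by rw [hBg]; exact quad_conj _ hqA
  have hAg : A = conjBy B (a * b⁻¹)⁻¹ := by
    rw [hBg, conjBy_conjBy]; simp
  -- the invariant subgroup
  obtain ⟨M, hM⟩ : ∃ M : AddSubgroup N, M = FixS A N ⊔ FixS B N := ⟨_, rfl⟩
  have hAM : FixS A N ≤ M := by rw [hM]; exact le_sup_left
  have hBM : FixS B N ≤ M := by rw [hM]; exact le_sup_right
  have stepA : ∀ s ∈ A, ∀ v ∈ M, s • v ∈ M := by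
    intro s hs v hv; rw [hM] at hv ⊢; exact step_inv hqA hs hv
  have stepB : ∀ s ∈ B, ∀ v ∈ M, s • v ∈ M := by
    intro s hs v hv
    rw [hM, sup_comm] at hv ⊢
    exact step_inv hqB hs hv
  let S : Subgroup X :=
    { carrier := {x | (∀ v ∈ M, x • v ∈ M) ∧ (∀ v ∈ M, x⁻¹ • v ∈ M)}
      mul_mem' := by
        rintro x y ⟨hx1, hx2⟩ ⟨hy1, hy2⟩
        refine ⟨fun v hv => ?_, fun v hv => ?_⟩
        · rw [mul_smul]; exact hx1 _ (hy1 _ hv)
        · rw [mul_inv_rev, mul_smul]; exact hy2 _ (hx2 _ hv)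
      one_mem' := by
        refine ⟨fun v hv => ?_, fun v hv => ?_⟩
        · rw [one_smul]; exact hv
        · rw [inv_one, one_smul]; exact hv
      inv_mem' := by
        rintro x ⟨hx1, hx2⟩
        refine ⟨hx2, fun v hv => ?_⟩
        rw [inv_inv]; exact hx1 v hv }
  have hStop : (⊤ : Subgroup X) ≤ S := by
    rw [← h.1]
    apply sup_le
    · intro s hs
      exact ⟨stepA s hs, stepA s⁻¹ (A.inv_mem hs)⟩
    · intro s hs
      exact ⟨stepB s hs, stepB s⁻¹ (B.inv_mem hs)⟩
  have hinv : ∀ x : X, ∀ v ∈ M, x • v ∈ M := fun x => (hStop (Subgroup.mem_top x)).1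
  let T : Subgroup X :=
    { carrier := {x | ∀ n : N, x • n - n ∈ M}
      mul_mem' := by
        intro x y hx hy n
        have : (x * y) • n - n = x • (y • n - n) + (x • n - n) := by
          rw [mul_smul, smul_sub]; abel
        rw [this]
        exact M.add_mem (hinv x _ (hy n)) (hx n)
      one_mem' := by
        intro n
        rw [one_smul, sub_self]; exact M.zero_mem
      inv_mem' := by
        intro x hx n
        have : x⁻¹ • n - n = -(x⁻¹ • (x • n - n)) := by
          rw [smul_sub, inv_smul_smul]; abel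
        rw [this]
        exact M.neg_mem (hinv x⁻¹ _ (hx n)) }
  have hTtop : (⊤ : Subgroup X) ≤ T := by
    rw [← h.1]
    apply sup_le
    · intro s hs n
      apply hAM
      intro s' hs'
      exact hqA s hs s' hs' n
    · intro s hs n
      apply hBM
      intro s' hs'
      exact hqB s hs s' hs' n
  have hcomm : ∀ x : X, ∀ n : N, x • n - n ∈ M := fun x => hTtop (Subgroup.mem_top x)
  -- fixed by A and B implies fixed by X
  have hfixX : ∀ v : N, v ∈ FixS A N → v ∈ FixS B N → ∀ x : X, x • v = v := by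
    intro v hvA hvB x
    have : (⊤ : Subgroup X) ≤ MulAction.stabilizer X v := by
      rw [← h.1]
      apply sup_le
      · intro s hs; exact hvA s hs
      · intro s hs; exact hvB s hs
    exact this (Subgroup.mem_top x)
  -- kernel on M
  let K : Subgroup X :=
    { carrier := {x | ∀ v ∈ M, x • v = v}
      mul_mem' := by
        intro x y hx hy v hv
        rw [mul_smul, hy v hv, hx v hv]
      one_mem' := fun v _ => one_smul _ v
      inv_mem' := by
        intro x hx v hv
        rw [inv_smul_eq_iff, hx v hv] }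
  have hKn : K.Normal := by
    constructor
    intro x hx g v hv
    have h1 := hx (g⁻¹ • v) (hinv _ v hv)
    rw [mul_smul, mul_smul, h1, smul_inv_smul]
  -- word equality on M
  have hgA : ∀ m ∈ FixS A N, (a * b⁻¹) • m ∈ FixS B N := by
    intro m hm
    have := fix_conj (a * b⁻¹) hm
    rwa [← hBg] at this
  have hgB : ∀ m ∈ FixS B N, (a * b⁻¹)⁻¹ • m ∈ FixS A N := by
    intro m hm
    have := fix_conj (a * b⁻¹)⁻¹ hm
    rwa [← hAg] at this
  have evalA : ∀ m ∈ FixS A N, (b⁻¹ * a * b) • m = (a⁻¹ * b⁻¹ * a) • m ∧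
      m - (a • (b • m - m) - (b • m - m)) = a • b⁻¹ • m + (b • m - m) := by
    intro m hm
    have hfix : b • (a • b⁻¹ • m) = a • b⁻¹ • m := by
      have := hgA m hm b hb
      rwa [mul_smul] at this
    have := word_eval a b m (hm a ha) (hqB b hb b hb m) (hqA a ha a ha _) hfix
    exact ⟨this.1, this.2.2⟩
  have evalB : ∀ m ∈ FixS B N, (b⁻¹ * a * b) • m = (a⁻¹ * b⁻¹ * a) • m ∧
      m - (b • (a • m - m) - (a • m - m)) = b • a⁻¹ • m + (a • m - m) := by
    intro m hm
    have hfix : a • (b • a⁻¹ • m) = b • a⁻¹ • m := by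
      have := hgB m hm a ha
      rwa [mul_inv_rev, inv_inv, mul_smul] at this
    have := word_eval b a m (hm b hb) (hqA a ha a ha m) (hqB b hb b hb _) hfix
    exact ⟨this.2.1, this.2.2⟩
  have hword : ∀ v ∈ M, (b⁻¹ * a * b) • v = (a⁻¹ * b⁻¹ * a) • v := by
    intro v hv
    rw [hM, AddSubgroup.mem_sup] at hv
    obtain ⟨m, hm, m', hm', rfl⟩ := hv
    rw [smul_add, smul_add, (evalA m hm).1, (evalB m' hm').1]
  have hrank' : Cfsg.IsRankOneGroup X B A := ⟨by rw [sup_comm]; exact h.1, RankOnePair_symm h.2⟩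
  have hcen : K ≤ Subgroup.center X → b⁻¹ * a * b = a⁻¹ * b⁻¹ * a := by
    intro hKc
    have hcK : (b⁻¹ * a * b) * (a⁻¹ * b⁻¹ * a)⁻¹ ∈ K := by
      intro v hv
      have hv' : (a⁻¹ * b⁻¹ * a)⁻¹ • v ∈ M := hinv _ v hv
      rw [mul_smul, hword _ hv', smul_inv_smul]
    have hc := hKc hcK
    have hcC : (b⁻¹ * a * b) * (a⁻¹ * b⁻¹ * a)⁻¹ ∈ conjBy A b⁻¹ := by
      apply Subgroup.mul_mem
      · rw [mem_conjBy]
        have : b⁻¹⁻¹ * (b⁻¹ * a * b) * b⁻¹ = a := by group
        rw [this]; exact ha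
      · apply Subgroup.inv_mem
        rw [hR, mem_conjBy]
        have : a⁻¹⁻¹ * (a⁻¹ * b⁻¹ * a) * a⁻¹ = b⁻¹ := by group
        rw [this]; exact B.inv_mem hb
    rw [mem_conjBy] at hcC
    rw [Subgroup.mem_center_iff] at hc
    have hcA : (b⁻¹ * a * b) * (a⁻¹ * b⁻¹ * a)⁻¹ ∈ A := by
      have e : b⁻¹⁻¹ * ((b⁻¹ * a * b) * (a⁻¹ * b⁻¹ * a)⁻¹) * b⁻¹ =
          (b⁻¹ * a * b) * (a⁻¹ * b⁻¹ * a)⁻¹ := by
        rw [hc b⁻¹⁻¹]; group
      rw [e] at hcC
      exact hcC
    have hcN : (b⁻¹ * a * b) * (a⁻¹ * b⁻¹ * a)⁻¹ ∈ A ⊓ Subgroup.normalizer (B : Set X) :=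
      ⟨hcA, Subgroup.center_le_normalizer _ (hKc hcK)⟩
    rw [rankOne_inf_normalizer h.2.ne h.2.cond_left, Subgroup.mem_bot] at hcN
    exact mul_inv_eq_one.mp hcN
  rcases (Cfsg.Agent.S5017.result h).1 K hKn with hKA | hKc
  · rcases (Cfsg.Agent.S5017.result hrank').1 K hKn with hKB | hKc
    · exfalso
      -- b acts on M like an element of A; a acts on M like an element of B
      have hb' : b ∈ (↑(K ⊔ A) : Set X) := by rw [hKA]; trivial
      rw [Subgroup.normal_mul, Set.mem_mul] at hb'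
      obtain ⟨k, hk, ab, hab, hkab⟩ := hb'
      have ha' : a ∈ (↑(K ⊔ B) : Set X) := by rw [hKB]; trivial
      rw [Subgroup.normal_mul, Set.mem_mul] at ha'
      obtain ⟨k', hk', ba, hba, hkba⟩ := ha'
      have hFA : ∀ m ∈ FixS A N, ∀ x : X, x • m = m := by
        intro m hm
        have hbm : b • m = m := by
          rw [← hkab, mul_smul, hm ab hab]
          exact hk m (hAM hm)
        have h2 := (evalA m hm).2
        rw [hbm, sub_self, smul_zero, sub_self, sub_zero, add_zero] at h2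
        have h3 : m ∈ FixS B N := by
          rw [h2, ← mul_smul]; exact hgA m hm
        exact hfixX m hm h3
      have hFB : ∀ m ∈ FixS B N, ∀ x : X, x • m = m := by
        intro m hm
        have ham : a • m = m := by
          rw [← hkba, mul_smul, hm ba hba]
          exact hk' m (hBM hm)
        have h2 := (evalB m hm).2
        rw [ham, sub_self, smul_zero, sub_self, sub_zero, add_zero] at h2
        have h3 : m ∈ FixS A N := by
          rw [h2, ← mul_smul]
          have := hgB m hm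
          rwa [mul_inv_rev, inv_inv] at this
        exact hfixX m h3 hm
      obtain ⟨x, y, n, hxy⟩ := hX
      apply hxy
      have hmem := hcomm x n
      rw [hM, AddSubgroup.mem_sup] at hmem
      obtain ⟨m, hm, m', hm', hmm⟩ := hmem
      rw [← hmm, smul_add, hFA m hm y, hFB m' hm' y]
    · exact hcen hKc
  · exact hcen hKc


end Cfsg.Agent.S5019
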