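import Cfsg.Statements.S5023
import Mathlib
import Cfsg.Agent.Lib.Helper8.RankOne
import Cfsg.Agent.Lib.Helper2.SpecialRankOne
import Cfsg.Agent.S5019


set_option autoImplicit false
open Cfsg

namespace Cfsg.Agent.S5023


open Cfsg Cfsg.Agent.Lib.Helper8

theorem comm_of_quad {X : Type*} [Group X] {V : Type*} [AddCommGroup V] [DistribMulAction X V]
    (hf : ∀ x : X, (∀ v : V, x • v = v) → x = 1) (S : Subgroup X)
    (hq : Cfsg.Agent.S5019.Quad S V) : ∀ x ∈ S, ∀ y ∈ S, x * y = y * x := by
  intro x hx y hy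
  have key : ∀ v : V, (x * y) • v = (y * x) • v := by
    intro v
    have h1 := hq y hy x hx v
    have h2 := hq x hx y hy v
    rw [smul_sub] at h1 h2
    rw [mul_smul, mul_smul]
    have e1 : x • y • v = y • v - v + x • v := by rw [← h1]; abel
    have e2 : y • x • v = x • v - v + y • v := by rw [← h2]; abel
    rw [e1, e2]; abel
  have h3 : (x * y)⁻¹ * (y * x) = 1 := by
    apply hf
    intro v
    rw [mul_smul, ← key v, inv_smul_smul]
  exact inv_mul_eq_one.mp h3
/-- Let X be a rank one group with unipotent subgroups A and B that acts faithfully on an abelian group V (written additively) with A acting quadratically: a' • (a • v − v) = a • v − v for all a, a' in A and v in V. Then A is either torsion-free or an elementary abelian p-group for some prime p. -/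
theorem result {X : Type*} [Group X] {A B : Subgroup X} (h : Cfsg.IsRankOneGroup X A B)
    {V : Type*} [AddCommGroup V] [DistribMulAction X V] (hf : ∀ x : X, (∀ v : V, x • v = v) → x = 1)
    (hq : ∀ a ∈ A, ∀ a' ∈ A, ∀ v : V, a' • (a • v - v) = a • v - v) :
    (∀ a ∈ A, a ≠ 1 → ¬ IsOfFinOrder a) ∨ ∃ p : ℕ, p.Prime ∧ Cfsg.IsElementaryAbelian p A := by
  have hne := h.2.ne
  have hA : ∃ a ∈ A, a ≠ 1 := by
    by_contra hno
    push Not at hno
    apply hne
    have hAbot : A = ⊥ := (Subgroup.eq_bot_iff_forall A).2 hno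
    have hBbot : B = ⊥ := by
      rw [Subgroup.eq_bot_iff_forall]
      intro b hb
      by_contra hb1
      obtain ⟨a, ha, ha1, _⟩ := h.2.cond_right b hb hb1
      exact ha1 (hno a ha)
    rw [hAbot, hBbot]
  obtain ⟨a, ha, ha1⟩ := hA
  obtain ⟨b, hb, hb1, hR⟩ := h.2.cond_left a ha ha1
  have hBg : B = conjBy A (a * b⁻¹) := by
    have := conjBy_eq_iff.mp hR.symm
    rw [conjBy_conjBy, inv_inv] at this
    exact this
  have hqA : Cfsg.Agent.S5019.Quad A V := hq
  have hqB : Cfsg.Agent.S5019.Quad B V := by rw [hBg]; exact Cfsg.Agent.S5019.quad_conj _ hqA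
  have commA := comm_of_quad hf A hqA
  have commB := comm_of_quad hf B hqB
  have hab : Cfsg.HasAbelianUnipotents A B :=
    ⟨⟨⟨fun x y => Subtype.ext (commA x.1 x.2 y.1 y.2)⟩⟩,
     ⟨⟨fun x y => Subtype.ext (commB x.1 x.2 y.1 y.2)⟩⟩⟩
  have hX : ∃ x y : X, ∃ n : V, y • (x • n - n) ≠ x • n - n := by
    by_contra hno
    push Not at hno
    have hqX : Cfsg.Agent.S5019.Quad (⊤ : Subgroup X) V := fun s _ s' _ v => hno s s' v
    have commX := comm_of_quad hf ⊤ hqX
    have haN : a ∈ A ⊓ Subgroup.normalizer (B : Set X) := by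
      refine ⟨ha, ?_⟩
      show a ∈ Subgroup.normalizer (B : Set X)
      rw [Subgroup.mem_normalizer_iff]
      intro x
      have : a * x * a⁻¹ = x := by
        rw [commX a (Subgroup.mem_top a) x (Subgroup.mem_top x)]; group
      rw [this]
    rw [rankOne_inf_normalizer h.2.ne h.2.cond_left, Subgroup.mem_bot] at haN
    exact ha1 haN
  have hs := Cfsg.Agent.S5019.result h hab hq hX
  rcases Cfsg.Agent.Lib.Helper2.SpecialRankOne.dichotomy
    (Cfsg.Agent.Lib.Helper2.SpecialRankOne.Hyp.of_special hs) hab.1 with h1 | h1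
  · right; exact h1
  · left; exact h1.1


end Cfsg.Agent.S5023
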