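import Cfsg.Statements.S5024
import Cfsg.Agent.Lib.Helper8.RootSet

set_option autoImplicit false
open Cfsg

namespace Cfsg.Agent.S5024

open Cfsg.Agent.Lib.Helper8

/-- A member of `S` inside the rank one group `⟨C,D⟩` that is not in `Ω(C,D)` centralizes `⟨C,D⟩`. -/
theorem centralizes_of_not_mem {G : Type*} [Group G] {S : Set (Subgroup G)} (hS : Cfsg.IsRootSubgroupSet S)
    {C D : Subgroup G} (hC : C ∈ S) (hCD : IsRankOnePair C D)
    {A' : Subgroup G} (hA' : A' ∈ S) (hle : A' ≤ C ⊔ D) (hnot : A' ∉ unipotentSubgroups C D) :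
    ∀ a ∈ A', ∀ y ∈ C ⊔ D, a * y = y * a := by
  have hΩS : ∀ E ∈ unipotentSubgroups C D, E ∈ S := by
    rintro E ⟨x, -, rfl⟩
    exact hS.conj_mem C hC x
  have hAne : A' ≠ ⊥ := hS.ne_bot A' hA'
  -- A' commutes with each E ∈ Ω
  have hcomm : ∀ E ∈ unipotentSubgroups C D, ⁅A', E⁆ = ⊥ := by
    intro E hE
    rcases hS.pair A' hA' E (hΩS E hE) with h1 | h1 | h1
    · exact h1
    · exfalso
      obtain ⟨a, ha, ha1⟩ := exists_ne_one_of_ne_bot hAne
      obtain ⟨e, he, -, hae⟩ := h1.cond_left a ha ha1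
      apply hnot
      have hAE : A' = conjBy E (e * a⁻¹) := by
        rw [← conjBy_conjBy, ← hae, conjBy_conjBy]; simp
      rw [hAE]
      apply unipotent_conj_mem hE
      exact Subgroup.mul_mem _ (unipotent_le_sup hE he) (Subgroup.inv_mem _ (hle ha))
    · exfalso
      obtain ⟨hFS, hcent, -, -⟩ := h1
      have hFne : ⁅A', E⁆ ≠ ⊥ := hS.ne_bot _ hFS
      -- every a ∈ A' normalizes E
      have hnorm : ∀ a ∈ A', conjBy E a = E := by
        intro a ha
        apply rankOne_commutator_normalizes hCD hE (hle ha) (F := ⁅A', E⁆)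
        · intro f hf e he
          exact hcent f hf e (Subgroup.mem_sup_right he)
        · intro e he
          have := Subgroup.commutator_mem_commutator ha he
          rwa [commutatorElement_def] at this
      have hFE : ⁅A', E⁆ ≤ E := by
        rw [Subgroup.commutator_le]
        intro a ha e he
        rw [commutatorElement_def]
        exact E.mul_mem (conj_mem_of_conjBy_eq (hnorm a ha) he) (E.inv_mem he)
      -- E is in a rank one pair with another member of Ω
      obtain ⟨E', hE', hEE'⟩ : ∃ E' ∈ unipotentSubgroups C D, E ≠ E' := by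
        by_cases hEC : E = C
        · exact ⟨D, rankOne_right_mem_unipotent hCD, hEC ▸ hCD.ne⟩
        · exact ⟨C, rankOne_left_mem_unipotent C D, hEC⟩
      obtain ⟨hp, -, -⟩ := rankOne_pair_of_mem hCD hE hE' hEE'
      rcases rootSet_inf_eq_bot hS (hΩS E' hE') hp hFS with h2 | h2
      · apply hFne
        rw [← h2]
        exact (inf_eq_right.mpr hFE).symm
      · -- E = ⁅A', E⁆ is central in ⟨A', E⟩, so ⁅A', E⁆ = ⊥
        apply hFne
        rw [Subgroup.commutator_eq_bot_iff_le_centralizer]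
        intro a ha
        rw [Subgroup.mem_centralizer_iff]
        intro e he
        have he' : e ∈ ⁅A', E⁆ := h2 ▸ he
        exact hcent e he' a (Subgroup.mem_sup_left ha)
  intro a ha
  have hC' := hcomm C (rankOne_left_mem_unipotent C D)
  have hD' := hcomm D (rankOne_right_mem_unipotent hCD)
  have := mem_centralizer_sup (A := C) (B := D) (n := a)
    (fun c hc => commute_of_commutator_eq_bot hC' ha hc)
    (fun d hd => commute_of_commutator_eq_bot hD' ha hd)
  rw [Subgroup.mem_centralizer_iff] at this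
  intro y hy
  exact (this y hy).symm

theorem mem_unipotent {G : Type*} [Group G] {S : Set (Subgroup G)} (hS : Cfsg.IsRootSubgroupSet S)
    {A B C D : Subgroup G} (hA : A ∈ S) (hC : C ∈ S) (hAB : IsRankOnePair A B) (hCD : IsRankOnePair C D)
    (hle : A ⊔ B ≤ C ⊔ D) : A ∈ unipotentSubgroups C D := by
  by_contra hnot
  have hcent := centralizes_of_not_mem hS hC hCD hA (le_trans le_sup_left hle) hnot
  have hbot := rankOne_inf_normalizer hAB.ne hAB.cond_left
  apply rankOne_left_ne_bot hAB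
  rw [eq_bot_iff]
  intro a ha
  have : a ∈ A ⊓ Subgroup.normalizer (B : Set G) :=
    ⟨ha, mem_normalizer_of_commute (fun b hb => hcent a ha b (hle (Subgroup.mem_sup_right hb)))⟩
  rwa [hbot] at this

theorem result {G : Type*} [Group G] {S : Set (Subgroup G)} (hS : Cfsg.IsRootSubgroupSet S)
    {A B C D : Subgroup G} (hA : A ∈ S) (hC : C ∈ S) (hB : B ∈ Cfsg.rankOnePartners S A) (hD : D ∈ Cfsg.rankOnePartners S C)
    (hle : A ⊔ B ≤ C ⊔ D) : A ⊔ B = C ⊔ D ∧ C ∈ Cfsg.unipotentSubgroups A B ∧ D ∈ Cfsg.unipotentSubgroups A B := by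
  obtain ⟨hBS, hAB⟩ := hB
  obtain ⟨hDS, hCD⟩ := hD
  have hAΩ : A ∈ unipotentSubgroups C D := mem_unipotent hS hA hC hAB hCD hle
  have hBΩ : B ∈ unipotentSubgroups C D :=
    mem_unipotent hS hBS hC (RankOnePair_symm hAB) hCD (by rw [sup_comm]; exact hle)
  obtain ⟨-, hsup, x, hx, hxA, hxB⟩ := rankOne_pair_of_mem hCD hAΩ hBΩ hAB.ne
  have hx' : x⁻¹ ∈ A ⊔ B := by rw [hsup]; exact Subgroup.inv_mem _ hx
  refine ⟨hsup, ⟨x⁻¹, hx', conjBy_eq_iff.mp hxA⟩, ?_⟩
  have hD_eq : D = conjBy B x⁻¹ := conjBy_eq_iff.mp hxB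
  rw [hD_eq]
  exact unipotent_conj_mem (rankOne_right_mem_unipotent hAB) hx'

end Cfsg.Agent.S5024
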