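import Cfsg.Statements.S5026
import Cfsg.Agent.Lib.Helper8.RootSet
import Cfsg.Agent.S5024

set_option autoImplicit false
open Cfsg

namespace Cfsg.Agent.S5026

open Cfsg.Agent.Lib.Helper8

theorem le_centralizer_zpowers_iff {G : Type*} [Group G] {E : Subgroup G} {x : G} :
    E ≤ Subgroup.centralizer ((Subgroup.zpowers x : Subgroup G) : Set G) ↔ ∀ e ∈ E, e * x = x * e := by
  rw [Subgroup.le_centralizer_iff, Subgroup.zpowers_le, Subgroup.mem_centralizer_iff]
  exact Iff.rfl

/-- Two commuting non-identity elements of the two members of a rank one pair do not exist. -/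
theorem rankOne_no_commuting {G : Type*} [Group G] {A B : Subgroup G} (h : IsRankOnePair A B)
    {a b : G} (ha : a ∈ A) (ha1 : a ≠ 1) (hb : b ∈ B) (hb1 : b ≠ 1) (hab : a * b = b * a) : False := by
  have hbot := rankOne_inf_normalizer h.ne h.cond_left
  have hne : conjBy B a ≠ B := by
    intro hcon
    have : a ∈ A ⊓ Subgroup.normalizer (B : Set G) := ⟨ha, mem_normalizer_iff_conjBy.mpr hcon⟩
    rw [hbot, Subgroup.mem_bot] at this
    exact ha1 this
  obtain ⟨hp, -, -⟩ := rankOne_pair_of_mem h (conjBy_right_mem_unipotent h ha)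
    (rankOne_right_mem_unipotent h) hne
  have hbot' := rankOne_inf_normalizer hp.ne hp.cond_left
  have hb' : b ∈ conjBy B a := by
    rw [mem_conjBy]
    have : a⁻¹ * b * a = b := by
      rw [mul_assoc, ← hab]; simp
    rw [this]; exact hb
  have : b ∈ conjBy B a ⊓ Subgroup.normalizer (B : Set G) := ⟨hb', Subgroup.le_normalizer hb⟩
  rw [hbot', Subgroup.mem_bot] at this
  exact hb1 this

theorem key {G : Type*} [Group G] {S : Set (Subgroup G)} (hS : Cfsg.IsRootSubgroupSet S)
    (hdeg : Cfsg.IsDegenerateRootSet S)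
    {a b : G} {A B E : Subgroup G} (hA : A ∈ S) (hB : B ∈ S) (hE : E ∈ S)
    (haA : a ∈ A) (ha1 : a ≠ 1) (hbB : b ∈ B) (hb1 : b ≠ 1)
    (hab : a * b = b * a) (hab1 : a * b ≠ 1)
    (hEab : ∀ e ∈ E, e * (a * b) = (a * b) * e) : ∀ e ∈ E, e * a = a * e := by
  rcases hS.pair E hE A hA with h1 | h1 | h1
  · intro e he
    exact commute_of_commutator_eq_bot h1 he haA
  · rcases hS.pair E hE B hB with h2 | h2 | h2
    · intro e he
      have hb' := commute_of_commutator_eq_bot h2 he hbB
      have hab' := hEab e he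
      -- e a = e (a b) b⁻¹ = (a b) e b⁻¹ = (a b) b⁻¹ e = a e
      have hb'' : e * b⁻¹ = b⁻¹ * e := by
        have := congrArg (fun t => b⁻¹ * t * b⁻¹) hb'
        simpa [mul_assoc] using this.symm
      calc e * a = e * (a * b) * b⁻¹ := by simp [mul_assoc]
        _ = a * b * e * b⁻¹ := by rw [hab']
        _ = a * b * (e * b⁻¹) := by simp [mul_assoc]
        _ = a * b * (b⁻¹ * e) := by rw [hb'']
        _ = a * e := by simp [mul_assoc]
    · exfalso
      -- conjBy E b = conjBy E a⁻¹
      have hE' : conjBy E b = conjBy E a⁻¹ := by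
        have h3 : conjBy E (a * b) = E := by
          rw [← mem_normalizer_iff_conjBy]
          apply mem_normalizer_of_commute
          intro e he
          exact (hEab e he).symm
        rw [← conjBy_conjBy] at h3
        exact conjBy_eq_iff.mp h3
      have hpA : IsRankOnePair A E := RankOnePair_symm h1
      have hpB : IsRankOnePair B E := RankOnePair_symm h2
      have hbotA := rankOne_inf_normalizer hpA.ne hpA.cond_left
      have hne : conjBy E a⁻¹ ≠ E := by
        intro hcon
        have : a⁻¹ ∈ A ⊓ Subgroup.normalizer (E : Set G) :=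
          ⟨A.inv_mem haA, mem_normalizer_iff_conjBy.mpr hcon⟩
        rw [hbotA, Subgroup.mem_bot] at this
        exact ha1 (inv_eq_one.mp this)
      have hΩA : conjBy E a⁻¹ ∈ unipotentSubgroups A E :=
        conjBy_right_mem_unipotent hpA (A.inv_mem haA)
      have hΩB : conjBy E b ∈ unipotentSubgroups B E :=
        conjBy_right_mem_unipotent hpB hbB
      obtain ⟨-, hsupA, -⟩ := rankOne_pair_of_mem hpA hΩA (rankOne_right_mem_unipotent hpA) hne
      obtain ⟨-, hsupB, -⟩ := rankOne_pair_of_mem hpB hΩB (rankOne_right_mem_unipotent hpB)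
        (hE' ▸ hne)
      have hsup : A ⊔ E = B ⊔ E := by rw [← hsupA, ← hsupB, hE']
      have hAΩ : A ∈ unipotentSubgroups B E :=
        Cfsg.Agent.S5024.mem_unipotent hS hA hB hpA hpB hsup.le
      by_cases hAB : A = B
      · subst hAB
        have : a * b ∈ A ⊓ Subgroup.normalizer (E : Set G) :=
          ⟨A.mul_mem haA hbB, mem_normalizer_of_commute (fun e he => (hEab e he).symm)⟩
        rw [hbotA, Subgroup.mem_bot] at this
        exact hab1 this
      · obtain ⟨hp, -, -⟩ := rankOne_pair_of_mem hpB hAΩ (rankOne_left_mem_unipotent B E) hAB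
        exact rankOne_no_commuting hp haA ha1 hbB hb1 hab
    · exact absurd h2 (hdeg E hE B hB)
  · exact absurd h1 (hdeg E hE A hA)

theorem result {G : Type*} [Group G] {S : Set (Subgroup G)} (hS : Cfsg.IsRootSubgroupSet S) (hdeg : Cfsg.IsDegenerateRootSet S)
    {a b : G} (ha : a ∈ Cfsg.rootElements S) (hb : b ∈ Cfsg.rootElements S) (hab : a * b = b * a) (hab1 : a * b ≠ 1) :
    Cfsg.centralizingMembers S (Subgroup.zpowers (a * b)) =
      Cfsg.centralizingMembers S (Subgroup.zpowers a) ∩ Cfsg.centralizingMembers S (Subgroup.zpowers b) := by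
  obtain ⟨ha1, A, hA, haA⟩ := ha
  obtain ⟨hb1, B, hB, hbB⟩ := hb
  ext E
  simp only [centralizingMembers, Set.mem_ofPred_eq, Set.mem_inter_iff, le_centralizer_zpowers_iff]
  constructor
  · rintro ⟨hE, hEab⟩
    refine ⟨⟨hE, key hS hdeg hA hB hE haA ha1 hbB hb1 hab hab1 hEab⟩,
      ⟨hE, key hS hdeg hB hA hE hbB hb1 haA ha1 hab.symm (hab ▸ hab1) (hab ▸ hEab)⟩⟩
  · rintro ⟨⟨hE, hEa⟩, ⟨-, hEb⟩⟩
    refine ⟨hE, ?_⟩
    intro e he
    calc e * (a * b) = (e * a) * b := by simp [mul_assoc]
      _ = a * (e * b) := by rw [hEa e he]; simp [mul_assoc]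
      _ = a * b * e := by rw [hEb e he]; simp [mul_assoc]

end Cfsg.Agent.S5026
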