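import Cfsg.Statements.S5027
import Cfsg.Agent.Lib.Helper8.RootSet

set_option autoImplicit false
open Cfsg

namespace Cfsg.Agent.S5027

open Cfsg.Agent.Lib.Helper8

theorem result {G : Type*} [Group G] {S : Set (Subgroup G)} (hS : Cfsg.IsRootSubgroupSet S)
    (hF : ∀ A ∈ S, ¬ Cfsg.IsIsolatedIn (Cfsg.FAdj S) S A) : Subgroup.upperCentralSeries G 2 = Subgroup.center G := by
  apply le_antisymm
  · intro z hz
    -- z centralizes every member of S
    have hzA : ∀ A ∈ S, A ≤ Subgroup.centralizer ({z} : Set G) := by
      intro A hAS a ha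
      rw [Subgroup.mem_centralizer_iff]
      intro m hm
      rw [Set.mem_singleton_iff] at hm
      subst hm
      by_cases ha1 : a = 1
      · rw [ha1]; simp
      obtain ⟨B, hB, hAB⟩ := (not_isolated_iff hAS).mp (hF A hAS)
      have hc : m * a * m⁻¹ * a⁻¹ ∈ Subgroup.center G := by
        have := (Subgroup.mem_upperCentralSeries_succ_iff (n := 1)).mp hz a
        rwa [Subgroup.upperCentralSeries_one] at this
      by_contra hne
      have hc1 : m * a * m⁻¹ * a⁻¹ ≠ 1 := by
        intro h1
        apply hne
        have := congrArg (fun t => t * a * m) h1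
        simpa [mul_assoc] using this
      have hcz : m * a * m⁻¹ * a⁻¹ ∈ Subgroup.centralizer ((A ⊔ B : Subgroup G) : Set G) :=
        Subgroup.center_le_centralizer _ hc
      have hnot := rootSet_central_mul_not_root hS hB hAB hcz hc1 ha ha1
      apply hnot
      have e : m * a * m⁻¹ * a⁻¹ * a = m * a * m⁻¹ := by simp [mul_assoc]
      rw [e]
      refine ⟨?_, conjBy A m, hS.conj_mem A hAS m, ?_⟩
      · intro h1
        apply ha1
        have := congrArg (fun t => m⁻¹ * t * m) h1
        simpa [mul_assoc] using this
      · rw [mem_conjBy]; simpa [mul_assoc] using ha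
    have htop : (⊤ : Subgroup G) ≤ Subgroup.centralizer ({z} : Set G) := by
      rw [← hS.generates]
      exact iSup₂_le hzA
    rw [Subgroup.mem_center_iff]
    intro g
    have := htop (Subgroup.mem_top g)
    rw [Subgroup.mem_centralizer_iff] at this
    exact (this z rfl).symm
  · rw [← Subgroup.upperCentralSeries_one]
    exact Subgroup.upperCentralSeries_mono G (by norm_num)

end Cfsg.Agent.S5027
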