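import Cfsg.Statements.S5035
import Mathlib


set_option autoImplicit false
open Cfsg

namespace Cfsg.Agent.S5035

section
variable {G H : Type*} [Group G] [Group H]

theorem conj_map (f : G →* H) (A : Subgroup G) (g : G) :
    (Cfsg.conjBy A g).map f = Cfsg.conjBy (A.map f) (f g) := by
  show (A.map (MulAut.conj g).toMonoidHom).map f = (A.map f).map (MulAut.conj (f g)).toMonoidHom
  rw [Subgroup.map_map, Subgroup.map_map]
  congr 1
  ext x
  simp [MulAut.conj_apply]

theorem conj_self (A : Subgroup H) (x : H) (hx : x ∈ A) : Cfsg.conjBy A x = A := by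
  ext y
  show y ∈ A.map (MulAut.conj x).toMonoidHom ↔ y ∈ A
  rw [Subgroup.mem_map_equiv]
  have h1 : (MulAut.conj x).symm y = x⁻¹ * y * x := by rw [MulAut.conj_symm_apply]
  rw [h1]
  constructor
  · intro h
    have h2 : y = x * (x⁻¹ * y * x) * x⁻¹ := by simp [mul_assoc]
    rw [h2]
    exact A.mul_mem (A.mul_mem hx h) (A.inv_mem hx)
  · intro h
    exact A.mul_mem (A.mul_mem (A.inv_mem hx) h) hx

theorem conj_conj (A : Subgroup H) (x : H) : Cfsg.conjBy (Cfsg.conjBy A x⁻¹) x = A := by
  show (A.map (MulAut.conj x⁻¹).toMonoidHom).map (MulAut.conj x).toMonoidHom = A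
  rw [Subgroup.map_map]
  have h1 : (MulAut.conj x).toMonoidHom.comp (MulAut.conj x⁻¹).toMonoidHom = MonoidHom.id H := by
    ext y
    simp only [MonoidHom.comp_apply, MulEquiv.coe_toMonoidHom, MulAut.conj_apply, MonoidHom.id_apply]
    group
  rw [h1, Subgroup.map_id]

theorem conj_eq_bot (A : Subgroup H) (x : H) (h : Cfsg.conjBy A x = ⊥) : A = ⊥ :=
  (Subgroup.map_eq_bot_iff_of_injective A (MulAut.conj x).injective).1 h

theorem cond_map (f : G →* H) {A B : Subgroup G} (h : Cfsg.RankOneCondition A B)
    (hne : A.map f ≠ B.map f) : Cfsg.RankOneCondition (A.map f) (B.map f) := by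
  rintro _ ⟨a, ha, rfl⟩ ha1
  have ha1' : a ≠ 1 := by
    rintro rfl
    exact ha1 (map_one f)
  obtain ⟨b, hb, hb1, hconj⟩ := h a ha ha1'
  have hconj' : Cfsg.conjBy (A.map f) (f b)⁻¹ = Cfsg.conjBy (B.map f) (f a)⁻¹ := by
    rw [← map_inv, ← map_inv, ← conj_map, ← conj_map, hconj]
  refine ⟨f b, ⟨b, hb, rfl⟩, ?_, hconj'⟩
  intro hfb
  apply hne
  rw [hfb, inv_one] at hconj'
  have h1 : Cfsg.conjBy (A.map f) 1 = A.map f := conj_self _ _ (Subgroup.one_mem _)
  rw [h1] at hconj'
  have h2 := conj_conj (B.map f) (f a)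
  rw [← hconj'] at h2
  rw [conj_self (A.map f) (f a) ⟨a, ha, rfl⟩] at h2
  exact h2

theorem pair_map (f : G →* H) {A B : Subgroup G} (h : Cfsg.IsRankOnePair A B)
    (hne : A.map f ≠ B.map f) : Cfsg.IsRankOnePair (A.map f) (B.map f) := by
  haveI := h.nilpotent_left
  haveI := h.nilpotent_right
  exact ⟨hne, Group.nilpotent_of_surjective (f.subgroupMap A) (f.subgroupMap_surjective A),
    Group.nilpotent_of_surjective (f.subgroupMap B) (f.subgroupMap_surjective B),
    cond_map f h.cond_left hne, cond_map f h.cond_right (Ne.symm hne)⟩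

theorem comm_map (f : G →* H) {A : Subgroup G} (hA : IsMulCommutative A) :
    IsMulCommutative (A.map f) := by
  refine ⟨⟨fun x y => ?_⟩⟩
  obtain ⟨a, ha, hax⟩ := x.2
  obtain ⟨b, hb, hby⟩ := y.2
  apply Subtype.ext
  show (x : H) * y = y * x
  rw [← hax, ← hby, ← map_mul, ← map_mul]
  have h1 := hA.is_comm.comm ⟨a, ha⟩ ⟨b, hb⟩
  have h2 : a * b = b * a := congrArg Subtype.val h1
  rw [h2]

theorem bot_spread (f : G →* H) {A B : Subgroup G} (h : Cfsg.IsRankOnePair A B)
    (hA : A.map f = ⊥) : B.map f = ⊥ := by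
  by_cases hB : B = ⊥
  · rw [hB, Subgroup.map_bot]
  · obtain ⟨⟨b, hb⟩, hb1⟩ := Subgroup.ne_bot_iff_exists_ne_one.1 hB
    have hb1' : b ≠ 1 := fun h => hb1 (Subtype.ext h)
    obtain ⟨a, ha, -, hconj⟩ := h.cond_right b hb hb1'
    have hconj' : Cfsg.conjBy (B.map f) (f a)⁻¹ = Cfsg.conjBy (A.map f) (f b)⁻¹ := by
      rw [← map_inv, ← map_inv, ← conj_map, ← conj_map, hconj]
    rw [hA] at hconj'
    have h1 : Cfsg.conjBy (⊥ : Subgroup H) (f b)⁻¹ = ⊥ := Subgroup.map_bot _
    rw [h1] at hconj'
    exact conj_eq_bot _ _ hconj'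

end

/-- Let S be a set of abstract root subgroups of G whose graph of rank one pairs is connected, and f a homomorphism from G onto a group H. Then either the images of the members of S form a set of abstract root subgroups of H whose graph of rank one pairs is again connected, or H equals the image of a member of S. -/
theorem result {G H : Type*} [Group G] [Group H] {S : Set (Subgroup G)} (hS : Cfsg.IsRootSubgroupSet S)
    (hc : Cfsg.IsConnectedFamily (Cfsg.FAdj S) S) (f : G →* H) (hf : Function.Surjective f) :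
    (Cfsg.IsRootSubgroupSet ((fun A : Subgroup G => A.map f) '' S) ∧
      Cfsg.IsConnectedFamily (Cfsg.FAdj ((fun A : Subgroup G => A.map f) '' S)) ((fun A : Subgroup G => A.map f) '' S)) ∨
    ∃ A ∈ S, A.map f = ⊤ := by
  classical
  by_cases hall : ∀ A ∈ S, A.map f ≠ ⊥
  · left
    have hpair : ∀ A ∈ S, ∀ B ∈ S, ⁅A.map f, B.map f⁆ = ⊥ ∨ Cfsg.IsRankOnePair (A.map f) (B.map f) ∨
        Cfsg.RootCommutatorCase ((fun A : Subgroup G => A.map f) '' S) (A.map f) (B.map f) := by
      intro A hA B hB
      rcases hS.pair A hA B hB with h | h | h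
      · left
        rw [← Subgroup.map_commutator, h, Subgroup.map_bot]
      · by_cases hne : A.map f = B.map f
        · left
          rw [← hne, Subgroup.commutator_eq_bot_iff_le_centralizer]
          intro x hx
          rw [Subgroup.mem_centralizer_iff]
          intro y hy
          have h1 := (comm_map f (hS.commutative A hA)).is_comm.comm ⟨y, hy⟩ ⟨x, hx⟩
          exact congrArg Subtype.val h1
        · right; left
          exact pair_map f h hne
      · right; right
        obtain ⟨hCS, hcent, hcl1, hcl2⟩ := h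
        refine ⟨?_, ?_, ?_, ?_⟩
        · exact ⟨⁅A, B⁆, hCS, Subgroup.map_commutator A B f⟩
        · intro c hc x hx
          rw [← Subgroup.map_commutator] at hc
          rw [← Subgroup.map_sup] at hx
          obtain ⟨c₀, hc₀, rfl⟩ := hc
          obtain ⟨x₀, hx₀, rfl⟩ := hx
          rw [← map_mul, ← map_mul, hcent c₀ hc₀ x₀ hx₀]
        · rintro _ ⟨a, ha, rfl⟩ ha1
          have ha1' : a ≠ 1 := by
            rintro rfl
            exact ha1 (map_one f)
          rw [← Subgroup.map_commutator, ← hcl1 a ha ha1', MonoidHom.map_closure, Subgroup.coe_map,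
            Set.image_image, Set.image_image]
          congr 1
          apply Set.image_congr
          intro b _
          simp only [map_mul, map_inv]
        · rintro _ ⟨b, hb, rfl⟩ hb1
          have hb1' : b ≠ 1 := by
            rintro rfl
            exact hb1 (map_one f)
          rw [← Subgroup.map_commutator, ← hcl2 b hb hb1', MonoidHom.map_closure, Subgroup.coe_map,
            Set.image_image, Set.image_image]
          congr 1
          apply Set.image_congr
          intro a _
          simp only [map_mul, map_inv]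
    constructor
    · refine ⟨?_, ?_, ?_, ?_, ?_⟩
      · rintro _ ⟨A, hA, rfl⟩
        exact comm_map f (hS.commutative A hA)
      · rintro _ ⟨A, hA, rfl⟩
        exact hall A hA
      · rw [eq_top_iff, ← Subgroup.map_top_of_surjective f hf, ← hS.generates]
        simp only [Subgroup.map_iSup]
        apply iSup₂_le
        intro A hA
        exact le_iSup₂ (f := fun (K : Subgroup H) (_ : K ∈ (fun A : Subgroup G => A.map f) '' S) => K)
          (A.map f) ⟨A, hA, rfl⟩
      · rintro _ ⟨A, hA, rfl⟩ h
        obtain ⟨g, rfl⟩ := hf h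
        exact ⟨Cfsg.conjBy A g, hS.conj_mem A hA g, conj_map f A g⟩
      · rintro _ ⟨A, hA, rfl⟩ _ ⟨B, hB, rfl⟩
        exact hpair A hA B hB
    · rintro _ ⟨A, hA, rfl⟩ _ ⟨B, hB, rfl⟩
      have h1 := hc A hA B hB
      refine Relation.ReflTransGen.lift' (fun A : Subgroup G => A.map f) ?_ A B h1
      intro C D hCD
      obtain ⟨hC, hD, hpr⟩ := hCD
      show Relation.ReflTransGen _ (C.map f) (D.map f)
      by_cases hne : C.map f = D.map f
      · rw [hne]
      · exact Relation.ReflTransGen.single ⟨⟨C, hC, rfl⟩, ⟨D, hD, rfl⟩, pair_map f hpr hne⟩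
  · right
    push_neg at hall
    obtain ⟨A₀, hA₀, hbot⟩ := hall
    have hallbot : ∀ B ∈ S, B.map f = ⊥ := by
      intro B hB
      have h1 := hc A₀ hA₀ B hB
      induction h1 with
      | refl => exact hbot
      | tail _ hstep ih => exact bot_spread f hstep.2.2 (ih hstep.1)
    refine ⟨A₀, hA₀, ?_⟩
    rw [hbot, eq_comm, ← Subgroup.map_top_of_surjective f hf, ← hS.generates]
    simp only [Subgroup.map_iSup]
    rw [eq_bot_iff]
    apply iSup₂_le
    intro A hA
    rw [hallbot A hA]

end Cfsg.Agent.S5035
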