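import Cfsg.Statements.S5049

set_option autoImplicit false
open Cfsg

namespace Cfsg.Agent.S5049

open scoped commutatorElement

theorem pCore_normal_aux {G : Type*} [Group G] (p : ℕ) : (pCore p G).Normal :=
  Subgroup.sSup_normal _ (fun _ h => h.1)

theorem pCore_isPGroup_aux {G : Type*} [Group G] {p : ℕ} : IsPGroup p (pCore p G) :=
  Sylow.sSup_of_normal _ (fun _ h => h.2) (fun _ h => h.1)

theorem eq_one_of_odd_of_two_group {G : Type*} [Group G] {Q : Subgroup G} (hQ : IsPGroup 2 Q) {x : G}
    (hx : x ∈ Q) (hodd : Odd (orderOf x)) : x = 1 := by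
  obtain ⟨k, hk⟩ := hQ ⟨x, hx⟩
  have hk' : x ^ 2 ^ k = 1 := by
    have := congrArg Subtype.val hk
    simpa using this
  have hdvd : orderOf x ∣ 2 ^ k := orderOf_dvd_of_pow_eq_one hk'
  obtain ⟨j, -, hj⟩ := (Nat.dvd_prime_pow Nat.prime_two).mp hdvd
  rw [hj] at hodd
  rcases Nat.eq_zero_or_pos j with h0 | hpos
  · rw [h0, pow_zero] at hj
    exact orderOf_eq_one_iff.mp hj
  · exfalso
    have : Even (2 ^ j) := (Nat.even_pow' (Nat.pos_iff_ne_zero.mp hpos)).mpr even_two
    exact (Nat.not_even_iff_odd.mpr hodd) this

theorem inv_self_of_mem {G : Type*} [Group G] {D : Set G} (hD : IsRootInvolutionSet D) {d : G} (hd : d ∈ D) :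
    d⁻¹ = d := by
  have h2 : d ^ 2 = 1 := by rw [← hD.orderOf_eq d hd]; exact pow_orderOf_eq_one d
  rw [inv_eq_iff_mul_eq_one, ← sq]; exact h2

theorem mul_self_of_mem {G : Type*} [Group G] {D : Set G} (hD : IsRootInvolutionSet D) {d : G} (hd : d ∈ D) :
    d * d = 1 := by
  have h2 : d ^ 2 = 1 := by rw [← hD.orderOf_eq d hd]; exact pow_orderOf_eq_one d
  rw [← sq]; exact h2

/-- Two members of `D` whose product lies in the normal 2-subgroup `Q` commute. -/
theorem commute_of_mul_mem {G : Type*} [Group G] {D : Set G} (hD : IsOddTranspositionSet D)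
    {Q : Subgroup G} (hQ : IsPGroup 2 Q) {d d' : G} (hd : d ∈ D) (hd' : d' ∈ D) (h : d * d' ∈ Q) :
    d * d' = d' * d := by
  rcases hD.1.pair d hd d' hd' with h1 | h1 | h1
  · exact h1
  · have := eq_one_of_odd_of_two_group hQ h h1
    have hdd : d' = d := by
      rw [← inv_self_of_mem hD.1 hd]
      exact (eq_inv_of_mul_eq_one_right this)
    rw [hdd]
  · exact absurd h1.1 (hD.2 d hd d' hd')

theorem result {G : Type*} [Group G] [Finite G] {D : Set G} (hD : Cfsg.IsOddTranspositionSet D) {a : G} (ha : a ∈ D) :
    (∀ e ∈ Cfsg.commutingMembers D a, ∀ q ∈ ⁅Cfsg.pCore 2 G, Subgroup.zpowers a⁆, e * q = q * e) ∧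
    (∀ b ∈ Cfsg.oddPartners D a,
      Cfsg.pCore 2 G ⊓ Subgroup.centralizer {a * b} = Cfsg.pCore 2 G ⊓ Subgroup.centralizer {a} ⊓ Subgroup.centralizer {b}) := by
  have hQn : (pCore 2 G).Normal := pCore_normal_aux 2
  have hQ2 : IsPGroup 2 (pCore 2 G) := pCore_isPGroup_aux
  have hainv : a⁻¹ = a := inv_self_of_mem hD.1 ha
  have haa : a * a = 1 := mul_self_of_mem hD.1 ha
  constructor
  · rintro e ⟨heD, hea⟩
    have heinv : e⁻¹ = e := inv_self_of_mem hD.1 heD
    -- e commutes with every Q-conjugate of a
    have hC : ∀ q ∈ pCore 2 G, e * (q * a * q⁻¹) = (q * a * q⁻¹) * e := by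
      intro q hq
      have hdD : q * a * q⁻¹ ∈ D := hD.1.conj_mem a ha q
      rcases hD.1.pair e heD _ hdD with h1 | h1 | h1
      · exact h1
      · -- a * d ∈ Q
        have had : a * (q * a * q⁻¹) ∈ pCore 2 G := by
          have h3 : a * q * a⁻¹ ∈ pCore 2 G := hQn.conj_mem q hq a
          have := (pCore 2 G).mul_mem h3 ((pCore 2 G).inv_mem hq)
          rw [hainv] at this
          simpa [mul_assoc] using this
        -- e * a ∈ Q via the quotient
        have hea2 : (e * a) ^ 2 = 1 := by
          rw [sq]
          calc e * a * (e * a) = e * (a * e) * a := by simp [mul_assoc]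
            _ = e * (e * a) * a := by rw [hea]
            _ = (e * e) * (a * a) := by simp [mul_assoc]
            _ = 1 := by rw [haa, mul_self_of_mem hD.1 heD, one_mul]
        have hq1 : ((e * (q * a * q⁻¹) : G) : G ⧸ pCore 2 G) = ((e * a : G) : G ⧸ pCore 2 G) := by
          rw [QuotientGroup.eq]
          have : (e * (q * a * q⁻¹))⁻¹ * (e * a) = (a * (q * a * q⁻¹))⁻¹ := by
            simp only [mul_inv_rev, inv_inv]
            rw [hainv]
            simp [mul_assoc]
          rw [this]
          exact (pCore 2 G).inv_mem had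
        obtain ⟨m, hm⟩ := h1
        have hpow : ((e * a : G) : G ⧸ pCore 2 G) ^ (2 * m + 1) = 1 := by
          rw [← hq1, ← QuotientGroup.mk_pow, ← hm, pow_orderOf_eq_one]
          rfl
        have hpow2 : ((e * a : G) : G ⧸ pCore 2 G) ^ 2 = 1 := by
          rw [← QuotientGroup.mk_pow, hea2]; rfl
        have hone : ((e * a : G) : G ⧸ pCore 2 G) = 1 := by
          rw [pow_succ, pow_mul, hpow2, one_pow, one_mul] at hpow
          exact hpow
        have heaQ : e * a ∈ pCore 2 G := (QuotientGroup.eq_one_iff _).mp hone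
        have hedQ : e * (q * a * q⁻¹) ∈ pCore 2 G := by
          have := (pCore 2 G).mul_mem heaQ had
          have e3 : e * a * (a * (q * a * q⁻¹)) = e * (q * a * q⁻¹) := by
            calc e * a * (a * (q * a * q⁻¹)) = e * (a * a) * (q * a * q⁻¹) := by simp [mul_assoc]
              _ = e * (q * a * q⁻¹) := by rw [haa, mul_one]
          rwa [e3] at this
        exact commute_of_mul_mem hD hQ2 heD hdD hedQ
      · exact absurd h1.1 (hD.2 e heD _ hdD)
    have hle : ⁅pCore 2 G, Subgroup.zpowers a⁆ ≤ Subgroup.centralizer ({e} : Set G) := by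
      rw [Subgroup.commutator_le]
      intro q hq z hz
      obtain ⟨i, rfl⟩ := Subgroup.mem_zpowers_iff.mp hz
      rw [Subgroup.mem_centralizer_iff]
      intro h hh
      rw [Set.mem_singleton_iff] at hh
      subst hh
      have e1 : ⁅q, a ^ i⁆ = (q * a * q⁻¹) ^ i * (a ^ i)⁻¹ := by
        rw [commutatorElement_def, conj_zpow]
      rw [e1]
      have c1 : Commute h ((q * a * q⁻¹) ^ i) := (show Commute h (q * a * q⁻¹) from hC q hq).zpow_right i
      have c2 : Commute h ((a ^ i)⁻¹) := ((show Commute h a from hea).zpow_right i).inv_right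
      exact (c1.mul_right c2).eq
    intro q hq
    have := hle hq
    rw [Subgroup.mem_centralizer_iff] at this
    exact this e rfl
  · rintro b ⟨hbD, hba, hodd⟩
    have hbinv : b⁻¹ = b := inv_self_of_mem hD.1 hbD
    have hbb : b * b = 1 := mul_self_of_mem hD.1 hbD
    ext q
    simp only [Subgroup.mem_inf, Subgroup.mem_centralizer_iff, Set.mem_singleton_iff, forall_eq]
    constructor
    · rintro ⟨hq, hqx⟩
      set d := q * a * q⁻¹ with hd_def
      have hdD : d ∈ D := hD.1.conj_mem a ha q
      have hdinv : d⁻¹ = d := inv_self_of_mem hD.1 hdD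
      have had : a * d ∈ pCore 2 G := by
        have h3 : a * q * a⁻¹ ∈ pCore 2 G := hQn.conj_mem q hq a
        have := (pCore 2 G).mul_mem h3 ((pCore 2 G).inv_mem hq)
        rw [hainv] at this
        simpa [hd_def, mul_assoc] using this
      have hcomm : a * d = d * a := commute_of_mul_mem hD hQ2 ha hdD had
      have ht2 : (a * d) * (a * d) = 1 := by
        calc a * d * (a * d) = a * (d * a) * d := by simp [mul_assoc]
          _ = a * (a * d) * d := by rw [hcomm]
          _ = (a * a) * (d * d) := by simp [mul_assoc]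
          _ = 1 := by rw [haa, mul_self_of_mem hD.1 hdD, one_mul]
      -- t = a d = 1
      have ht1 : a * d = 1 := by
        by_contra htne
        have hto : orderOf (a * d) = 2 := by
          apply orderOf_eq_prime
          · rw [sq]; exact ht2
          · exact htne
        -- x = a b
        have hax : a * (a * b) * a⁻¹ = (a * b)⁻¹ := by
          rw [mul_inv_rev, hainv, hbinv]
          calc a * (a * b) * a = (a * a) * b * a := by simp [mul_assoc]
            _ = b * a := by rw [haa, one_mul]
        have hqx' : q * (a * b) * q⁻¹ = a * b := by rw [← hqx]; simp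
        have hqx'' : q * (a * b)⁻¹ * q⁻¹ = (a * b)⁻¹ := by
          have := congrArg (fun t => t⁻¹) hqx'
          simpa [mul_assoc] using this
        have hdx : d * (a * b) * d⁻¹ = (a * b)⁻¹ := by
          have hax' : a * (a * b) * a⁻¹ = (a * b)⁻¹ := hax
          calc d * (a * b) * d⁻¹ = q * (a * (q⁻¹ * (a * b) * q) * a⁻¹) * q⁻¹ := by
                simp [hd_def, mul_assoc]
            _ = q * (a * (a * b) * a⁻¹) * q⁻¹ := by
                have : q⁻¹ * (a * b) * q = a * b := by rw [mul_assoc, hqx]; simp
                rw [this]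
            _ = q * (a * b)⁻¹ * q⁻¹ := by rw [hax']
            _ = (a * b)⁻¹ := hqx''
        have htx : Commute ((a * b)⁻¹) (a * d) := by
          have h5 : (a * d) * (a * b) * (a * d)⁻¹ = a * b := by
            calc (a * d) * (a * b) * (a * d)⁻¹ = a * (d * (a * b) * d⁻¹) * a⁻¹ := by simp [mul_assoc]
              _ = a * (a * b)⁻¹ * a⁻¹ := by rw [hdx]
              _ = (a * (a * b) * a⁻¹)⁻¹ := by simp [mul_assoc]
              _ = a * b := by rw [hax, inv_inv]
          have h6 : Commute (a * d) (a * b) := mul_inv_eq_iff_eq_mul.mp h5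
          exact h6.symm.inv_left
        have hbd : b * d = (a * b)⁻¹ * (a * d) := by
          rw [mul_inv_rev, hainv, hbinv]
          calc b * d = b * (a * a) * d := by rw [haa, mul_one]
            _ = b * a * (a * d) := by simp [mul_assoc]
        have hord : orderOf (b * d) = orderOf (a * b) * 2 := by
          rw [hbd, htx.orderOf_mul_eq_mul_orderOf_of_coprime, orderOf_inv, hto]
          rw [orderOf_inv, hto]
          exact Nat.coprime_two_right.mpr hodd
        have hx1 : orderOf (a * b) ≠ 1 := by
          intro h1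
          rw [orderOf_eq_one_iff] at h1
          apply hba
          rw [← hainv]
          exact (eq_inv_of_mul_eq_one_right h1)
        rcases hD.1.pair b hbD d hdD with h1 | h1 | h1
        · have hsq : (b * d) ^ 2 = 1 := by
            rw [sq]
            calc b * d * (b * d) = b * (d * b) * d := by simp [mul_assoc]
              _ = b * (b * d) * d := by rw [h1]
              _ = (b * b) * (d * d) := by simp [mul_assoc]
              _ = 1 := by rw [hbb, mul_self_of_mem hD.1 hdD, one_mul]
          have hdvd := orderOf_dvd_of_pow_eq_one hsq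
          rw [hord] at hdvd
          have : orderOf (a * b) ∣ 1 := by
            have := Nat.dvd_of_mul_dvd_mul_right (by norm_num : 0 < 2) (by simpa using hdvd : orderOf (a * b) * 2 ∣ 1 * 2)
            exact this
          exact hx1 (Nat.dvd_one.mp this)
        · rw [hord] at h1
          exact (Nat.not_even_iff_odd.mpr h1) (by simp)
        · exact absurd h1.1 (hD.2 b hbD d hdD)
      -- hence q commutes with a
      have hqa : a * q = q * a := by
        have h7 : d = a := by
          have := eq_inv_of_mul_eq_one_right ht1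
          rw [this, hainv]
        have h8 : q * a * q⁻¹ = a := h7
        have := congrArg (fun t => t * q) h8
        simpa [mul_assoc] using this.symm
      refine ⟨⟨hq, hqa⟩, ?_⟩
      -- b = a * (a * b)
      have hb_eq : b = a * (a * b) := by rw [← mul_assoc, haa, one_mul]
      calc b * q = a * (a * b) * q := by rw [← hb_eq]
        _ = a * ((a * b) * q) := by simp [mul_assoc]
        _ = a * (q * (a * b)) := by rw [hqx]
        _ = (a * q) * (a * b) := by simp [mul_assoc]
        _ = (q * a) * (a * b) := by rw [hqa]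
        _ = q * (a * (a * b)) := by simp [mul_assoc]
        _ = q * b := by rw [← hb_eq]
    · rintro ⟨⟨hq, hqa⟩, hqb⟩
      refine ⟨hq, ?_⟩
      calc a * b * q = a * (b * q) := by simp [mul_assoc]
        _ = a * (q * b) := by rw [hqb]
        _ = (a * q) * b := by simp [mul_assoc]
        _ = (q * a) * b := by rw [hqa]
        _ = q * (a * b) := by simp [mul_assoc]

end Cfsg.Agent.S5049
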