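import Cfsg.Statements.S5057

set_option autoImplicit false
open Cfsg

namespace Cfsg.Agent.S5057

/-- The involution (0 1)(2 3) of A₆. -/
def a0 : alternatingGroup (Fin 6) := ⟨Equiv.swap 0 1 * Equiv.swap 2 3, by
  rw [Equiv.Perm.mem_alternatingGroup, map_mul, Equiv.Perm.sign_swap (by decide),
    Equiv.Perm.sign_swap (by decide)]; rfl⟩

set_option maxRecDepth 1000000 in
theorem pow_cases : ∀ g : alternatingGroup (Fin 6), g ^ 4 = 1 ∨ g ^ 3 = 1 ∨ g ^ 5 = 1 := by
  decide +kernel

set_option maxRecDepth 1000000 in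
theorem conj_a0 : ∀ a : alternatingGroup (Fin 6), a ^ 2 = 1 →
    a = 1 ∨ ∃ g : alternatingGroup (Fin 6), a = g * a0 * g⁻¹ := by
  decide +kernel

set_option maxRecDepth 1000000 in
theorem two_invs : ∀ g : alternatingGroup (Fin 6), ∃ a : alternatingGroup (Fin 6),
    a ^ 2 = 1 ∧ (a * g) ^ 2 = 1 := by
  decide +kernel

set_option maxRecDepth 1000000 in
theorem a0_props : a0 ^ 2 = 1 ∧ a0 ≠ 1 := by
  decide +kernel

theorem orderOf_two_of {g : alternatingGroup (Fin 6)} (h : g ^ 2 = 1) (h1 : g ≠ 1) : orderOf g = 2 :=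
  orderOf_eq_prime h h1

theorem orderOf_le_five (g : alternatingGroup (Fin 6)) : orderOf g ≤ 5 := by
  rcases pow_cases g with h | h | h
  · exact le_trans (Nat.le_of_dvd (by norm_num) (orderOf_dvd_of_pow_eq_one h)) (by norm_num)
  · exact le_trans (Nat.le_of_dvd (by norm_num) (orderOf_dvd_of_pow_eq_one h)) (by norm_num)
  · exact Nat.le_of_dvd (by norm_num) (orderOf_dvd_of_pow_eq_one h)

theorem orderOf_pos' (g : alternatingGroup (Fin 6)) : 0 < orderOf g := orderOf_pos g

theorem result :
    Cfsg.IsRootInvolutionClass {g : ↥(alternatingGroup (Fin 6)) | orderOf g = 2} ∧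
    ∀ d ∈ {g : ↥(alternatingGroup (Fin 6)) | orderOf g = 2}, ∀ e ∈ {g : ↥(alternatingGroup (Fin 6)) | orderOf g = 2},
      orderOf (d * e) ≤ 5 := by
  refine ⟨⟨⟨?_, ?_, ?_, ?_⟩, ?_, ?_⟩, ?_⟩
  · intro d hd; exact hd
  · -- generation
    rw [eq_top_iff]
    intro g _
    obtain ⟨a, ha, hag⟩ := two_invs g
    have hmem : ∀ x : alternatingGroup (Fin 6), x ^ 2 = 1 →
        x ∈ Subgroup.closure {g : ↥(alternatingGroup (Fin 6)) | orderOf g = 2} := by
      intro x hx
      by_cases hx1 : x = 1
      · rw [hx1]; exact Subgroup.one_mem _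
      · exact Subgroup.subset_closure (orderOf_two_of hx hx1)
    have hg : g = a * (a * g) := by
      rw [← mul_assoc, ← sq, ha, one_mul]
    rw [hg]
    exact Subgroup.mul_mem _ (hmem a ha) (hmem _ hag)
  · intro d hd g
    show orderOf (g * d * g⁻¹) = 2
    have : g * d * g⁻¹ = MulAut.conj g d := by simp [MulAut.conj_apply]
    rw [this, MulEquiv.orderOf_eq]
    exact hd
  · intro a ha b hb
    have ha' : orderOf a = 2 := ha
    have hb' : orderOf b = 2 := hb
    have ha2 : a * a = 1 := by rw [← sq, ← ha']; exact pow_orderOf_eq_one a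
    have hb2 : b * b = 1 := by rw [← sq, ← hb']; exact pow_orderOf_eq_one b
    have hpos := orderOf_pos' (a * b)
    rcases pow_cases (a * b) with h | h | h
    · have hdvd := orderOf_dvd_of_pow_eq_one h
      have hle : orderOf (a * b) ≤ 4 := Nat.le_of_dvd (by norm_num) hdvd
      have hcases : orderOf (a * b) = 1 ∨ orderOf (a * b) = 2 ∨ orderOf (a * b) = 4 := by
        interval_cases hn : orderOf (a * b)
        · left; rfl
        · right; left; rfl
        · exfalso; revert hdvd; decide
        · right; right; rfl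
      rcases hcases with h1 | h2 | h4
      · right; left; rw [h1]; exact odd_one
      · left
        have hsq : (a * b) ^ 2 = 1 := by rw [← h2]; exact pow_orderOf_eq_one _
        rw [sq] at hsq
        -- a b a b = 1 → a b = b a
        have : a * b = b * a := by
          have h3 := congrArg (fun t => a * t * b) hsq
          simp only [mul_one] at h3
          have h4 : a * (a * b * (a * b)) * b = (a * a) * (b * a) * (b * b) := by
            simp [mul_assoc]
          rw [h4, ha2, hb2, one_mul, mul_one] at h3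
          exact h3.symm
        exact this
      · right; right
        refine ⟨h4, ?_⟩
        show orderOf ((a * b) ^ 2) = 2
        rw [orderOf_pow, h4]
        rfl
    · right; left
      have hdvd := orderOf_dvd_of_pow_eq_one h
      rcases (Nat.dvd_prime Nat.prime_three).mp hdvd with h1 | h1
      · rw [h1]; exact odd_one
      · rw [h1]; decide
    · right; left
      have hdvd := orderOf_dvd_of_pow_eq_one h
      rcases (Nat.dvd_prime Nat.prime_five).mp hdvd with h1 | h1
      · rw [h1]; exact odd_one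
      · rw [h1]; decide
  · exact ⟨a0, orderOf_two_of a0_props.1 a0_props.2⟩
  · intro a ha b hb
    have ha' : orderOf a = 2 := ha
    have hb' : orderOf b = 2 := hb
    have ha2 : a ^ 2 = 1 := by rw [← ha']; exact pow_orderOf_eq_one a
    have hb2 : b ^ 2 = 1 := by rw [← hb']; exact pow_orderOf_eq_one b
    have ha1 : a ≠ 1 := by
      intro h; rw [h, orderOf_one] at ha'; norm_num at ha'
    have hb1 : b ≠ 1 := by
      intro h; rw [h, orderOf_one] at hb'; norm_num at hb'
    rcases conj_a0 a ha2 with h | ⟨g, hg⟩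
    · exact absurd h ha1
    rcases conj_a0 b hb2 with h | ⟨k, hk⟩
    · exact absurd h hb1
    refine ⟨k * g⁻¹, ?_⟩
    rw [hk, hg]
    simp [mul_assoc]
  · intro d _ e _
    exact orderOf_le_five (d * e)

end Cfsg.Agent.S5057
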