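import Cfsg.Statements.S5059

set_option autoImplicit false
universe u
open Cfsg

namespace Cfsg.Agent.S5059

section

variable {k : Type u} [Field k] {M : Type u} [AddCommGroup M] [Module k M]

theorem range_le_ker_of_sq {n : Module.End k M} (hn : n * n = 0) :
    LinearMap.range n ≤ LinearMap.ker n := by
  rintro y ⟨x, rfl⟩
  rw [LinearMap.mem_ker]
  have := congrArg (fun f : Module.End k M => f x) hn
  simpa using this

theorem mul_eq_zero_of_range_le_ker {n₁ n₂ : Module.End k M}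
    (h : LinearMap.range n₂ ≤ LinearMap.ker n₁) : n₁ * n₂ = 0 := by
  ext x
  have : n₂ x ∈ LinearMap.ker n₁ := h ⟨x, rfl⟩
  simpa using this

/-- The unit `1 + m` for a square-zero endomorphism `m`. -/
def unitOfSq (m : Module.End k M) (hm : m * m = 0) : LinearMap.GeneralLinearGroup k M where
  val := 1 + m
  inv := 1 - m
  val_inv := by
    have : (1 + m) * (1 - m) = 1 - m * m := by noncomm_ring
    rw [this, hm, sub_zero]
  inv_val := by
    have : (1 - m) * (1 + m) = 1 - m * m := by noncomm_ring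
    rw [this, hm, sub_zero]

theorem pow_one_add_of_sq (n : Module.End k M) (hn : n * n = 0) (m : ℕ) :
    (1 + n) ^ m = 1 + (m : k) • n := by
  induction m with
  | zero => simp
  | succ m ih =>
    rw [pow_succ, ih]
    have : (1 + (m : k) • n) * (1 + n) = 1 + ((m : k) • n + n) + (m : k) • (n * n) := by
      simp only [mul_add, add_mul, mul_one, one_mul, smul_mul_assoc]
      abel
    rw [this, hn, smul_zero, add_zero]
    push_cast
    rw [add_smul, one_smul]

end

theorem result {k : Type u} [Field k] (hk2 : ringChar k ≠ 2) (hk3 : Nat.card k ≠ 3)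
    {M : Type u} [AddCommGroup M] [Module k M] [FiniteDimensional k M]
    {G : Subgroup (LinearMap.GeneralLinearGroup k M)} (hG : Cfsg.IsQuadraticPair G)
    {σ : LinearMap.GeneralLinearGroup k M} (hσ : σ ∈ Cfsg.minimalQuadraticElements G) :
    (Cfsg.sameActionSubgroup G σ : Set (LinearMap.GeneralLinearGroup k M)) = Cfsg.sameActionClass G σ ∪ {1} ∧
    IsMulCommutative ↥(Cfsg.sameActionSubgroup G σ) ∧
    (∀ p : ℕ, p.Prime → ringChar k = p → ∀ x ∈ Cfsg.sameActionSubgroup G σ, x ^ p = 1) := by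
  -- notation
  set K := LinearMap.ker ((σ : M →ₗ[k] M) - 1) with hK
  set R := LinearMap.range ((σ : M →ₗ[k] M) - 1) with hR
  have hσE : σ ∈ sameActionClass G σ := ⟨hσ, rfl, rfl⟩
  have hRK : R ≤ K := range_le_ker_of_sq hσ.1.2.1.1
  -- basic facts about members of E
  have hsq : ∀ τ ∈ sameActionClass G σ, ((τ : M →ₗ[k] M) - 1) * ((τ : M →ₗ[k] M) - 1) = 0 :=
    fun τ hτ => hτ.1.1.2.1.1
  have hmul0 : ∀ τ₁ ∈ sameActionClass G σ, ∀ τ₂ ∈ sameActionClass G σ,
      ((τ₁ : M →ₗ[k] M) - 1) * ((τ₂ : M →ₗ[k] M) - 1) = 0 := by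
    intro τ₁ h₁ τ₂ h₂
    apply mul_eq_zero_of_range_le_ker
    rw [h₂.2.2, h₁.2.1]
    exact hRK
  have hval_mul : ∀ τ₁ ∈ sameActionClass G σ, ∀ τ₂ ∈ sameActionClass G σ,
      ((τ₁ * τ₂ : LinearMap.GeneralLinearGroup k M) : M →ₗ[k] M) - 1 =
        ((τ₁ : M →ₗ[k] M) - 1) + ((τ₂ : M →ₗ[k] M) - 1) := by
    intro τ₁ h₁ τ₂ h₂
    have h0 := hmul0 τ₁ h₁ τ₂ h₂
    have : ((τ₁ : M →ₗ[k] M)) * (τ₂ : M →ₗ[k] M) =
        1 + ((τ₁ : M →ₗ[k] M) - 1) + ((τ₂ : M →ₗ[k] M) - 1) +
          ((τ₁ : M →ₗ[k] M) - 1) * ((τ₂ : M →ₗ[k] M) - 1) := by noncomm_ring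
    rw [Units.val_mul, this, h0]
    abel
  have hcomm : ∀ τ₁ ∈ sameActionClass G σ, ∀ τ₂ ∈ sameActionClass G σ, τ₁ * τ₂ = τ₂ * τ₁ := by
    intro τ₁ h₁ τ₂ h₂
    apply Units.ext
    have e1 := hval_mul τ₁ h₁ τ₂ h₂
    have e2 := hval_mul τ₂ h₂ τ₁ h₁
    have : ((τ₁ * τ₂ : LinearMap.GeneralLinearGroup k M) : M →ₗ[k] M) - 1 =
        ((τ₂ * τ₁ : LinearMap.GeneralLinearGroup k M) : M →ₗ[k] M) - 1 := by
      rw [e1, e2, add_comm]
    exact sub_left_injective this
  have hfin_eq : Module.finrank k K + Module.finrank k R = Module.finrank k M := by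
    rw [add_comm]
    exact LinearMap.finrank_range_add_finrank_ker ((σ : M →ₗ[k] M) - 1)
  -- closure under multiplication
  have hmul : ∀ τ₁ ∈ sameActionClass G σ, ∀ τ₂ ∈ sameActionClass G σ,
      τ₁ * τ₂ ∈ sameActionClass G σ ∪ {1} := by
    intro τ₁ h₁ τ₂ h₂
    set n₁ := (τ₁ : M →ₗ[k] M) - 1 with hn₁
    set n₂ := (τ₂ : M →ₗ[k] M) - 1 with hn₂
    have hv := hval_mul τ₁ h₁ τ₂ h₂
    by_cases h0 : n₁ + n₂ = 0
    · right
      rw [Set.mem_singleton_iff]
      apply Units.ext
      rw [h0] at hv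
      rw [Units.val_one]
      exact sub_eq_zero.mp hv
    · left
      have hrange_le : LinearMap.range (n₁ + n₂) ≤ R := by
        rintro y ⟨x, rfl⟩
        rw [LinearMap.add_apply]
        apply R.add_mem
        · rw [hR, ← h₁.2.2]; exact ⟨x, rfl⟩
        · rw [hR, ← h₂.2.2]; exact ⟨x, rfl⟩
      have hker_ge : K ≤ LinearMap.ker (n₁ + n₂) := by
        intro x hx
        rw [LinearMap.mem_ker, LinearMap.add_apply]
        have hx1 : n₁ x = 0 := by
          have : x ∈ LinearMap.ker n₁ := by rw [hn₁, h₁.2.1]; exact hx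
          exact this
        have hx2 : n₂ x = 0 := by
          have : x ∈ LinearMap.ker n₂ := by rw [hn₂, h₂.2.1]; exact hx
          exact this
        rw [hx1, hx2, add_zero]
      have hquad : IsQuadraticOn (τ₁ * τ₂) := by
        constructor
        · rw [hv]
          have : (n₁ + n₂) * (n₁ + n₂) = n₁ * n₁ + n₁ * n₂ + n₂ * n₁ + n₂ * n₂ := by noncomm_ring
          rw [this, hsq τ₁ h₁, hsq τ₂ h₂, hmul0 τ₁ h₁ τ₂ h₂, hmul0 τ₂ h₂ τ₁ h₁]
          simp
        · rw [hv]; exact h0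
      have hscal : scalarFamily (τ₁ * τ₂) ⊆ (G : Set (LinearMap.GeneralLinearGroup k M)) := by
        rintro ρ ⟨c, hc⟩
        have hs1 : (c • n₁) * (c • n₁) = 0 := by
          rw [smul_mul_smul_comm, hsq τ₁ h₁, smul_zero]
        have hs2 : (c • n₂) * (c • n₂) = 0 := by
          rw [smul_mul_smul_comm, hsq τ₂ h₂, smul_zero]
        have hρ1 : unitOfSq (c • n₁) hs1 ∈ G := h₁.1.1.2.2 ⟨c, rfl⟩
        have hρ2 : unitOfSq (c • n₂) hs2 ∈ G := h₂.1.1.2.2 ⟨c, rfl⟩
        have : ρ = unitOfSq (c • n₁) hs1 * unitOfSq (c • n₂) hs2 := by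
          apply Units.ext
          rw [hc, hv, Units.val_mul]
          show 1 + c • (n₁ + n₂) = (1 + c • n₁) * (1 + c • n₂)
          have : (1 + c • n₁) * (1 + c • n₂) = 1 + c • n₁ + c • n₂ + (c • n₁) * (c • n₂) := by
            simp only [mul_add, add_mul, mul_one, one_mul]
            abel
          rw [this, smul_mul_smul_comm, hmul0 τ₁ h₁ τ₂ h₂, smul_zero, add_zero, smul_add, add_assoc]
        rw [this]
        exact G.mul_mem hρ1 hρ2
      have hmemQ : τ₁ * τ₂ ∈ quadraticElements G :=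
        ⟨G.mul_mem h₁.1.1.1 h₂.1.1.1, hquad, hscal⟩
      have hrank_ge : Module.finrank k R ≤ Module.finrank k (LinearMap.range (n₁ + n₂)) := by
        have := hσ.2 (τ₁ * τ₂) hmemQ
        unfold commutatorRank at this
        rw [hv] at this
        exact this
      have hrange_eq : LinearMap.range (n₁ + n₂) = R :=
        Submodule.eq_of_le_of_finrank_le hrange_le hrank_ge
      have hker_eq : LinearMap.ker (n₁ + n₂) = K := by
        symm
        apply Submodule.eq_of_le_of_finrank_le hker_ge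
        have h1 := LinearMap.finrank_range_add_finrank_ker (n₁ + n₂)
        rw [hrange_eq] at h1
        omega
      refine ⟨⟨hmemQ, ?_⟩, ?_, ?_⟩
      · intro ρ hρ
        have : commutatorRank (τ₁ * τ₂) = commutatorRank σ := by
          unfold commutatorRank
          rw [hv, hrange_eq]
        rw [this]
        exact hσ.2 ρ hρ
      · rw [hv]; exact hker_eq
      · rw [hv]; exact hrange_eq
  -- closure under inverses
  have hval_inv : ∀ τ ∈ sameActionClass G σ,
      ((τ⁻¹ : LinearMap.GeneralLinearGroup k M) : M →ₗ[k] M) - 1 = -((τ : M →ₗ[k] M) - 1) := by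
    intro τ hτ
    have h1 : (τ : M →ₗ[k] M) * (1 - ((τ : M →ₗ[k] M) - 1)) = 1 := by
      have : (τ : M →ₗ[k] M) * (1 - ((τ : M →ₗ[k] M) - 1)) =
          1 - ((τ : M →ₗ[k] M) - 1) * ((τ : M →ₗ[k] M) - 1) := by noncomm_ring
      rw [this, hsq τ hτ, sub_zero]
    have h2 : ((τ⁻¹ : LinearMap.GeneralLinearGroup k M) : M →ₗ[k] M) = 1 - ((τ : M →ₗ[k] M) - 1) := by
      have := congrArg (fun f => ((τ⁻¹ : LinearMap.GeneralLinearGroup k M) : M →ₗ[k] M) * f) h1
      simp only [mul_one] at this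
      rw [← mul_assoc, Units.inv_mul, one_mul] at this
      exact this.symm
    rw [h2]; abel
  have hinv : ∀ τ ∈ sameActionClass G σ, τ⁻¹ ∈ sameActionClass G σ := by
    intro τ hτ
    have hv := hval_inv τ hτ
    have hquad : IsQuadraticOn τ⁻¹ := by
      constructor
      · rw [hv, neg_mul_neg]; exact hsq τ hτ
      · rw [hv, neg_ne_zero]; exact hτ.1.1.2.1.2
    have hscal : scalarFamily τ⁻¹ ⊆ (G : Set (LinearMap.GeneralLinearGroup k M)) := by
      rintro ρ ⟨c, hc⟩
      apply hτ.1.1.2.2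
      refine ⟨-c, ?_⟩
      rw [hc, hv, smul_neg, neg_smul]
    have hrank : commutatorRank τ⁻¹ = commutatorRank τ := by
      unfold commutatorRank
      rw [hv, LinearMap.range_neg]
    refine ⟨⟨⟨G.inv_mem hτ.1.1.1, hquad, hscal⟩, ?_⟩, ?_, ?_⟩
    · intro ρ hρ
      rw [hrank]; exact hτ.1.2 ρ hρ
    · rw [hv, LinearMap.ker_neg]; exact hτ.2.1
    · rw [hv, LinearMap.range_neg]; exact hτ.2.2
  -- the subgroup is E ∪ {1}
  have hsub : ∀ x ∈ sameActionSubgroup G σ, x ∈ sameActionClass G σ ∪ {1} := by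
    intro x hx
    unfold sameActionSubgroup at hx
    induction hx using Subgroup.closure_induction with
    | mem x hx => exact Or.inl hx
    | one => exact Or.inr rfl
    | mul x y _ _ ihx ihy =>
      rcases ihx with ihx | ihx
      · rcases ihy with ihy | ihy
        · exact hmul x ihx y ihy
        · rw [Set.mem_singleton_iff] at ihy
          rw [ihy, mul_one]; exact Or.inl ihx
      · rw [Set.mem_singleton_iff] at ihx
        rw [ihx, one_mul]; exact ihy
    | inv x _ ihx =>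
      rcases ihx with ihx | ihx
      · exact Or.inl (hinv x ihx)
      · rw [Set.mem_singleton_iff] at ihx
        rw [ihx, inv_one]; exact Or.inr rfl
  refine ⟨?_, ?_, ?_⟩
  · apply Set.Subset.antisymm
    · intro x hx; exact hsub x hx
    · rintro x (hx | hx)
      · exact Subgroup.subset_closure hx
      · rw [Set.mem_singleton_iff] at hx
        rw [hx]; exact Subgroup.one_mem _
  · refine ⟨⟨fun a b => ?_⟩⟩
    apply Subtype.ext
    rw [Subgroup.coe_mul, Subgroup.coe_mul]
    rcases hsub a.1 a.2 with ha | ha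
    · rcases hsub b.1 b.2 with hb | hb
      · exact hcomm _ ha _ hb
      · rw [Set.mem_singleton_iff] at hb
        rw [hb, mul_one, one_mul]
    · rw [Set.mem_singleton_iff] at ha
      rw [ha, mul_one, one_mul]
  · intro p _ hp x hx
    rcases hsub x hx with hx | hx
    · apply Units.ext
      rw [Units.val_pow_eq_pow_val, Units.val_one]
      have : (x : M →ₗ[k] M) = 1 + ((x : M →ₗ[k] M) - 1) := by abel
      rw [this, pow_one_add_of_sq _ (hsq x hx)]
      have hchar : CharP k p := hp ▸ ringChar.charP k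
      rw [CharP.cast_eq_zero k p, zero_smul, add_zero]
    · rw [Set.mem_singleton_iff] at hx
      rw [hx, one_pow]

end Cfsg.Agent.S5059
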