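import Cfsg.Statements.S5067

set_option autoImplicit false
open Cfsg

namespace Cfsg.Agent.S5067

open scoped commutatorElement

theorem comm_mul_left {G : Type*} [Group G] (x y z : G) :
    ⁅x * y, z⁆ = x * ⁅y, z⁆ * x⁻¹ * ⁅x, z⁆ := by
  simp only [commutatorElement_def]; group

theorem comm_mul_right {G : Type*} [Group G] (x y z : G) :
    ⁅x, y * z⁆ = ⁅x, y⁆ * (y * ⁅x, z⁆ * y⁻¹) := by
  simp only [commutatorElement_def]; group

theorem key {G : Type*} [Group G] [Group.IsNilpotent G] (hna : ¬ IsMulCommutative G)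
    {E : Subgroup G} (hE : IsMulCommutative ↥E) :
    Group.nilpotencyClass ↥(Subgroup.normalClosure (E : Set G)) < Group.nilpotencyClass G := by
  set L : ℕ → Subgroup G := (⊤ : Subgroup G).lowerCentralSeries with hL
  set N := Subgroup.normalClosure (E : Set G) with hN
  set M : Subgroup G := E ⊔ L 1 with hM
  have hL1n : (L 1).Normal := Subgroup.lowerCentralSeries_normal _ 1
  have hL2n : (L 2).Normal := Subgroup.lowerCentralSeries_normal _ 2
  have hL12 : ∀ c ∈ L 1, ∀ y : G, ⁅c, y⁆ ∈ L 2 := by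
    intro c hc y
    exact Subgroup.commutator_mem_commutator hc (Subgroup.mem_top y)
  have hL12' : ∀ c ∈ L 1, ∀ y : G, ⁅y, c⁆ ∈ L 2 := by
    intro c hc y
    have := (L 2).inv_mem (hL12 c hc y)
    rwa [commutatorElement_inv] at this
  have hcomm1 : ∀ x y : G, ⁅x, y⁆ ∈ L 1 := by
    intro x y
    exact Subgroup.commutator_mem_commutator (Subgroup.mem_top x) (Subgroup.mem_top y)
  -- M is normal
  have hMn : M.Normal := by
    constructor
    intro m hm g
    have : g * m * g⁻¹ = ⁅g, m⁆ * m := by simp [commutatorElement_def, mul_assoc]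
    rw [this]
    exact M.mul_mem (Subgroup.mem_sup_right (hcomm1 g m)) hm
  have hNM : N ≤ M := Subgroup.normalClosure_le_normal (fun x hx => Subgroup.mem_sup_left hx)
  -- ⁅M, M⁆ ≤ L 2
  have hEE : ∀ e ∈ E, ∀ e' ∈ E, ⁅e, e'⁆ = 1 := by
    intro e he e' he'
    rw [commutatorElement_eq_one_iff_mul_comm]
    have := hE.is_comm.comm ⟨e, he⟩ ⟨e', he'⟩
    exact congrArg Subtype.val this
  have hMM : ⁅M, M⁆ ≤ L 2 := by
    rw [Subgroup.commutator_le]
    intro x hx y hy
    rw [hM, Subgroup.mem_sup_of_normal_right] at hx hy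
    obtain ⟨e, he, c, hc, rfl⟩ := hx
    obtain ⟨e', he', c', hc', rfl⟩ := hy
    rw [comm_mul_left]
    apply (L 2).mul_mem
    · exact hL2n.conj_mem _ (hL12 c hc _) e
    · rw [comm_mul_right, hEE e he e' he', one_mul]
      exact hL2n.conj_mem _ (hL12' c' hc' e) e'
  have hNN : ⁅N, N⁆ ≤ L 2 := le_trans (Subgroup.commutator_mono hNM hNM) hMM
  have hind : ∀ n : ℕ, N.lowerCentralSeries (n + 1) ≤ L (n + 2) := by
    intro n
    induction n with
    | zero => simpa using hNN
    | succ n ih =>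
      rw [Subgroup.lowerCentralSeries_succ]
      exact Subgroup.commutator_mono ih le_top
  have hc2 : 2 ≤ Group.nilpotencyClass G := by
    by_contra hlt
    push Not at hlt
    exact hna (Group.IsNilpotent.nilpotencyClass_le_one_iff.mp (by omega))
  obtain ⟨c, hc⟩ : ∃ c, Group.nilpotencyClass G = c + 2 := ⟨Group.nilpotencyClass G - 2, by omega⟩
  have hLc : L (c + 2) = ⊥ := by
    rw [hL, ← hc]
    exact Subgroup.lowerCentralSeries_nilpotencyClass
  have hNc : N.lowerCentralSeries (c + 1) = ⊥ := by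
    rw [eq_bot_iff, ← hLc]
    exact hind c
  have hNc' : (⊤ : Subgroup N).lowerCentralSeries (c + 1) = ⊥ := by
    rw [← Subgroup.top_subtype_lowerCentralSeries] at hNc
    exact (Subgroup.map_eq_bot_iff_of_injective _ N.subtype_injective).mp hNc
  have := Subgroup.lowerCentralSeries_eq_bot_iff_nilpotencyClass_le.mp hNc'
  omega

theorem result {P : Type*} [Group P] {p : ℕ} [Fact p.Prime] (hP : IsPGroup p P) [Group.IsNilpotent P]
    (hna : ¬ IsMulCommutative P) {E F : Subgroup P} (hE : IsMulCommutative ↥E) (hF : IsMulCommutative ↥F) (hgen : E ⊔ F = ⊤) :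
    Group.nilpotencyClass ↥(Subgroup.normalClosure (E : Set P)) < Group.nilpotencyClass P ∧
    Group.nilpotencyClass ↥(Subgroup.normalClosure (F : Set P)) < Group.nilpotencyClass P :=
  ⟨key hna hE, key hna hF⟩

end Cfsg.Agent.S5067
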