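import Cfsg.Statements.S5123
import Cfsg.Agent.Lib.Helper9.FusionGroup

set_option autoImplicit false
open Cfsg

namespace Cfsg.Agent.S5123

open Cfsg.Agent.Lib.Helper9 Cfsg.FusionSystem

/-- Let G be a finite group with Sylow p-subgroup S, P, Q ≤ S and g ∈ G with gPg⁻¹ = Q, and suppose N_S(Q) is a Sylow p-subgroup of N_G(Q). Let N be the set of x ∈ N_S(P) with gxg⁻¹ ∈ N_S(Q)C_G(Q). Then some h ∈ C_G(Q) satisfies (hg)N(hg)⁻¹ ≤ S. -/
theorem result {G : Type*} [Group G] [Finite G] (p : ℕ) [Fact p.Prime] (S : Sylow p G) (P Q : Subgroup G) (hP : P ≤ S) (hQ : Q ≤ S) (g : G) (hg : P.map (MulAut.conj g).toMonoidHom = Q) (hN : (∃ R : Sylow p ↥(Subgroup.normalizer (Q : Set G)), (R : Subgroup ↥(Subgroup.normalizer (Q : Set G))) = (Cfsg.FusionSystem.normalizerIn (S : Subgroup G) Q).subgroupOf (Subgroup.normalizer (Q : Set G)))) : ∃ h ∈ Subgroup.centralizer (Q : Set G), ((Cfsg.FusionSystem.normalizerIn (S : Subgroup G) P) ⊓ (Cfsg.FusionSystem.normalizerIn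 (S : Subgroup G) Q ⊔ Subgroup.centralizer (Q : Set G)).comap (MulAut.conj g).toMonoidHom).map (MulAut.conj (h * g)).toMonoidHom ≤ S := by
  rw [exists_sylow_eq_subgroupOf_iff p (normalizerIn_le_normalizer _ _)] at hN
  obtain ⟨M, hM⟩ : ∃ M : Subgroup G, M = normalizerIn (S : Subgroup G) Q ⊔ Subgroup.centralizer (Q : Set G) :=
    ⟨_, rfl⟩
  rw [← hM]
  obtain ⟨N, hNdef⟩ : ∃ N : Subgroup G, N = normalizerIn (S : Subgroup G) P ⊓ M.comap (MulAut.conj g).toMonoidHom :=
    ⟨_, rfl⟩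
  rw [← hNdef]
  have hMN : M ≤ Subgroup.normalizer (Q : Set G) := by
    rw [hM]
    exact sup_le (normalizerIn_le_normalizer _ _) (centralizer_le_normalizer' Q)
  have hRM : normalizerIn (S : Subgroup G) Q ≤ M := by rw [hM]; exact le_sup_left
  have hcard := sylow_card_of_le p hRM hMN hN
  have hNp : IsPGroup p N := by
    rw [hNdef]
    exact S.isPGroup'.to_le (inf_le_left.trans (normalizerIn_le_left _ _))
  have hKp : IsPGroup p (N.map (MulAut.conj g).toMonoidHom) := hNp.map _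
  have hKM : N.map (MulAut.conj g).toMonoidHom ≤ M := by
    rintro _ ⟨x, hx, rfl⟩
    rw [hNdef] at hx
    exact (Subgroup.mem_inf.mp hx).2
  obtain ⟨m, hmM, hm⟩ := exists_conj_le_of_sylow_card p hRM hKM hKp hcard
  have hnorm : normalizerIn (S : Subgroup G) Q ≤
      Subgroup.normalizer ((Subgroup.centralizer (Q : Set G) : Subgroup G) : Set G) := by
    intro s hs
    have hsN := normalizerIn_le_normalizer _ _ hs
    rw [Subgroup.mem_normalizer_iff]
    intro c
    have key : ∀ (t : G), t ∈ Subgroup.normalizer (Q : Set G) → ∀ c ∈ Subgroup.centralizer (Q : Set G),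
        t * c * t⁻¹ ∈ Subgroup.centralizer (Q : Set G) := by
      intro t ht c hc
      rw [Subgroup.mem_centralizer_iff] at hc ⊢
      intro y hy
      have hy' : t⁻¹ * y * t ∈ Q := by
        have := (Subgroup.mem_normalizer_iff.mp (Subgroup.inv_mem _ ht) y).mp hy
        simpa using this
      have h1 := hc _ hy'
      calc y * (t * c * t⁻¹) = t * ((t⁻¹ * y * t) * c) * t⁻¹ := by group
        _ = t * (c * (t⁻¹ * y * t)) * t⁻¹ := by rw [h1]
        _ = t * c * t⁻¹ * y := by group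
    constructor
    · intro hc; exact key s hsN c hc
    · intro hc
      have := key s⁻¹ (Subgroup.inv_mem _ hsN) _ hc
      simpa [mul_assoc] using this
  rw [hM] at hmM
  obtain ⟨s, hs, c, hc, rfl⟩ := exists_mul_of_mem_sup_of_le_normalizer hnorm hmM
  refine ⟨c, hc, ?_⟩
  rintro _ ⟨x, hx, rfl⟩
  have h1 : (MulAut.conj (s * c)).toMonoidHom ((MulAut.conj g).toMonoidHom x) ∈
      normalizerIn (S : Subgroup G) Q := hm ⟨_, ⟨x, hx, rfl⟩, rfl⟩
  have h2 : s⁻¹ * ((MulAut.conj (s * c)).toMonoidHom ((MulAut.conj g).toMonoidHom x)) * s ∈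
      normalizerIn (S : Subgroup G) Q :=
    Subgroup.mul_mem _ (Subgroup.mul_mem _ (Subgroup.inv_mem _ hs) h1) hs
  have h3 : s⁻¹ * ((MulAut.conj (s * c)).toMonoidHom ((MulAut.conj g).toMonoidHom x)) * s =
      (MulAut.conj (c * g)).toMonoidHom x := by
    show s⁻¹ * ((s * c) * (g * x * g⁻¹) * (s * c)⁻¹) * s = (c * g) * x * (c * g)⁻¹
    group
  rw [h3] at h2
  exact normalizerIn_le_left _ _ h2

end Cfsg.Agent.S5123
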