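import Cfsg.Statements.S5076
import Cfsg.Agent.Lib.Helper9.FusionGroup2
import Cfsg.Agent.S5123

set_option autoImplicit false
open Cfsg

namespace Cfsg.Agent.S5076

open Cfsg.Agent.Lib.Helper9 Cfsg.FusionSystem

theorem autGroup_groupFusionSystem' {G : Type*} [Group G] (S Q : Subgroup G) (hQ : Q ≤ S) :
    (groupFusionSystem S).autGroup Q = autInducedBy ⊤ Q := by
  unfold FusionSystem.autGroup autInducedBy
  congr 1
  ext α
  constructor
  · rintro ⟨-, -, g, hg⟩
    exact ⟨g, Subgroup.mem_top g, fun x => hg x⟩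
  · rintro ⟨g, -, hg⟩
    exact ⟨hQ, fun x => hQ (α x).2, g, fun x => hg x⟩

theorem receptive_aux {G : Type*} [Group G] [Finite G] (p : ℕ) [Fact p.Prime] (S : Sylow p G)
    (Q : Subgroup G) (hQS : Q ≤ S)
    (hcard : Nat.card (normalizerIn (S : Subgroup G) Q) =
        p ^ (Nat.card ↥(Subgroup.normalizer (Q : Set G))).factorization p) :
    (groupFusionSystem (S : Subgroup G)).IsReceptive Q := by
  refine ⟨hQS, ?_⟩
  rintro P' φ ⟨hP'S, hφS, k, hk⟩ hφr
  have hkQ : P'.map (MulAut.conj k).toMonoidHom = Q := by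
    rw [← hφr]
    ext y
    constructor
    · rintro ⟨x, hx, rfl⟩
      exact ⟨⟨x, hx⟩, hk ⟨x, hx⟩⟩
    · rintro ⟨x, rfl⟩
      exact ⟨x, x.2, (hk x).symm⟩
  have hφQ : ∀ x : P', φ x ∈ Q := by
    intro x; rw [← hφr]; exact ⟨x, rfl⟩
  have hN := (exists_sylow_eq_subgroupOf_iff p (normalizerIn_le_normalizer _ _)).mpr hcard
  obtain ⟨h, hhC, hh⟩ := Cfsg.Agent.S5123.result p S P' Q hP'S hQS k hkQ hN
  have hext : extender (S : Subgroup G) P' φ ≤
      normalizerIn (S : Subgroup G) P' ⊓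
        (normalizerIn (S : Subgroup G) Q ⊔ Subgroup.centralizer (Q : Set G)).comap
          (MulAut.conj k).toMonoidHom := by
    unfold extender
    rw [Subgroup.closure_le]
    rintro x ⟨hxS, hxN, h', hh'S, hh'⟩
    refine Subgroup.mem_inf.mpr ⟨Subgroup.mem_inf.mpr ⟨hxS, hxN⟩, ?_⟩
    show k * x * k⁻¹ ∈ normalizerIn (S : Subgroup G) Q ⊔ Subgroup.centralizer (Q : Set G)
    have hconjP : ∀ y : P', x * (y : G) * x⁻¹ ∈ P' := fun y =>
      (Subgroup.mem_normalizer_iff.mp hxN y).mp y.2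
    have hconjP' : ∀ y : P', x⁻¹ * (y : G) * x ∈ P' := fun y => by
      have := (Subgroup.mem_normalizer_iff.mp (Subgroup.inv_mem _ hxN) y).mp y.2
      simpa using this
    have hh'N : h' ∈ Subgroup.normalizer (Q : Set G) := by
      rw [Subgroup.mem_normalizer_iff]
      intro z
      constructor
      · intro hz
        rw [← hkQ] at hz
        obtain ⟨y, hy, rfl⟩ := hz
        have h1 := hh' ⟨y, hy⟩ (hconjP ⟨y, hy⟩)
        rw [hk ⟨y, hy⟩] at h1
        show h' * (k * y * k⁻¹) * h'⁻¹ ∈ Q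
        rw [← h1]
        exact hφQ _
      · intro hz
        rw [← hkQ] at hz
        obtain ⟨y', hy', hy'z⟩ := hz
        have hy'' := hconjP' ⟨y', hy'⟩
        have h1 := hh' ⟨x⁻¹ * y' * x, hy''⟩ (by
          show x * (x⁻¹ * y' * x) * x⁻¹ ∈ P'
          have : x * (x⁻¹ * y' * x) * x⁻¹ = y' := by group
          rw [this]; exact hy')
        have h2 : (⟨x * (x⁻¹ * y' * x) * x⁻¹, by
          show x * (x⁻¹ * y' * x) * x⁻¹ ∈ P'
          have : x * (x⁻¹ * y' * x) * x⁻¹ = y' := by group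
          rw [this]; exact hy'⟩ : P') = ⟨y', hy'⟩ := by
          apply Subtype.ext
          show x * (x⁻¹ * y' * x) * x⁻¹ = y'
          group
        rw [h2, hk ⟨y', hy'⟩] at h1
        have h3 : (k * y' * k⁻¹ : G) = h' * z * h'⁻¹ := hy'z
        have h1' : k * y' * k⁻¹ = h' * φ ⟨x⁻¹ * y' * x, hy''⟩ * h'⁻¹ := h1
        rw [h3] at h1'
        have h4 : z = φ ⟨x⁻¹ * y' * x, hy''⟩ := mul_left_cancel (mul_right_cancel h1')
        rw [h4]
        exact hφQ _
    have hc : h'⁻¹ * (k * x * k⁻¹) ∈ Subgroup.centralizer (Q : Set G) := by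
      rw [Subgroup.mem_centralizer_iff]
      intro z hz
      rw [← hkQ] at hz
      obtain ⟨y, hy, rfl⟩ := hz
      have h1 := hh' ⟨y, hy⟩ (hconjP ⟨y, hy⟩)
      rw [hk ⟨y, hy⟩, hk] at h1
      have h1' : k * (x * y * x⁻¹) * k⁻¹ = h' * (k * y * k⁻¹) * h'⁻¹ := h1
      show k * y * k⁻¹ * (h'⁻¹ * (k * x * k⁻¹)) = h'⁻¹ * (k * x * k⁻¹) * (k * y * k⁻¹)
      have h5 : h'⁻¹ * (k * x * k⁻¹) * (k * y * k⁻¹) = h'⁻¹ * (k * (x * y * x⁻¹) * k⁻¹) * (k * x * k⁻¹) := by
        group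
      rw [h5, h1']
      group
    have hsplit : k * x * k⁻¹ = h' * (h'⁻¹ * (k * x * k⁻¹)) := by group
    rw [hsplit]
    exact Subgroup.mul_mem _ (Subgroup.mem_sup_left (Subgroup.mem_inf.mpr ⟨hh'S, hh'N⟩))
      (Subgroup.mem_sup_right hc)
  have hextS : extender (S : Subgroup G) P' φ ≤ (S : Subgroup G) :=
    (extender_le _ _ _).trans (normalizerIn_le_left _ _)
  refine ⟨conjHom (extender (S : Subgroup G) P' φ) (h * k), ⟨hextS, ?_, h * k, fun x => rfl⟩, ?_⟩
  · intro x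
    exact hh ⟨x, hext x.2, rfl⟩
  · intro x hxP hxN
    show h * k * x * (h * k)⁻¹ = φ ⟨x, hxP⟩
    have h1 : φ ⟨x, hxP⟩ ∈ Q := hφQ _
    have h2 := (Subgroup.mem_centralizer_iff.mp hhC) _ h1
    rw [hk] at h2 ⊢
    have h2' : k * x * k⁻¹ * h = h * (k * x * k⁻¹) := h2
    calc h * k * x * (h * k)⁻¹ = h * (k * x * k⁻¹) * h⁻¹ := by group
      _ = k * x * k⁻¹ * h * h⁻¹ := by rw [h2']
      _ = k * x * k⁻¹ := by group

/-- The fusion system of a finite group on a Sylow p-subgroup is saturated: every subgroup of the Sylow subgroup is conjugate in the system to one that is fully automized and receptive. -/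
theorem result {G : Type*} [Group G] [Finite G] (p : ℕ) [Fact p.Prime] (S : Sylow p G) : (Cfsg.groupFusionSystem (S : Subgroup G)).IsSaturated p := by
  intro P hP
  obtain ⟨g, hQS, hcard⟩ := exists_conj_normalizerIn_sylow_card p S P hP
  refine ⟨P.map (MulAut.conj g).toMonoidHom, ?_, ?_, ?_⟩
  · exact (isConj_groupFusionSystem_iff _ _ _).mpr ⟨hP, hQS, g, rfl⟩
  · refine ⟨hQS, ?_⟩
    rw [autGroup_groupFusionSystem' _ _ hQS]
    obtain ⟨R, hR⟩ := (exists_sylow_eq_subgroupOf_iff p (normalizerIn_le_normalizer _ _)).mpr hcard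
    exact exists_sylow_autInducedBy p (S : Subgroup G) _ R hR
  · exact receptive_aux p S _ hQS hcard

end Cfsg.Agent.S5076
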