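import Cfsg.Statements.S5081
import Cfsg.Agent.Lib.Helper9.FusionEss2
-- import your own Cfsg.Agent.* helpers here

set_option autoImplicit false
open Cfsg

namespace Cfsg.Agent.S5081

open Cfsg.FusionSystem Cfsg.Agent.Lib.Helper9

/-- Let F be a saturated fusion system over a finite p-group S, P a proper subgroup of S that is fully normalized, and H the subgroup of Aut_F(P) generated by the automorphisms that extend to maps of the system defined on strictly larger subgroups of S. Then either P is not essential and H is all of Aut_F(P), or P is essential and the image of H in Out_F(P) = Aut_F(P)/Inn(P) is strongly p-embedded there. -/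
theorem result {Ω : Type*} [Group Ω] {S : Subgroup Ω} [Finite S] (p : ℕ) [Fact p.Prime] (hS : IsPGroup p S) (F : Cfsg.FusionSystem S) (hF : F.IsSaturated p) (P : Subgroup Ω) (hPS : P < S) (hPn : F.IsFullyNormalized P) (H : Subgroup (MulAut P)) (hH : H = Subgroup.closure {α : MulAut P | ∃ (Q : Subgroup Ω) (hPQ : P < Q) (φ : Q →* Ω), φ ∈ F.Hom Q ∧ ∀ x : P, φ (Subgroup.inclusion hPQ.le x) = α x}) : (¬ F.IsEssential p P ∧ H = F.autGroup P) ∨ (F.IsEssential p P ∧ ∃ _ : ((Cfsg.Inn P).subgroupOf (F.autGroup P)).Normal, Cfsg.IsStronglyPEmbedded p ((H.subgroupOf (F.autGroup P)).map (QuotientGroup.mk' ((Cfsg.Inn P).subgroupOf (F.autGroup P))))) := by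
  have hH' : H = Subgroup.closure (extGens F P) := hH
  have hPSle : P ≤ S := hPS.le
  have hPne : P ≠ S := hPS.ne
  have hfinP : Finite P := finite_of_le' hPSle
  have hHA : H ≤ F.autGroup P := by
    rw [hH']; exact closure_extGens_le_autGroup F hPSle
  by_cases hess : F.IsEssential p P
  · right
    have hIn : ((Inn P).subgroupOf (F.autGroup P)).Normal := inferInstance
    refine ⟨hess, hIn, ?_⟩
    obtain ⟨-, -, R, hR⟩ := sat_fullyNormalized p hS F hF hPn
    have hC : centralizerIn S P ≤ P := hess.1.2 P (isConj_refl F hPSle)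
    obtain ⟨T', hT'⟩ : ∃ T' : Sylow p (↥(F.autGroup P) ⧸ (Inn P).subgroupOf (F.autGroup P)),
        T'.toSubgroup = (R : Subgroup ↥(F.autGroup P)).map
          (QuotientGroup.mk' ((Inn P).subgroupOf (F.autGroup P))) :=
      ⟨R.mapSurjective (QuotientGroup.mk'_surjective _), rfl⟩
    rw [hH']
    refine ⟨dvd_card_out p hS F hPSle hPne hC R hR T' hT',
      map_closure_extGens_ne_top p hS F hess R hR, T',
      core_le_map_closure_extGens p hS F hF hPn hPne R hR T' hT'⟩
  · left
    refine ⟨hess, le_antisymm hHA ?_⟩
    rw [hH']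
    by_cases hcen : F.IsCentric P
    · exact autGroup_le_closure_extGens_of_centric p hS F hF hPn hPne hcen hess
    · intro α hα
      exact Subgroup.subset_closure (autGroup_le_extGens_of_not_centric p hS F hF hPn hcen α hα)

end Cfsg.Agent.S5081
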