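import Cfsg.Statements.S5083
import Cfsg.Agent.Lib.Helper9.FusionSat
import Cfsg.Agent.S5079

set_option autoImplicit false
open Cfsg

namespace Cfsg.Agent.S5083

open Cfsg.Agent.Lib.Helper9 Cfsg.FusionSystem

theorem main {Ω : Type*} [Group Ω] {S : Subgroup Ω} [Finite S] (p : ℕ) [Fact p.Prime]
    (hS : IsPGroup p S) (F : Cfsg.FusionSystem S) (hF : F.IsSaturated p)
    (h : ∀ P : Subgroup Ω, P ≤ S → IsPGroup p (F.autGroup P)) :
    ∀ (n : ℕ) (P : Subgroup Ω), P ≤ S → Nat.card S - Nat.card P = n → ∀ φ ∈ F.Hom P,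
      ∃ g ∈ S, ∀ x : P, φ x = g * (x : Ω) * g⁻¹ := by
  intro n
  induction n using Nat.strong_induction_on with
  | _ n ih =>
  intro P hPS hn φ hφ
  obtain ⟨P₀, hPP₀, hauto, hrec⟩ := hF P hPS
  have hP₀S : P₀ ≤ S := hauto.1
  have hcardle : ∀ R : Subgroup Ω, R ≤ S → Nat.card R ≤ Nat.card S := fun R hR =>
    Nat.card_le_card_of_injective _ (Subgroup.inclusion_injective hR)
  -- Lemma A'
  have lemA : ∀ (P' : Subgroup Ω) (ψ' : P' →* Ω), ψ' ∈ F.Hom P' → Nat.card P' = Nat.card P →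
      ψ'.range = P₀ → ∃ s ∈ S, ∀ x : P', ψ' x = s * (x : Ω) * s⁻¹ := by
    intro P' ψ' hψ' hcard hr
    have hP'S : P' ≤ S := (F.le_of_mem hψ').1
    have hψ'inj := F.injective_of_mem hψ'
    have hcardP₀ : Nat.card P₀ = Nat.card P' := by
      rw [← hr]
      exact Nat.card_congr (Equiv.ofInjective ψ' hψ'inj).symm
    by_cases hP'eq : P' = S
    · subst hP'eq
      have hP₀eq : P₀ = P' := by
        have hfin : Finite P' := inferInstance
        exact Subgroup.eq_of_le_of_card_ge hP₀S hcardP₀.ge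
      subst hP₀eq
      exact exists_conj_of_fullyAutomized p F hauto (h _ hP₀S) hψ' hr
    · have hlt := card_lt_card_normalizerIn p hS hP'S hP'eq
      have hNle := hcardle _ (normalizerIn_le_left S P')
      obtain ⟨α, hα, hαN, hαP⟩ := Cfsg.Agent.S5079.result p hS F P₀ P' hauto hrec ⟨ψ', hψ', hr⟩
      have hPle := hcardle P hPS
      obtain ⟨a, haS, ha⟩ := ih (Nat.card S - Nat.card (normalizerIn S P')) (by omega) _
        (normalizerIn_le_left S P') rfl α hα
      have hP'N : P' ≤ normalizerIn S P' := le_normalizerIn hP'S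
      -- a P' a⁻¹ = P₀
      have haP' : ∀ x : P', a * (x : Ω) * a⁻¹ ∈ P₀ := by
        intro x
        have h1 : α ⟨x, hP'N x.2⟩ ∈ (P'.subgroupOf (normalizerIn S P')).map α :=
          ⟨⟨x, hP'N x.2⟩, Subgroup.mem_subgroupOf.mpr x.2, rfl⟩
        rw [hαP, ha] at h1
        exact h1
      have haP₀ : ∀ y : P₀, a⁻¹ * (y : Ω) * a⁻¹⁻¹ ∈ P' := by
        intro y
        have hy : (y : Ω) ∈ (P'.subgroupOf (normalizerIn S P')).map α := by rw [hαP]; exact y.2
        obtain ⟨x, hx, hxy⟩ := hy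
        rw [ha] at hxy
        have : a⁻¹ * (y : Ω) * a⁻¹⁻¹ = x := by rw [← hxy]; group
        rw [this]
        exact Subgroup.mem_subgroupOf.mp hx
      have hc := F.conj_mem (P := P₀) (g := a⁻¹) hP₀S (S.inv_mem haS)
      have hγ := F.comp_mem hc hψ' haP₀
      have hγr : (ψ'.comp ((conjHom P₀ a⁻¹).codRestrict P' haP₀)).range = P₀ := by
        ext z
        constructor
        · rintro ⟨y, rfl⟩
          have : ψ' ((conjHom P₀ a⁻¹).codRestrict P' haP₀ y) ∈ ψ'.range := ⟨_, rfl⟩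
          rw [hr] at this
          exact this
        · intro hz
          have hz' : z ∈ ψ'.range := by rw [hr]; exact hz
          obtain ⟨x, rfl⟩ := hz'
          refine ⟨⟨a * (x : Ω) * a⁻¹, haP' x⟩, ?_⟩
          show ψ' ((conjHom P₀ a⁻¹).codRestrict P' haP₀ ⟨a * (x : Ω) * a⁻¹, haP' x⟩) = ψ' x
          congr 1
          apply Subtype.ext
          show a⁻¹ * (a * (x : Ω) * a⁻¹) * a⁻¹⁻¹ = x
          group
      obtain ⟨s, hsS, hs⟩ := exists_conj_of_fullyAutomized p F hauto (h _ hP₀S) hγ hγr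
      refine ⟨s * a, S.mul_mem hsS haS, ?_⟩
      intro x
      have h2 := hs ⟨a * (x : Ω) * a⁻¹, haP' x⟩
      have h3 : (ψ'.comp ((conjHom P₀ a⁻¹).codRestrict P' haP₀)) ⟨a * (x : Ω) * a⁻¹, haP' x⟩ = ψ' x := by
        show ψ' ((conjHom P₀ a⁻¹).codRestrict P' haP₀ ⟨a * (x : Ω) * a⁻¹, haP' x⟩) = ψ' x
        congr 1
        apply Subtype.ext
        show a⁻¹ * (a * (x : Ω) * a⁻¹) * a⁻¹⁻¹ = x
        group
      rw [h3] at h2
      rw [h2]
      show s * (a * (x : Ω) * a⁻¹) * s⁻¹ = s * a * x * (s * a)⁻¹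
      group
  obtain ⟨ψ, hψ, hψr⟩ := hPP₀
  obtain ⟨s, hsS, hs⟩ := lemA P ψ hψ rfl hψr
  obtain ⟨φi, hφi, hφiφ, hφir⟩ := exists_inv_hom F hφ rfl
  have hφiP : ∀ y : φ.range, φi y ∈ P := by
    intro y
    have : φi y ∈ φi.range := ⟨y, rfl⟩
    rw [hφir] at this; exact this
  have hψQ := F.comp_mem hφi hψ hφiP
  have hφinj := F.injective_of_mem hφ
  have hcardQ : Nat.card φ.range = Nat.card P :=
    Nat.card_congr (Equiv.ofInjective φ hφinj).symm
  have hψQr : (ψ.comp (φi.codRestrict P hφiP)).range = P₀ := by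
    ext z
    constructor
    · rintro ⟨y, rfl⟩
      have : ψ (φi.codRestrict P hφiP y) ∈ ψ.range := ⟨_, rfl⟩
      rw [hψr] at this
      exact this
    · intro hz
      have hz' : z ∈ ψ.range := by rw [hψr]; exact hz
      obtain ⟨x, rfl⟩ := hz'
      refine ⟨⟨φ x, x, rfl⟩, ?_⟩
      show ψ (φi.codRestrict P hφiP ⟨φ x, x, rfl⟩) = ψ x
      congr 1
      apply Subtype.ext
      exact hφiφ x ⟨x, rfl⟩
  obtain ⟨t, htS, ht⟩ := lemA φ.range _ hψQ hcardQ hψQr
  refine ⟨t⁻¹ * s, S.mul_mem (S.inv_mem htS) hsS, ?_⟩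
  intro x
  have h4 := ht ⟨φ x, x, rfl⟩
  have h5 : (ψ.comp (φi.codRestrict P hφiP)) ⟨φ x, x, rfl⟩ = ψ x := by
    show ψ (φi.codRestrict P hφiP ⟨φ x, x, rfl⟩) = ψ x
    congr 1
    apply Subtype.ext
    exact hφiφ x ⟨x, rfl⟩
  rw [h5, hs] at h4
  have h6 : t * φ x * t⁻¹ = s * (x : Ω) * s⁻¹ := h4.symm
  calc φ x = t⁻¹ * (t * φ x * t⁻¹) * t := by group
    _ = t⁻¹ * (s * (x : Ω) * s⁻¹) * t := by rw [h6]
    _ = t⁻¹ * s * x * (t⁻¹ * s)⁻¹ := by group

/-- If F is a saturated fusion system over a finite p-group S in which Aut_F(P) is a p-group for every P ≤ S, then F is the inner fusion system of S (all its maps are conjugations by elements of S). -/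
theorem result {Ω : Type*} [Group Ω] {S : Subgroup Ω} [Finite S] (p : ℕ) [Fact p.Prime] (hS : IsPGroup p S) (F : Cfsg.FusionSystem S) (hF : F.IsSaturated p) (h : ∀ P : Subgroup Ω, P ≤ S → IsPGroup p (F.autGroup P)) : F = Cfsg.innerFusionSystem S := by
  apply fusionSystem_ext
  intro P
  ext φ
  constructor
  · intro hφ
    have hPS := (F.le_of_mem hφ).1
    exact ⟨hPS, main p hS F hF h _ P hPS rfl φ hφ⟩
  · rintro ⟨hP, g, hg, hφ⟩
    have h1 := F.conj_mem hP hg
    have : φ = conjHom P g := by ext x; exact hφ x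
    rw [this]; exact h1

end Cfsg.Agent.S5083
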