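import Cfsg.Statements.S5084
import Cfsg.Agent.Lib.Helper9.FusionCent
import Cfsg.Agent.Lib.Helper9.FusionSat2
import Cfsg.Agent.S5079

set_option autoImplicit false
open Cfsg

namespace Cfsg.Agent.S5084

open Cfsg.Agent.Lib.Helper9 Cfsg.FusionSystem

/-- In a saturated fusion system over a finite p-group S, a subgroup Q is central in the system if and only if Q ≤ S and no element of Q is conjugate in the system to any element other than itself. -/
theorem result {Ω : Type*} [Group Ω] {S : Subgroup Ω} [Finite S] (p : ℕ) [Fact p.Prime] (hS : IsPGroup p S) (F : Cfsg.FusionSystem S) (hF : F.IsSaturated p) (Q : Subgroup Ω) : F.IsCentral Q ↔ (Q ≤ S ∧ ∀ x ∈ Q, ∀ y : Ω, F.IsConjElt x y → y = x) := by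
  constructor
  · rintro ⟨hQS, hext⟩
    refine ⟨hQS, ?_⟩
    rintro x hx y ⟨φ, hφ, rfl⟩
    obtain ⟨ψ, -, hψP, hψQ⟩ := hext _ φ hφ
    rw [← hψP ⟨x, Subgroup.mem_zpowers x⟩]
    have h1 := hψQ ⟨x, hx⟩
    have h2 : Subgroup.inclusion (le_sup_left : Subgroup.zpowers x ≤ Subgroup.zpowers x ⊔ Q)
        ⟨x, Subgroup.mem_zpowers x⟩ = Subgroup.inclusion le_sup_right ⟨x, hx⟩ := Subtype.ext rfl
    rw [h2, h1]
  · rintro ⟨hQS, hfix⟩
    refine ⟨hQS, ?_⟩
    -- K: every map of the system fixes the elements of Q in its source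
    have K : ∀ (R : Subgroup Ω) (χ : R →* Ω), χ ∈ F.Hom R → ∀ (q : Ω) (hq : q ∈ R), q ∈ Q →
        χ ⟨q, hq⟩ = q := by
      intro R χ hχ q hq hqQ
      have hle : Subgroup.zpowers q ≤ R := Subgroup.zpowers_le.mpr hq
      exact hfix q hqQ _ ⟨_, restrict_mem F hχ hle, rfl⟩
    have hQZ : ∀ q ∈ Q, ∀ s ∈ S, s * q * s⁻¹ = q := by
      intro q hq s hs
      exact K S (conjHom S s) (F.conj_mem le_rfl hs) q (hQS hq) hq
    have hSC : S ≤ centralizerIn S Q := by
      intro s hs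
      rw [mem_centralizerIn]
      refine ⟨hs, ?_⟩
      intro q hq
      have := hQZ q hq s hs
      calc q * s = (s * q * s⁻¹) * s := by rw [this]
        _ = s * q := by group
    have hQcent : ∀ R : Subgroup Ω, R ≤ S → Q ≤ centralizerIn S R := by
      intro R hR q hq
      rw [mem_centralizerIn]
      refine ⟨hQS hq, ?_⟩
      intro r hr
      have := hQZ q hq r (hR hr)
      calc r * q = r * q * r⁻¹ * r := by group
        _ = q * r := by rw [this]
    -- Lemma X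
    have X : ∀ (R P : Subgroup Ω) (χ : R →* Ω), χ ∈ F.Hom R → ∀ (hPR : P ≤ R), Q ≤ R →
        χ.comp (Subgroup.inclusion hPR) ∈ F.centralizerHom Q P := by
      intro R P χ hχ hPR hQR
      have hRS := (F.le_of_mem hχ).1
      refine ⟨restrict_mem F hχ hPR, (hPR.trans hRS).trans hSC, fun x => hSC ((F.le_of_mem hχ).2 _),
        χ.comp (Subgroup.inclusion (sup_le hPR hQR)), restrict_mem F hχ _, fun x => rfl, ?_⟩
      intro q
      exact K R χ hχ q (hQR q.2) q.2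
    intro P φ hφ
    have hPS := (F.le_of_mem hφ).1
    obtain ⟨P₀, hPP₀, hauto, hrec⟩ := hF P hPS
    have hP₀S := hauto.1
    have hP'P₀ : F.IsConj φ.range P₀ := isConj_trans F (isConj_symm F ⟨φ, hφ, rfl⟩) hPP₀
    obtain ⟨α, hα, -, hαP⟩ := Cfsg.Agent.S5079.result p hS F P₀ P hauto hrec hPP₀
    obtain ⟨β, hβ, -, hβP'⟩ := Cfsg.Agent.S5079.result p hS F P₀ φ.range hauto hrec hP'P₀
    have hP'S : φ.range ≤ S := (isConj_le F hP'P₀).1
    have hQN : ∀ R : Subgroup Ω, R ≤ S → Q ≤ normalizerIn S R := fun R hR =>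
      (hQcent R hR).trans (fun c hc => Subgroup.mem_inf.mpr ⟨(Subgroup.mem_inf.mp hc).1,
        centralizer_le_normalizer' R (Subgroup.mem_inf.mp hc).2⟩)
    have hPN : P ≤ normalizerIn S P := le_inf hPS Subgroup.le_normalizer
    have hP'N : φ.range ≤ normalizerIn S φ.range := le_inf hP'S Subgroup.le_normalizer
    let C := centralizerSystem F Q hQS
    have hαP' : α.comp (Subgroup.inclusion hPN) ∈ C.Hom P := X _ P α hα hPN (hQN P hPS)
    have hβP : β.comp (Subgroup.inclusion hP'N) ∈ C.Hom φ.range := X _ _ β hβ hP'N (hQN _ hP'S)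
    obtain ⟨αi, hαi, hαiα⟩ := C.inv_mem hαP'
    obtain ⟨βi, hβi, hβiβ⟩ := C.inv_mem hβP
    -- γ = β ∘ φ ∘ α⁻¹
    have hαiP : ∀ y : (α.comp (Subgroup.inclusion hPN)).range, αi y ∈ P := by
      rintro ⟨_, x, rfl⟩
      rw [hαiα x]; exact x.2
    have h1 := F.comp_mem hαi.1 hφ hαiP
    have hφr : ∀ y : (α.comp (Subgroup.inclusion hPN)).range,
        (φ.comp (αi.codRestrict P hαiP)) y ∈ φ.range := fun y => ⟨_, rfl⟩
    have hγ := F.comp_mem h1 hβP.1 hφr
    obtain ⟨γ, hγdef⟩ : ∃ γ : (α.comp (Subgroup.inclusion hPN)).range →* Ω,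
        γ = (β.comp (Subgroup.inclusion hP'N)).comp ((φ.comp (αi.codRestrict P hαiP)).codRestrict φ.range hφr) :=
      ⟨_, rfl⟩
    rw [← hγdef] at hγ
    have hγval : ∀ x : P, γ ⟨α (Subgroup.inclusion hPN x), ⟨x, rfl⟩⟩ =
        β ⟨φ x, hP'N ⟨x, rfl⟩⟩ := by
      intro x
      rw [hγdef]
      show β (Subgroup.inclusion hP'N ⟨φ (αi.codRestrict P hαiP ⟨α (Subgroup.inclusion hPN x), ⟨x, rfl⟩⟩), _⟩) = _
      congr 1
      apply Subtype.ext
      show φ (αi.codRestrict P hαiP ⟨α (Subgroup.inclusion hPN x), ⟨x, rfl⟩⟩) = φ x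
      congr 1
      apply Subtype.ext
      exact hαiα x
    have hγr : γ.range = P₀ := by
      ext y
      constructor
      · rintro ⟨⟨_, x, rfl⟩, rfl⟩
        have := hγval x
        have h2 : γ ⟨(α.comp (Subgroup.inclusion hPN)) x, ⟨x, rfl⟩⟩ = β ⟨φ x, hP'N ⟨x, rfl⟩⟩ := this
        rw [h2, ← hβP']
        exact ⟨⟨φ x, hP'N ⟨x, rfl⟩⟩, Subgroup.mem_subgroupOf.mpr ⟨x, rfl⟩, rfl⟩
      · intro hy
        rw [← hβP'] at hy
        obtain ⟨z, hz, rfl⟩ := hy
        obtain ⟨x, hx⟩ : ∃ x : P, φ x = z := Subgroup.mem_subgroupOf.mp hz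
        refine ⟨⟨α (Subgroup.inclusion hPN x), ⟨x, rfl⟩⟩, ?_⟩
        rw [hγval x]
        congr 1
        exact Subtype.ext hx
    obtain ⟨γ', hγ', hγ'γ⟩ := hrec.2 _ γ hγ hγr
    have hsrcS : (α.comp (Subgroup.inclusion hPN)).range ≤ S := (F.le_of_mem hγ).1
    have hγS : ∀ x, γ x ∈ S := (F.le_of_mem hγ).2
    have hsrcE := le_extender hsrcS γ hγS
    have hQE : Q ≤ extender S _ γ := (hQcent _ hsrcS).trans (centralizerIn_le_extender S _ γ)
    have hγC : γ ∈ C.Hom (α.comp (Subgroup.inclusion hPN)).range := by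
      have h3 := X _ _ γ' hγ' hsrcE hQE
      have h4 : γ'.comp (Subgroup.inclusion hsrcE) = γ := by
        ext x
        exact hγ'γ x x.2 (hsrcE x.2)
      rw [h4] at h3
      exact h3
    -- φ = β⁻¹ ∘ γ ∘ α
    have hc1 := C.comp_mem hαP' hγC (fun x => ⟨x, rfl⟩)
    have hc1val : ∀ x : P, (γ.comp ((α.comp (Subgroup.inclusion hPN)).codRestrict _ (fun x => ⟨x, rfl⟩))) x ∈
        (β.comp (Subgroup.inclusion hP'N)).range := by
      intro x
      refine ⟨⟨φ x, ⟨x, rfl⟩⟩, ?_⟩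
      exact (hγval x).symm
    have hc2 := C.comp_mem hc1 hβi hc1val
    have hfinal : βi.comp ((γ.comp ((α.comp (Subgroup.inclusion hPN)).codRestrict _
        (fun x => ⟨x, rfl⟩))).codRestrict _ hc1val) = φ := by
      ext x
      have h5 : βi ⟨(β.comp (Subgroup.inclusion hP'N)) ⟨φ x, ⟨x, rfl⟩⟩, ⟨_, rfl⟩⟩ = φ x :=
        hβiβ ⟨φ x, ⟨x, rfl⟩⟩
      show βi ⟨γ ⟨α (Subgroup.inclusion hPN x), ⟨x, rfl⟩⟩, _⟩ = φ x
      rw [← h5]
      congr 1
      apply Subtype.ext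
      exact hγval x
    rw [hfinal] at hc2
    exact hc2.2.2.2

end Cfsg.Agent.S5084
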