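import Cfsg.Statements.S5089
import Cfsg.Agent.S5088
import Cfsg.Agent.Lib.Helper9.Fusion2

set_option autoImplicit false
open Cfsg

namespace Cfsg.Agent.S5089

open Cfsg.Agent.Lib.Helper9 Cfsg.FusionSystem

/-- A saturated fusion system over a finite p-group has a nontrivial subgroup that is normal in the system (O_p(F) ≠ 1) if and only if some nontrivial abelian subgroup is strongly closed in the system. -/
theorem result {Ω : Type*} [Group Ω] {S : Subgroup Ω} [Finite S] (p : ℕ) [Fact p.Prime] (hS : IsPGroup p S) (F : Cfsg.FusionSystem S) (hF : F.IsSaturated p) : F.core ≠ ⊥ ↔ ∃ Q : Subgroup Ω, Q ≠ ⊥ ∧ IsMulCommutative Q ∧ F.StronglyClosed Q := by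
  constructor
  · intro hne
    have hcore := isNormal_core F
    have hQS : F.core ≤ S := hcore.1
    have hfinQ : Finite F.core := finite_of_le' hQS
    have hQp : IsPGroup p F.core := hS.to_le hQS
    have hnt : Nontrivial F.core := by
      rw [← not_subsingleton_iff_nontrivial]
      intro hsub
      apply hne
      rw [Subgroup.eq_bot_iff_forall]
      intro x hx
      have : (⟨x, hx⟩ : F.core) = 1 := Subsingleton.elim _ _
      exact congrArg Subtype.val this
    have hZnt : Nontrivial (Subgroup.center F.core) := hQp.center_nontrivial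
    have hle : (Subgroup.center F.core).map F.core.subtype ≤ F.core := by
      rintro _ ⟨x, -, rfl⟩
      exact x.2
    have hchar : (((Subgroup.center F.core).map F.core.subtype).subgroupOf F.core).Characteristic := by
      have : ((Subgroup.center F.core).map F.core.subtype).subgroupOf F.core =
          Subgroup.center F.core := by
        ext x
        rw [Subgroup.mem_subgroupOf]
        constructor
        · rintro ⟨y, hy, hyx⟩
          have : y = x := Subtype.ext hyx
          rw [← this]; exact hy
        · intro hx
          exact ⟨x, hx, rfl⟩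
      rw [this]
      infer_instance
    have hnorm := Cfsg.Agent.S5085.result F F.core _ hcore hle hchar
    refine ⟨(Subgroup.center F.core).map F.core.subtype, ?_, ?_,
      ((Cfsg.Agent.S5086.result p hS F hF _).mp hnorm).1⟩
    · intro hbot
      obtain ⟨z, hz⟩ := exists_ne (1 : Subgroup.center F.core)
      apply hz
      have h1 : ((z : F.core) : Ω) ∈ (Subgroup.center F.core).map F.core.subtype :=
        ⟨z, z.2, rfl⟩
      rw [hbot, Subgroup.mem_bot] at h1
      exact Subtype.ext (Subtype.ext h1)
    · refine ⟨⟨?_⟩⟩
      rintro ⟨_, ⟨a, ha, rfl⟩⟩ ⟨_, ⟨b, hb, rfl⟩⟩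
      apply Subtype.ext
      show (a : Ω) * (b : Ω) = (b : Ω) * (a : Ω)
      have := Subgroup.mem_center_iff.mp ha b
      have h2 := congrArg (Subtype.val) this
      exact h2.symm
  · rintro ⟨Q, hQne, hQcomm, hQsc⟩
    have hnorm : F.IsNormal Q := by
      rw [Cfsg.Agent.S5088.result p hS F hF Q]
      refine ⟨1, ![⊥, Q], rfl, rfl, ?_, ?_⟩
      · intro i j hij
        fin_cases i <;> fin_cases j
        · exact le_rfl
        · exact bot_le
        · exfalso; revert hij; decide
        · exact le_rfl
      · intro i
        fin_cases i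
        refine ⟨hQsc, ?_⟩
        show ⁅Q, Q⁆ ≤ ⊥
        rw [Subgroup.commutator_le]
        intro a ha b hb
        rw [Subgroup.mem_bot, commutatorElement_eq_one_iff_mul_comm]
        have := hQcomm.is_comm.comm (⟨a, ha⟩ : Q) ⟨b, hb⟩
        exact congrArg Subtype.val this
    intro hbot
    apply hQne
    have : Q ≤ F.core := le_sSup hnorm
    rw [hbot] at this
    exact le_bot_iff.mp this

end Cfsg.Agent.S5089
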