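import Cfsg.Statements.S5092
import Cfsg.Agent.Lib.Helper9.FusionHyp

set_option autoImplicit false
open Cfsg

namespace Cfsg.Agent.S5092

open Cfsg.Agent.Lib.Helper9 Cfsg.FusionSystem
open scoped commutatorElement

/-- For a saturated fusion system over a finite p-group S, the focal subgroup is the product of the hyperfocal subgroup and the derived subgroup of S. -/
theorem result {Ω : Type*} [Group Ω] {S : Subgroup Ω} [Finite S] (p : ℕ) [Fact p.Prime] (hS : IsPGroup p S) (F : Cfsg.FusionSystem S) (hF : F.IsSaturated p) : F.focalSubgroup = F.hyperfocalSubgroup p ⊔ ⁅(S : Subgroup Ω), (S : Subgroup Ω)⁆ := by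
  apply le_antisymm
  · unfold focalSubgroup
    rw [Subgroup.closure_le]
    rintro _ ⟨P, φ, x, hφ, rfl⟩
    obtain ⟨s, hs, hsx⟩ := hyperfocal_congr p hS F hF hφ
    have hPS := (F.le_of_mem hφ).1
    have e : (x : Ω)⁻¹ * φ x = ⁅(x : Ω)⁻¹, s⁆ * ((s * (x : Ω) * s⁻¹)⁻¹ * φ x) := by
      rw [commutatorElement_def]; group
    rw [SetLike.mem_coe, e]
    exact Subgroup.mul_mem _
      ((le_sup_right : ⁅(S : Subgroup Ω), (S : Subgroup Ω)⁆ ≤ _)
        (Subgroup.commutator_mem_commutator (S.inv_mem (hPS x.2)) hs))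
      ((le_sup_left : F.hyperfocalSubgroup p ≤ _) (hsx x))
  · apply sup_le
    · unfold hyperfocalSubgroup
      rw [Subgroup.closure_le]
      rintro _ ⟨P, ρ, x, hP, -, rfl⟩
      apply Subgroup.subset_closure
      exact ⟨P, P.subtype.comp (ρ : MulAut P).toMonoidHom, x,
        (mem_autGroup_iff F hP _).mp ρ.2, rfl⟩
    · rw [Subgroup.commutator_le]
      intro a ha b hb
      apply Subgroup.subset_closure
      refine ⟨S, conjHom S b, ⟨a⁻¹, S.inv_mem ha⟩, F.conj_mem le_rfl hb, ?_⟩
      rw [commutatorElement_def]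
      simp only [conjHom, MonoidHom.coe_comp, MulEquiv.coe_toMonoidHom, Function.comp_apply,
        Subgroup.coe_subtype, MulAut.conj_apply]
      group

end Cfsg.Agent.S5092
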