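import Cfsg.Statements.S5093
import Mathlib
import Cfsg.Agent.S5092
import Cfsg.Agent.Lib.Helper9.HyperfocalGroup
import Cfsg.Agent.Lib.Helper9.FusionNormalSub
import Cfsg.Agent.Lib.Helper9.FusionHyp2
import Cfsg.Agent.Lib.Helper9.FusionAut
-- import your own Cfsg.Agent.* helpers here

set_option autoImplicit false
open Cfsg

namespace Cfsg.Agent.S5093

open Cfsg.FusionSystem Cfsg.Agent.Lib.Helper9

open scoped commutatorElement

/-- A `p`-element of `O^p(G)` lies in the commutator subgroup of `O^p(G)`. -/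
theorem mem_commutator_of_pResidual {G : Type*} [Group G] [Finite G] (p : ℕ) [hp : Fact p.Prime]
    (t : ↥(pResidual p G)) (m : ℕ) (ht : t ^ p ^ m = 1) : t ∈ commutator ↥(pResidual p G) := by
  set n := Nat.card G / p ^ (Nat.card G).factorization p with hn
  have hcardpos : Nat.card G ≠ 0 := Nat.card_pos.ne'
  have hncop : Nat.Coprime n p := by
    rw [hn]; exact (Nat.coprime_ordCompl hp.out hcardpos).symm
  have hpow : ∀ g : G, Nat.Coprime (orderOf g) p → g ^ n = 1 := by
    intro g hg
    apply orderOf_dvd_iff_pow_eq_one.mp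
    have h1 : orderOf g ∣ p ^ (Nat.card G).factorization p * n := by
      rw [hn, Nat.ordProj_mul_ordCompl_eq_self]
      exact orderOf_dvd_natCard g
    exact (Nat.Coprime.pow_right _ hg).dvd_of_dvd_mul_left h1
  have key : ∀ (k : G) (hk : k ∈ Subgroup.closure {g : G | Nat.Coprime (orderOf g) p}),
      (Abelianization.of (⟨k, hk⟩ : ↥(pResidual p G))) ^ n = 1 := by
    intro k hk
    induction hk using Subgroup.closure_induction with
    | mem g hg =>
      rw [← map_pow]
      have : (⟨g, Subgroup.subset_closure hg⟩ : ↥(pResidual p G)) ^ n = 1 := by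
        apply Subtype.ext
        show g ^ n = 1
        exact hpow g hg
      rw [this, map_one]
    | one =>
      have : (⟨1, Subgroup.one_mem _⟩ : ↥(pResidual p G)) = 1 := rfl
      rw [this, map_one, one_pow]
    | mul a b ha hb iha ihb =>
      have : (⟨a * b, Subgroup.mul_mem _ ha hb⟩ : ↥(pResidual p G)) =
          (⟨a, ha⟩ : ↥(pResidual p G)) * ⟨b, hb⟩ := rfl
      rw [this, map_mul, mul_pow, iha, ihb, one_mul]
    | inv a ha iha =>
      have : (⟨a⁻¹, Subgroup.inv_mem _ ha⟩ : ↥(pResidual p G)) =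
          (⟨a, ha⟩ : ↥(pResidual p G))⁻¹ := rfl
      rw [this, map_inv, inv_pow, iha, inv_one]
  have h1 : (Abelianization.of t) ^ n = 1 := key t.1 t.2
  have h2 : (Abelianization.of t) ^ p ^ m = 1 := by
    rw [← map_pow, ht, map_one]
  have h3 : orderOf (Abelianization.of t) ∣ Nat.gcd n (p ^ m) :=
    Nat.dvd_gcd (orderOf_dvd_of_pow_eq_one h1) (orderOf_dvd_of_pow_eq_one h2)
  have h4 : Nat.gcd n (p ^ m) = 1 := Nat.Coprime.pow_right _ hncop
  rw [h4, Nat.dvd_one, orderOf_eq_one_iff] at h3
  have h5 : t ∈ (Abelianization.of (G := ↥(pResidual p G))).ker := h3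
  rw [Abelianization.ker_of] at h5
  exact h5

/-- Hyperfocal subgroup Theorem: for a finite group G with Sylow p-subgroup S, the hyperfocal subgroup of the fusion system of G on S equals S ∩ O^p(G), where O^p(G) is the subgroup generated by the elements of order prime to p. -/
theorem result {G : Type*} [Group G] [Finite G] (p : ℕ) [Fact p.Prime] (S : Sylow p G) : (Cfsg.groupFusionSystem (S : Subgroup G)).hyperfocalSubgroup p = (S : Subgroup G) ⊓ Cfsg.pResidual p G := by
  set F := groupFusionSystem (S : Subgroup G) with hF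
  set K := pResidual p G with hK
  haveI hKn : K.Normal := pResidual_normal p
  apply le_antisymm
  · -- hyp ≤ S ⊓ K
    apply hyperfocal_le_of_gen
    intro P hP α hα hord x
    refine ⟨?_, ?_⟩
    · exact Subgroup.mul_mem _ (Subgroup.inv_mem _ (hP x.2)) (hP (α x).2)
    · obtain ⟨-, -, g, hg⟩ := (mem_autGroup_iff F hP α).mp hα
      obtain ⟨h, hh, hhs⟩ := exists_pResidual_conj p α g hg hord
      rw [hhs x]
      have h1 : (x : G)⁻¹ * h * ((x : G)⁻¹)⁻¹ ∈ K := hKn.conj_mem h hh _
      have e : (x : G)⁻¹ * (h * x * h⁻¹) = ((x : G)⁻¹ * h * ((x : G)⁻¹)⁻¹) * h⁻¹ := by group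
      rw [e]
      exact Subgroup.mul_mem _ h1 (Subgroup.inv_mem _ hh)
  · -- S ⊓ K ≤ hyp
    set T := (S : Subgroup G) ⊓ K with hT
    have hTK : T ≤ K := inf_le_right
    have hTS : T ≤ (S : Subgroup G) := inf_le_left
    have hcard : Nat.card T = p ^ (Nat.card K).factorization p := card_sylow_inf_normal p S K
    set E := fusionSystemOfSubgroup K T hTK with hE
    have hEsat : E.IsSaturated p := fusionSystemOfSubgroup_saturated p K T hTK hcard
    have hTp : IsPGroup p T := S.2.to_le hTS
    have hfoc := Cfsg.Agent.S5092.result p hTp E hEsat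
    obtain ⟨T', hT'⟩ := (exists_sylow_eq_subgroupOf_iff p hTK).mpr hcard
    -- T ≤ foc(E)
    have h3 : T ≤ E.focalSubgroup := by
      have hfocal := Subgroup.commutator_inf_eq_focalSubgroup T'
      have hle : (T' : Subgroup K).focalSubgroup ≤ E.focalSubgroup.comap K.subtype := by
        rw [Subgroup.focalSubgroup_def, Subgroup.closure_le]
        rintro g ⟨hgT', x, hxT', u, rfl⟩
        rw [SetLike.mem_coe, Subgroup.mem_comap]
        have hxT : (x : G) ∈ T := by
          have : x ∈ T.subgroupOf K := hT' ▸ hxT'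
          exact Subgroup.mem_subgroupOf.mp this
        have hgT : ((⁅x, u⁆ : K) : G) ∈ T := by
          have : ⁅x, u⁆ ∈ T.subgroupOf K := hT' ▸ hgT'
          exact Subgroup.mem_subgroupOf.mp this
        have hcoe : ((⁅x, u⁆ : K) : G) = (x : G) * u * (x : G)⁻¹ * (u : G)⁻¹ := by
          rw [commutatorElement_def]; rfl
        have hy : (x : G)⁻¹ ∈ T := Subgroup.inv_mem _ hxT
        have hconj : (u : G) * (x : G)⁻¹ * (u : G)⁻¹ ∈ T := by
          have e : (u : G) * (x : G)⁻¹ * (u : G)⁻¹ = (x : G)⁻¹ * ((⁅x, u⁆ : K) : G) := by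
            rw [hcoe]; group
          rw [e]
          exact Subgroup.mul_mem _ hy hgT
        have hPT : Subgroup.zpowers ((x : G)⁻¹) ≤ T := (Subgroup.zpowers_le).mpr hy
        have hval : Subgroup.zpowers ((x : G)⁻¹) ≤ T.comap (MulAut.conj (u : G)).toMonoidHom := by
          rw [Subgroup.zpowers_le, Subgroup.mem_comap]
          exact hconj
        have hφ : conjHom (Subgroup.zpowers ((x : G)⁻¹)) (u : G) ∈
            E.Hom (Subgroup.zpowers ((x : G)⁻¹)) :=
          ⟨hPT, fun z => hval z.2, (u : G), u.2, fun z => rfl⟩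
        apply Subgroup.subset_closure
        refine ⟨Subgroup.zpowers ((x : G)⁻¹), conjHom _ (u : G),
          ⟨(x : G)⁻¹, Subgroup.mem_zpowers _⟩, hφ, ?_⟩
        show ((⁅x, u⁆ : K) : G) = ((x : G)⁻¹)⁻¹ * ((u : G) * (x : G)⁻¹ * (u : G)⁻¹)
        rw [hcoe]; group
      intro t ht
      have htK : t ∈ K := hTK ht
      have htT' : (⟨t, htK⟩ : K) ∈ (T' : Subgroup K) := by
        rw [hT']; exact Subgroup.mem_subgroupOf.mpr ht
      obtain ⟨m, hm⟩ := (T'.2) ⟨⟨t, htK⟩, htT'⟩
      have hm' : (⟨t, htK⟩ : K) ^ p ^ m = 1 := by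
        have := congrArg Subtype.val hm
        simpa using this
      have hcomm : (⟨t, htK⟩ : K) ∈ commutator K := mem_commutator_of_pResidual p _ m hm'
      have hmem : (⟨t, htK⟩ : K) ∈ (T' : Subgroup K).focalSubgroup := by
        rw [← hfocal]; exact ⟨hcomm, htT'⟩
      exact hle hmem
    have h4 : T ≤ E.hyperfocalSubgroup p := by
      apply le_of_le_sup_commutator p hTp (hyperfocal_le E p)
      rw [← hfoc]; exact h3
    have h5 : E.hyperfocalSubgroup p ≤ F.hyperfocalSubgroup p := by
      apply hyperfocal_le_of_gen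
      intro P hPT α hα hord x
      have hPS : P ≤ (S : Subgroup G) := hPT.trans hTS
      have hα' : α ∈ F.autGroup P := by
        rw [mem_autGroup_iff F hPS α]
        obtain ⟨-, hv, g, -, hg⟩ := (mem_autGroup_iff E hPT α).mp hα
        exact ⟨hPS, fun z => hTS (hv z), g, hg⟩
      exact hyperfocal_gen_mem' F p hPS α hα' hord x
    exact h4.trans h5

end Cfsg.Agent.S5093
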