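import Cfsg.Statements.S5098
import Cfsg.Agent.Lib.Helper9.KNorm8
-- import your own Cfsg.Agent.* helpers here

set_option autoImplicit false
open Cfsg

namespace Cfsg.Agent.S5098

open Cfsg.FusionSystem Cfsg.Agent.Lib.Helper9

/-- If F is a saturated fusion system over a finite p-group S and Q is fully normalized in F, then the normalizer system N_F(Q) is a saturated fusion system over N_S(Q). -/
theorem result {Ω : Type*} [Group Ω] {S : Subgroup Ω} [Finite S] (p : ℕ) [Fact p.Prime] (hS : IsPGroup p S) (F : Cfsg.FusionSystem S) (hF : F.IsSaturated p) (Q : Subgroup Ω) (hQ : F.IsFullyNormalized Q) (E : Cfsg.FusionSystem (Cfsg.FusionSystem.normalizerIn S Q)) (hE : F.IsNormalizerSystem Q E) : E.IsSaturated p := by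
  obtain ⟨hfc, hauto⟩ := sat_fullyNormalized p hS F hF hQ
  have hrecQ : F.IsReceptive Q := sat_fullyCentralized_receptive p hS F hF hfc
  have hQS : Q ≤ S := hQ.1
  have hfinQ : Finite Q := finite_of_le' hQS
  have hK : KSetup F Q (⊤ : Subgroup (MulAut Q)) (normalizerIn S Q) E := by
    refine ⟨hQS, fun g => by rw [kNormalizer_top], ?_, ?_⟩
    · intro P φ
      rw [hE P]
      unfold normalizerHom
      rw [Set.mem_setOf_eq]
      constructor
      · rintro ⟨h1, h2, h3, ψ, hψ, hψP, hψQ⟩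
        refine ⟨h1, h2, h3, ψ, hψ, hψP, ?_⟩
        have hval : ∀ x : Q, (ψ.comp (Subgroup.inclusion (le_sup_right : Q ≤ P ⊔ Q))) x ∈ Q := by
          intro x
          have hm : ψ (Subgroup.inclusion le_sup_right x) ∈ (Q.subgroupOf (P ⊔ Q)).map ψ :=
            ⟨Subgroup.inclusion le_sup_right x, Subgroup.mem_subgroupOf.mpr x.2, rfl⟩
          rw [hψQ] at hm
          exact hm
        obtain ⟨α, -, hα⟩ := exists_aut_of_hom_self F (restrict_mem F hψ le_sup_right) hval
        exact ⟨α, Subgroup.mem_top _, fun x => (hα x).symm⟩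
      · rintro ⟨h1, h2, h3, ψ, hψ, hψP, κ, -, hψQ⟩
        refine ⟨h1, h2, h3, ψ, hψ, hψP, ?_⟩
        ext z
        constructor
        · rintro ⟨u, hu, rfl⟩
          have hu' : (u : Ω) ∈ Q := Subgroup.mem_subgroupOf.mp hu
          have e : u = Subgroup.inclusion le_sup_right (⟨(u : Ω), hu'⟩ : Q) := Subtype.ext rfl
          rw [e, hψQ]
          exact (κ _).2
        · intro hz
          refine ⟨Subgroup.inclusion le_sup_right (κ⁻¹ ⟨z, hz⟩), Subgroup.mem_subgroupOf.mpr
            (κ⁻¹ ⟨z, hz⟩).2, ?_⟩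
          rw [hψQ, MulAut.apply_inv_self]
    · intro Q₁ θ' hθ
      have hr : (Q.subtype.comp θ'.toMonoidHom).range = Q := by
        ext z
        constructor
        · rintro ⟨x, rfl⟩
          exact (θ' x).2
        · intro hz
          exact ⟨θ'.symm ⟨z, hz⟩, by
            show ((θ' (θ'.symm ⟨z, hz⟩) : Q) : Ω) = z
            rw [MulEquiv.apply_symm_apply]⟩
      have hQ₁S : Q₁ ≤ S := (F.le_of_mem hθ).1
      obtain ⟨φ, hφ, hφN, hφQ⟩ := Cfsg.Agent.S5079.result p hS F Q Q₁ hauto hrecQ ⟨_, hθ, hr⟩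
      have h1 : Q₁ ≤ normalizerIn S Q₁ := fun x hx =>
        Subgroup.mem_inf.mpr ⟨hQ₁S hx, Subgroup.le_normalizer hx⟩
      have h2 : kNormalizer S Q₁ ((⊤ : Subgroup (MulAut Q)).comap (MulAut.congr θ').toMonoidHom) ≤
          normalizerIn S Q₁ := by
        intro g hg
        rw [mem_kNormalizer] at hg
        exact Subgroup.mem_inf.mpr ⟨hg.1, hg.2.1⟩
      have hle := sup_le h1 h2
      -- the inverse of `θ`
      obtain ⟨θ'', θi, hθ'', hθi, hθi', -⟩ := exists_iso_data F hθ hr
      have hθeq : θ'' = θ' := by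
        ext x
        rw [hθ'']
        rfl
      have hθiQ₁ : ∀ y : Q, θi y ∈ Q₁ := fun y => by rw [hθi']; exact (θ''.symm y).2
      have hcomp := F.comp_mem hθi (restrict_mem F hφ h1) hθiQ₁
      have hval : ∀ y : Q, ((φ.comp (Subgroup.inclusion h1)).comp (θi.codRestrict Q₁ hθiQ₁)) y ∈ Q := by
        intro y
        have hm : φ (Subgroup.inclusion h1 ⟨θi y, hθiQ₁ y⟩) ∈
            (Q₁.subgroupOf (normalizerIn S Q₁)).map φ :=
          ⟨Subgroup.inclusion h1 ⟨θi y, hθiQ₁ y⟩, Subgroup.mem_subgroupOf.mpr (hθiQ₁ y), rfl⟩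
        rw [hφQ] at hm
        exact hm
      obtain ⟨κ₀, -, hκ₀⟩ := exists_aut_of_hom_self F hcomp hval
      refine ⟨φ.comp (Subgroup.inclusion hle), restrict_mem F hφ hle, κ₀, Subgroup.mem_top _,
        fun x => ?_⟩
      rw [hκ₀]
      show φ _ = φ _
      congr 1
      apply Subtype.ext
      show (x : Ω) = θi (θ' x)
      rw [hθi', hθeq, MulEquiv.symm_apply_apply]
  exact hK.saturated p hS hF

end Cfsg.Agent.S5098
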