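import Cfsg.Statements.S5099
import Cfsg.Agent.Lib.Helper9.KNorm8
-- import your own Cfsg.Agent.* helpers here

set_option autoImplicit false
open Cfsg

namespace Cfsg.Agent.S5099

open Cfsg.FusionSystem Cfsg.Agent.Lib.Helper9

/-- If F is a saturated fusion system over a finite p-group S and Q is fully centralized in F, then the centralizer system C_F(Q) is a saturated fusion system over C_S(Q). -/
theorem result {Ω : Type*} [Group Ω] {S : Subgroup Ω} [Finite S] (p : ℕ) [Fact p.Prime] (hS : IsPGroup p S) (F : Cfsg.FusionSystem S) (hF : F.IsSaturated p) (Q : Subgroup Ω) (hQ : F.IsFullyCentralized Q) (E : Cfsg.FusionSystem (Cfsg.FusionSystem.centralizerIn S Q)) (hE : F.IsCentralizerSystem Q E) : E.IsSaturated p := by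
  have hrecQ : F.IsReceptive Q := sat_fullyCentralized_receptive p hS F hF hQ
  have hQS : Q ≤ S := hQ.1
  have hK : KSetup F Q (⊥ : Subgroup (MulAut Q)) (centralizerIn S Q) E := by
    refine ⟨hQS, fun g => by rw [kNormalizer_bot], ?_, ?_⟩
    · intro P φ
      rw [hE P]
      unfold centralizerHom
      rw [Set.mem_setOf_eq]
      constructor
      · rintro ⟨h1, h2, h3, ψ, hψ, hψP, hψQ⟩
        exact ⟨h1, h2, h3, ψ, hψ, hψP, 1, Subgroup.one_mem _, fun x => hψQ x⟩
      · rintro ⟨h1, h2, h3, ψ, hψ, hψP, κ, hκ, hψQ⟩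
        refine ⟨h1, h2, h3, ψ, hψ, hψP, fun x => ?_⟩
        rw [Subgroup.mem_bot] at hκ
        rw [hψQ, hκ]
        rfl
    · intro Q₁ θ' hθ
      have hr : (Q.subtype.comp θ'.toMonoidHom).range = Q := by
        ext z
        constructor
        · rintro ⟨x, rfl⟩
          exact (θ' x).2
        · intro hz
          exact ⟨θ'.symm ⟨z, hz⟩, by
            show ((θ' (θ'.symm ⟨z, hz⟩) : Q) : Ω) = z
            rw [MulEquiv.apply_symm_apply]⟩
      obtain ⟨ψ, hψ, hψθ⟩ := hrecQ.2 Q₁ _ hθ hr
      have hQ₁S : Q₁ ≤ S := (F.le_of_mem hθ).1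
      have h1 : Q₁ ≤ extender S Q₁ (Q.subtype.comp θ'.toMonoidHom) :=
        le_extender hQ₁S _ (F.le_of_mem hθ).2
      have h2 : kNormalizer S Q₁ ((⊥ : Subgroup (MulAut Q)).comap (MulAut.congr θ').toMonoidHom) ≤
          extender S Q₁ (Q.subtype.comp θ'.toMonoidHom) := by
        refine le_trans ?_ (centralizerIn_le_extender S Q₁ _)
        intro g hg
        rw [← kNormalizer_bot]
        rw [mem_kNormalizer] at hg ⊢
        obtain ⟨hgS, hgN, hgK⟩ := hg
        refine ⟨hgS, hgN, ?_⟩
        rw [Subgroup.mem_comap, Subgroup.mem_bot] at hgK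
        rw [Subgroup.mem_bot]
        exact (MulAut.congr θ').injective (hgK.trans (map_one _).symm)
      have hle := sup_le h1 h2
      refine ⟨ψ.comp (Subgroup.inclusion hle), restrict_mem F hψ hle, 1, Subgroup.one_mem _,
        fun x => ?_⟩
      exact hψθ (x : Ω) x.2 (h1 x.2)
  exact hK.saturated p hS hF

end Cfsg.Agent.S5099
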