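import Cfsg.Statements.S5101
import Cfsg.Agent.Lib.Helper9.FusionGroup

set_option autoImplicit false
open Cfsg

namespace Cfsg.Agent.S5101

open Cfsg.Agent.Lib.Helper9 Cfsg.FusionSystem

/-- In the fusion system of a finite group G on a Sylow p-subgroup S, a subgroup P ≤ S is fully centralized if and only if C_S(P) is a Sylow p-subgroup of C_G(P). -/
theorem result {G : Type*} [Group G] [Finite G] (p : ℕ) [Fact p.Prime] (S : Sylow p G) (P : Subgroup G) (hP : P ≤ S) : (Cfsg.groupFusionSystem (S : Subgroup G)).IsFullyCentralized P ↔ ∃ R : Sylow p ↥(Subgroup.centralizer (P : Set G)), (R : Subgroup ↥(Subgroup.centralizer (P : Set G))) = (Cfsg.FusionSystem.centralizerIn (S : Subgroup G) P).subgroupOf (Subgroup.centralizer (P : Set G)) := by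
  rw [exists_sylow_eq_subgroupOf_iff p (centralizerIn_le_centralizer _ _)]
  have hCSp : ∀ Q : Subgroup G, IsPGroup p (centralizerIn (S : Subgroup G) Q) := fun Q =>
    S.isPGroup'.to_le (centralizerIn_le_left _ _)
  constructor
  · rintro ⟨-, hfull⟩
    have hpg : IsPGroup p ((centralizerIn (S : Subgroup G) P).subgroupOf
        (Subgroup.centralizer (P : Set G))) := (hCSp P).comap_subtype
    obtain ⟨T, hT⟩ := hpg.exists_le_sylow
    -- the image of `T` in `G`
    obtain ⟨T', hT'def⟩ : ∃ T' : Subgroup G,
      T' = (T : Subgroup ↥(Subgroup.centralizer (P : Set G))).map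
        (Subgroup.centralizer (P : Set G)).subtype := ⟨_, rfl⟩
    have hT'C : T' ≤ Subgroup.centralizer (P : Set G) := by
      rw [hT'def]; rintro _ ⟨x, -, rfl⟩; exact x.2
    have hT'card : Nat.card T' = p ^ (Nat.card ↥(Subgroup.centralizer (P : Set G))).factorization p := by
      rw [hT'def, Subgroup.card_map_of_injective Subtype.val_injective]
      exact T.card_eq_multiplicity
    have hT'p : IsPGroup p T' := IsPGroup.of_card hT'card
    have hCST' : centralizerIn (S : Subgroup G) P ≤ T' := by
      intro x hx
      rw [hT'def]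
      exact ⟨⟨x, centralizerIn_le_centralizer _ _ hx⟩, hT (Subgroup.mem_subgroupOf.mpr hx), rfl⟩
    have hPp : IsPGroup p P := S.isPGroup'.to_le hP
    have hsup : IsPGroup p (T' ⊔ P : Subgroup G) :=
      IsPGroup.to_sup_of_normal_right' hT'p hPp (hT'C.trans (centralizer_le_normalizer' P))
    obtain ⟨g, hg⟩ := exists_conj_le_sylow p S hsup
    have hQS : P.map (MulAut.conj g).toMonoidHom ≤ (S : Subgroup G) :=
      (Subgroup.map_mono le_sup_right).trans hg
    have hconj : (groupFusionSystem (S : Subgroup G)).IsConj P (P.map (MulAut.conj g).toMonoidHom) :=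
      (isConj_groupFusionSystem_iff _ _ _).mpr ⟨hP, hQS, g, rfl⟩
    have h1 := hfull _ hconj
    have h2 : T'.map (MulAut.conj g).toMonoidHom ≤
        centralizerIn (S : Subgroup G) (P.map (MulAut.conj g).toMonoidHom) := by
      refine le_inf ((Subgroup.map_mono le_sup_left).trans hg) ?_
      rw [centralizer_map_conj]
      exact Subgroup.map_mono hT'C
    have h3 : Nat.card T' ≤ Nat.card ↥(centralizerIn (S : Subgroup G) (P.map (MulAut.conj g).toMonoidHom)) := by
      rw [← card_map_conj T' g]
      exact Nat.card_le_card_of_injective _ (Subgroup.inclusion_injective h2)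
    have h4 := card_le_of_isPGroup_le p (hCSp P) (centralizerIn_le_centralizer _ _)
    rw [hT'card] at h3
    exact le_antisymm h4 (h3.trans h1)
  · intro hcard
    refine ⟨hP, ?_⟩
    intro Q hPQ
    obtain ⟨-, hQS, g, rfl⟩ := (isConj_groupFusionSystem_iff _ _ _).mp hPQ
    have h1 := card_le_of_isPGroup_le p (hCSp (P.map (MulAut.conj g).toMonoidHom))
      (centralizerIn_le_centralizer _ _)
    rw [centralizer_map_conj, card_map_conj] at h1
    rw [hcard]
    exact h1

end Cfsg.Agent.S5101
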