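import Cfsg.Statements.S5102

set_option autoImplicit false
open Cfsg

namespace Cfsg.Agent.S5102

theorem result {G : Type*} [Group G] [Finite G] (p : ℕ) [Fact p.Prime] (S : Sylow p G) (R : Subgroup G) [R.Normal] (hR : IsPGroup p R) : (Cfsg.groupFusionSystem (S : Subgroup G)).IsNormal R := by
  have hRS : R ≤ (S : Subgroup G) := hR.le_sylow_of_normal S
  refine ⟨hRS, ?_⟩
  rintro P φ ⟨hPS, hφS, g, hg⟩
  have hsup : P ⊔ R ≤ (S : Subgroup G) := sup_le hPS hRS
  have hconjS : P ⊔ R ≤ (S : Subgroup G).comap (MulAut.conj g).toMonoidHom := by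
    apply sup_le
    · intro x hx
      show g * x * g⁻¹ ∈ (S : Subgroup G)
      have := hφS ⟨x, hx⟩
      rw [hg] at this
      exact this
    · intro x hx
      show g * x * g⁻¹ ∈ (S : Subgroup G)
      exact hRS (Subgroup.Normal.conj_mem inferInstance x hx g)
  refine ⟨conjHom (P ⊔ R) g, ⟨hsup, fun x => hconjS x.2, g, fun x => rfl⟩, ?_, ?_⟩
  · intro x
    rw [hg]
    rfl
  · ext y
    constructor
    · rintro ⟨x, hx, rfl⟩
      have hxR : (x : G) ∈ R := Subgroup.mem_subgroupOf.mp hx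
      show g * (x : G) * g⁻¹ ∈ R
      exact Subgroup.Normal.conj_mem inferInstance _ hxR g
    · intro hy
      have hx : g⁻¹ * y * g ∈ R := by
        have := Subgroup.Normal.conj_mem (inferInstance : R.Normal) y hy g⁻¹
        simpa using this
      refine ⟨⟨g⁻¹ * y * g, (le_sup_right : R ≤ P ⊔ R) hx⟩, Subgroup.mem_subgroupOf.mpr hx, ?_⟩
      show g * (g⁻¹ * y * g) * g⁻¹ = y
      group

end Cfsg.Agent.S5102
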