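import Cfsg.Statements.S5103
import Cfsg.Agent.S5086
import Cfsg.Agent.Lib.Helper9.FusionRealized
import Cfsg.Agent.Lib.Helper9.Basic
import Cfsg.Agent.Lib.Helper9.FusionChain3
import Cfsg.Agent.Lib.Helper9.Fusion3
-- import your own Cfsg.Agent.* helpers here

set_option autoImplicit false
open Cfsg

namespace Cfsg.Agent.S5103

open Cfsg.FusionSystem Cfsg.Agent.Lib.Helper9

/-- A fusion system over a finite p-group that has a model (a finite group realizing it on a Sylow p-subgroup with self-centralizing largest normal p-subgroup) is constrained. -/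
theorem result {Ω : Type*} [Group Ω] {S : Subgroup Ω} [Finite S] (p : ℕ) [Fact p.Prime] (hS : IsPGroup p S) (F : Cfsg.FusionSystem S) {G : Type*} [Group G] (ι : S →* G) (hG : F.IsModel p G ι) : F.IsConstrained p := by
  obtain ⟨hfin, hreal, ⟨T, hT⟩, hcent⟩ := hG
  haveI := hfin
  have hsat := saturated_of_isRealizedBy p hS F ι hreal T hT
  haveI hOn : (pCore p G).Normal := pCore_normal' p
  have hOT : pCore p G ≤ ι.range := by rw [← hT]; exact pCore_le_sylow' T
  have hQS : preimageAlong ι (pCore p G) ≤ S := preimageAlong_le _ _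
  have hfinQ : Finite ↥(preimageAlong ι (pCore p G)) := finite_of_le' hQS
  have hQnorm : F.IsNormal (preimageAlong ι (pCore p G)) := by
    refine ⟨hQS, ?_⟩
    intro P φ hφ
    have hPS := (F.le_of_mem hφ).1
    obtain ⟨g, hg⟩ := (hreal.2 P hPS φ (F.le_of_mem hφ).2).mp hφ
    have hsupS : P ⊔ preimageAlong ι (pCore p G) ≤ S := sup_le hPS hQS
    have hK : P ⊔ preimageAlong ι (pCore p G) ≤
        preimageAlong ι (ι.range.comap (MulAut.conj g).toMonoidHom) := by
      apply sup_le
      · intro x hx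
        rw [mem_preimageAlong (hPS hx)]
        show g * ι ⟨x, hPS hx⟩ * g⁻¹ ∈ ι.range
        rw [← hg ⟨x, hx⟩]
        exact ⟨_, rfl⟩
      · intro x hx
        rw [mem_preimageAlong (hQS hx)]
        show g * ι ⟨x, hQS hx⟩ * g⁻¹ ∈ ι.range
        exact hOT (hOn.conj_mem _ ((mem_preimageAlong (hQS hx)).mp hx) g)
    have hconj : ∀ y : ↥(P ⊔ preimageAlong ι (pCore p G)),
        g * ι ⟨y, hsupS y.2⟩ * g⁻¹ ∈ ι.range := by
      intro y
      exact (mem_preimageAlong (hsupS y.2)).mp (hK y.2)
    obtain ⟨ψ, hψ, hψS, hspec⟩ := exists_hom_of_conj F ι hreal hsupS g hconj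
    refine ⟨ψ, hψ, ?_, ?_⟩
    · intro x
      have key : (⟨ψ (Subgroup.inclusion le_sup_left x), hψS _⟩ : S) =
          ⟨φ x, (F.le_of_mem hφ).2 x⟩ := by
        apply hreal.1
        rw [hspec, hg]
        rfl
      exact congrArg Subtype.val key
    · have hle : ((preimageAlong ι (pCore p G)).subgroupOf
          (P ⊔ preimageAlong ι (pCore p G))).map ψ ≤ preimageAlong ι (pCore p G) := by
        rintro _ ⟨y, hy, rfl⟩
        rw [mem_preimageAlong (hψS y), hspec]
        have hyQ : (y : Ω) ∈ preimageAlong ι (pCore p G) := Subgroup.mem_subgroupOf.mp hy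
        exact hOn.conj_mem _ ((mem_preimageAlong (hsupS y.2)).mp hyQ) g
      refine Subgroup.eq_of_le_of_card_ge hle ?_
      rw [Subgroup.card_map_of_injective (F.injective_of_mem hψ)]
      exact (Nat.card_congr (Subgroup.subgroupOfEquivOfLe le_sup_right).toEquiv).ge
  refine ⟨hsat, preimageAlong ι (pCore p G), hQnorm, hQS, ?_⟩
  have hQsc := ((Cfsg.Agent.S5086.result p hS F hsat _).mp hQnorm).1
  rintro Q' ⟨φ, hφ, hrange⟩
  have hQ' : Q' = preimageAlong ι (pCore p G) := by
    rw [← hrange]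
    exact (weaklyClosed_of_stronglyClosed F hQsc).2 φ hφ
  rw [hQ']
  intro s hs
  obtain ⟨hsS, hscomm⟩ := mem_centralizerIn.mp hs
  rw [mem_preimageAlong hsS]
  apply hcent
  rw [Subgroup.mem_centralizer_iff]
  intro o ho
  obtain ⟨q, rfl⟩ := hOT ho
  have hq : (q : Ω) ∈ preimageAlong ι (pCore p G) := (mem_preimageAlong q.2).mpr ho
  have h1 := hscomm q hq
  rw [← map_mul, ← map_mul]
  congr 1
  exact Subtype.ext h1

end Cfsg.Agent.S5103
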