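import Cfsg.Statements.S5106
import Cfsg.Agent.S5086
import Cfsg.Agent.Lib.Helper9.FusionRestrict
import Cfsg.Agent.Lib.Helper9.ConjStab

set_option autoImplicit false
open Cfsg

namespace Cfsg.Agent.S5106

open Cfsg.Agent.Lib.Helper9 Cfsg.FusionSystem

/-- In a saturated fusion system over a finite p-group S, a subgroup R ≤ S is normal in the system if and only if every map of the system whose source is a subgroup of R is the restriction of an element of Aut_F(R). -/
theorem result {Ω : Type*} [Group Ω] {S : Subgroup Ω} [Finite S] (p : ℕ) [Fact p.Prime] (hS : IsPGroup p S) (F : Cfsg.FusionSystem S) (hF : F.IsSaturated p) (R : Subgroup Ω) (hRS : R ≤ S) : F.IsNormal R ↔ ∀ (P : Subgroup Ω) (hPR : P ≤ R) (φ : P →* Ω), φ ∈ F.Hom P → ∃ α ∈ F.autGroup R, ∀ x : P, ((α (Subgroup.inclusion hPR x) : R) : Ω) = φ x := by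
  constructor
  · intro hR P hPR φ hφ
    obtain ⟨ψ, hψ, hψP, hψR⟩ := hR.2 P φ hφ
    have hθ := restrict_mem F hψ (le_sup_right : R ≤ P ⊔ R)
    have hr : (ψ.comp (Subgroup.inclusion (le_sup_right : R ≤ P ⊔ R))).range = R := by
      conv_rhs => rw [← hψR]
      ext y
      constructor
      · rintro ⟨x, rfl⟩
        exact ⟨Subgroup.inclusion le_sup_right x, Subgroup.mem_subgroupOf.mpr x.2, rfl⟩
      · rintro ⟨x, hx, rfl⟩
        exact ⟨⟨(x : Ω), Subgroup.mem_subgroupOf.mp hx⟩, rfl⟩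
    obtain ⟨θ', θi, hθ', -, -, -⟩ := exists_iso_data F hθ hr
    refine ⟨θ', ?_, fun x => ?_⟩
    · rw [mem_autGroup_iff F hRS]
      have : R.subtype.comp (MulEquiv.toMonoidHom θ') =
          ψ.comp (Subgroup.inclusion (le_sup_right : R ≤ P ⊔ R)) := by
        ext x
        exact hθ' x
      rw [this]
      exact hθ
    · rw [hθ', ← hψP x]
      rfl
  · intro h
    have hRsc : F.StronglyClosed R := by
      refine ⟨hRS, fun P hPR φ hφ x => ?_⟩
      obtain ⟨α, -, hα⟩ := h P hPR φ hφ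
      rw [← hα x]
      exact (α _).2
    rw [Cfsg.Agent.S5086.result p hS F hF R]
    refine ⟨hRsc, ?_⟩
    intro P hcen hrad
    have hPS := hcen.1
    have hfinP : Finite P := finite_of_le' hPS
    have hPp : IsPGroup p P := hS.to_le hPS
    have hRp : IsPGroup p R := hS.to_le hRS
    have hinv : ∀ α ∈ F.autGroup P, ∀ x : P, (x : Ω) ∈ R → ((α x : P) : Ω) ∈ R :=
      fun α hα x hx => aut_mem_of_stronglyClosed F hPS hRsc hα x hx
    have hext : ∀ γ ∈ F.autGroup P, ∃ γ' : R →* R, ∀ (x : P) (hx : (x : Ω) ∈ R),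
        ((γ' ⟨(x : Ω), hx⟩ : R) : Ω) = ((γ x : P) : Ω) := by
      intro γ hγ
      have hφ := (mem_autGroup_iff F hPS γ).mp hγ
      have hφ' := restrict_mem F hφ (inf_le_left : P ⊓ R ≤ P)
      obtain ⟨α, -, hα⟩ := h (P ⊓ R) inf_le_right _ hφ'
      refine ⟨α.toMonoidHom, fun x hx => ?_⟩
      have := hα ⟨(x : Ω), Subgroup.mem_inf.mpr ⟨x.2, hx⟩⟩
      exact this
    have hXp := conjStabSub_isPGroup p hPp (F.autGroup P) R hRp hinv
    have hXn := conjStabSub_normal (F.autGroup P) R hinv hext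
    have hXA := conjStabSub_le (F.autGroup P) R hinv
    have hSNR := le_normalizer_of_stronglyClosed F hRsc
    apply le_of_forall_mem_normalizer_mem p hS hPS hRS (hPS.trans hSNR)
    intro b hbR hbN
    apply mem_of_centric_radical_of_normal_pgroup p F hcen hrad _ hXA hXn hXp (hRS hbR) hbN
    rw [mem_conjStabSub]
    refine ⟨autInducedBy_le_autGroup F hPS (Subgroup.subset_closure ⟨b, hRS hbR, fun x => rfl⟩),
      fun x => ?_, b, hbR, fun x _ => rfl⟩
    show (x : Ω)⁻¹ * (b * (x : Ω) * b⁻¹) ∈ R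
    have h5 := conj_mem_of_stronglyClosed F hRsc (hPS (Subgroup.inv_mem _ x.2)) hbR
    have h6 : (x : Ω)⁻¹ * (b * (x : Ω) * b⁻¹) = ((x : Ω)⁻¹ * b * ((x : Ω)⁻¹)⁻¹) * b⁻¹ := by group
    rw [h6]
    exact R.mul_mem h5 (R.inv_mem hbR)

end Cfsg.Agent.S5106
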