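import Cfsg.Statements.S5107
import Cfsg.Agent.S5076
import Cfsg.Agent.S5088
import Cfsg.Agent.Lib.Helper9.FusionSat6
-- import your own Cfsg.Agent.* helpers here

set_option autoImplicit false
open Cfsg

namespace Cfsg.Agent.S5107

open Cfsg.FusionSystem Cfsg.Agent.Lib.Helper9

open scoped commutatorElement

/-- If a Sylow p-subgroup S of a finite group G has nilpotency class at most two and its centre is strongly closed in S with respect to G, then every map of the fusion system of G on S is conjugation by an element of N_G(S), and S is the largest subgroup normal in that fusion system. -/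
theorem result {G : Type*} [Group G] [Finite G] (p : ℕ) [Fact p.Prime] (S : Sylow p G) (hcl : ⁅(S : Subgroup G), (S : Subgroup G)⁆ ≤ (S : Subgroup G) ⊓ Subgroup.centralizer ((S : Subgroup G) : Set G)) (hZ : Cfsg.IsStronglyClosed ((S : Subgroup G) ⊓ Subgroup.centralizer ((S : Subgroup G) : Set G)) (S : Subgroup G)) : (∀ (P : Subgroup G) (φ : P →* G), φ ∈ (Cfsg.groupFusionSystem (S : Subgroup G)).Hom P → ∃ g ∈ Subgroup.normalizer ((S : Subgroup G) : Set G), ∀ x : P, φ x = g * (x : G) * g⁻¹) ∧ (Cfsg.groupFusionSystem (S : Subgroup G)).core = S := by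
  have hfinS : Finite (S : Subgroup G) := inferInstance
  have hSp : IsPGroup p (S : Subgroup G) := S.isPGroup'
  have hF := Cfsg.Agent.S5076.result p S
  have hZsc : (Cfsg.groupFusionSystem (S : Subgroup G)).StronglyClosed
      ((S : Subgroup G) ⊓ Subgroup.centralizer ((S : Subgroup G) : Set G)) := by
    refine ⟨hZ.1, ?_⟩
    rintro R hR φ ⟨hRS, hφS, g, hg⟩ x
    rw [hg x]
    apply hZ.2 _ (hR x.2) g
    rw [← hg x]
    exact hφS x
  have hSsc : (Cfsg.groupFusionSystem (S : Subgroup G)).StronglyClosed (S : Subgroup G) :=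
    ⟨le_rfl, fun R hR φ hφ x => ((Cfsg.groupFusionSystem (S : Subgroup G)).le_of_mem hφ).2 x⟩
  have hnorm : (Cfsg.groupFusionSystem (S : Subgroup G)).IsNormal (S : Subgroup G) := by
    rw [Cfsg.Agent.S5088.result p hSp _ hF]
    refine ⟨2, ![⊥, (S : Subgroup G) ⊓ Subgroup.centralizer ((S : Subgroup G) : Set G),
      (S : Subgroup G)], rfl, rfl, ?_, ?_⟩
    · rw [Fin.monotone_iff_le_succ]
      intro k
      fin_cases k
      · exact bot_le
      · exact inf_le_left
    · intro k
      fin_cases k
      · refine ⟨hZsc, ?_⟩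
        show ⁅(S : Subgroup G), (S : Subgroup G) ⊓ Subgroup.centralizer ((S : Subgroup G) : Set G)⁆ ≤ ⊥
        rw [Subgroup.commutator_le]
        intro g hg z hz
        rw [Subgroup.mem_bot, commutatorElement_eq_one_iff_mul_comm]
        exact Subgroup.mem_centralizer_iff.mp (Subgroup.mem_inf.mp hz).2 g hg
      · exact ⟨hSsc, hcl⟩
  constructor
  · intro P φ hφ
    obtain ⟨ψ, hψ, hext, hmap⟩ := hnorm.2 P φ hφ
    obtain ⟨hPS, hψS, g, hg⟩ := hψ
    have hle : (S : Subgroup G) ≤ P ⊔ (S : Subgroup G) := le_sup_right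
    refine ⟨g, ?_, fun x => ?_⟩
    · have hfin : Finite ((S : Subgroup G)) := inferInstance
      refine mem_normalizer_of_conj_mem_of_finite (fun s hs => ?_)
      have := hψS ⟨s, hle hs⟩
      rw [hg] at this
      exact this
    · rw [← hext x, hg]
      rfl
  · apply le_antisymm
    · apply sSup_le
      intro Q hQ
      exact hQ.1
    · exact le_sSup hnorm

end Cfsg.Agent.S5107
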