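import Cfsg.Statements.S5111
import Cfsg.Agent.Lib.Helper9.FusionSat6

set_option autoImplicit false
open Cfsg

namespace Cfsg.Agent.S5111

open Cfsg.Agent.Lib.Helper9 Cfsg.FusionSystem

theorem card_lt_of_lt' {Ω : Type*} [Group Ω] {H K : Subgroup Ω} [Finite K] (h : H < K) :
    Nat.card H < Nat.card K := by
  have hle : Nat.card H ≤ Nat.card K :=
    Nat.card_le_card_of_injective _ (Subgroup.inclusion_injective h.le)
  refine lt_of_le_of_ne hle ?_
  intro heq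
  exact absurd (Subgroup.eq_of_le_of_card_ge h.le heq.ge) h.ne

theorem fullyAutomized_of_fullyNormalized {Ω : Type*} [Group Ω] {S : Subgroup Ω} [Finite S] (p : ℕ)
    [hp : Fact p.Prime] (hS : IsPGroup p S) (F : Cfsg.FusionSystem S)
    (hSa : F.IsFullyAutomized p S)
    (hrec : ∀ P : Subgroup Ω, F.IsFullyNormalized P → F.IsReceptive P) :
    ∀ (n : ℕ) (P : Subgroup Ω), F.IsFullyNormalized P → Nat.card S - Nat.card P = n →
      F.IsFullyAutomized p P := by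
  intro n
  induction n using Nat.strong_induction_on with
  | _ n ih =>
  intro P hPfn hn
  have hPS := hPfn.1
  by_cases hPeq : P = S
  · rw [hPeq]; exact hSa
  rw [fullyAutomized_iff_card p F hPS]
  by_contra hne
  have hcardle : ∀ R : Subgroup Ω, R ≤ S → Nat.card R ≤ Nat.card S := fun R hR =>
    Nat.card_le_card_of_injective _ (Subgroup.inclusion_injective hR)
  have hfinP : Finite P := finite_of_le' hPS
  have hfinAut : Finite (MulAut P) := inferInstance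
  have hfinA : Finite ↥(F.autGroup P) := inferInstance
  have hBA := autInducedBy_le_autGroup F hPS
  have hBp := isPGroup_autInducedBy p hS P
  have hcardB : Nat.card ((autInducedBy S P).subgroupOf (F.autGroup P)) = Nat.card (autInducedBy S P) :=
    Nat.card_congr (Subgroup.subgroupOfEquivOfLe hBA).toEquiv
  obtain ⟨t, htB, htnorm, k, htk⟩ := exists_normalizing_of_not_sylow (G := ↥(F.autGroup P)) p
    (B := (autInducedBy S P).subgroupOf (F.autGroup P)) hBp.comap_subtype (by rw [hcardB]; exact hne)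
  -- φ₀ := t
  have hφ₀A : (t : MulAut P) ∈ F.autGroup P := t.2
  have hφ₀B : (t : MulAut P) ∉ autInducedBy S P := fun h => htB (Subgroup.mem_subgroupOf.mpr h)
  have hφ₀norm : ∀ b ∈ autInducedBy S P, (t : MulAut P) * b * (t : MulAut P)⁻¹ ∈ autInducedBy S P := by
    intro b hb
    have := htnorm ⟨b, hBA hb⟩ (Subgroup.mem_subgroupOf.mpr hb)
    exact Subgroup.mem_subgroupOf.mp this
  have hφ₀ord : orderOf (t : MulAut P) = p ^ k := by rw [Subgroup.orderOf_coe]; exact htk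
  obtain ⟨φ', hφ'A, hφ'P⟩ := exists_aut_extension F hPS (hrec P hPfn) (t : MulAut P) hφ₀A hφ₀norm
  have hPN : P ≤ normalizerIn S P := le_normalizerIn hPS
  have hRS : normalizerIn S P ≤ S := normalizerIn_le_left S P
  have hfinR : Finite ↥(normalizerIn S P) := finite_of_le' hRS
  have hfinAutR : Finite (MulAut ↥(normalizerIn S P)) := inferInstance
  obtain ⟨a, m, hm, ho⟩ := Nat.exists_eq_pow_mul_and_not_dvd (orderOf_pos φ').ne' p hp.out.ne_one
  have hm0 : m ≠ 0 := by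
    rintro rfl
    exact hm (dvd_zero p)
  have hordψ : orderOf (φ' ^ m) = p ^ a := by
    rw [orderOf_pow_of_dvd hm0 (Dvd.intro_left _ ho.symm), ho, Nat.mul_div_cancel _ (Nat.pos_of_ne_zero hm0)]
  have hψA : φ' ^ m ∈ F.autGroup (normalizerIn S P) := Subgroup.pow_mem _ hφ'A m
  have hφA : (t : MulAut P) ^ m ∈ F.autGroup P := Subgroup.pow_mem _ hφ₀A m
  have hφB : (t : MulAut P) ^ m ∉ autInducedBy S P := by
    intro h
    have hcop : Nat.Coprime m (orderOf (t : MulAut P)) := by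
      rw [hφ₀ord]
      exact Nat.Coprime.pow_right k ((Nat.Prime.coprime_iff_not_dvd hp.out).mpr hm).symm
    obtain ⟨m', hm'⟩ := exists_pow_eq_self_of_coprime hcop
    apply hφ₀B
    rw [← hm']
    exact Subgroup.pow_mem _ h m'
  have hψP := restrict_pow hPN φ' (t : MulAut P) hφ'P m
  obtain ⟨φ, hφdef⟩ : ∃ φ : MulAut P, φ = (t : MulAut P) ^ m := ⟨_, rfl⟩
  obtain ⟨ψ, hψdef⟩ : ∃ ψ : MulAut ↥(normalizerIn S P), ψ = φ' ^ m := ⟨_, rfl⟩
  rw [← hφdef] at hφA hφB hψP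
  rw [← hψdef] at hordψ hψA hψP
  -- the fully normalized conjugate of R
  obtain ⟨R₀, hRR₀, hR₀fn⟩ := exists_fullyNormalized_conj F hRS
  have hcardR₀ : Nat.card R₀ = Nat.card ↥(normalizerIn S P) := card_eq_of_isConj F hRR₀
  have hcardlt := card_lt_card_normalizerIn p hS hPS hPeq
  have hR₀S' : R₀ ≤ S := hR₀fn.1
  have h1 := hcardle R₀ hR₀S'
  have h2 := hcardle P hPS
  have hR₀a : F.IsFullyAutomized p R₀ := ih (Nat.card S - Nat.card R₀) (by omega) R₀ hR₀fn rfl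
  obtain ⟨hR₀S, Rsyl, hRsyl⟩ := hR₀a
  obtain ⟨ψ₀, hψ₀, hψ₀r⟩ := hRR₀
  obtain ⟨ψ₀', ψ₀i, hψ₀', hψ₀i, hψ₀i', -⟩ := exists_iso_data F hψ₀ hψ₀r
  have hδA : (MulAut.congr ψ₀').toMonoidHom ψ ∈ F.autGroup R₀ :=
    map_congr_autGroup_le F hψ₀ ψ₀' ψ₀i hψ₀' hψ₀i hψ₀i' ⟨ψ, hψA, rfl⟩
  obtain ⟨δ, hδdef⟩ : ∃ δ : MulAut R₀, δ = (MulAut.congr ψ₀') ψ := ⟨_, rfl⟩
  have hδA' : δ ∈ F.autGroup R₀ := by rw [hδdef]; exact hδA
  have hδord : orderOf δ = p ^ a := by rw [hδdef, MulEquiv.orderOf_eq]; exact hordψ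
  have hδval : ∀ g : ↥(normalizerIn S P), δ (ψ₀' g) = ψ₀' (ψ g) := by
    intro g
    rw [hδdef]
    show ψ₀' (ψ (ψ₀'.symm (ψ₀' g))) = _
    rw [MulEquiv.symm_apply_apply]
  have hfinR₀ : Finite R₀ := finite_of_le' hR₀S
  have hfinAutR₀ : Finite (MulAut R₀) := inferInstance
  have hfinA₀ : Finite ↥(F.autGroup R₀) := inferInstance
  have hDp : IsPGroup p (Subgroup.zpowers (⟨δ, hδA'⟩ : ↥(F.autGroup R₀))) := by
    apply IsPGroup.of_card (n := a)
    rw [Nat.card_zpowers, ← hδord]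
    exact (Subgroup.orderOf_mk δ hδA').symm ▸ rfl
  obtain ⟨χ, hχ⟩ := exists_conj_le_sylow p Rsyl hDp
  have hmem : (MulAut.conj χ).toMonoidHom ⟨δ, hδA'⟩ ∈ (Rsyl : Subgroup ↥(F.autGroup R₀)) :=
    hχ ⟨⟨δ, hδA'⟩, Subgroup.mem_zpowers _, rfl⟩
  rw [hRsyl, Subgroup.mem_subgroupOf, autInducedBy_eq_map] at hmem
  obtain ⟨nn, hnS, hn⟩ := hmem
  have hn' : normConj R₀ nn = (χ : MulAut R₀) * δ * (χ : MulAut R₀)⁻¹ := by
    rw [hn]; rfl
  have hψ₀R₀ : ∀ g : ↥(normalizerIn S P), ψ₀ g ∈ R₀ := fun g => by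
    rw [← hψ₀']; exact (ψ₀' g).2
  have hχmem := (mem_autGroup_iff F hR₀S (χ : MulAut R₀)).mp χ.2
  have hψ₁ := F.comp_mem hψ₀ hχmem hψ₀R₀
  obtain ⟨ψ₁, hψ₁def⟩ : ∃ ψ₁ : ↥(normalizerIn S P) →* Ω,
      ψ₁ = (R₀.subtype.comp (χ : MulAut R₀).toMonoidHom).comp (ψ₀.codRestrict R₀ hψ₀R₀) := ⟨_, rfl⟩
  rw [← hψ₁def] at hψ₁
  have hψ₁val : ∀ g : ↥(normalizerIn S P), ψ₁ g = (((χ : MulAut R₀) (ψ₀' g) : R₀) : Ω) := by
    intro g
    rw [hψ₁def]
    show (((χ : MulAut R₀) (ψ₀.codRestrict R₀ hψ₀R₀ g) : R₀) : Ω) = _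
    congr 2
    exact Subtype.ext (hψ₀' g).symm
  have hψ₁inj := F.injective_of_mem hψ₁
  have hψ₁R₀ : ∀ g, ψ₁ g ∈ R₀ := fun g => by rw [hψ₁val]; exact ((χ : MulAut R₀) (ψ₀' g)).2
  have hψ₁surj : ∀ y ∈ R₀, ∃ g, ψ₁ g = y := by
    intro y hy
    refine ⟨ψ₀'.symm ((χ : MulAut R₀).symm ⟨y, hy⟩), ?_⟩
    rw [hψ₁val, MulEquiv.apply_symm_apply, MulEquiv.apply_symm_apply]
  have hkey : ∀ g : ↥(normalizerIn S P), (nn : Ω) * ψ₁ g * (nn : Ω)⁻¹ = ψ₁ (ψ g) := by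
    intro g
    have h3 : ((normConj R₀ nn ((χ : MulAut R₀) (ψ₀' g)) : R₀) : Ω) =
        ((((χ : MulAut R₀) * δ * (χ : MulAut R₀)⁻¹) ((χ : MulAut R₀) (ψ₀' g)) : R₀) : Ω) := by
      rw [hn']
    rw [normConj_apply] at h3
    have h4 : ((χ : MulAut R₀) * δ * (χ : MulAut R₀)⁻¹) ((χ : MulAut R₀) (ψ₀' g)) =
        (χ : MulAut R₀) (δ (ψ₀' g)) := by
      show (χ : MulAut R₀) (δ ((χ : MulAut R₀).symm ((χ : MulAut R₀) (ψ₀' g)))) = _
      rw [MulEquiv.symm_apply_apply]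
    rw [h4, hδval] at h3
    rw [hψ₁val, hψ₁val, h3]
  -- the conjugate P' of P
  have hθ := restrict_mem F hψ₁ hPN
  have hθr : (ψ₁.comp (Subgroup.inclusion hPN)).range = (P.subgroupOf (normalizerIn S P)).map ψ₁ := by
    ext y
    constructor
    · rintro ⟨x, rfl⟩
      exact ⟨Subgroup.inclusion hPN x, Subgroup.mem_subgroupOf.mpr x.2, rfl⟩
    · rintro ⟨x, hx, rfl⟩
      exact ⟨⟨x, Subgroup.mem_subgroupOf.mp hx⟩, rfl⟩
  obtain ⟨P', hP'def⟩ : ∃ P' : Subgroup Ω, P' = (P.subgroupOf (normalizerIn S P)).map ψ₁ := ⟨_, rfl⟩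
  rw [← hP'def] at hθr
  have hcardN' := hPfn.2 P' ⟨_, hθ, hθr⟩
  have hP'mem : ∀ x : P, ψ₁ ⟨x, hPN x.2⟩ ∈ P' := fun x => by
    rw [hP'def]; exact ⟨⟨x, hPN x.2⟩, Subgroup.mem_subgroupOf.mpr x.2, rfl⟩
  have hP'ex : ∀ y ∈ P', ∃ x : P, ψ₁ ⟨x, hPN x.2⟩ = y := by
    intro y hy
    rw [hP'def] at hy
    obtain ⟨x, hx, rfl⟩ := hy
    exact ⟨⟨x, Subgroup.mem_subgroupOf.mp hx⟩, rfl⟩
  have hP'R₀ : P' ≤ R₀ := by
    intro y hy
    obtain ⟨x, rfl⟩ := hP'ex y hy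
    exact hψ₁R₀ _
  have hfinP' : Finite P' := finite_of_le' (hP'R₀.trans hR₀S)
  have hNN : normalizerIn S P ≤ Subgroup.normalizer (P : Set Ω) := normalizerIn_le_normalizer S P
  have hR₀N : R₀ ≤ normalizerIn S P' := by
    refine le_inf hR₀S ?_
    rw [Subgroup.le_normalizer_iff]
    intro h hh k hk
    obtain ⟨r, rfl⟩ := hψ₁surj h hh
    obtain ⟨x, rfl⟩ := hP'ex k hk
    have hrx : (r : Ω) * x * (r : Ω)⁻¹ ∈ P := (Subgroup.mem_normalizer_iff.mp (hNN r.2) _).mp x.2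
    have : ψ₁ r * ψ₁ ⟨x, hPN x.2⟩ * (ψ₁ r)⁻¹ = ψ₁ ⟨(r : Ω) * x * (r : Ω)⁻¹, hPN hrx⟩ := by
      rw [← map_inv, ← map_mul, ← map_mul]
      congr 1
    rw [this]
    exact hP'mem ⟨_, hrx⟩
  have hψPmem : ∀ x : P, ψ ⟨x, hPN x.2⟩ = ⟨((φ x : P) : Ω), hPN (φ x).2⟩ := by
    intro x
    apply Subtype.ext
    exact hψP x
  have hnN : (nn : Ω) ∈ normalizerIn S P' := by
    refine Subgroup.mem_inf.mpr ⟨Subgroup.mem_subgroupOf.mp hnS, ?_⟩
    apply mem_normalizer_of_conj_mem_of_finite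
    intro y hy
    obtain ⟨x, rfl⟩ := hP'ex y hy
    rw [hkey, hψPmem]
    exact hP'mem (φ x)
  have hnR₀ : (nn : Ω) ∉ R₀ := by
    intro h
    obtain ⟨r, hr⟩ := hψ₁surj _ h
    apply hφB
    have hφeq : φ = normConj P ⟨r, hNN r.2⟩ := by
      ext x
      rw [normConj_apply]
      have h5 := hkey ⟨x, hPN x.2⟩
      rw [hψPmem, ← hr, ← map_inv, ← map_mul, ← map_mul] at h5
      have h6 := hψ₁inj h5
      have h7 := congrArg (fun t : ↥(normalizerIn S P) => (t : Ω)) h6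
      exact h7.symm
    rw [hφeq]
    exact Subgroup.subset_closure ⟨r, hRS r.2, fun x => rfl⟩
  have hlt : R₀ < normalizerIn S P' := lt_of_le_of_ne hR₀N (fun h => hnR₀ (h ▸ hnN))
  have hfinN' : Finite ↥(normalizerIn S P') := finite_of_le' (normalizerIn_le_left S P')
  have := card_lt_of_lt' hlt
  omega

/-- A fusion system over a finite p-group S is saturated if and only if the inner automorphisms of S form a Sylow p-subgroup of Aut_F(S) and every fully normalized subgroup of S is receptive. -/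
theorem result {Ω : Type*} [Group Ω] {S : Subgroup Ω} [Finite S] (p : ℕ) [Fact p.Prime] (hS : IsPGroup p S) (F : Cfsg.FusionSystem S) : F.IsSaturated p ↔ (F.IsFullyAutomized p S ∧ ∀ P : Subgroup Ω, F.IsFullyNormalized P → F.IsReceptive P) := by
  constructor
  · intro hF
    refine ⟨?_, ?_⟩
    · have hSfn : F.IsFullyNormalized S := by
        refine ⟨le_refl S, ?_⟩
        intro Q _
        have hfin : Finite ↥(normalizerIn S S) := finite_of_le' (normalizerIn_le_left S S)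
        exact Nat.card_le_card_of_injective
          (Subgroup.inclusion (show normalizerIn S Q ≤ normalizerIn S S from
            le_inf (normalizerIn_le_left S Q) ((normalizerIn_le_left S Q).trans Subgroup.le_normalizer)))
          (Subgroup.inclusion_injective _)
      exact (sat_fullyNormalized p hS F hF hSfn).2
    · intro P hP
      exact sat_fullyCentralized_receptive p hS F hF (sat_fullyNormalized p hS F hF hP).1
  · rintro ⟨hSa, hrec⟩ P hP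
    obtain ⟨Q, hPQ, hQ⟩ := exists_fullyNormalized_conj F hP
    exact ⟨Q, hPQ, fullyAutomized_of_fullyNormalized p hS F hSa hrec _ Q hQ rfl, hrec Q hQ⟩

end Cfsg.Agent.S5111
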