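import Cfsg.Statements.S5112
import Cfsg.Agent.Lib.Helper9.AutDihedral2
import Cfsg.Agent.Lib.Helper9.FusionInner
import Cfsg.Agent.Lib.Helper9.FusionAlp2
-- import your own Cfsg.Agent.* helpers here

set_option autoImplicit false
open Cfsg

namespace Cfsg.Agent.S5112

open Cfsg.Agent.Lib.Helper9
open Cfsg.FusionSystem


/-- If S is a dihedral or generalized quaternion 2-group of order at least 16, then in every saturated fusion system over S (at the prime 2) the automorphism group Aut_F(S) consists of the inner automorphisms of S. -/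
theorem result {Ω : Type*} [Group Ω] {S : Subgroup Ω} [Finite S] (n : ℕ) (hn : 4 ≤ n) (hshape : Nonempty (S ≃* DihedralGroup (2 ^ (n - 1))) ∨ Nonempty (S ≃* QuaternionGroup (2 ^ (n - 2)))) (F : Cfsg.FusionSystem S) (hF : F.IsSaturated 2) : F.autGroup S = Cfsg.Inn S := by
  haveI : Fact (Nat.Prime 2) := ⟨Nat.prime_two⟩
  obtain ⟨hS, hAut⟩ := AutDihedral.isPGroup_of_shape (S := ↥S) n hn hshape
  have hfn := isFullyNormalized_top F
  obtain ⟨-, hfa⟩ := sat_fullyNormalized 2 hS F hF hfn
  obtain ⟨Rs, hRs⟩ := hfa.2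
  have htop := sylow_eq_top_of_isPGroup (hAut.to_subgroup (F.autGroup S)) Rs
  rw [hRs] at htop
  apply le_antisymm
  · intro α hα
    have h1 : (⟨α, hα⟩ : F.autGroup S) ∈ (autInducedBy S S).subgroupOf (F.autGroup S) := by
      rw [htop]
      exact Subgroup.mem_top _
    have h2 : α ∈ autInducedBy S S := Subgroup.mem_subgroupOf.mp h1
    have hle : autInducedBy S S ≤ Cfsg.Inn S := by
      unfold autInducedBy
      rw [Subgroup.closure_le]
      rintro β ⟨g, hg, hβ⟩
      refine ⟨⟨g, hg⟩, ?_⟩
      ext x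
      rw [hβ x]
      rfl
    exact hle h2
  · exact (inn_le_autInducedBy le_rfl).trans (autInducedBy_le_autGroup F le_rfl)

end Cfsg.Agent.S5112
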