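import Cfsg.Statements.S5114
import Cfsg.Agent.Lib.Helper9.FusionGen2
import Cfsg.Agent.Lib.Helper9.FusionFrattini2
import Cfsg.Agent.Lib.Helper9.FusionAlpInd
import Cfsg.Agent.Lib.Helper9.FusionSat4
import Cfsg.Agent.Lib.Helper9.SylowConj
-- import your own Cfsg.Agent.* helpers here

set_option autoImplicit false
open Cfsg

namespace Cfsg.Agent.S5114

open Cfsg.FusionSystem Cfsg.Agent.Lib.Helper9
variable {Ω : Type*} [Group Ω] {S : Subgroup Ω}

/-- The subsystem generated by the `p`-elements of the automizers of the centric subgroups. -/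
def pGenSystem (F : FusionSystem S) (p : ℕ) : FusionSystem S :=
  genSystem F (pElemGens F p) (pElemGens_mem F p)

theorem pGenSystem_conjInv (F : FusionSystem S) (p : ℕ) : ConjInv (pGenSystem F p) F :=
  conjInv_genSystem F _ _ (fun α hα P hPS β hβ => pElemGens_inv F p α hα P hPS β hβ)

/-- The system of maps `α ∘ φ₀` with `α ∈ Aut_F(S)` and `φ₀` in the generated subsystem. -/
def pGood (F : FusionSystem S) (p : ℕ) : FusionSystem S :=
  goodSystem (pGenSystem F p) F le_rfl (pGenSystem_conjInv F p)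

theorem hom_le_pGood [Finite S] (p : ℕ) [Fact p.Prime] (hS : IsPGroup p S)
    (F : FusionSystem S) (hF : F.IsSaturated p) :
    ∀ (P : Subgroup Ω) (φ : P →* Ω), φ ∈ F.Hom P → φ ∈ (pGood F p).Hom P := by
  apply alperin_induction p hS F hF (fun P φ => φ ∈ (pGood F p).Hom P)
  · intro P hP g hg
    exact (pGood F p).conj_mem hP hg
  · intro P Q φ ψ _ _ h h1 h2
    exact (pGood F p).comp_mem h1 h2 h
  · intro P φ hφ hC ψ hψ hs
    obtain ⟨ψ', hψ', hs'⟩ := (pGood F p).inv_mem hC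
    have : ψ = ψ' := by
      ext ⟨_, x, rfl⟩
      rw [hs x, hs' x]
    rw [this]
    exact hψ'
  · intro U hU IH α hα
    by_cases hUS : U = S
    · subst hUS
      exact ⟨(mem_autGroup_iff F le_rfl α).mp hα, le_rfl, α, hα, U.subtype,
        subtype_mem _ le_rfl, fun x => rfl⟩
    · have hess : F.IsEssential p U := by
        rcases hU with h | h
        · exact absurd h hUS
        · exact h
      have hcen : F.IsCentric U := hess.1
      have hfn : F.IsFullyNormalized U := hess.2.1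
      have hUle : U ≤ S := hcen.1
      obtain ⟨hfc, hauto⟩ := sat_fullyNormalized p hS F hF hfn
      have hrec := sat_fullyCentralized_receptive p hS F hF hfc
      have hK : ∀ g ∈ F.autGroup U, ∀ (x : Ω) (_ : x ∈ S)
          (hxN : x ∈ Subgroup.normalizer (U : Set Ω)),
          g * normConj U ⟨x, hxN⟩ * g⁻¹ ∈ (pGenSystem F p).autGroup U := by
        intro g hg x hxS hxN
        have hk : normConj U ⟨x, hxN⟩ ∈ autInducedBy S U := by
          rw [autInducedBy_eq_map]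
          exact ⟨⟨x, hxN⟩, Subgroup.mem_subgroupOf.mpr hxS, rfl⟩
        have hkA : normConj U ⟨x, hxN⟩ ∈ F.autGroup U := autInducedBy_le_autGroup F hUle hk
        obtain ⟨k, hk'⟩ := (isPGroup_autInducedBy p hS U) ⟨_, hk⟩
        have hk'' : (normConj U ⟨x, hxN⟩) ^ p ^ k = 1 := congrArg Subtype.val hk'
        have hmem : g * normConj U ⟨x, hxN⟩ * g⁻¹ ∈ F.autGroup U :=
          Subgroup.mul_mem _ (Subgroup.mul_mem _ hg hkA) (Subgroup.inv_mem _ hg)
        have hpow : (⟨g * normConj U ⟨x, hxN⟩ * g⁻¹, hmem⟩ : F.autGroup U) ^ p ^ k = 1 := by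
          apply Subtype.ext
          show (g * normConj U ⟨x, hxN⟩ * g⁻¹) ^ p ^ k = 1
          rw [conj_pow, hk'', mul_one, mul_inv_cancel]
        obtain ⟨m, -, hm⟩ := (Nat.dvd_prime_pow (Fact.out : p.Prime)).mp
          (orderOf_dvd_of_pow_eq_one hpow)
        apply aut_mem_genSystem
        exact ⟨hcen, ⟨_, hmem⟩, Subgroup.subset_closure ⟨m, hm⟩, rfl⟩
      have hle := aut_le_good p F (pGenSystem F p)
        (genSystem_isSubsystemOf F (pElemGens F p) (pElemGens_mem F p)) le_rfl hS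
        (pGenSystem_conjInv F p) hUle hUS hauto hrec hK
        (fun R _ hlt φ hφ => IH R hlt φ hφ)
      exact (mem_autGroup_iff (pGood F p) hUle α).mp (hle hα)

/-- Let F be a saturated fusion system over a finite p-group S and E a fusion system over S contained in F. If Aut_E(P) contains the subgroup of Aut_F(P) generated by its elements of p-power order for every subgroup P that is centric in F, then the same holds for every subgroup of S (E has index prime to p in F), every map of F with source a subgroup P of S is an element of Aut_F(S) composed with a map of E, and a subgroup is centric in E exactly when it is centric in F. -/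
theorem result {Ω : Type*} [Group Ω] {S : Subgroup Ω} [Finite S] (p : ℕ) [Fact p.Prime] (hS : IsPGroup p S) (F : Cfsg.FusionSystem S) (hF : F.IsSaturated p) (E : Cfsg.FusionSystem S) (hEF : E.IsSubsystemOf F) (h : ∀ P : Subgroup Ω, F.IsCentric P → (Subgroup.closure {α : ↥(F.autGroup P) | ∃ k : ℕ, orderOf α = p ^ k}).map (F.autGroup P).subtype ≤ E.autGroup P) : E.HasPrimeToPIndexIn F p ∧ (∀ (P : Subgroup Ω) (φ : P →* Ω), φ ∈ F.Hom P → ∃ α ∈ F.autGroup S, ∃ φ₀ ∈ E.Hom P, ∀ (x : P) (hx : φ₀ x ∈ S), φ x = ((α ⟨φ₀ x, hx⟩ : S) : Ω)) ∧ ∀ P : Subgroup Ω, E.IsCentric P ↔ F.IsCentric P := by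
  classical
  have hE₀E : ∀ (P : Subgroup Ω) (φ : P →* Ω), φ ∈ (pGenSystem F p).Hom P → φ ∈ E.Hom P := by
    intro P φ hφ
    refine genMap_mem_of_le E ?_ hφ
    intro P β hβ
    have hβE : β ∈ E.autGroup P := h P hβ.1 hβ.2
    exact (mem_autGroup_iff E hβ.1.1 β).mp hβE
  have claim2 : ∀ (P : Subgroup Ω) (φ : P →* Ω), φ ∈ F.Hom P → ∃ α ∈ F.autGroup S,
      ∃ φ₀ ∈ E.Hom P, ∀ (x : P) (hx : φ₀ x ∈ S), φ x = ((α ⟨φ₀ x, hx⟩ : S) : Ω) := by
    intro P φ hφ
    obtain ⟨-, -, α, hα, φ₀, hφ₀, hs⟩ := hom_le_pGood p hS F hF P φ hφ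
    exact ⟨α, hα, φ₀, hE₀E P φ₀ hφ₀, fun x hx => hs x⟩
  refine ⟨⟨hEF, ?_⟩, claim2, ?_⟩
  · intro P hPS
    rw [Subgroup.map_le_iff_le_comap, Subgroup.closure_le]
    rintro a ⟨k, hk⟩
    show (a : MulAut P) ∈ E.autGroup P
    obtain ⟨Q, ⟨ψ, hψ, hψr⟩, ⟨hQS, R, hR⟩, -⟩ := hF P hPS
    have hfinQ : Finite Q := finite_of_le' hQS
    obtain ⟨ψ', ψi, hψ', hψi, hψi', hψir⟩ := exists_iso_data F hψ hψr
    have hmap := map_congr_autGroup_le F hψ ψ' ψi hψ' hψi hψi'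
    have ha' : MulAut.congr ψ' (a : MulAut P) ∈ F.autGroup Q := hmap ⟨a.1, a.2, rfl⟩
    have hapow : (a : MulAut P) ^ p ^ k = 1 := by
      rw [← hk]
      exact congrArg Subtype.val (pow_orderOf_eq_one a)
    have ha'pow : (⟨MulAut.congr ψ' (a : MulAut P), ha'⟩ : F.autGroup Q) ^ p ^ k = 1 := by
      apply Subtype.ext
      show (MulAut.congr ψ' (a : MulAut P)) ^ p ^ k = 1
      rw [← map_pow, hapow, map_one]
    have hpz := isPGroup_zpowers_of_pow_eq_one ha'pow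
    obtain ⟨g, hg⟩ := exists_conj_le_sylow p R hpz
    have hmem : g * ⟨MulAut.congr ψ' (a : MulAut P), ha'⟩ * g⁻¹ ∈ (R : Subgroup (F.autGroup Q)) :=
      hg ⟨_, Subgroup.mem_zpowers _, rfl⟩
    rw [hR, Subgroup.mem_subgroupOf, autInducedBy_eq_map] at hmem
    obtain ⟨n, hn, hne⟩ := hmem
    have hnS : (n : Ω) ∈ S := Subgroup.mem_subgroupOf.mp hn
    have hgF : Q.subtype.comp (g : MulAut Q).toMonoidHom ∈ F.Hom Q :=
      (mem_autGroup_iff F hQS _).mp g.2
    have hψQ : ∀ x : P, ψ x ∈ Q := fun x => by rw [← hψr]; exact ⟨x, rfl⟩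
    have hχ := F.comp_mem hψ hgF hψQ
    obtain ⟨α, hα, χ₀, hχ₀, hs⟩ := claim2 P _ hχ
    have hχ₀S := (E.le_of_mem hχ₀).2
    have hkey : ∀ x : P, (((g : MulAut Q) ⟨ψ ((a : MulAut P) x), hψQ _⟩ : Q) : Ω) =
        (n : Ω) * (((g : MulAut Q) ⟨ψ x, hψQ x⟩ : Q) : Ω) * (n : Ω)⁻¹ := by
      intro x
      have h1 : (normConj Q n) ((g : MulAut Q) ⟨ψ x, hψQ x⟩) =
          ((g : MulAut Q) * MulAut.congr ψ' (a : MulAut P) * (g : MulAut Q)⁻¹)
            ((g : MulAut Q) ⟨ψ x, hψQ x⟩) := by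
        rw [hne]
        rfl
      rw [MulAut.mul_apply, MulAut.mul_apply, MulAut.inv_apply_self] at h1
      have h2 : MulAut.congr ψ' (a : MulAut P) ⟨ψ x, hψQ x⟩ =
          ⟨ψ ((a : MulAut P) x), hψQ _⟩ := by
        have e : (⟨ψ x, hψQ x⟩ : Q) = ψ' x := Subtype.ext (hψ' x).symm
        rw [e]
        show ψ' ((a : MulAut P) (ψ'.symm (ψ' x))) = _
        rw [MulEquiv.symm_apply_apply]
        exact Subtype.ext (hψ' _)
      rw [h2] at h1
      rw [← h1, normConj_apply]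
    have hkey2 : ∀ x : P, χ₀ ((a : MulAut P) x) =
        ((α⁻¹ ⟨n, hnS⟩ : S) : Ω) * χ₀ x * ((α⁻¹ ⟨n, hnS⟩ : S) : Ω)⁻¹ := by
      intro x
      have e1 : α ⟨χ₀ ((a : MulAut P) x), hχ₀S _⟩ =
          ⟨n, hnS⟩ * α ⟨χ₀ x, hχ₀S x⟩ * (⟨n, hnS⟩ : S)⁻¹ := by
        apply Subtype.ext
        show ((α ⟨χ₀ ((a : MulAut P) x), _⟩ : S) : Ω) =
          (n : Ω) * ((α ⟨χ₀ x, _⟩ : S) : Ω) * (n : Ω)⁻¹
        rw [← hs ((a : MulAut P) x) (hχ₀S _), ← hs x (hχ₀S x)]
        exact hkey x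
      have e2 : (⟨χ₀ ((a : MulAut P) x), hχ₀S _⟩ : S) =
          α⁻¹ (⟨n, hnS⟩ * α ⟨χ₀ x, hχ₀S x⟩ * (⟨n, hnS⟩ : S)⁻¹) := by
        rw [← e1, MulAut.inv_apply_self]
      rw [map_mul, map_mul, map_inv, MulAut.inv_apply_self] at e2
      exact congrArg Subtype.val e2
    have hrS : χ₀.range ≤ S := by
      rintro _ ⟨x, rfl⟩
      exact hχ₀S x
    have hcE : conjHom χ₀.range ((α⁻¹ ⟨n, hnS⟩ : S) : Ω) ∈ E.Hom χ₀.range :=
      E.conj_mem hrS (α⁻¹ ⟨n, hnS⟩ : S).2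
    have hζ := E.comp_mem hχ₀ hcE (fun x => ⟨x, rfl⟩)
    obtain ⟨χi, hχi, hχis⟩ := E.inv_mem hχ₀
    have hζr : ∀ x : P, ((conjHom χ₀.range ((α⁻¹ ⟨n, hnS⟩ : S) : Ω)).comp
        (χ₀.codRestrict χ₀.range (fun x => ⟨x, rfl⟩))) x ∈ χ₀.range :=
      fun x => ⟨(a : MulAut P) x, hkey2 x⟩
    have hfin := E.comp_mem hζ hχi hζr
    have hEq : χi.comp (((conjHom χ₀.range ((α⁻¹ ⟨n, hnS⟩ : S) : Ω)).comp
        (χ₀.codRestrict χ₀.range (fun x => ⟨x, rfl⟩))).codRestrict χ₀.range hζr) =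
        P.subtype.comp (a : MulAut P).toMonoidHom := by
      ext x
      show χi ⟨_, hζr x⟩ = (((a : MulAut P) x : P) : Ω)
      have e : (⟨_, hζr x⟩ : χ₀.range) = ⟨χ₀ ((a : MulAut P) x), ⟨_, rfl⟩⟩ :=
        Subtype.ext (hkey2 x).symm
      rw [e, hχis]
    apply Subgroup.subset_closure
    show P.subtype.comp (a : MulAut P).toMonoidHom ∈ E.Hom P
    rw [← hEq]
    exact hfin
  · intro P
    constructor
    · intro hPE
      refine ⟨hPE.1, ?_⟩
      rintro Q ⟨φ, hφ, hφr⟩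
      obtain ⟨α, hα, φ₀, hφ₀, hs⟩ := claim2 P φ hφ
      have hφ₀S := (E.le_of_mem hφ₀).2
      have hc₀ := hPE.2 φ₀.range ⟨φ₀, hφ₀, rfl⟩
      intro y hy
      have hy' := Subgroup.mem_inf.mp hy
      have hyS : y ∈ S := hy'.1
      have hy₀ : ((α⁻¹ ⟨y, hyS⟩ : S) : Ω) ∈ centralizerIn S φ₀.range := by
        refine Subgroup.mem_inf.mpr ⟨(α⁻¹ ⟨y, hyS⟩ : S).2, ?_⟩
        rw [Subgroup.mem_centralizer_iff]
        rintro _ ⟨x, rfl⟩
        have hq : φ x ∈ Q := by rw [← hφr]; exact ⟨x, rfl⟩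
        have hcomm : φ x * y = y * φ x := (Subgroup.mem_centralizer_iff.mp hy'.2) (φ x) hq
        have e : α (⟨φ₀ x, hφ₀S x⟩ * α⁻¹ ⟨y, hyS⟩) = α (α⁻¹ ⟨y, hyS⟩ * ⟨φ₀ x, hφ₀S x⟩) := by
          rw [map_mul, map_mul, MulAut.apply_inv_self]
          apply Subtype.ext
          show ((α ⟨φ₀ x, _⟩ : S) : Ω) * y = y * ((α ⟨φ₀ x, _⟩ : S) : Ω)
          rw [← hs x (hφ₀S x)]
          exact hcomm
        exact congrArg Subtype.val (α.injective e)
      obtain ⟨x, hx⟩ := hc₀ hy₀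
      have hyx : y = φ x := by
        rw [hs x (hφ₀S x)]
        have e : (⟨φ₀ x, hφ₀S x⟩ : S) = α⁻¹ ⟨y, hyS⟩ := Subtype.ext hx
        rw [e, MulAut.apply_inv_self]
      rw [hyx, ← hφr]
      exact ⟨x, rfl⟩
    · intro hPF
      exact centric_of_le_system (fun P => hEF P) hPF

end Cfsg.Agent.S5114
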