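import Cfsg.Statements.S5118
import Cfsg.Agent.Lib.Helper9.FusionNormalSub
import Cfsg.Agent.Lib.Helper9.FusionSat5
import Cfsg.Agent.Lib.Helper9.Fusion3
-- import your own Cfsg.Agent.* helpers here

set_option autoImplicit false
open Cfsg

namespace Cfsg.Agent.S5118

open Cfsg.FusionSystem Cfsg.Agent.Lib.Helper9

/-- Invariance of `F_{S ∩ H}(H)` in `F_S(G)` for a normal subgroup `H`. -/
theorem invariant_aux {G : Type*} [Group G] [Finite G] (p : ℕ) [Fact p.Prime] (S : Sylow p G)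
    (H : Subgroup G) [hH : H.Normal] :
    (Cfsg.fusionSystemOfSubgroup H ((S : Subgroup G) ⊓ H) inf_le_right).IsInvariantIn
      (Cfsg.groupFusionSystem (S : Subgroup G)) := by
  have hTS : (S : Subgroup G) ⊓ H ≤ (S : Subgroup G) := inf_le_left
  refine ⟨?_, ?_, ?_, ?_⟩
  · rintro P φ ⟨hPT, hφT, g, hgH, hg⟩
    exact ⟨hPT.trans hTS, fun x => (hφT x).1, g, hg⟩
  · refine ⟨hTS, ?_⟩
    rintro R hR φ ⟨hRS, hφS, g, hg⟩ x
    refine ⟨hφS x, ?_⟩
    rw [hg]
    exact hH.conj_mem _ (hR x.2).2 g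
  · rintro P hPT φ ⟨-, hφT, h, hhH, hh⟩ α hα
    rw [mem_autGroup_iff _ hTS] at hα
    obtain ⟨-, -, n, hn⟩ := hα
    have hn' : ∀ x : ↥((S : Subgroup G) ⊓ H), ((α x : ↥((S : Subgroup G) ⊓ H)) : G) =
        n * (x : G) * n⁻¹ := hn
    have hle : (P.subgroupOf ((S : Subgroup G) ⊓ H)).map
        (((S : Subgroup G) ⊓ H).subtype.comp α.toMonoidHom) ≤ (S : Subgroup G) ⊓ H := by
      rintro _ ⟨t, -, rfl⟩
      exact (α t).2
    refine ⟨conjHom _ (n * h * n⁻¹), ⟨hle, ?_, n * h * n⁻¹, ?_, fun y => rfl⟩, ?_⟩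
    · rintro ⟨_, t, ht, rfl⟩
      have htP : (t : G) ∈ P := Subgroup.mem_subgroupOf.mp ht
      have h1 : (α ⟨φ ⟨t, htP⟩, hφT _⟩ : G) ∈ (S : Subgroup G) ⊓ H := (α _).2
      have h2 : (α ⟨φ ⟨t, htP⟩, hφT _⟩ : G) = n * h * n⁻¹ * (α t : G) * (n * h * n⁻¹)⁻¹ := by
        rw [hn', hn']
        show n * φ ⟨t, htP⟩ * n⁻¹ = _
        rw [hh]
        show n * (h * (t : G) * h⁻¹) * n⁻¹ = _
        group
      rw [h2] at h1
      exact h1
    · exact hH.conj_mem _ hhH n
    · intro x hφx hαx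
      show n * h * n⁻¹ * (α ⟨x, hPT x.2⟩ : G) * (n * h * n⁻¹)⁻¹ = _
      rw [hn', hn']
      show _ = n * φ x * n⁻¹
      rw [hh]
      show n * h * n⁻¹ * (n * (x : G) * n⁻¹) * (n * h * n⁻¹)⁻¹ = _
      group
  · rintro P hPT φ ⟨-, hφS, g, hg⟩
    obtain ⟨n, hnH, k, hgk, hk⟩ := frattini_inf p S H g
    have hkN : k ∈ Subgroup.normalizer (((S : Subgroup G) ⊓ H : Subgroup G) : Set G) :=
      mem_normalizer_of_conj_mem_of_finite hk
    have hkinv : ∀ y ∈ (S : Subgroup G) ⊓ H, k⁻¹ * y * k ∈ (S : Subgroup G) ⊓ H := by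
      intro y hy
      have := (Subgroup.mem_normalizer_iff.mp (Subgroup.inv_mem _ hkN) y).mp hy
      simpa using this
    refine ⟨normConj _ ⟨k, hkN⟩, ?_, conjHom P n, ⟨hPT, ?_, n, hnH, fun x => rfl⟩, ?_⟩
    · rw [mem_autGroup_iff _ hTS]
      exact ⟨hTS, fun x => hTS (normConj _ ⟨k, hkN⟩ x).2, k, fun x => rfl⟩
    · intro x
      have h1 : g * (x : G) * g⁻¹ ∈ (S : Subgroup G) ⊓ H := by
        refine ⟨?_, hH.conj_mem _ (hPT x.2).2 g⟩
        rw [← hg]
        exact hφS x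
      have h2 := hkinv _ h1
      have h3 : k⁻¹ * (g * (x : G) * g⁻¹) * k = n * (x : G) * n⁻¹ := by
        rw [hgk]; group
      rw [h3] at h2
      exact h2
    · intro x hx
      rw [hg, normConj_apply]
      show _ = k * (n * (x : G) * n⁻¹) * k⁻¹
      rw [hgk]
      group

/-- Conjugation by an element normalizing `T` preserves the centralizer of `T`. -/
theorem conj_mem_centralizer_of_mem_normalizer {G : Type*} [Group G] {T : Subgroup G} {h c : G}
    (hh : h ∈ Subgroup.normalizer (T : Set G)) (hc : c ∈ Subgroup.centralizer (T : Set G)) :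
    h * c * h⁻¹ ∈ Subgroup.centralizer (T : Set G) := by
  rw [Subgroup.mem_centralizer_iff] at hc ⊢
  intro t ht
  have h1 : h⁻¹ * t * h ∈ T := by
    have := (Subgroup.mem_normalizer_iff.mp (Subgroup.inv_mem _ hh) t).mp ht
    simpa using this
  have h2 := hc _ h1
  calc t * (h * c * h⁻¹) = h * ((h⁻¹ * t * h) * c) * h⁻¹ := by group
    _ = h * (c * (h⁻¹ * t * h)) * h⁻¹ := by rw [h2]
    _ = h * c * h⁻¹ * t := by group

/-- The group-theoretic core of the extension condition. -/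
theorem extension_aux {G : Type*} [Group G] [Finite G] (p : ℕ) [Fact p.Prime] (S : Sylow p G)
    (H : Subgroup G) [hH : H.Normal] (h : G) (hhH : h ∈ H)
    (hhN : h ∈ Subgroup.normalizer (((S : Subgroup G) ⊓ H : Subgroup G) : Set G)) :
    ∃ g ∈ H, g ∈ Subgroup.normalizer (((S : Subgroup G) ⊓ H : Subgroup G) : Set G) ∧
      g ∈ Subgroup.normalizer ((centralizerIn (S : Subgroup G) ((S : Subgroup G) ⊓ H) :
        Subgroup G) : Set G) ∧
      ∀ t ∈ (S : Subgroup G) ⊓ H, g * t * g⁻¹ = h * t * h⁻¹ := by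
  have hSN : (S : Subgroup G) ≤
      Subgroup.normalizer (((S : Subgroup G) ⊓ H : Subgroup G) : Set G) := by
    intro s hs
    refine mem_normalizer_of_conj_mem_of_finite (fun x hx => ?_)
    exact ⟨Subgroup.mul_mem _ (Subgroup.mul_mem _ hs hx.1) (Subgroup.inv_mem _ hs),
      hH.conj_mem _ hx.2 s⟩
  have hcardS : Nat.card (S : Subgroup G) = p ^ (Nat.card (⊤ : Subgroup G)).factorization p := by
    rw [Subgroup.card_top]; exact S.card_eq_multiplicity
  have hNS : normalizerIn (S : Subgroup G) ((S : Subgroup G) ⊓ H) = (S : Subgroup G) :=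
    inf_of_le_left hSN
  have hcardN : Nat.card (normalizerIn (S : Subgroup G) ((S : Subgroup G) ⊓ H)) =
      p ^ (Nat.card ↥(Subgroup.normalizer (((S : Subgroup G) ⊓ H : Subgroup G) : Set G))).factorization p := by
    rw [hNS]
    exact sylow_card_of_le p hSN le_top hcardS
  have hcardC := centralizerIn_sylow_card_of_normalizerIn p S _ hcardN
  have hCSp : IsPGroup p (centralizerIn (S : Subgroup G) ((S : Subgroup G) ⊓ H)) :=
    S.isPGroup'.to_le (centralizerIn_le_left _ _)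
  have hCSC : centralizerIn (S : Subgroup G) ((S : Subgroup G) ⊓ H) ≤
      Subgroup.centralizer (((S : Subgroup G) ⊓ H : Subgroup G) : Set G) := inf_le_right
  have hnormCH : centralizerIn (S : Subgroup G) ((S : Subgroup G) ⊓ H) ≤ Subgroup.normalizer
      ((H ⊓ Subgroup.centralizer (((S : Subgroup G) ⊓ H : Subgroup G) : Set G) : Subgroup G) :
        Set G) := by
    intro s hs
    refine mem_normalizer_of_conj_mem_of_finite (fun x hx => ?_)
    exact ⟨hH.conj_mem _ hx.1 s, Subgroup.mul_mem _ (Subgroup.mul_mem _ (hCSC hs) hx.2)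
      (Subgroup.inv_mem _ (hCSC hs))⟩
  have hMC : centralizerIn (S : Subgroup G) ((S : Subgroup G) ⊓ H) ⊔
      (H ⊓ Subgroup.centralizer (((S : Subgroup G) ⊓ H : Subgroup G) : Set G)) ≤
      Subgroup.centralizer (((S : Subgroup G) ⊓ H : Subgroup G) : Set G) :=
    sup_le hCSC inf_le_right
  have hcardM := sylow_card_of_le p (le_sup_left : centralizerIn (S : Subgroup G)
    ((S : Subgroup G) ⊓ H) ≤ centralizerIn (S : Subgroup G) ((S : Subgroup G) ⊓ H) ⊔
      (H ⊓ Subgroup.centralizer (((S : Subgroup G) ⊓ H : Subgroup G) : Set G))) hMC hcardC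
  have hK : IsPGroup p ((centralizerIn (S : Subgroup G) ((S : Subgroup G) ⊓ H)).map
      (MulAut.conj h).toMonoidHom) := hCSp.map _
  have hKM : (centralizerIn (S : Subgroup G) ((S : Subgroup G) ⊓ H)).map
      (MulAut.conj h).toMonoidHom ≤ centralizerIn (S : Subgroup G) ((S : Subgroup G) ⊓ H) ⊔
      (H ⊓ Subgroup.centralizer (((S : Subgroup G) ⊓ H : Subgroup G) : Set G)) := by
    rintro _ ⟨c, hc, rfl⟩
    show h * c * h⁻¹ ∈ _
    have e : h * c * h⁻¹ = c * (c⁻¹ * h * c * h⁻¹) := by group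
    rw [e]
    refine Subgroup.mul_mem_sup hc ⟨?_, ?_⟩
    · have h1 := hH.conj_mem _ hhH c⁻¹
      have h2 : c⁻¹ * h * c * h⁻¹ = (c⁻¹ * h * c⁻¹⁻¹) * h⁻¹ := by group
      rw [h2]
      exact H.mul_mem h1 (H.inv_mem hhH)
    · have h1 := conj_mem_centralizer_of_mem_normalizer hhN (hCSC hc)
      have h2 : c⁻¹ * h * c * h⁻¹ = c⁻¹ * (h * c * h⁻¹) := by group
      rw [h2]
      exact Subgroup.mul_mem _ (Subgroup.inv_mem _ (hCSC hc)) h1
  obtain ⟨m, hmM, hm⟩ := exists_conj_le_of_sylow_card p le_sup_left hKM hK hcardM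
  obtain ⟨s, hs, a, ha, rfl⟩ := exists_mul_of_mem_sup_of_le_normalizer hnormCH hmM
  have hcomm : ∀ y ∈ (S : Subgroup G) ⊓ H, a * y * a⁻¹ = y := by
    intro y hy
    have := Subgroup.mem_centralizer_iff.mp ha.2 y hy
    rw [← this]; group
  refine ⟨a * h, H.mul_mem ha.1 hhH, ?_, ?_, ?_⟩
  · exact Subgroup.mul_mem _ (centralizer_le_normalizer' _ ha.2) hhN
  · refine mem_normalizer_of_conj_mem_of_finite (fun c hc => ?_)
    have h1 : (MulAut.conj (s * a)).toMonoidHom ((MulAut.conj h).toMonoidHom c) ∈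
        centralizerIn (S : Subgroup G) ((S : Subgroup G) ⊓ H) := hm ⟨_, ⟨c, hc, rfl⟩, rfl⟩
    have h2 : a * h * c * (a * h)⁻¹ =
        s⁻¹ * ((MulAut.conj (s * a)).toMonoidHom ((MulAut.conj h).toMonoidHom c)) * s := by
      show _ = s⁻¹ * ((s * a) * (h * c * h⁻¹) * (s * a)⁻¹) * s
      group
    rw [h2]
    exact Subgroup.mul_mem _ (Subgroup.mul_mem _ (Subgroup.inv_mem _ hs) h1) hs
  · intro t ht
    have h1 : h * t * h⁻¹ ∈ (S : Subgroup G) ⊓ H :=
      (Subgroup.mem_normalizer_iff.mp hhN t).mp ht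
    have h2 := hcomm _ h1
    rw [← h2]
    group

/-- For a finite group G with Sylow p-subgroup S and a normal subgroup H, the fusion system of H on S ∩ H is a normal subsystem of the fusion system of G on S. -/
theorem result {G : Type*} [Group G] [Finite G] (p : ℕ) [Fact p.Prime] (S : Sylow p G) (H : Subgroup G) [H.Normal] : (Cfsg.fusionSystemOfSubgroup H ((S : Subgroup G) ⊓ H) inf_le_right).IsNormalIn (Cfsg.groupFusionSystem (S : Subgroup G)) p := by
  have hcardT := card_sylow_inf_normal p S H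
  have hEsat := fusionSystemOfSubgroup_saturated p H ((S : Subgroup G) ⊓ H) inf_le_right hcardT
  have hFsat := Cfsg.Agent.S5076.result p S
  refine ⟨⟨hEsat, hFsat, invariant_aux p S H⟩, ?_⟩
  intro α hα
  rw [mem_autGroup_iff _ le_rfl] at hα
  obtain ⟨-, -, h, hhH, hh⟩ := hα
  have hh' : ∀ x : ↥((S : Subgroup G) ⊓ H), ((α x : ↥((S : Subgroup G) ⊓ H)) : G) =
      h * (x : G) * h⁻¹ := hh
  have hhN := mem_normalizer_of_aut α hh'
  obtain ⟨g, hgH, hgNT, hgNC, hgt⟩ := extension_aux p S H h hhH hhN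
  have hgN : g ∈ Subgroup.normalizer ((((S : Subgroup G) ⊓ H) ⊔
      centralizerIn (S : Subgroup G) ((S : Subgroup G) ⊓ H) : Subgroup G) : Set G) :=
    Subgroup.normalizer_inf_normalizer_le_normalizer_sup _ _ ⟨hgNT, hgNC⟩
  have hsupS : ((S : Subgroup G) ⊓ H) ⊔ centralizerIn (S : Subgroup G) ((S : Subgroup G) ⊓ H) ≤
      (S : Subgroup G) := sup_le inf_le_left (centralizerIn_le_left _ _)
  refine ⟨normConj _ ⟨g, hgN⟩, ?_, ?_, ?_⟩
  · rw [mem_autGroup_iff _ hsupS]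
    exact ⟨hsupS, fun x => hsupS (normConj _ ⟨g, hgN⟩ x).2, g, fun x => rfl⟩
  · intro x
    rw [normConj_apply, hh']
    exact hgt x x.2
  · intro c hc
    rw [normConj_apply]
    show (c : G)⁻¹ * (g * (c : G) * g⁻¹) ∈ _
    have h1 : g * (c : G) * g⁻¹ ∈ centralizerIn (S : Subgroup G) ((S : Subgroup G) ⊓ H) :=
      (Subgroup.mem_normalizer_iff.mp hgNC c).mp hc
    refine ⟨⟨?_, ?_⟩, ?_⟩
    · exact Subgroup.mul_mem _ (Subgroup.inv_mem _ hc.1) h1.1
    · have h2 : (c : G)⁻¹ * (g * (c : G) * g⁻¹) = ((c : G)⁻¹ * g * (c : G)⁻¹⁻¹) * g⁻¹ := by group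
      rw [h2]
      exact H.mul_mem (Subgroup.Normal.conj_mem inferInstance _ hgH _) (H.inv_mem hgH)
    · exact Subgroup.mul_mem _ (Subgroup.inv_mem _ hc.2) h1.2

end Cfsg.Agent.S5118
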