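import Cfsg.Statements.S5119
import Cfsg.Agent.Lib.Helper9.FusionFrattini3
import Cfsg.Agent.Lib.Helper9.FusionCalc
-- import your own Cfsg.Agent.* helpers here

set_option autoImplicit false
open Cfsg

namespace Cfsg.Agent.S5119

open Cfsg.FusionSystem Cfsg.Agent.Lib.Helper9

/-- Let F be a saturated fusion system over a finite p-group S and E a subsystem of F over a subgroup T that is strongly closed in F. Then E is invariant in F (invariance under Aut_F(T) plus the Frattini condition) if and only if the strong invariance condition holds: for P ≤ Q ≤ T, every map φ of E from P into Q and every map ψ of F with source Q, the transported map ψ φ ψ⁻¹ on ψ(P) is a map of E. -/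
theorem result {Ω : Type*} [Group Ω] {S : Subgroup Ω} [Finite S] (p : ℕ) [Fact p.Prime] (hS : IsPGroup p S) (F : Cfsg.FusionSystem S) (hF : F.IsSaturated p) {T : Subgroup Ω} (E : Cfsg.FusionSystem T) (hE : E.IsSubsystemOf F) (hT : F.StronglyClosed T) : E.IsInvariantIn F ↔ ∀ (P Q : Subgroup Ω) (hPQ : P ≤ Q) (_ : Q ≤ T) (φ : P →* Ω) (_ : φ ∈ E.Hom P) (hφQ : ∀ x : P, φ x ∈ Q) (ψ : Q →* Ω) (_ : ψ ∈ F.Hom Q), ∃ χ ∈ E.Hom ((P.subgroupOf Q).map ψ), ∀ (x : P) (hx : ψ (Subgroup.inclusion hPQ x) ∈ (P.subgroupOf Q).map ψ), χ ⟨ψ (Subgroup.inclusion hPQ x), hx⟩ = ψ ⟨φ x, hφQ x⟩ := by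
  have hTS : T ≤ S := hT.1
  have hfinT : Finite T := finite_of_le' hTS
  constructor
  · -- invariant ⇒ strong invariance
    intro hinv P Q hPQ hQT φ hφ hφQ ψ hψ
    obtain ⟨α, hα, ψ₀, hψ₀, hψs⟩ := hinv.2.2.2 Q hQT ψ hψ
    have hψ₀T : ∀ y : Q, ψ₀ y ∈ T := (E.le_of_mem hψ₀).2
    -- restriction of ψ₀ to P
    have hρ := restrict_mem E hψ₀ hPQ
    obtain ⟨ι, hι, hιs, hιr⟩ := inv_spec E hρ
    have hιP : ∀ y : (ψ₀.comp (Subgroup.inclusion hPQ)).range, ι y ∈ P := by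
      intro y
      obtain ⟨x, -, hx⟩ := hιr y
      rw [hx]; exact x.2
    obtain ⟨ε₁, hε₁, hε₁s⟩ := comp_spec E hι hφ hιP
    have hε₁Q : ∀ y, ε₁ y ∈ Q := fun y => by rw [hε₁s]; exact hφQ _
    obtain ⟨ε, hε, hεs⟩ := comp_spec E hε₁ hψ₀ hε₁Q
    obtain ⟨χ, hχ, hχs⟩ := invariant_conj_spec E F hinv hα hε
    have hle : (P.subgroupOf Q).map ψ ≤
        imageAlong (T.subtype.comp α.toMonoidHom) (ψ₀.comp (Subgroup.inclusion hPQ)).range := by
      rintro _ ⟨x, hx, rfl⟩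
      have hxP : (x : Ω) ∈ P := Subgroup.mem_subgroupOf.mp hx
      refine ⟨⟨ψ₀ x, hψ₀T x⟩, Subgroup.mem_subgroupOf.mpr ⟨⟨x, hxP⟩, ?_⟩, ?_⟩
      · show ψ₀ (Subgroup.inclusion hPQ ⟨x, hxP⟩) = ψ₀ x
        congr 1
      · exact (hψs x (hψ₀T x)).symm
    refine ⟨χ.comp (Subgroup.inclusion hle), restrict_mem E hχ hle, ?_⟩
    intro x hx
    show χ (Subgroup.inclusion hle ⟨ψ (Subgroup.inclusion hPQ x), hx⟩) = _
    have e1 : Subgroup.inclusion hle ⟨ψ (Subgroup.inclusion hPQ x), hx⟩ =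
        ⟨α ⟨((⟨ψ₀ (Subgroup.inclusion hPQ x), ⟨x, rfl⟩⟩ :
            (ψ₀.comp (Subgroup.inclusion hPQ)).range) : Ω), (E.le_of_mem hε).1 ⟨x, rfl⟩⟩,
          mem_imageAlong (θ := T.subtype.comp α.toMonoidHom) (E.le_of_mem hε).1
            ⟨ψ₀ (Subgroup.inclusion hPQ x), ⟨x, rfl⟩⟩⟩ := by
      apply Subtype.ext
      exact hψs (Subgroup.inclusion hPQ x) (hψ₀T _)
    rw [e1, hχs, hψs ⟨φ x, hφQ x⟩ (hψ₀T _)]
    have e2 : ε₁ ⟨ψ₀ (Subgroup.inclusion hPQ x), ⟨x, rfl⟩⟩ = φ x := by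
      rw [hε₁s]
      congr 1
      apply Subtype.ext
      exact hιs x
    have e3 : ε ⟨ψ₀ (Subgroup.inclusion hPQ x), ⟨x, rfl⟩⟩ = ψ₀ ⟨φ x, hφQ x⟩ := by
      rw [hεs]
      congr 1
      apply Subtype.ext
      exact e2
    congr 2
    apply Subtype.ext
    exact e3
  · -- strong invariance ⇒ invariant
    intro hSI
    have hc : ConjInv E F := by
      intro P hPT φ hφ α hα
      have hψ : T.subtype.comp α.toMonoidHom ∈ F.Hom T := (mem_autGroup_iff F hTS α).mp hα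
      obtain ⟨χ, hχ, hχs⟩ := hSI P T hPT le_rfl φ hφ (E.le_of_mem hφ).2 _ hψ
      exact ⟨χ, hχ, fun x hφx hαx => hχs x hαx⟩
    have hK : ∀ P : Subgroup Ω, P ≤ T → ∀ g ∈ F.autGroup P, ∀ (x : Ω) (_ : x ∈ T)
        (hxN : x ∈ Subgroup.normalizer (P : Set Ω)),
        g * normConj P ⟨x, hxN⟩ * g⁻¹ ∈ E.autGroup P := by
      intro P hPT g hg x hxT hxN
      have hPS : P ≤ S := hPT.trans hTS
      have hfinP : Finite P := finite_of_le' hPS
      have hψ : P.subtype.comp g.toMonoidHom ∈ F.Hom P := (mem_autGroup_iff F hPS g).mp hg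
      have hφ : conjHom P x ∈ E.Hom P := E.conj_mem hPT hxT
      have hφP : ∀ y : P, conjHom P x y ∈ P := fun y =>
        (normConj P ⟨x, hxN⟩ y).2
      obtain ⟨χ, hχ, hχs⟩ := hSI P P le_rfl hPT _ hφ hφP _ hψ
      have hle : P ≤ (P.subgroupOf P).map (P.subtype.comp g.toMonoidHom) := by
        intro z hz
        refine ⟨g⁻¹ ⟨z, hz⟩, Subgroup.mem_subgroupOf.mpr (g⁻¹ ⟨z, hz⟩).2, ?_⟩
        show ((g (g⁻¹ ⟨z, hz⟩) : P) : Ω) = z
        rw [MulAut.apply_inv_self]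
      have hχ' := restrict_mem E hχ hle
      have hval : ∀ z : P, (χ.comp (Subgroup.inclusion hle)) z ∈ P := by
        intro z
        have e0 : Subgroup.inclusion hle z = ⟨(P.subtype.comp g.toMonoidHom)
            (Subgroup.inclusion le_rfl (g⁻¹ z)), hle (by
              show ((g (g⁻¹ z) : P) : Ω) ∈ P
              exact (g (g⁻¹ z)).2)⟩ := by
          apply Subtype.ext
          show (z : Ω) = ((g (g⁻¹ z) : P) : Ω)
          rw [MulAut.apply_inv_self]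
        show χ (Subgroup.inclusion hle z) ∈ P
        rw [e0, hχs]
        exact (g _).2
      obtain ⟨a, ha, has⟩ := exists_aut_of_hom_self E hχ' hval
      have e : g * normConj P ⟨x, hxN⟩ * g⁻¹ = a := by
        ext z
        rw [has z]
        have e0 : Subgroup.inclusion hle z = ⟨(P.subtype.comp g.toMonoidHom)
            (Subgroup.inclusion le_rfl (g⁻¹ z)), hle (by
              show ((g (g⁻¹ z) : P) : Ω) ∈ P
              exact (g (g⁻¹ z)).2)⟩ := by
          apply Subtype.ext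
          show (z : Ω) = ((g (g⁻¹ z) : P) : Ω)
          rw [MulAut.apply_inv_self]
        show _ = χ (Subgroup.inclusion hle z)
        rw [e0, hχs]
        rfl
      rw [e]; exact ha
    refine ⟨hE, hT, hc, ?_⟩
    intro P hPT φ hφ
    obtain ⟨-, -, α, hα, φ₀, hφ₀, hspec⟩ := hom_le_goodSystem p hS F hF E hE hT hc hK P hPT φ hφ
    exact ⟨α, hα, φ₀, hφ₀, fun x hx => hspec x⟩

end Cfsg.Agent.S5119
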