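import Cfsg.Statements.S5125
import Cfsg.Agent.S5086
import Cfsg.Agent.Lib.Helper9.FusionRestrict

set_option autoImplicit false
open Cfsg

namespace Cfsg.Agent.S5125

open Cfsg.Agent.Lib.Helper9 Cfsg.FusionSystem
open scoped commutatorElement

/-- Let F be a saturated fusion system over a finite p-group S and Q a subgroup strongly closed in F. If Q has a subgroup Q₁ that is normal in F, with Q/Q₁ abelian and Aut_F(Q₁) a p-group, then Q is normal in F. -/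
theorem result {Ω : Type*} [Group Ω] {S : Subgroup Ω} [Finite S] (p : ℕ) [Fact p.Prime] (hS : IsPGroup p S) (F : Cfsg.FusionSystem S) (hF : F.IsSaturated p) (Q Q₁ : Subgroup Ω) (hQ : F.StronglyClosed Q) (hQ₁Q : Q₁ ≤ Q) (hQ₁ : F.IsNormal Q₁) (hab : ⁅Q, Q⁆ ≤ Q₁) (hAut : IsPGroup p ↥(F.autGroup Q₁)) : F.IsNormal Q := by
  rw [Cfsg.Agent.S5086.result p hS F hF Q]
  refine ⟨hQ, ?_⟩
  intro P hcen hrad
  have hPS := hcen.1
  have hQS := hQ.1
  have hfinP : Finite P := finite_of_le' hPS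
  have hPp : IsPGroup p P := hS.to_le hPS
  obtain ⟨hQ₁sc, hQ₁cr⟩ := (Cfsg.Agent.S5086.result p hS F hF Q₁).mp hQ₁
  have hQ₁P : Q₁ ≤ P := hQ₁cr P hcen hrad
  obtain ⟨R, hRdef⟩ : ∃ R : ℕ → Subgroup P,
      R = fun j => if j = 0 then Q₁.subgroupOf P else if j = 1 then Q.subgroupOf P else ⊤ :=
    ⟨_, rfl⟩
  have hR0 : R 0 = Q₁.subgroupOf P := by rw [hRdef]; simp
  have hR1 : R 1 = Q.subgroupOf P := by rw [hRdef]; simp
  have hRge : ∀ j, 2 ≤ j → R j = ⊤ := by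
    intro j hj
    rw [hRdef]
    have h0 : j ≠ 0 := by omega
    have h1 : j ≠ 1 := by omega
    simp [h0, h1]
  have hRinv : ∀ α ∈ F.autGroup P, ∀ j, ∀ x ∈ R j, α x ∈ R j := by
    intro α hα j x hx
    rcases Nat.lt_or_ge j 2 with hj | hj
    · interval_cases j
      · rw [hR0] at hx ⊢
        exact Subgroup.mem_subgroupOf.mpr
          (aut_mem_of_stronglyClosed F hPS hQ₁sc hα x (Subgroup.mem_subgroupOf.mp hx))
      · rw [hR1] at hx ⊢
        exact Subgroup.mem_subgroupOf.mpr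
          (aut_mem_of_stronglyClosed F hPS hQ hα x (Subgroup.mem_subgroupOf.mp hx))
    · rw [hRge j hj]; exact Subgroup.mem_top _
  have hXp : IsPGroup p (stabSub (F.autGroup P) R hRinv) := by
    apply stabSub_isPGroup p hPp (F.autGroup P) R hRinv 2 (hRge 2 le_rfl)
    intro α hα
    have hαA : α ∈ F.autGroup P := hα.1
    obtain ⟨β, hβ, hβα⟩ := exists_restrict_aut F hPS hQ₁P hαA
      (fun x hx => aut_mem_of_stronglyClosed F hPS hQ₁sc hαA x hx)
    obtain ⟨k, hk⟩ := hAut ⟨β, hβ⟩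
    have hk' : β ^ p ^ k = 1 := congrArg Subtype.val hk
    refine ⟨k, ?_⟩
    intro x hx
    rw [hR0] at hx
    have hxQ₁ : (x : Ω) ∈ Q₁ := Subgroup.mem_subgroupOf.mp hx
    have h1 := restrict_aut_pow hQ₁P α β hβα (p ^ k) ⟨x, hxQ₁⟩
    rw [hk'] at h1
    apply Subtype.ext
    have h2 : Subgroup.inclusion hQ₁P ⟨(x : Ω), hxQ₁⟩ = x := Subtype.ext rfl
    rw [h2] at h1
    exact h1.symm
  have hXn := stabSub_normal (F.autGroup P) R hRinv
  have hXA := stabSub_le (F.autGroup P) R hRinv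
  have hSNQ := le_normalizer_of_stronglyClosed F hQ
  apply le_of_forall_mem_normalizer_mem p hS hPS hQS (hPS.trans hSNQ)
  intro b hbQ hbN
  apply mem_of_centric_radical_of_normal_pgroup p F hcen hrad _ hXA hXn hXp (hQS hbQ) hbN
  rw [mem_stabSub]
  refine ⟨autInducedBy_le_autGroup F hPS (Subgroup.subset_closure ⟨b, hQS hbQ, fun x => rfl⟩), ?_⟩
  intro j x hx
  rcases Nat.lt_or_ge j 2 with hj | hj
  · interval_cases j
    · rw [hR0, Subgroup.mem_subgroupOf]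
      rw [hR1] at hx
      have hx' : (x : Ω) ∈ Q := Subgroup.mem_subgroupOf.mp hx
      show (x : Ω)⁻¹ * (b * (x : Ω) * b⁻¹) ∈ Q₁
      have h2 : ⁅b, (x : Ω)⁻¹⁆ ∈ ⁅Q, Q⁆ :=
        Subgroup.commutator_mem_commutator hbQ (Subgroup.inv_mem _ hx')
      have h3 := hab h2
      have h4 : (x : Ω)⁻¹ * (b * (x : Ω) * b⁻¹) = (⁅b, (x : Ω)⁻¹⁆)⁻¹ := by
        rw [commutatorElement_def]; group
      rw [h4]
      exact Subgroup.inv_mem _ h3
    · rw [hR1, Subgroup.mem_subgroupOf]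
      show (x : Ω)⁻¹ * (b * (x : Ω) * b⁻¹) ∈ Q
      have h5 := conj_mem_of_stronglyClosed F hQ (hPS (Subgroup.inv_mem _ x.2)) hbQ
      have h6 : (x : Ω)⁻¹ * (b * (x : Ω) * b⁻¹) = ((x : Ω)⁻¹ * b * ((x : Ω)⁻¹)⁻¹) * b⁻¹ := by group
      rw [h6]
      exact Q.mul_mem h5 (Q.inv_mem hbQ)
  · rw [hRge j hj]; exact Subgroup.mem_top _

end Cfsg.Agent.S5125
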