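import Cfsg.Statements.S5126
import Cfsg.Agent.S5098
import Cfsg.Agent.Lib.Helper9.FusionModelCore
-- import your own Cfsg.Agent.* helpers here

set_option autoImplicit false
open Cfsg

namespace Cfsg.Agent.S5126

open Cfsg.FusionSystem Cfsg.Agent.Lib.Helper9

/-- In a saturated fusion system over a finite p-group S, the normalizer system of a fully normalized, centric, radical subgroup R is constrained, and in every model of that normalizer system the largest normal p-subgroup is the image of R. -/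
theorem result {Ω : Type*} [Group Ω] {S : Subgroup Ω} [Finite S] (p : ℕ) [Fact p.Prime] (hS : IsPGroup p S) (F : Cfsg.FusionSystem S) (hF : F.IsSaturated p) (R : Subgroup Ω) (hRn : F.IsFullyNormalized R) (hRc : F.IsCentric R) (hRr : F.IsRadical p R) (E : Cfsg.FusionSystem (Cfsg.FusionSystem.normalizerIn S R)) (hE : F.IsNormalizerSystem R E) {G : Type*} [Group G] (ι : ↥(Cfsg.FusionSystem.normalizerIn S R) →* G) : E.IsConstrained p ∧ (E.IsModel p G ι → (Cfsg.pCore p G : Subgroup G) = (R.subgroupOf (Cfsg.FusionSystem.normalizerIn S R)).map ι) := by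
  have hsat := Cfsg.Agent.S5098.result p hS F hF R hRn E hE
  have hRS : R ≤ S := hRn.1
  have hfinR : Finite R := finite_of_le' hRS
  have hTS : normalizerIn S R ≤ S := normalizerIn_le_left S R
  have hfinT : Finite ↥(normalizerIn S R) := finite_of_le' hTS
  have hTp : IsPGroup p ↥(normalizerIn S R) := hS.to_le hTS
  have hRT : R ≤ normalizerIn S R := fun x hx =>
    Subgroup.mem_inf.mpr ⟨hRS hx, Subgroup.le_normalizer hx⟩
  have hnormal : E.IsNormal R := by
    refine ⟨hRT, fun P φ hφ => ?_⟩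
    have hφ' := hφ
    rw [hE P] at hφ'
    obtain ⟨hφF, hPT, hφT, ψ, hψ, hψP, hψR⟩ := hφ'
    refine ⟨ψ, ?_, hψP, hψR⟩
    rw [hE (P ⊔ R)]
    have hψR' := (map_subgroupOf_eq_iff ψ).mp hψR
    have hle : (P ⊔ R) ⊔ R ≤ P ⊔ R := sup_le le_rfl le_sup_right
    refine ⟨hψ, sup_le hPT hRT, ?_, ψ.comp (Subgroup.inclusion hle), restrict_mem F hψ hle,
      fun x => ?_, ?_⟩
    · refine forall_mem_of_sup (Subgroup.comap ψ (normalizerIn S R)) ?_ ?_
      · intro x
        rw [Subgroup.mem_comap, hψP]
        exact hφT x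
      · intro q
        rw [Subgroup.mem_comap]
        exact hRT (hψR'.1 q)
    · show ψ _ = ψ x
      congr 1
    · rw [map_subgroupOf_eq_iff]
      exact ⟨fun q => hψR'.1 q, fun y hy => hψR'.2 y hy⟩
  have hcentric : E.IsCentric R := by
    refine ⟨hRT, fun Q' hQ' => ?_⟩
    obtain ⟨φ, hφ, hφr⟩ := hQ'
    have hφ' := hφ
    rw [hE R] at hφ'
    obtain ⟨hφF, -, hφT, ψ, hψ, hψP, hψR⟩ := hφ'
    have hψR' := (map_subgroupOf_eq_iff ψ).mp hψR
    have hval : ∀ x : R, φ x ∈ R := fun x => by
      rw [← hψP]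
      exact hψR'.1 x
    have hQ'R : Q' = R := by
      rw [← hφr]
      apply Subgroup.eq_of_le_of_card_ge
      · rintro _ ⟨x, rfl⟩
        exact hval x
      · exact (Nat.card_congr (Equiv.ofInjective _ (F.injective_of_mem hφF))).le
    rw [hQ'R]
    intro c hc
    apply hRc.2 R (isConj_refl F hRS)
    rw [mem_centralizerIn] at hc ⊢
    exact ⟨hTS hc.1, hc.2⟩
  have haut : E.autGroup R = F.autGroup R := by
    ext α
    rw [mem_autGroup_iff E hRT, mem_autGroup_iff F hRS, hE R]
    constructor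
    · intro h
      exact h.1
    · intro h
      have hle : R ⊔ R ≤ R := sup_le le_rfl le_rfl
      refine ⟨h, hRT, fun x => hRT (α x).2, (R.subtype.comp α.toMonoidHom).comp
        (Subgroup.inclusion hle), restrict_mem F h hle, fun x => rfl, ?_⟩
      rw [map_subgroupOf_eq_iff]
      refine ⟨fun q => (α _).2, fun y hy => ⟨α.symm ⟨y, hy⟩, ?_⟩⟩
      show ((α (α.symm ⟨y, hy⟩) : R) : Ω) = y
      rw [MulEquiv.apply_symm_apply]
  have hradical : E.IsRadical p R := by
    refine ⟨hRT, ?_⟩
    rw [haut]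
    exact hRr.2
  refine ⟨⟨hsat, R, hnormal, hcentric⟩, fun hmod => ?_⟩
  exact model_pCore_eq p hTp E ι hmod hnormal hcentric hradical

end Cfsg.Agent.S5126
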