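import Cfsg.Statements.S5128
import Cfsg.Agent.Lib.Helper9.FusionTExt2

set_option autoImplicit false
open Cfsg

namespace Cfsg.Agent.S5128

open Cfsg.Agent.Lib.Helper9 Cfsg.FusionSystem

/-- In a saturated fusion system over a finite p-group S, the product of two strongly closed subgroups is strongly closed. -/
theorem result {Ω : Type*} [Group Ω] {S : Subgroup Ω} [Finite S] (p : ℕ) [Fact p.Prime] (hS : IsPGroup p S) (F : Cfsg.FusionSystem S) (hF : F.IsSaturated p) (T₁ T₂ : Subgroup Ω) (h₁ : F.StronglyClosed T₁) (h₂ : F.StronglyClosed T₂) : F.StronglyClosed (T₁ ⊔ T₂) := by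
  refine ⟨sup_le h₁.1 h₂.1, ?_⟩
  intro R hR φ hφ x
  obtain ⟨ψ, hψ, hψx⟩ := exists_ext_mod_stronglyClosed p hS F hF h₁ hφ
  have hN : T₂ ≤ Subgroup.normalizer (T₁ : Set Ω) :=
    h₂.1.trans (le_normalizer_of_stronglyClosed F h₁)
  have hx : (x : Ω) ∈ T₂ ⊔ T₁ := by rw [sup_comm]; exact hR x.2
  obtain ⟨t₂, ht₂, t₁, ht₁, hxt⟩ := exists_mul_of_mem_sup_of_le_normalizer hN hx
  -- t₂ ∈ R ⊔ T₁
  have ht₁' : t₁ ∈ R ⊔ T₁ := (le_sup_right : T₁ ≤ R ⊔ T₁) ht₁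
  have ht₂' : t₂ ∈ R ⊔ T₁ := by
    have : t₂ = (x : Ω) * t₁⁻¹ := by rw [hxt]; group
    rw [this]
    exact Subgroup.mul_mem _ ((le_sup_left : R ≤ R ⊔ T₁) x.2) (Subgroup.inv_mem _ ht₁')
  have e : Subgroup.inclusion le_sup_left x = (⟨t₂, ht₂'⟩ : ↥(R ⊔ T₁)) * ⟨t₁, ht₁'⟩ :=
    Subtype.ext hxt
  have h3 := hψx x
  rw [e, map_mul] at h3
  have h4 : ψ ⟨t₂, ht₂'⟩ ∈ T₂ := map_mem_of_stronglyClosed F h₂ hψ _ ht₂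
  have h5 : ψ ⟨t₁, ht₁'⟩ ∈ T₁ := map_mem_of_stronglyClosed F h₁ hψ _ ht₁
  have h6 : φ x = (ψ ⟨t₂, ht₂'⟩ * ψ ⟨t₁, ht₁'⟩) *
      ((φ x)⁻¹ * (ψ ⟨t₂, ht₂'⟩ * ψ ⟨t₁, ht₁'⟩))⁻¹ := by group
  rw [h6]
  refine Subgroup.mul_mem _ (Subgroup.mul_mem _ ((le_sup_right : T₂ ≤ T₁ ⊔ T₂) h4)
    ((le_sup_left : T₁ ≤ T₁ ⊔ T₂) h5)) (Subgroup.inv_mem _ ((le_sup_left : T₁ ≤ T₁ ⊔ T₂) h3))

end Cfsg.Agent.S5128
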