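import Cfsg.Statements.S5130
import Cfsg.Agent.Lib.Helper9.FusionDirect2
import Cfsg.Agent.S5099
import Cfsg.Agent.Lib.Helper9.FusionCent
-- import your own Cfsg.Agent.* helpers here

set_option autoImplicit false
open Cfsg

namespace Cfsg.Agent.S5130

open Cfsg.FusionSystem Cfsg.Agent.Lib.Helper9

/-- Let F be a saturated fusion system over a finite p-group S that is the direct product of two subgroups S₁ and S₂, each strongly closed in F. Let R be the full subsystem of F over S₁ (all maps of F between subgroups of S₁) and R′ the subsystem over S₁ of those maps that extend to the subgroup generated with S₂ fixing S₂ elementwise. Then R and R′ are saturated, R′ is normal in F and in R, and R is weakly normal in F. -/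
theorem result {Ω : Type*} [Group Ω] {S : Subgroup Ω} [Finite S] (p : ℕ) [Fact p.Prime] (hS : IsPGroup p S) (F : Cfsg.FusionSystem S) (hF : F.IsSaturated p) (S₁ S₂ : Subgroup Ω) (hprod : Cfsg.IsInternalDirectProduct S₁ S₂ S) (h₁ : F.StronglyClosed S₁) (h₂ : F.StronglyClosed S₂) (R R' : Cfsg.FusionSystem S₁) (hR : ∀ P : Subgroup Ω, P ≤ S₁ → R.Hom P = F.Hom P) (hR' : ∀ P : Subgroup Ω, P ≤ S₁ → R'.Hom P = F.centralizerHom S₂ P) : R.IsSaturated p ∧ R'.IsSaturated p ∧ R'.IsNormalIn F p ∧ R'.IsNormalIn R p ∧ R.IsWeaklyNormalIn F p := by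
  obtain ⟨h1, h2, hcomm, hinf, hsup⟩ := hprod
  haveI hfin1 : Finite S₁ := finite_of_le' h1
  have hS₁p : IsPGroup p S₁ := hS.to_le h1
  have hS₁C : S₁ ≤ centralizerIn S S₂ := by
    intro a ha
    rw [mem_centralizerIn]
    exact ⟨h1 ha, fun b hb => (hcomm a ha b hb).symm⟩
  -- (1) `R` is saturated
  have hRsat : R.IsSaturated p := fullSub_saturated_of_direct p F hF h1 hcomm hsup h₁ R hR
  -- (2) `R'` is saturated
  have hR'sat : R'.IsSaturated p := by
    have hfc : F.IsFullyCentralized S₂ := by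
      refine ⟨h2, ?_⟩
      rintro Q ⟨φ, hφ, rfl⟩
      have hle : φ.range ≤ S₂ := by
        rintro _ ⟨x, rfl⟩
        exact h₂.2 S₂ le_rfl φ hφ x
      haveI : Finite S₂ := finite_of_le' h2
      have hcard : Nat.card φ.range = Nat.card S₂ :=
        (Nat.card_congr (Equiv.ofInjective φ (F.injective_of_mem hφ))).symm
      rw [Subgroup.eq_of_le_of_card_ge hle hcard.ge]
    have hCsat := Cfsg.Agent.S5099.result p hS F hF S₂ hfc (centralizerSystem F S₂ h2)
      (fun P => rfl)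
    haveI : Finite ↥(centralizerIn S S₂) := finite_of_le' (centralizerIn_le_left S S₂)
    have hcomm' : ∀ a ∈ S₁, ∀ b ∈ centralizerIn S₂ S₂, a * b = b * a :=
      fun a ha b hb => hcomm a ha b (centralizerIn_le_left S₂ S₂ hb)
    have hsup' : S₁ ⊔ centralizerIn S₂ S₂ = centralizerIn S S₂ := by
      apply le_antisymm
      · apply sup_le hS₁C
        intro b hb
        rw [mem_centralizerIn] at hb ⊢
        exact ⟨h2 hb.1, hb.2⟩
      · intro x hx
        have hxS : x ∈ S₁ ⊔ S₂ := hsup.ge (centralizerIn_le_left S S₂ hx)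
        have hnorm : S₁ ≤ Subgroup.normalizer (S₂ : Set Ω) := by
          intro a ha
          apply centralizer_le_normalizer' S₂
          rw [Subgroup.mem_centralizer_iff]
          intro b hb
          exact (hcomm a ha b hb).symm
        obtain ⟨a, ha, b, hb, rfl⟩ := exists_mul_of_mem_sup_of_le_normalizer hnorm hxS
        rw [mem_centralizerIn] at hx
        refine Subgroup.mul_mem _ ((le_sup_left : S₁ ≤ S₁ ⊔ centralizerIn S₂ S₂) ha)
          ((le_sup_right : centralizerIn S₂ S₂ ≤ S₁ ⊔ centralizerIn S₂ S₂) ?_)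
        rw [mem_centralizerIn]
        refine ⟨hb, fun y hy => ?_⟩
        have h3 := hx.2 y hy
        have h4 := hcomm a ha y hy
        have h5 : a * (y * b) = a * (b * y) := by
          calc a * (y * b) = (a * y) * b := by group
            _ = (y * a) * b := by rw [h4]
            _ = y * (a * b) := by group
            _ = a * b * y := h3
            _ = a * (b * y) := by group
        exact mul_left_cancel h5
    have hsc' : (centralizerSystem F S₂ h2).StronglyClosed S₁ :=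
      ⟨hS₁C, fun P hP φ hφ x => h₁.2 P hP φ hφ.1 x⟩
    exact fullSub_saturated_of_direct p (centralizerSystem F S₂ h2) hCsat hS₁C hcomm' hsup' hsc'
      R' hR'
  -- subsystem facts
  have hR'F : R'.IsSubsystemOf F := by
    intro P φ hφ
    have hP := (R'.le_of_mem hφ).1
    rw [hR' P hP] at hφ
    exact hφ.1
  have hRF : R.IsSubsystemOf F := by
    intro P φ hφ
    have hP := (R.le_of_mem hφ).1
    rw [hR P hP] at hφ
    exact hφ
  have hR'R : R'.IsSubsystemOf R := by
    intro P φ hφ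
    have hP := (R'.le_of_mem hφ).1
    rw [hR P hP]
    exact hR'F P hφ
  have hRaut : R.autGroup S₁ = F.autGroup S₁ := by
    unfold autGroup
    rw [hR S₁ le_rfl]
  have hRsc : R.StronglyClosed S₁ := ⟨le_rfl, fun P hP φ hφ x => (R.le_of_mem hφ).2 x⟩
  have hP'S₁ : ∀ (P : Subgroup Ω) (α : MulAut S₁),
      (P.subgroupOf S₁).map (S₁.subtype.comp α.toMonoidHom) ≤ S₁ := by
    rintro P α _ ⟨s, -, rfl⟩
    exact (α s).2
  -- invariance and Frattini for `R'`
  have hinvF : ∀ (P : Subgroup Ω) (hPT : P ≤ S₁) (φ : P →* Ω), φ ∈ R'.Hom P → ∀ α ∈ F.autGroup S₁,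
      ∃ χ ∈ R'.Hom ((P.subgroupOf S₁).map (S₁.subtype.comp α.toMonoidHom)),
        ∀ (x : P) (hφx : φ x ∈ S₁)
          (hαx : ((α ⟨x, hPT x.2⟩ : S₁) : Ω) ∈ (P.subgroupOf S₁).map (S₁.subtype.comp α.toMonoidHom)),
          χ ⟨(α ⟨x, hPT x.2⟩ : S₁), hαx⟩ = ((α ⟨φ x, hφx⟩ : S₁) : Ω) := by
    intro P hPT φ hφ α hα
    rw [hR' P hPT] at hφ
    obtain ⟨χ, hχ, hχe⟩ := centralizerHom_invariant_direct p hS F hF h1 h2 hcomm hsup h₁ h₂ P hPT φ
      hφ α hα
    refine ⟨χ, ?_, hχe⟩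
    rw [hR' _ (hP'S₁ P α)]
    exact hχ
  have hfratF : ∀ (P : Subgroup Ω), P ≤ S₁ → ∀ (φ : P →* Ω), φ ∈ F.Hom P →
      ∃ α ∈ F.autGroup S₁, ∃ φ₀ ∈ R'.Hom P, ∀ (x : P) (hx : φ₀ x ∈ S₁),
        φ x = ((α ⟨φ₀ x, hx⟩ : S₁) : Ω) := by
    intro P hPT φ hφ
    obtain ⟨α, hα, φ₀, hφ₀, he⟩ := frattini_direct p hS F hF h1 h2 hcomm h₁ h₂ P hPT φ hφ
    refine ⟨α, hα, φ₀, ?_, he⟩
    rw [hR' P hPT]
    exact hφ₀
  refine ⟨hRsat, hR'sat, ⟨⟨hR'sat, hF, hR'F, h₁, hinvF, hfratF⟩, ?_⟩,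
    ⟨⟨hR'sat, hRsat, hR'R, hRsc, ?_, ?_⟩, ?_⟩, ⟨hRsat, hF, hRF, h₁, ?_, ?_⟩⟩
  · -- extension condition in `F`
    intro α hα
    have hα' := (mem_autGroup_iff R' le_rfl α).mp hα
    rw [hR' S₁ le_rfl] at hα'
    exact ext_cond_direct F h1 h2 hcomm hsup α hα'
  · -- invariance in `R`
    intro P hPT φ hφ α hα
    rw [hRaut] at hα
    exact hinvF P hPT φ hφ α hα
  · -- Frattini in `R`
    intro P hPT φ hφ
    rw [hR P hPT] at hφ
    obtain ⟨α, hα, rest⟩ := hfratF P hPT φ hφ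
    exact ⟨α, by rw [hRaut]; exact hα, rest⟩
  · -- extension condition in `R`
    intro α hα
    have hαR : α ∈ R.autGroup S₁ := by
      rw [mem_autGroup_iff R le_rfl]
      exact hR'R S₁ ((mem_autGroup_iff R' le_rfl α).mp hα)
    have heq : S₁ ⊔ centralizerIn S₁ S₁ = S₁ := sup_eq_left.mpr (centralizerIn_le_left S₁ S₁)
    exact ext_cond_self R _ le_sup_left heq α hαR
  · -- invariance of `R` in `F`
    intro P hPT φ hφ α hα
    rw [hR P hPT] at hφ
    obtain ⟨χ, hχ, hχe⟩ := full_invariant F h₁ P hPT φ hφ α hα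
    refine ⟨χ, ?_, hχe⟩
    rw [hR _ (hP'S₁ P α)]
    exact hχ
  · -- Frattini for `R` in `F`
    intro P hPT φ hφ
    refine ⟨1, Subgroup.one_mem _, φ, by rw [hR P hPT]; exact hφ, fun x hx => rfl⟩

end Cfsg.Agent.S5130
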