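import Cfsg.Statements.S5135
import Cfsg.Agent.Lib.Helper9.FusionFactor
import Cfsg.Agent.Lib.Helper9.SylowConj

set_option autoImplicit false
open Cfsg

namespace Cfsg.Agent.S5135

open Cfsg.Agent.Lib.Helper9 Cfsg.FusionSystem

/-- Let G be a finite group, S a Sylow p-subgroup and H a normal subgroup of G. Then the fusion system of G/H on the image SH/H of S is the factor system of the fusion system of G on S modulo S ∩ H, read through the quotient map restricted to S: for each subgroup P' of SH/H, the conjugation maps by elements of G/H defined on P' with values in SH/H are exactly the homomorphisms induced by the conjugation maps by elements of G defined on the full preimage of P' in S with values in S. -/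
theorem result {G : Type*} [Group G] [Finite G] (p : ℕ) [Fact p.Prime] (S : Sylow p G) (H : Subgroup G) [H.Normal] : (Cfsg.groupFusionSystem (S : Subgroup G)).IsFactorSystem ((S : Subgroup G) ⊓ H) ((QuotientGroup.mk' H).comp (S : Subgroup G).subtype) (Cfsg.groupFusionSystem ((S : Subgroup G).map (QuotientGroup.mk' H))) := by
  obtain ⟨θ, hθdef⟩ : ∃ θ : ↥(S : Subgroup G) →* G ⧸ H, θ = (QuotientGroup.mk' H).comp (S : Subgroup G).subtype :=
    ⟨_, rfl⟩
  rw [← hθdef]
  have hθval : ∀ s : ↥(S : Subgroup G), θ s = QuotientGroup.mk' H (s : G) := fun s => by rw [hθdef]; rfl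
  have hrange : θ.range = (S : Subgroup G).map (QuotientGroup.mk' H) := by
    ext y
    constructor
    · rintro ⟨s, rfl⟩
      exact ⟨s, s.2, (hθval s).symm⟩
    · rintro ⟨s, hs, rfl⟩
      exact ⟨⟨s, hs⟩, hθval _⟩
  refine ⟨inf_le_left, ?_, hrange, ?_⟩
  · intro s
    rw [hθval, QuotientGroup.mk'_apply, QuotientGroup.eq_one_iff, Subgroup.mem_inf]
    exact ⟨fun h => ⟨s.2, h⟩, fun h => h.2⟩
  intro P' φ'
  constructor
  · rintro ⟨hP', hφ'S, gbar, hgbar⟩
    refine ⟨hP', ?_⟩
    obtain ⟨g, rfl⟩ := QuotientGroup.mk'_surjective H gbar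
    have hPS : preimageAlong θ P' ≤ (S : Subgroup G) := preimageAlong_le θ P'
    -- the conjugate of the preimage lies in S ⊔ H
    have hKM : (preimageAlong θ P').map (MulAut.conj g).toMonoidHom ≤ (S : Subgroup G) ⊔ H := by
      rintro _ ⟨x, hx, rfl⟩
      have hxP' : θ ⟨x, hPS hx⟩ ∈ P' := (mem_preimageAlong (hPS hx)).mp hx
      have h1 := hφ'S ⟨_, hxP'⟩
      rw [hgbar] at h1
      obtain ⟨s, hs, hs'⟩ := h1
      have h2 : QuotientGroup.mk' H s = QuotientGroup.mk' H (g * x * g⁻¹) := by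
        rw [hs']
        show QuotientGroup.mk' H g * θ ⟨x, hPS hx⟩ * (QuotientGroup.mk' H g)⁻¹ = _
        rw [hθval, map_mul, map_mul, map_inv]
      have h3 : s⁻¹ * (g * x * g⁻¹) ∈ H := by
        rw [QuotientGroup.mk'_apply, QuotientGroup.mk'_apply] at h2
        exact QuotientGroup.eq.mp h2
      have h4 : (MulAut.conj g).toMonoidHom x = s * (s⁻¹ * (g * x * g⁻¹)) := by
        show g * x * g⁻¹ = _
        group
      rw [h4]
      exact Subgroup.mul_mem _ (Subgroup.mem_sup_left hs) (Subgroup.mem_sup_right h3)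
    have hKp : IsPGroup p ((preimageAlong θ P').map (MulAut.conj g).toMonoidHom) :=
      (S.isPGroup'.to_le hPS).map _
    have hcardS : Nat.card (S : Subgroup G) = p ^ (Nat.card (⊤ : Subgroup G)).factorization p := by
      rw [Subgroup.card_top]; exact S.card_eq_multiplicity
    have hcardM := sylow_card_of_le p (le_sup_left : (S : Subgroup G) ≤ (S : Subgroup G) ⊔ H) le_top hcardS
    obtain ⟨m, hmM, hm⟩ := exists_conj_le_of_sylow_card p le_sup_left hKM hKp hcardM
    have hnorm : (S : Subgroup G) ≤ Subgroup.normalizer ((H : Subgroup G) : Set G) := by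
      rw [Subgroup.normalizer_eq_top]; exact le_top
    obtain ⟨s, hs, h, hh, rfl⟩ := exists_mul_of_mem_sup_of_le_normalizer hnorm hmM
    have hval : ∀ x : ↥(preimageAlong θ P'), (h * g) * (x : G) * (h * g)⁻¹ ∈ (S : Subgroup G) := by
      intro x
      have h1 : (MulAut.conj (s * h)).toMonoidHom ((MulAut.conj g).toMonoidHom (x : G)) ∈ (S : Subgroup G) :=
        hm ⟨_, ⟨x, x.2, rfl⟩, rfl⟩
      have h2 : s⁻¹ * ((MulAut.conj (s * h)).toMonoidHom ((MulAut.conj g).toMonoidHom (x : G))) * s ∈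
          (S : Subgroup G) := Subgroup.mul_mem _ (Subgroup.mul_mem _ (Subgroup.inv_mem _ hs) h1) hs
      have h3 : s⁻¹ * ((MulAut.conj (s * h)).toMonoidHom ((MulAut.conj g).toMonoidHom (x : G))) * s =
          (h * g) * (x : G) * (h * g)⁻¹ := by
        show s⁻¹ * ((s * h) * (g * (x : G) * g⁻¹) * (s * h)⁻¹) * s = _
        group
      rw [h3] at h2
      exact h2
    refine ⟨conjHom _ (h * g), ⟨hPS, hval, h * g, fun x => rfl⟩, hPS, hval,
      fun x => map_preimageAlong_mem x, ?_⟩
    intro x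
    rw [hgbar]
    show QuotientGroup.mk' H g * θ ⟨x, hPS x.2⟩ * (QuotientGroup.mk' H g)⁻¹ =
      θ ⟨(h * g) * (x : G) * (h * g)⁻¹, hval x⟩
    rw [hθval, hθval]
    show QuotientGroup.mk' H g * QuotientGroup.mk' H (x : G) * (QuotientGroup.mk' H g)⁻¹ =
      QuotientGroup.mk' H ((h * g) * (x : G) * (h * g)⁻¹)
    have hh1 : QuotientGroup.mk' H h = 1 := by
      rw [QuotientGroup.mk'_apply, QuotientGroup.eq_one_iff]; exact hh
    rw [map_mul, map_mul, map_inv, map_mul, hh1, one_mul]
  · rintro ⟨hP', φ, ⟨hPS, hφS, g, hg⟩, hP, hφS', hPP', hind⟩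
    have hrep : ∀ y : P', ∃ x : ↥(preimageAlong θ P'), y = ⟨θ ⟨x, hP x.2⟩, hPP' x⟩ := by
      intro y
      obtain ⟨x, hx⟩ := exists_preimageAlong hrange hP' y
      exact ⟨x, Subtype.ext hx.symm⟩
    refine ⟨hP', ?_, QuotientGroup.mk' H g, ?_⟩
    · intro y
      obtain ⟨x, rfl⟩ := hrep y
      rw [hind x, ← hrange]
      exact ⟨_, rfl⟩
    · intro y
      obtain ⟨x, rfl⟩ := hrep y
      rw [hind x]
      show θ ⟨φ x, hφS' x⟩ = QuotientGroup.mk' H g * θ ⟨x, hP x.2⟩ * (QuotientGroup.mk' H g)⁻¹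
      rw [hθval, hθval]
      show QuotientGroup.mk' H (φ x) = QuotientGroup.mk' H g * QuotientGroup.mk' H (x : G) * (QuotientGroup.mk' H g)⁻¹
      rw [hg x, map_mul, map_mul, map_inv]

end Cfsg.Agent.S5135
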