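import Cfsg.Statements.S5139
import Mathlib
import Cfsg.Agent.S5093
import Cfsg.Agent.Lib.Helper9.FusionPPower
-- import your own Cfsg.Agent.* helpers here

set_option autoImplicit false
open Cfsg

namespace Cfsg.Agent.S5139

open Cfsg.FusionSystem Cfsg.Agent.Lib.Helper9

/-- Let G be a finite group with Sylow p-subgroup S and O^p(G) the subgroup generated by the elements of order prime to p. Then the p-residual subsystem of the fusion system of G on S — the saturated subsystem of p-power index over the hyperfocal subgroup — is the fusion system of O^p(G) on S ∩ O^p(G): its maps are exactly the conjugation maps by elements of O^p(G) between subgroups of S ∩ O^p(G). -/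
theorem result {G : Type*} [Group G] [Finite G] (p : ℕ) [Fact p.Prime] (S : Sylow p G) (E : Cfsg.FusionSystem ((Cfsg.groupFusionSystem (S : Subgroup G)).hyperfocalSubgroup p)) (hE : (Cfsg.groupFusionSystem (S : Subgroup G)).IsPResidual p E) : ∃ h : (S : Subgroup G) ⊓ Cfsg.pResidual p G ≤ Cfsg.pResidual p G, ∀ P : Subgroup G, E.Hom P = (Cfsg.fusionSystemOfSubgroup (Cfsg.pResidual p G) ((S : Subgroup G) ⊓ Cfsg.pResidual p G) h).Hom P := by
  set K := pResidual p G with hK
  haveI hKn : K.Normal := pResidual_normal p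
  have hhyp : (groupFusionSystem (S : Subgroup G)).hyperfocalSubgroup p = (S : Subgroup G) ⊓ K := Cfsg.Agent.S5093.result p S
  refine ⟨inf_le_right, ?_⟩
  set T := (S : Subgroup G) ⊓ K with hT
  have hTK : T ≤ K := inf_le_right
  have hTS : T ≤ (S : Subgroup G) := inf_le_left
  have hcard : Nat.card T = p ^ (Nat.card K).factorization p := card_sylow_inf_normal p S K
  set E₀ := fusionSystemOfSubgroup K T hTK with hE₀
  have hE₀sat : E₀.IsSaturated p := fusionSystemOfSubgroup_saturated p K T hTK hcard
  have hTp : IsPGroup p T := S.2.to_le hTS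
  have hHp : IsPGroup p ((groupFusionSystem (S : Subgroup G)).hyperfocalSubgroup p) := S.2.to_le (hyperfocal_le (groupFusionSystem (S : Subgroup G)) p)
  have hE₀F : E₀.IsSubsystemOf (groupFusionSystem (S : Subgroup G)) := by
    rintro P φ ⟨hPT, hv, g, -, hg⟩
    exact ⟨hPT.trans hTS, fun z => hTS (hv z), g, hg⟩
  have hE₀idx : ∀ P : Subgroup G, P ≤ T →
      (pResidual p ((groupFusionSystem (S : Subgroup G)).autGroup P)).map ((groupFusionSystem (S : Subgroup G)).autGroup P).subtype ≤ E₀.autGroup P := by
    intro P hPT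
    rw [Subgroup.map_le_iff_le_comap]
    unfold pResidual
    rw [Subgroup.closure_le]
    intro ρ hρ
    rw [SetLike.mem_coe, Subgroup.mem_comap]
    show (ρ : MulAut P) ∈ E₀.autGroup P
    have hord : Nat.Coprime (orderOf (ρ : MulAut P)) p := by
      rw [Subgroup.orderOf_coe]; exact hρ
    obtain ⟨-, -, g, hg⟩ := (mem_autGroup_iff (groupFusionSystem (S : Subgroup G)) (hPT.trans hTS) _).mp ρ.2
    obtain ⟨h, hh, hhs⟩ := exists_pResidual_conj p (ρ : MulAut P) g hg hord
    rw [mem_autGroup_iff E₀ hPT]
    exact ⟨hPT, fun z => hPT ((ρ : MulAut P) z).2, h, hh, hhs⟩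
  intro P
  apply Set.Subset.antisymm
  · exact le_of_pPowerIndex p hhyp hHp (groupFusionSystem (S : Subgroup G)) E E₀ hE.1 hE.2.1 hE₀idx P
  · exact le_of_pPowerIndex p hhyp.symm hTp (groupFusionSystem (S : Subgroup G)) E₀ E hE₀sat hE₀F hE.2.2.2 P

end Cfsg.Agent.S5139
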