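import Cfsg.Statements.S5256
import Cfsg.Agent.Lib.Helper9.FusionFactorAut
import Cfsg.Agent.Lib.Helper9.FusionHyp2
-- import your own Cfsg.Agent.* helpers here

set_option autoImplicit false
open Cfsg

namespace Cfsg.Agent.S5256

open Cfsg.FusionSystem Cfsg.Agent.Lib.Helper9

theorem image_le {Ω : Type*} [Group Ω] {S : Subgroup Ω} [Finite S] (p : ℕ) [Fact p.Prime] (hS : IsPGroup p S) (F : Cfsg.FusionSystem S) (hF : F.IsSaturated p) (T : Subgroup Ω) (hT : F.StronglyClosed T) {Ω' : Type*} [Group Ω'] {S' : Subgroup Ω'} (θ : ↥S →* Ω') (E : Cfsg.FusionSystem S') (hE : F.IsFactorSystem T θ E) :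
    F.hyperfocalSubgroup p ≤ preimageAlong θ (E.hyperfocalSubgroup p) := by
  haveI : Finite S' := finite_of_range_eq hE.2.2.1
  apply hyperfocal_le_of_gen
  intro P hPS α hα hord x
  have hmemS : (x : Ω)⁻¹ * ((α x : P) : Ω) ∈ S := S.mul_mem (S.inv_mem (hPS x.2)) (hPS (α x).2)
  rw [mem_preimageAlong hmemS]
  obtain ⟨α', hα', hαα'⟩ := exists_induced_aut p hS F hF T hT θ E hE hPS hα
  have hpow : α' ^ orderOf α = 1 :=
    induced_aut_pow_eq_one hPS α α' hαα' _ (pow_orderOf_eq_one α)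
  have hord' : Nat.Coprime (orderOf α') p :=
    Nat.Coprime.coprime_dvd_left (orderOf_dvd_of_pow_eq_one hpow) hord
  have hP'S' : imageAlong θ P ≤ S' := by
    rintro _ ⟨s, -, rfl⟩
    rw [← hE.2.2.1]
    exact ⟨s, rfl⟩
  have h1 := hyperfocal_gen_mem' E p hP'S' α' hα' hord' ⟨θ ⟨x, hPS x.2⟩, mem_imageAlong hPS x⟩
  rw [hαα' x] at h1
  have e : θ ⟨(x : Ω)⁻¹ * ((α x : P) : Ω), hmemS⟩ =
      (θ ⟨x, hPS x.2⟩)⁻¹ * θ ⟨(α x : P), hPS (α x).2⟩ := by
    rw [← map_inv, ← map_mul]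
    rfl
  rw [e]
  exact h1

theorem le_image {Ω : Type*} [Group Ω] {S : Subgroup Ω} [Finite S] (p : ℕ) [Fact p.Prime] (hS : IsPGroup p S) (F : Cfsg.FusionSystem S) (hF : F.IsSaturated p) (T : Subgroup Ω) (hT : F.StronglyClosed T) {Ω' : Type*} [Group Ω'] {S' : Subgroup Ω'} (θ : ↥S →* Ω') (E : Cfsg.FusionSystem S') (hE : F.IsFactorSystem T θ E) :
    E.hyperfocalSubgroup p ≤ ((F.hyperfocalSubgroup p).subgroupOf S).map θ := by
  haveI : Finite S' := finite_of_range_eq hE.2.2.1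
  apply hyperfocal_le_of_gen
  intro P' hP'S' ρ hρ hord y
  have hφ' := (mem_autGroup_iff E hP'S' ρ).mp hρ
  obtain ⟨-, φ, hφ, hP, hφS, hPP', hind⟩ := (hE.2.2.2 P' _).mp hφ'
  have hval : ∀ x : ↥(preimageAlong θ P'), φ x ∈ preimageAlong θ P' := by
    intro x
    rw [mem_preimageAlong (hφS x), ← hind x]
    exact (ρ _).2
  obtain ⟨α, hα, hαφ⟩ := exists_aut_of_hom_self F hφ hval
  -- θ ∘ α = ρ ∘ θ
  have hθα : ∀ (k : ℕ) (x : ↥(preimageAlong θ P')),
      θ ⟨((α ^ k) x : ↥(preimageAlong θ P')), hP ((α ^ k) x).2⟩ =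
        (((ρ ^ k) ⟨θ ⟨x, hP x.2⟩, hPP' x⟩ : P') : Ω') := by
    intro k
    induction k with
    | zero => intro x; rfl
    | succ k ih =>
      intro x
      rw [pow_succ, pow_succ]
      show θ ⟨((α ^ k) (α x) : ↥(preimageAlong θ P')), _⟩ =
        (((ρ ^ k) (ρ ⟨θ ⟨x, hP x.2⟩, hPP' x⟩) : P') : Ω')
      rw [ih (α x)]
      congr 2
      apply Subtype.ext
      show θ ⟨((α x : ↥(preimageAlong θ P')) : Ω), _⟩ = ((ρ ⟨θ ⟨x, hP x.2⟩, hPP' x⟩ : P') : Ω')
      have h1 := hind x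
      have h2 : (θ ⟨((α x : ↥(preimageAlong θ P')) : Ω), hP (α x).2⟩ : Ω') = θ ⟨φ x, hφS x⟩ := by
        congr 1
        exact Subtype.ext (hαφ x)
      rw [h2, ← h1]
      rfl
  -- adjust the exponent
  haveI hfinP : Finite ↥(preimageAlong θ P') := finite_of_le' hP
  have hm0 : orderOf α ≠ 0 := (orderOf_pos α).ne'
  have hp1 : p ≠ 1 := (Fact.out : p.Prime).one_lt.ne'
  obtain ⟨a, j, hj, hm⟩ := Nat.exists_eq_pow_mul_and_not_dvd hm0 p hp1
  have hjp : Nat.Coprime j p :=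
    ((Nat.Prime.coprime_iff_not_dvd (Fact.out : p.Prime)).mpr hj).symm
  have hcop : Nat.Coprime (p ^ a) (orderOf ρ) := (Nat.Coprime.pow_right a hord).symm
  by_cases hn1 : orderOf ρ = 1
  · -- ρ = 1
    have hρ1 : ρ = 1 := orderOf_eq_one_iff.mp hn1
    have : (y : Ω')⁻¹ * ((ρ y : P') : Ω') = 1 := by
      rw [hρ1]
      show (y : Ω')⁻¹ * (y : Ω') = 1
      group
    rw [this]
    exact Subgroup.one_mem _
  have hn1' : 1 < orderOf ρ := by
    have : orderOf ρ ≠ 0 := by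
      intro h0
      rw [h0] at hord
      exact (Fact.out : p.Prime).one_lt.ne' ((Nat.coprime_zero_left p).mp hord)
    omega
  obtain ⟨c, -, hc⟩ := Nat.exists_mul_mod_eq_one_of_coprime hcop hn1'
  have hρk : ρ ^ (p ^ a * c) = ρ := by
    rw [← pow_mod_orderOf, hc, pow_one]
  have hαk : (α ^ (p ^ a * c)) ^ j = 1 := by
    rw [← pow_mul]
    have : p ^ a * c * j = orderOf α * c := by rw [hm]; ring
    rw [this, pow_mul, pow_orderOf_eq_one, one_pow]
  have hordk : Nat.Coprime (orderOf (α ^ (p ^ a * c))) p :=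
    Nat.Coprime.coprime_dvd_left (orderOf_dvd_of_pow_eq_one hαk) hjp
  have hαkmem : α ^ (p ^ a * c) ∈ F.autGroup (preimageAlong θ P') := Subgroup.pow_mem _ hα _
  obtain ⟨x, hx⟩ := exists_preimageAlong hE.2.2.1 hP'S' y
  have h1 := hyperfocal_gen_mem' F p hP _ hαkmem hordk x
  have h2 := hθα (p ^ a * c) x
  rw [hρk] at h2
  have hmemS : (x : Ω)⁻¹ * (((α ^ (p ^ a * c)) x : ↥(preimageAlong θ P')) : Ω) ∈ S :=
    S.mul_mem (S.inv_mem (hP x.2)) (hP ((α ^ (p ^ a * c)) x).2)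
  refine ⟨⟨_, hmemS⟩, Subgroup.mem_subgroupOf.mpr h1, ?_⟩
  have e : θ ⟨(x : Ω)⁻¹ * (((α ^ (p ^ a * c)) x : ↥(preimageAlong θ P')) : Ω), hmemS⟩ =
      (θ ⟨x, hP x.2⟩)⁻¹ * θ ⟨((α ^ (p ^ a * c)) x : ↥(preimageAlong θ P')),
        hP ((α ^ (p ^ a * c)) x).2⟩ := by
    rw [← map_inv, ← map_mul]
    rfl
  rw [e, h2]
  have e2 : (⟨θ ⟨x, hP x.2⟩, hPP' x⟩ : P') = y := Subtype.ext hx
  rw [e2, hx]

/-- Let F be a saturated fusion system over a finite p-group S, T a subgroup of S strongly closed in F, and E a factor system F/T realised along a homomorphism θ of S with kernel T. Then the hyperfocal subgroup of E is the image under θ of the hyperfocal subgroup of F (hyp(F/T) = T·hyp(F)/T). -/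
theorem result {Ω : Type*} [Group Ω] {S : Subgroup Ω} [Finite S] (p : ℕ) [Fact p.Prime] (hS : IsPGroup p S) (F : Cfsg.FusionSystem S) (hF : F.IsSaturated p) (T : Subgroup Ω) (hT : F.StronglyClosed T) {Ω' : Type*} [Group Ω'] {S' : Subgroup Ω'} (θ : ↥S →* Ω') (E : Cfsg.FusionSystem S') (hE : F.IsFactorSystem T θ E) : E.hyperfocalSubgroup p = ((F.hyperfocalSubgroup p).subgroupOf S).map θ := by
  apply le_antisymm (le_image p hS F hF T hT θ E hE)
  rintro _ ⟨s, hs, rfl⟩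
  have h1 := image_le p hS F hF T hT θ E hE (Subgroup.mem_subgroupOf.mp hs)
  exact (mem_preimageAlong s.2).mp h1

end Cfsg.Agent.S5256
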