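import Cfsg.Statements.S5148
import Cfsg.Agent.S5256
import Cfsg.Agent.Lib.Helper9.FusionGrun
import Cfsg.Agent.Lib.Helper9.FusionAbelian
import Cfsg.Agent.Lib.Helper9.Fusion2
-- import your own Cfsg.Agent.* helpers here

set_option autoImplicit false
open Cfsg

namespace Cfsg.Agent.S5148

open Cfsg.FusionSystem Cfsg.Agent.Lib.Helper9

/-- A quasisimple fusion system over a finite p-group S (saturated, equal to its p-residual subsystem, with simple — in particular nontrivial — factor system modulo its centre) has S nonabelian. -/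
theorem result {Ω : Type*} [Group Ω] {S : Subgroup Ω} [Finite S] (p : ℕ) [Fact p.Prime] (hS : IsPGroup p S) (F : Cfsg.FusionSystem S) (hq : F.Quasisimple p) : ¬ IsMulCommutative S := by
  intro hcomm
  obtain ⟨hF, hperf, hsimple⟩ := hq
  have hZc := isCentral_center F
  have hZsc := central_stronglyClosed F hZc
  have hrange : (QuotientGroup.mk' ((F.center).subgroupOf S)).range = ⊤ :=
    MonoidHom.range_eq_top.mpr (QuotientGroup.mk'_surjective _)
  have hker : ∀ s : S, (QuotientGroup.mk' ((F.center).subgroupOf S)) s = 1 ↔ (s : Ω) ∈ F.center := by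
    intro s
    rw [QuotientGroup.mk'_apply, QuotientGroup.eq_one_iff]
    exact Subgroup.mem_subgroupOf
  have hE := factorSystem_isFactorSystem F F.center hZsc
    (QuotientGroup.mk' ((F.center).subgroupOf S)) ⊤ hrange hker
  obtain ⟨hEsat, hne, hnorm⟩ := hsimple _ hE
  have hS'p : IsPGroup p (⊤ : Subgroup (↥S ⧸ (F.center).subgroupOf S)) :=
    (hS.to_quotient _).to_subgroup _
  have hTsc : (factorSystem F F.center hZsc (QuotientGroup.mk' ((F.center).subgroupOf S)) ⊤
      hrange hker).StronglyClosed ⊤ := ⟨le_rfl, fun _ _ _ _ _ => Subgroup.mem_top _⟩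
  have hab : ∀ x ∈ (⊤ : Subgroup (↥S ⧸ (F.center).subgroupOf S)),
      ∀ y ∈ (⊤ : Subgroup (↥S ⧸ (F.center).subgroupOf S)), x * y = y * x := by
    intro x _ y _
    obtain ⟨a, rfl⟩ := QuotientGroup.mk_surjective x
    obtain ⟨b, rfl⟩ := QuotientGroup.mk_surjective y
    rw [← QuotientGroup.mk_mul, ← QuotientGroup.mk_mul, hcomm.is_comm.comm a b]
  have hN := inner_isNormalIn_of_abelian_stronglyClosed p hS'p _ hEsat hTsc hab
  rcases hnorm ⊤ (innerFusionSystem ⊤) hN with h | ⟨-, h⟩
  · exact hne h
  · have hhyp : (factorSystem F F.center hZsc (QuotientGroup.mk' ((F.center).subgroupOf S)) ⊤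
        hrange hker).hyperfocalSubgroup p ≤ ⊥ := by
      apply hyperfocal_le_of_gen
      intro P hP α hα hord x
      rw [mem_autGroup_iff _ hP, ← h P] at hα
      obtain ⟨-, g, hg, hgx⟩ := hα
      have h1 : ((α x : P) : ↥S ⧸ (F.center).subgroupOf S) = g * x * g⁻¹ := hgx x
      rw [hab g hg x (Subgroup.mem_top _), mul_assoc, mul_inv_cancel, mul_one] at h1
      rw [h1, inv_mul_cancel]
      exact Subgroup.one_mem _
    have h2 := Cfsg.Agent.S5256.result p hS F hF F.center hZsc
      (QuotientGroup.mk' ((F.center).subgroupOf S)) _ hE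
    rw [hperf, Subgroup.subgroupOf_self, ← MonoidHom.range_eq_map, hrange] at h2
    rw [h2] at hhyp
    exact hne (le_bot_iff.mp hhyp)


end Cfsg.Agent.S5148
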