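import Cfsg.Statements.S5341
import Cfsg.Agent.Lib.Helper9.FusionTExt

set_option autoImplicit false
open Cfsg

namespace Cfsg.Agent.S5341

open Cfsg.Agent.Lib.Helper9 Cfsg.FusionSystem

/-- Let F be a saturated fusion system over a finite p-group S, T a subgroup strongly closed in F, and F′ any fusion system over T all of whose maps are maps of F. For a subgroup Q ≤ T: if Q is fully centralized in F then it is fully centralized in F′, and if Q is fully normalized in F then it is fully normalized in F′. -/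
theorem result {Ω : Type*} [Group Ω] {S : Subgroup Ω} [Finite S] (p : ℕ) [Fact p.Prime] (hS : IsPGroup p S) (F : Cfsg.FusionSystem S) (hF : F.IsSaturated p) (T : Subgroup Ω) (hT : F.StronglyClosed T) (F' : Cfsg.FusionSystem T) (hsub : F'.IsSubsystemOf F) (Q : Subgroup Ω) (hQT : Q ≤ T) : (F.IsFullyCentralized Q → F'.IsFullyCentralized Q) ∧ (F.IsFullyNormalized Q → F'.IsFullyNormalized Q) := by
  have hTS := hT.1
  have hfinT : Finite T := finite_of_le' hTS
  have hconj : ∀ Q', F'.IsConj Q Q' → F.IsConj Q' Q := by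
    rintro Q' ⟨φ', hφ', hr⟩
    exact isConj_symm F ⟨φ', hsub Q hφ', hr⟩
  constructor
  · intro hfc
    refine ⟨hQT, fun Q' hQ' => ?_⟩
    have hrec := sat_fullyCentralized_receptive p hS F hF hfc
    obtain ⟨θ, hθ, hθr⟩ := hconj Q' hQ'
    obtain ⟨χ, hχ, hχθ⟩ := hrec.2 Q' θ hθ hθr
    have hQ'S := (F.le_of_mem hθ).1
    have hle : centralizerIn T Q' ≤ extender S Q' θ :=
      (inf_le_inf_right _ hTS).trans (centralizerIn_le_extender S Q' θ)
    have hQ'le : Q' ≤ extender S Q' θ := le_extender hQ'S θ (F.le_of_mem hθ).2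
    have hmap : ∀ c : ↥(centralizerIn T Q'),
        χ (Subgroup.inclusion hle c) ∈ centralizerIn T Q := by
      intro c
      refine Subgroup.mem_inf.mpr ⟨map_mem_of_stronglyClosed F hT hχ _ (Subgroup.mem_inf.mp c.2).1, ?_⟩
      rw [Subgroup.mem_centralizer_iff]
      intro q hq
      rw [SetLike.mem_coe, ← hθr] at hq
      obtain ⟨q', rfl⟩ := hq
      have h1 : θ q' = χ (Subgroup.inclusion hQ'le q') := (hχθ q' q'.2 (hQ'le q'.2)).symm
      have hcomm : (q' : Ω) * (c : Ω) = (c : Ω) * (q' : Ω) :=
        (Subgroup.mem_centralizer_iff.mp (Subgroup.mem_inf.mp c.2).2) q' q'.2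
      have hcomm' : Subgroup.inclusion hQ'le q' * Subgroup.inclusion hle c =
          Subgroup.inclusion hle c * Subgroup.inclusion hQ'le q' := Subtype.ext hcomm
      rw [h1, ← map_mul, ← map_mul, hcomm']
    have hfinC : Finite ↥(centralizerIn T Q) := finite_of_le' (inf_le_left.trans hTS)
    apply Nat.card_le_card_of_injective
      (fun c : ↥(centralizerIn T Q') => (⟨χ (Subgroup.inclusion hle c), hmap c⟩ : ↥(centralizerIn T Q)))
    intro a b hab
    have h1 : χ (Subgroup.inclusion hle a) = χ (Subgroup.inclusion hle b) :=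
      congrArg Subtype.val hab
    have h2 := F.injective_of_mem hχ h1
    exact Subtype.ext (congrArg (fun z : ↥(extender S Q' θ) => (z : Ω)) h2)
  · intro hfn
    refine ⟨hQT, fun Q' hQ' => ?_⟩
    obtain ⟨hfc, hfa⟩ := sat_fullyNormalized p hS F hF hfn
    have hrec := sat_fullyCentralized_receptive p hS F hF hfc
    obtain ⟨φ, hφ, hφN, -⟩ := Cfsg.Agent.S5079.result p hS F Q Q' hfa hrec (hconj Q' hQ')
    have hle : normalizerIn T Q' ≤ normalizerIn S Q' := inf_le_inf_right _ hTS
    have hmap : ∀ c : ↥(normalizerIn T Q'), φ (Subgroup.inclusion hle c) ∈ normalizerIn T Q := by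
      intro c
      exact Subgroup.mem_inf.mpr
        ⟨map_mem_of_stronglyClosed F hT hφ _ (Subgroup.mem_inf.mp c.2).1,
          (Subgroup.mem_inf.mp (hφN _)).2⟩
    have hfinN : Finite ↥(normalizerIn T Q) := finite_of_le' (inf_le_left.trans hTS)
    apply Nat.card_le_card_of_injective
      (fun c : ↥(normalizerIn T Q') => (⟨φ (Subgroup.inclusion hle c), hmap c⟩ : ↥(normalizerIn T Q)))
    intro a b hab
    have h1 : φ (Subgroup.inclusion hle a) = φ (Subgroup.inclusion hle b) :=
      congrArg Subtype.val hab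
    have h2 := F.injective_of_mem hφ h1
    exact Subtype.ext (congrArg (fun z : ↥(normalizerIn S Q') => (z : Ω)) h2)

end Cfsg.Agent.S5341
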