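import Cfsg.Statements.S5153
import Cfsg.Agent.S5341

set_option autoImplicit false
open Cfsg

namespace Cfsg.Agent.S5153

open Cfsg.Agent.Lib.Helper9 Cfsg.FusionSystem

theorem aux {Ω : Type*} [Group Ω] {p : ℕ} {T : Subgroup Ω} {E : Cfsg.FusionSystem T}
    {S : Subgroup Ω} {F : Cfsg.FusionSystem S} (h : E.IsSubnormalIn F p) :
    T ≤ S ∧ (Fact p.Prime → Finite S → IsPGroup p S → F.IsSaturated p →
      ∀ P : Subgroup Ω, P ≤ T → F.IsFullyNormalized P → E.IsFullyNormalized P) := by
  induction h
  case refl F p => exact ⟨le_rfl, fun _ _ _ _ P _ hP => hP⟩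
  case step T U S E D F p _ hDF ih =>
    have hUS : U ≤ S := hDF.1.2.2.2.1.1
    refine ⟨ih.1.trans hUS, fun hp hfin hS hF P hPT hP => ?_⟩
    have hDsat : D.IsSaturated p := hDF.1.1
    have hUsc : F.StronglyClosed U := hDF.1.2.2.2.1
    have hsub : D.IsSubsystemOf F := hDF.1.2.2.1
    have hfinU : Finite U := finite_of_le' hUS
    have hUp : IsPGroup p U := hS.to_le hUS
    have h1 := (Cfsg.Agent.S5341.result p hS F hF U hUsc D hsub P (hPT.trans ih.1)).2 hP
    exact ih.2 hp hfinU hUp hDsat P hPT h1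

/-- Let F be a saturated fusion system over a finite p-group S and E a subnormal subsystem of F over T. Then every subgroup of T that is fully normalized in F is fully normalized in E. -/
theorem result {Ω : Type*} [Group Ω] {S : Subgroup Ω} [Finite S] (p : ℕ) [Fact p.Prime] (hS : IsPGroup p S) (F : Cfsg.FusionSystem S) (hF : F.IsSaturated p) {T : Subgroup Ω} (E : Cfsg.FusionSystem T) (hE : E.IsSubnormalIn F p) (P : Subgroup Ω) (hPT : P ≤ T) (hP : F.IsFullyNormalized P) : E.IsFullyNormalized P :=
  (aux hE).2 inferInstance inferInstance hS hF P hPT hP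

end Cfsg.Agent.S5153
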