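import Cfsg.Statements.S5157
import Cfsg.Agent.S5132
import Cfsg.Agent.S5133
import Cfsg.Agent.S5134
import Cfsg.Agent.S5088
import Cfsg.Agent.Lib.Helper9.FusionSolv
import Cfsg.Agent.Lib.Helper9.FusionAbelian
import Cfsg.Agent.Lib.Helper9.Fusion2
import Cfsg.Agent.Lib.Helper9.FusionChain2
-- import your own Cfsg.Agent.* helpers here

set_option autoImplicit false
open Cfsg

namespace Cfsg.Agent.S5157

open Cfsg.FusionSystem Cfsg.Agent.Lib.Helper9

open scoped commutatorElement

/-- Extend a chain at the bottom. -/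
theorem chain_cons {Ω : Type*} [Group Ω] {S : Subgroup Ω} (F : FusionSystem S) (R R₁ : Subgroup Ω)
    (hR : F.StronglyClosed R) (hle : R ≤ R₁) (hcomm : ⁅R₁, R₁⁆ ≤ R)
    (h : ∃ (n : ℕ) (T : Fin (n + 1) → Subgroup Ω), T 0 = R₁ ∧ T (Fin.last n) = S ∧ Monotone T ∧
      (∀ i, F.StronglyClosed (T i)) ∧ ∀ i : Fin n, ⁅T i.succ, T i.succ⁆ ≤ T (Fin.castSucc i)) :
    ∃ (n : ℕ) (T : Fin (n + 1) → Subgroup Ω), T 0 = R ∧ T (Fin.last n) = S ∧ Monotone T ∧
      (∀ i, F.StronglyClosed (T i)) ∧ ∀ i : Fin n, ⁅T i.succ, T i.succ⁆ ≤ T (Fin.castSucc i) := by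
  obtain ⟨n, T, h0, hlast, hmono, hsc, hab⟩ := h
  refine ⟨n + 1, Fin.cons R T, rfl, ?_, ?_, ?_, ?_⟩
  · rw [← Fin.succ_last, Fin.cons_succ]; exact hlast
  · rw [Fin.monotone_iff_le_succ]
    intro i
    refine Fin.cases ?_ (fun j => ?_) i
    · rw [Fin.cons_succ, h0]
      exact hle
    · rw [Fin.cons_succ, ← Fin.succ_castSucc, Fin.cons_succ]
      exact hmono (Fin.castSucc_le_succ j)
  · intro i
    refine Fin.cases ?_ (fun j => ?_) i
    · exact hR
    · rw [Fin.cons_succ]; exact hsc j
  · intro i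
    refine Fin.cases ?_ (fun j => ?_) i
    · rw [Fin.cons_succ, h0]
      exact hcomm
    · rw [Fin.cons_succ, ← Fin.succ_castSucc, Fin.cons_succ]
      exact hab j

/-- In a solvable saturated fusion system, every proper strongly closed subgroup has a strictly
larger strongly closed subgroup with abelian quotient. -/
theorem exists_next {Ω : Type*} [Group Ω] {S : Subgroup Ω} [Finite S] (p : ℕ) [Fact p.Prime]
    (hS : IsPGroup p S) (F : Cfsg.FusionSystem S) (hF : F.IsSaturated p)
    (hsolv : F.IsSolvableSystem) (R : Subgroup Ω) (hR : F.StronglyClosed R) (hRS : R ≠ S) :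
    ∃ R₁ : Subgroup Ω, F.StronglyClosed R₁ ∧ R ≤ R₁ ∧ R ≠ R₁ ∧ ⁅R₁, R₁⁆ ≤ R := by
  haveI hn : (R.subgroupOf S).Normal := by
    constructor
    intro n hn g
    rw [Subgroup.mem_subgroupOf] at hn ⊢
    have hg := le_normalizer_of_stronglyClosed F hR g.2
    rw [Subgroup.mem_normalizer_iff] at hg
    exact (hg _).mp hn
  obtain ⟨E, hE⟩ := Cfsg.Agent.S5132.result p hS F R hR
  have hcore := hsolv R hR hRS E hE
  have hsurj := Cfsg.Agent.S5134.result p hS F hF R hR _ E hE
  have hEsat := Cfsg.Agent.S5133.result p hS F hF E _ hsurj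
  have hker := hE.2.1
  have hS' : IsPGroup p (⊤ : Subgroup (S ⧸ R.subgroupOf S)) :=
    (hS.to_quotient (R.subgroupOf S)).to_subgroup ⊤
  have hnc := isNormal_core E
  obtain ⟨n, Qs, h0, hlast, hmono, hstep⟩ :=
    (Cfsg.Agent.S5088.result p hS' E hEsat E.core).mp hnc
  have hex : ∃ i : Fin n, Qs (Fin.castSucc i) = ⊥ ∧ Qs i.succ ≠ ⊥ := by
    by_contra hcon
    push_neg at hcon
    have hall : ∀ j : Fin (n + 1), Qs j = ⊥ := by
      intro j
      induction j using Fin.induction with
      | zero => exact h0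
      | succ i ih => exact hcon i ih
    exact hcore (by rw [← hlast]; exact hall _)
  obtain ⟨i, hi0, hi1⟩ := hex
  have hA' : E.StronglyClosed (Qs i.succ) := (hstep i).1
  have hAcore : Qs i.succ ≤ E.core := by
    rw [← hlast]; exact hmono (Fin.le_last _)
  have hcomm : ⁅Qs i.succ, Qs i.succ⁆ ≤ ⊥ := by
    rw [← hi0]
    exact (Subgroup.commutator_mono hAcore le_rfl).trans (hstep i).2
  refine ⟨preimageAlong (QuotientGroup.mk' (R.subgroupOf S)) (Qs i.succ),
    stronglyClosed_preimageAlong p hS F hF E _ hsurj.1 hR hker hA', ?_, ?_, ?_⟩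
  · intro x hx
    rw [mem_preimageAlong (hR.1 hx)]
    rw [(hker ⟨x, hR.1 hx⟩).mpr hx]
    exact Subgroup.one_mem _
  · intro heq
    obtain ⟨a, ha1⟩ := (Subgroup.ne_bot_iff_exists_ne_one.mp hi1)
    obtain ⟨s, hs⟩ := QuotientGroup.mk'_surjective (R.subgroupOf S) (a : S ⧸ R.subgroupOf S)
    have hs1 : (s : Ω) ∈ preimageAlong (QuotientGroup.mk' (R.subgroupOf S)) (Qs i.succ) := by
      rw [mem_preimageAlong s.2]
      have : (⟨(s : Ω), s.2⟩ : S) = s := rfl
      rw [this, hs]
      exact a.2
    rw [← heq] at hs1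
    have h1 := (hker s).mpr hs1
    rw [hs] at h1
    exact ha1 (Subtype.ext h1)
  · rw [Subgroup.commutator_le]
    intro x hx y hy
    have hxS : x ∈ S := preimageAlong_le _ _ hx
    have hyS : y ∈ S := preimageAlong_le _ _ hy
    have hxyS : ⁅x, y⁆ ∈ S := by
      rw [commutatorElement_def]
      exact S.mul_mem (S.mul_mem (S.mul_mem hxS hyS) (S.inv_mem hxS)) (S.inv_mem hyS)
    refine (hker ⟨⁅x, y⁆, hxyS⟩).mp ?_
    have h1 : (⟨⁅x, y⁆, hxyS⟩ : S) = ⁅(⟨x, hxS⟩ : S), (⟨y, hyS⟩ : S)⁆ := by
      apply Subtype.ext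
      rfl
    rw [h1, map_commutatorElement]
    have h2 := Subgroup.commutator_mem_commutator ((mem_preimageAlong hxS).mp hx)
      ((mem_preimageAlong hyS).mp hy)
    exact Subgroup.mem_bot.mp (hcomm h2)

/-- A saturated fusion system F over a finite p-group S is solvable (for every subgroup R other than S that is strongly closed in F, the factor system of F modulo R has a nontrivial subgroup normal in it) if and only if there is a chain 1 = S₀ ≤ S₁ ≤ ⋯ ≤ Sₘ = S of subgroups strongly closed in F with every quotient Sᵢ₊₁/Sᵢ abelian. -/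
theorem result {Ω : Type*} [Group Ω] {S : Subgroup Ω} [Finite S] (p : ℕ) [Fact p.Prime] (hS : IsPGroup p S) (F : Cfsg.FusionSystem S) (hF : F.IsSaturated p) : F.IsSolvableSystem ↔ ∃ (n : ℕ) (T : Fin (n + 1) → Subgroup Ω), T 0 = ⊥ ∧ T (Fin.last n) = S ∧ Monotone T ∧ (∀ i, F.StronglyClosed (T i)) ∧ ∀ i : Fin n, ⁅T i.succ, T i.succ⁆ ≤ T (Fin.castSucc i) := by
  constructor
  · intro hsolv
    have key : ∀ (m : ℕ) (R : Subgroup Ω), F.StronglyClosed R → Nat.card S - Nat.card R ≤ m →
        ∃ (n : ℕ) (T : Fin (n + 1) → Subgroup Ω), T 0 = R ∧ T (Fin.last n) = S ∧ Monotone T ∧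
          (∀ i, F.StronglyClosed (T i)) ∧
          ∀ i : Fin n, ⁅T i.succ, T i.succ⁆ ≤ T (Fin.castSucc i) := by
      intro m
      induction m with
      | zero =>
        intro R hR hm
        have hRS : R = S := by
          by_contra hne
          have hlt : Nat.card R < Nat.card S := by
            have hfinR : Finite R := finite_of_le' hR.1
            have := Subgroup.card_le_of_le hR.1
            rcases lt_or_eq_of_le this with h | h
            · exact h
            · exact absurd (Subgroup.eq_of_le_of_card_ge hR.1 (le_of_eq h.symm)) hne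
          omega
        refine ⟨0, fun _ => S, hRS.symm, rfl, fun _ _ _ => le_rfl, fun _ => hRS ▸ hR, fun i => i.elim0⟩
      | succ m ih =>
        intro R hR hm
        by_cases hRS : R = S
        · exact ⟨0, fun _ => S, hRS.symm, rfl, fun _ _ _ => le_rfl, fun _ => hRS ▸ hR,
            fun i => i.elim0⟩
        · obtain ⟨R₁, hR₁, hle, hne, hcomm⟩ := exists_next p hS F hF hsolv R hR hRS
          have hfinR₁ : Finite R₁ := finite_of_le' hR₁.1
          have hlt : Nat.card R < Nat.card R₁ := by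
            have := Subgroup.card_le_of_le hle
            rcases lt_or_eq_of_le this with h | h
            · exact h
            · exact absurd (Subgroup.eq_of_le_of_card_ge hle (le_of_eq h.symm)) hne
          have hle₁ : Nat.card R₁ ≤ Nat.card S := Subgroup.card_le_of_le hR₁.1
          exact chain_cons F R R₁ hR hle hcomm (ih R₁ hR₁ (by omega))
    have hbot : F.StronglyClosed ⊥ := stronglyClosed_bot F
    exact key _ ⊥ hbot le_rfl
  · rintro ⟨n, T, h0, hlast, hmono, hsc, hab⟩
    intro R hR hRS hn E hE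
    have hsurj := Cfsg.Agent.S5134.result p hS F hF R hR _ E hE
    have hEsat := Cfsg.Agent.S5133.result p hS F hF E _ hsurj
    have hker := hE.2.1
    have hS' : IsPGroup p (⊤ : Subgroup (S ⧸ R.subgroupOf S)) :=
      (hS.to_quotient (R.subgroupOf S)).to_subgroup ⊤
    have hex : ∃ i : Fin n, T (Fin.castSucc i) ≤ R ∧ ¬ T i.succ ≤ R := by
      by_contra hcon
      push_neg at hcon
      have hall : ∀ j : Fin (n + 1), T j ≤ R := by
        intro j
        induction j using Fin.induction with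
        | zero => rw [h0]; exact bot_le
        | succ i ih => exact hcon i ih
      have := hall (Fin.last n)
      rw [hlast] at this
      exact hRS (le_antisymm hR.1 this)
    obtain ⟨i, hi0, hi1⟩ := hex
    have hA' : E.StronglyClosed (imageAlong (QuotientGroup.mk' (R.subgroupOf S)) (T i.succ)) :=
      stronglyClosed_imageAlong F E _ hsurj (hsc i.succ)
    have habel : ∀ x ∈ imageAlong (QuotientGroup.mk' (R.subgroupOf S)) (T i.succ),
        ∀ y ∈ imageAlong (QuotientGroup.mk' (R.subgroupOf S)) (T i.succ), x * y = y * x := by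
      rintro _ ⟨a, ha, rfl⟩ _ ⟨b, hb, rfl⟩
      rw [← commutatorElement_eq_one_iff_mul_comm, ← map_commutatorElement]
      refine (hker _).mpr ?_
      apply hi0
      apply hab i
      exact Subgroup.commutator_mem_commutator (Subgroup.mem_subgroupOf.mp ha)
        (Subgroup.mem_subgroupOf.mp hb)
    have hnorm := isNormal_of_abelian_stronglyClosed p hS' E hEsat hA' habel
    have hle : imageAlong (QuotientGroup.mk' (R.subgroupOf S)) (T i.succ) ≤ E.core :=
      le_sSup hnorm
    intro hcore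
    rw [hcore] at hle
    apply hi1
    intro x hx
    have hxS : x ∈ S := (hsc i.succ).1 hx
    refine (hker ⟨x, hxS⟩).mp ?_
    exact Subgroup.mem_bot.mp (hle (mem_imageAlong (hsc i.succ).1 ⟨x, hx⟩))

end Cfsg.Agent.S5157
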