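import Cfsg.Statements.S5158
import Cfsg.Agent.S5157
import Cfsg.Agent.S5086
import Cfsg.Agent.S5088
import Cfsg.Agent.Lib.Helper9.FusionSolv2
import Cfsg.Agent.Lib.Helper9.Fusion2
-- import your own Cfsg.Agent.* helpers here

set_option autoImplicit false
open Cfsg

namespace Cfsg.Agent.S5158

open Cfsg.FusionSystem Cfsg.Agent.Lib.Helper9

open scoped commutatorElement

/-- A solvable saturated fusion system over a finite p-group (solvable: for every subgroup R other than S that is strongly closed in F, the factor system of F modulo R has a nontrivial subgroup normal in it) is constrained. -/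
theorem result {Ω : Type*} [Group Ω] {S : Subgroup Ω} [Finite S] (p : ℕ) [Fact p.Prime] (hS : IsPGroup p S) (F : Cfsg.FusionSystem S) (hF : F.IsSaturated p) (h : F.IsSolvableSystem) : F.IsConstrained p := by
  have hQ := isNormal_core F
  refine ⟨hF, F.core, hQ, ?_⟩
  obtain ⟨n, T, h0, hlast, hmono, hsc, hab⟩ := (Cfsg.Agent.S5157.result p hS F hF).mp h
  have hQsc : F.StronglyClosed F.core := ((Cfsg.Agent.S5086.result p hS F hF _).mp hQ).1
  have hCsc := stronglyClosed_centralizerIn_of_isNormal F hQ
  have hZsc : F.StronglyClosed (F.core ⊓ centralizerIn S F.core) := stronglyClosed_inf F hQsc hCsc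
  have hall : ∀ j : Fin (n + 1), T j ⊓ centralizerIn S F.core ≤ F.core := by
    intro j
    induction j using Fin.induction with
    | zero => rw [h0]; exact inf_le_left.trans bot_le
    | succ i ih =>
      have hAsc : F.StronglyClosed (T i.succ ⊓ centralizerIn S F.core) :=
        stronglyClosed_inf F (hsc _) hCsc
      have hAA : ⁅T i.succ ⊓ centralizerIn S F.core, T i.succ ⊓ centralizerIn S F.core⁆ ≤
          F.core ⊓ centralizerIn S F.core := by
        have h2 : ⁅T i.succ ⊓ centralizerIn S F.core, T i.succ ⊓ centralizerIn S F.core⁆ ≤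
            centralizerIn S F.core :=
          (Subgroup.commutator_mono inf_le_right inf_le_right).trans
            (Subgroup.commutator_le_self _)
        refine le_inf (le_trans (le_inf ?_ h2) ih) h2
        exact (Subgroup.commutator_mono inf_le_left inf_le_left).trans (hab i)
      have hAcent : T i.succ ⊓ centralizerIn S F.core ≤
          Subgroup.centralizer ((F.core ⊓ centralizerIn S F.core : Subgroup Ω) : Set Ω) := by
        intro a ha
        rw [Subgroup.mem_centralizer_iff]
        intro z hz
        exact (mem_centralizerIn.mp (Subgroup.mem_inf.mp ha).2).2 z (Subgroup.mem_inf.mp hz).1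
      have hAZ : T i.succ ⊓ centralizerIn S F.core ≤
          Subgroup.normalizer ((F.core ⊓ centralizerIn S F.core : Subgroup Ω) : Set Ω) :=
        hAcent.trans (centralizer_le_normalizer' _)
      have hA'sc := stronglyClosed_sup_of_le_isNormal F hAsc hZsc hQ inf_le_left hAZ
      have hA'C : (T i.succ ⊓ centralizerIn S F.core) ⊔ (F.core ⊓ centralizerIn S F.core) ≤
          centralizerIn S F.core := sup_le inf_le_right inf_le_right
      have hnorm : F.IsNormal
          ((T i.succ ⊓ centralizerIn S F.core) ⊔ (F.core ⊓ centralizerIn S F.core)) := by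
        rw [Cfsg.Agent.S5088.result p hS F hF]
        refine ⟨2, ![⊥, F.core ⊓ centralizerIn S F.core,
          (T i.succ ⊓ centralizerIn S F.core) ⊔ (F.core ⊓ centralizerIn S F.core)], rfl, rfl, ?_, ?_⟩
        · rw [Fin.monotone_iff_le_succ]
          intro k
          fin_cases k
          · exact bot_le
          · exact le_sup_right
        · intro k
          fin_cases k
          · refine ⟨hZsc, ?_⟩
            show ⁅(T i.succ ⊓ centralizerIn S F.core) ⊔ (F.core ⊓ centralizerIn S F.core),
              F.core ⊓ centralizerIn S F.core⁆ ≤ ⊥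
            rw [Subgroup.commutator_le]
            intro g hg z hz
            rw [Subgroup.mem_bot, commutatorElement_eq_one_iff_mul_comm]
            exact ((mem_centralizerIn.mp (hA'C hg)).2 z (Subgroup.mem_inf.mp hz).1).symm
          · refine ⟨hA'sc, ?_⟩
            show ⁅(T i.succ ⊓ centralizerIn S F.core) ⊔ (F.core ⊓ centralizerIn S F.core),
              (T i.succ ⊓ centralizerIn S F.core) ⊔ (F.core ⊓ centralizerIn S F.core)⁆ ≤
              F.core ⊓ centralizerIn S F.core
            rw [Subgroup.commutator_le]
            intro g₁ hg₁ g₂ hg₂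
            have hg₁' : g₁ ∈ (((T i.succ ⊓ centralizerIn S F.core) ⊔
                (F.core ⊓ centralizerIn S F.core) : Subgroup Ω) : Set Ω) := hg₁
            have hg₂' : g₂ ∈ (((T i.succ ⊓ centralizerIn S F.core) ⊔
                (F.core ⊓ centralizerIn S F.core) : Subgroup Ω) : Set Ω) := hg₂
            rw [Subgroup.coe_mul_of_left_le_normalizer_right _ _ hAZ] at hg₁' hg₂'
            obtain ⟨a, ha, z, hz, rfl⟩ := hg₁'
            obtain ⟨a', ha', z', hz', rfl⟩ := hg₂'
            have e1 : ⁅z, a' * z'⁆ = 1 := by
              rw [commutatorElement_eq_one_iff_mul_comm]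
              exact (mem_centralizerIn.mp (hA'C hg₂)).2 z (Subgroup.mem_inf.mp hz).1
            have e2 : ⁅a, z'⁆ = 1 := by
              rw [commutatorElement_eq_one_iff_mul_comm]
              exact ((mem_centralizerIn.mp (Subgroup.mem_inf.mp ha).2).2 z'
                (Subgroup.mem_inf.mp hz').1).symm
            rw [commutatorElement_mul_left_eq_conj_mul, e1, mul_one, mul_inv_cancel, one_mul,
              commutatorElement_mul_right_eq_mul_conj, e2, mul_one, mul_inv_cancel_right]
            exact hAA (Subgroup.commutator_mem_commutator ha ha')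
      exact le_sup_left.trans (le_sSup hnorm)
  refine ⟨hQ.1, ?_⟩
  rintro Q' ⟨φ, hφ, hrange⟩
  have hQ' : Q' = F.core := by
    rw [← hrange]
    exact (weaklyClosed_of_stronglyClosed F hQsc).2 φ hφ
  rw [hQ']
  have := hall (Fin.last n)
  rw [hlast] at this
  exact (le_inf inf_le_left le_rfl).trans this

end Cfsg.Agent.S5158
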