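import Cfsg.Statements.S5159
import Cfsg.Agent.S5157
import Cfsg.Agent.Lib.Helper9.FusionSolv3
import Cfsg.Agent.Lib.Helper9.FusionAutMorph
-- import your own Cfsg.Agent.* helpers here

set_option autoImplicit false
open Cfsg

namespace Cfsg.Agent.S5159

open Cfsg.FusionSystem Cfsg.Agent.Lib.Helper9

open scoped commutatorElement

/-- Let F be a saturated fusion system over a finite p-group S, E a normal subsystem over T, and D the factor system of F modulo T (read through any homomorphism on S with kernel T). Then F is solvable if and only if E and D are solvable (solvable, for a system over a subgroup S: for every subgroup R other than S that is strongly closed in F, the factor system of F modulo R has a nontrivial subgroup normal in it). -/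
theorem result {Ω : Type*} [Group Ω] {S : Subgroup Ω} [Finite S] (p : ℕ) [Fact p.Prime] (hS : IsPGroup p S) (F : Cfsg.FusionSystem S) (hF : F.IsSaturated p) {T : Subgroup Ω} (E : Cfsg.FusionSystem T) (hE : E.IsNormalIn F p) {Ω' : Type*} [Group Ω'] {S' : Subgroup Ω'} (θ : S →* Ω') (D : Cfsg.FusionSystem S') (hD : F.IsFactorSystem T θ D) : F.IsSolvableSystem ↔ (E.IsSolvableSystem ∧ D.IsSolvableSystem) := by
  obtain ⟨⟨hEsat, -, hinv⟩, -⟩ := hE
  have hTsc : F.StronglyClosed T := hinv.2.1
  have hTS : T ≤ S := hTsc.1
  have hfinT : Finite T := finite_of_le' hTS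
  have hTp : IsPGroup p T := hS.to_le hTS
  have hθ := Cfsg.Agent.S5134.result p hS F hF T hTsc θ D hD
  have hDsat := Cfsg.Agent.S5133.result p hS F hF D θ hθ
  have hker := hD.2.1
  have hrange : θ.range = S' := hD.2.2.1
  have hθS' : ∀ s : S, θ s ∈ S' := hθ.1.1
  have hsurj : Function.Surjective (θ.codRestrict S' hθS') := by
    intro s'
    have : (s' : Ω') ∈ θ.range := by rw [hrange]; exact s'.2
    obtain ⟨s, hs⟩ := this
    exact ⟨s, Subtype.ext hs⟩
  have hfinS' : Finite S' := Finite.of_surjective _ hsurj
  have hS'p : IsPGroup p S' := hS.of_surjective _ hsurj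
  have hFiff : F.IsSolvableSystem ↔ ChainTo F.StronglyClosed ⊥ S :=
    Cfsg.Agent.S5157.result p hS F hF
  have hEiff : E.IsSolvableSystem ↔ ChainTo E.StronglyClosed ⊥ T :=
    Cfsg.Agent.S5157.result p hTp E hEsat
  have hDiff : D.IsSolvableSystem ↔ ChainTo D.StronglyClosed ⊥ S' :=
    Cfsg.Agent.S5157.result p hS'p D hDsat
  rw [hFiff, hEiff, hDiff]
  constructor
  · intro hch
    constructor
    · have h1 := chainTo_image (Good' := E.StronglyClosed) (fun Q => Q ⊓ T)
        (fun _ _ h => inf_le_inf_right T h)
        (fun Q hQ => ⟨inf_le_right, fun R hR φ hφ x =>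
          ⟨hQ.2 R (hR.trans inf_le_left) φ (hinv.1 R hφ) x, (E.le_of_mem hφ).2 x⟩⟩)
        (fun A B h => le_inf ((Subgroup.commutator_mono inf_le_left inf_le_left).trans h)
          ((Subgroup.commutator_mono inf_le_right inf_le_right).trans
            (Subgroup.commutator_le_self T))) hch
      have e1 : (⊥ : Subgroup Ω) ⊓ T = ⊥ := bot_inf_eq T
      have e2 : S ⊓ T = T := inf_of_le_right hTS
      rw [e1, e2] at h1
      exact h1
    · have h1 := chainTo_image (Good' := D.StronglyClosed) (imageAlong θ)
        (fun _ _ h => imageAlong_mono _ h)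
        (fun Q hQ' => stronglyClosed_imageAlong F D _ hθ hQ')
        (fun A B h => commutator_imageAlong_le _ h) hch
      rw [imageAlong_bot, imageAlong_self, hrange] at h1
      exact h1
  · rintro ⟨hEch, hDch⟩
    have h𝒜 : ∀ θ' ∈ {θ' : T →* Ω | ∃ α ∈ F.autGroup T, θ' = T.subtype.comp α.toMonoidHom},
        E.IsSurjectiveMorphism E θ' := by
      rintro _ ⟨α, hα, rfl⟩
      exact isSurjectiveMorphism_of_invariant E F hinv hα
    have hinvch := exists_invariant_chain p (Nat.card T) T hTp E hEsat hEch le_rfl _ h𝒜
    have h1 : ChainTo F.StronglyClosed ⊥ T := chainTo_image (Good' := F.StronglyClosed) id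
      monotone_id
      (fun U hU => stronglyClosed_of_invariant E F hinv hU.1 (fun α hα t ht =>
        hU.2 _ ⟨α, hα, rfl⟩ ⟨t, Subgroup.mem_subgroupOf.mpr ht, rfl⟩))
      (fun A B h => h) hinvch
    have h2 := chainTo_image (Good' := F.StronglyClosed) (preimageAlong θ)
      (fun _ _ h => preimageAlong_mono _ h)
      (fun W hW => stronglyClosed_preimageAlong p hS F hF D θ hθ.1 hTsc hker hW)
      (fun A B h => commutator_preimageAlong_le _ h) hDch
    have hpre_bot : preimageAlong θ ⊥ = T := by
      ext x
      constructor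
      · intro hx
        have hxS := preimageAlong_le _ _ hx
        have := (mem_preimageAlong hxS).mp hx
        rw [Subgroup.mem_bot] at this
        exact (hker ⟨x, hxS⟩).mp this
      · intro hx
        have hxS : x ∈ S := hTS hx
        rw [mem_preimageAlong hxS, Subgroup.mem_bot]
        exact (hker ⟨x, hxS⟩).mpr hx
    have hpre_top : preimageAlong θ S' = S := by
      apply le_antisymm (preimageAlong_le _ _)
      intro x hx
      rw [mem_preimageAlong hx]
      exact hθS' _
    rw [hpre_bot, hpre_top] at h2
    exact chainTo_trans h1 h2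

end Cfsg.Agent.S5159
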