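import Cfsg.Statements.S5160
import Cfsg.Agent.Lib.Helper9.FusionSimpleCrit
import Cfsg.Agent.S5076
import Cfsg.Agent.Lib.Helper9.FusionGroup2
-- import your own Cfsg.Agent.* helpers here

set_option autoImplicit false
open Cfsg

namespace Cfsg.Agent.S5160

open Cfsg.FusionSystem Cfsg.Agent.Lib.Helper9

/-- Let G be a finite group with nontrivial Sylow p-subgroup S and F its fusion system on S. Suppose (a) no nontrivial proper subgroup of S is strongly closed in F, and (b) the automorphisms of S induced by G are generated by those induced, for R running over the fully normalized radical centric subgroups of F, by the subgroup of N_G(R) generated by its elements of p-power order. Then F is simple. -/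
theorem result {G : Type*} [Group G] [Finite G] (p : ℕ) [Fact p.Prime] (S : Sylow p G) (hS1 : (S : Subgroup G) ≠ ⊥) (ha : ∀ T : Subgroup G, (Cfsg.groupFusionSystem (S : Subgroup G)).StronglyClosed T → T = ⊥ ∨ T = (S : Subgroup G)) (hb : Cfsg.autInducedBy ⊤ (S : Subgroup G) = ⨆ (R : Subgroup G) (_ : (Cfsg.groupFusionSystem (S : Subgroup G)).IsFullyNormalized R ∧ (Cfsg.groupFusionSystem (S : Subgroup G)).IsRadical p R ∧ (Cfsg.groupFusionSystem (S : Subgroup G)).IsCentric R), Cfsg.autInducedBy (Subgroup.closure {g : G | g ∈ Subgroup.normalizer (R : Set G) ∧ ∃ k : ℕ, orderOf g = p ^ k}) (S : Subgroup G)) : (Cfsg.groupFusionSystem (S : Subgroup G)).IsSimple p := by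
  have hFsat := Cfsg.Agent.S5076.result p S
  have hSp : IsPGroup p (S : Subgroup G) := S.isPGroup'
  refine ⟨hFsat, hS1, ?_⟩
  intro T E hE
  obtain ⟨⟨hEsat, -, hinv⟩, -⟩ := hE
  rcases ha T hinv.2.1 with h0 | hTS
  · left
    exact h0
  · right
    subst hTS
    refine ⟨rfl, fun P => ?_⟩
    apply Set.Subset.antisymm (hinv.1 P)
    intro φ hφ
    refine hom_le_of_autGroup_le _ E hinv ?_ P φ hφ
    intro α hα
    have hαF := (mem_autGroup_iff _ le_rfl α).mp hα
    obtain ⟨-, -, g, hg⟩ := hαF
    have hmem : α ∈ autInducedBy ⊤ (S : Subgroup G) :=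
      Subgroup.subset_closure ⟨g, Subgroup.mem_top g, hg⟩
    rw [hb] at hmem
    refine (?_ : _ ≤ E.autGroup (S : Subgroup G)) hmem
    apply iSup_le
    intro R
    apply iSup_le
    rintro ⟨hRfn, -, hRcen⟩
    have hRS : R ≤ (S : Subgroup G) := hRfn.1
    -- the elements of `N_G(R)` inducing an automorphism in `Aut_E(R)`
    have hK : Subgroup.closure {g : G | g ∈ Subgroup.normalizer (R : Set G) ∧
        ∃ k : ℕ, orderOf g = p ^ k} ≤
        ((E.autGroup R).comap (normConj R)).map (Subgroup.normalizer (R : Set G)).subtype := by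
      rw [Subgroup.closure_le]
      rintro g ⟨hgN, k, hk⟩
      refine ⟨⟨g, hgN⟩, ?_, rfl⟩
      show normConj R ⟨g, hgN⟩ ∈ E.autGroup R
      have hF : normConj R ⟨g, hgN⟩ ∈ (Cfsg.groupFusionSystem (S : Subgroup G)).autGroup R := by
        rw [mem_autGroup_iff _ hRS]
        exact ⟨hRS, fun x => hRS (normConj R ⟨g, hgN⟩ x).2, g, fun x => rfl⟩
      have hpow : (normConj R ⟨g, hgN⟩) ^ p ^ k = 1 := by
        rw [← map_pow]
        have : (⟨g, hgN⟩ : ↥(Subgroup.normalizer (R : Set G))) ^ p ^ k = 1 := by
          apply Subtype.ext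
          show g ^ p ^ k = 1
          rw [← hk]
          exact pow_orderOf_eq_one g
        rw [this, map_one]
      exact pElem_mem_autGroup p hSp _ hFsat E hinv hRfn hF hpow
    unfold autInducedBy
    rw [Subgroup.closure_le]
    rintro β ⟨g, hgK, hg⟩
    obtain ⟨n, hn, rfl⟩ := hK hgK
    have hnE : normConj R n ∈ E.autGroup R := hn
    have hψ : (S : Subgroup G).subtype.comp β.toMonoidHom ∈
        (Cfsg.groupFusionSystem (S : Subgroup G)).Hom (S : Subgroup G) :=
      ⟨le_rfl, fun x => (β x).2, _, hg⟩
    have hres : ((S : Subgroup G).subtype.comp β.toMonoidHom).comp (Subgroup.inclusion hRS) =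
        R.subtype.comp (normConj R n).toMonoidHom := by
      ext x
      show ((β ⟨x, hRS x.2⟩ : (S : Subgroup G)) : G) = ((normConj R n x : R) : G)
      rw [hg, normConj_apply]
      rfl
    have h1 : ((S : Subgroup G).subtype.comp β.toMonoidHom).comp (Subgroup.inclusion hRS) ∈
        E.Hom R := by
      rw [hres]
      exact (mem_autGroup_iff E hRS _).mp hnE
    have h2 := mem_subsystem_of_restrict_centric p hSp _ hFsat E hEsat (fun P => hinv.1 P) hRS
      hRcen hψ h1
    exact Subgroup.subset_closure h2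

end Cfsg.Agent.S5160
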