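import Cfsg.Statements.S5164
import Cfsg.Agent.Lib.Helper9.AltSylow
-- import your own Cfsg.Agent.* helpers here

set_option autoImplicit false
open Cfsg

namespace Cfsg.Agent.S5164

open Cfsg.FusionSystem Cfsg.Agent.Lib.Helper9

/-- For n ≥ 6 and a prime p, a nontrivial Sylow p-subgroup of the alternating group of degree n is abelian if and only if n < p². -/
theorem result (n p : ℕ) (hn : 6 ≤ n) [Fact p.Prime] (S : Sylow p (alternatingGroup (Fin n))) (hS : (S : Subgroup (alternatingGroup (Fin n))) ≠ ⊥) : IsMulCommutative S ↔ n < p ^ 2 := by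
  constructor
  · intro hc
    by_contra hlt
    exact not_comm_sylow_alt p hn (not_lt.mp hlt) S hc
  · intro hlt
    refine ⟨⟨fun a b => ?_⟩⟩
    have hQ : IsPGroup p ((S : Subgroup (alternatingGroup (Fin n))).map
        (alternatingGroup (Fin n)).subtype) := S.2.map _
    have h1 := comm_of_isPGroup_perm_of_card_lt p _ hQ (by rw [Fintype.card_fin]; exact hlt)
      ((a : alternatingGroup (Fin n)) : Equiv.Perm (Fin n)) ((b : alternatingGroup (Fin n)) : Equiv.Perm (Fin n))
      ⟨a, a.2, rfl⟩ ⟨b, b.2, rfl⟩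
    exact Subtype.ext (Subtype.ext h1)

end Cfsg.Agent.S5164
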