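import Cfsg.Statements.S5198
import Cfsg.Agent.Lib.Helper9.FusionFactorAut
import Cfsg.Agent.Lib.Helper9.FusionHyp2
import Cfsg.Agent.Lib.Helper9.FusionTExt2
import Cfsg.Agent.Lib.Helper9.FusionRestrict
import Cfsg.Agent.Lib.Helper9.FusionChain2
import Cfsg.Agent.Lib.Helper9.PowTrick
-- import your own Cfsg.Agent.* helpers here

set_option autoImplicit false
open Cfsg

namespace Cfsg.Agent.S5198

open Cfsg.FusionSystem Cfsg.Agent.Lib.Helper9

/-- The elements of the ambient group acting on `T` as an element of a subgroup `N` of `Aut(T)`. -/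
def actSub {Ω : Type*} [Group Ω] (T : Subgroup Ω) (N : Subgroup (MulAut T)) : Subgroup Ω where
  carrier := {x | ∃ α ∈ N, ∀ t : T, ((α t : T) : Ω) = x * (t : Ω) * x⁻¹}
  one_mem' := ⟨1, N.one_mem, fun t => by simp⟩
  mul_mem' := by
    rintro x y ⟨a, ha, hax⟩ ⟨b, hb, hby⟩
    refine ⟨a * b, N.mul_mem ha hb, fun t => ?_⟩
    show ((a (b t) : T) : Ω) = _
    rw [hax, hby]
    group
  inv_mem' := by
    rintro x ⟨a, ha, hax⟩
    refine ⟨a⁻¹, N.inv_mem ha, fun t => ?_⟩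
    have e0 : a (a⁻¹ t) = t := MulEquiv.apply_symm_apply _ _
    have h1 := hax (a⁻¹ t)
    rw [e0] at h1
    rw [h1]
    group

theorem ext_pow {Ω : Type*} [Group Ω] {S : Subgroup Ω} (F : Cfsg.FusionSystem S)
    {T P : Subgroup Ω} (hT : F.StronglyClosed T) (hPTS : P ⊔ T ≤ S) (α : MulAut P)
    (ψ : MulAut ↥(P ⊔ T)) (hψ : ψ ∈ F.autGroup (P ⊔ T))
    (h : ∀ x : P, ((α x : P) : Ω)⁻¹ * ((ψ (Subgroup.inclusion le_sup_left x) : ↥(P ⊔ T)) : Ω) ∈ T)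
    (k : ℕ) :
    ∀ x : P, (((α ^ k) x : P) : Ω)⁻¹ *
      (((ψ ^ k) (Subgroup.inclusion le_sup_left x) : ↥(P ⊔ T)) : Ω) ∈ T := by
  induction k with
  | zero =>
    intro x
    show (x : Ω)⁻¹ * (x : Ω) ∈ T
    rw [inv_mul_cancel]
    exact T.one_mem
  | succ k ih =>
    intro x
    rw [pow_succ, pow_succ]
    show (((α ^ k) (α x) : P) : Ω)⁻¹ *
      (((ψ ^ k) (ψ (Subgroup.inclusion le_sup_left x)) : ↥(P ⊔ T)) : Ω) ∈ T
    have hτ : ∃ τ : ↥(P ⊔ T), (τ : Ω) ∈ T ∧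
        ψ (Subgroup.inclusion le_sup_left x) = Subgroup.inclusion le_sup_left (α x) * τ := by
      refine ⟨(Subgroup.inclusion le_sup_left (α x))⁻¹ * ψ (Subgroup.inclusion le_sup_left x),
        h x, ?_⟩
      group
    obtain ⟨τ, hτT, hτ⟩ := hτ
    rw [hτ, map_mul]
    have h1 := ih (α x)
    have h2 : ((((ψ ^ k) τ : ↥(P ⊔ T))) : Ω) ∈ T :=
      aut_mem_of_stronglyClosed F hPTS hT (Subgroup.pow_mem _ hψ k) τ hτT
    have e : (((α ^ k) (α x) : P) : Ω)⁻¹ *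
        (((ψ ^ k) (Subgroup.inclusion le_sup_left (α x)) * (ψ ^ k) τ : ↥(P ⊔ T)) : Ω) =
        ((((α ^ k) (α x) : P) : Ω)⁻¹ *
          (((ψ ^ k) (Subgroup.inclusion le_sup_left (α x)) : ↥(P ⊔ T)) : Ω)) *
          ((((ψ ^ k) τ : ↥(P ⊔ T))) : Ω) := by
      rw [Subgroup.coe_mul, mul_assoc]
    rw [e]
    exact T.mul_mem h1 h2

theorem gen_mem {Ω : Type*} [Group Ω] {S : Subgroup Ω} [Finite S] (p : ℕ) [Fact p.Prime] (hS : IsPGroup p S) (F : Cfsg.FusionSystem S) (hF : F.IsSaturated p) (T : Subgroup Ω) (hT : F.StronglyClosed T)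
    (P : Subgroup Ω) (hPS : P ≤ S) (α : MulAut P) (hα : α ∈ F.autGroup P)
    (hord : Nat.Coprime (orderOf α) p) (x : P) :
    (x : Ω)⁻¹ * ((α x : P) : Ω) ∈ actSub T ((Cfsg.pResidual p ↥(F.autGroup T)).map (F.autGroup T).subtype ⊔ Cfsg.Inn ↥T : Subgroup (MulAut ↥T)) := by
  have hPTS : P ⊔ T ≤ S := sup_le hPS hT.1
  haveI hfinPT : Finite ↥(P ⊔ T) := finite_of_le' hPTS
  have hφ := (mem_autGroup_iff F hPS α).mp hα
  obtain ⟨ψ, hψ, hψx⟩ := exists_ext_mod_stronglyClosed p hS F hF hT hφ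
  -- ψ preserves P ⊔ T
  have hPle : P ≤ P ⊔ T := le_sup_left
  have hTle : T ≤ P ⊔ T := le_sup_right
  have hK : P ⊔ T ≤ ((P ⊔ T).comap ψ).map (P ⊔ T).subtype := by
    apply sup_le
    · intro y hy
      refine ⟨⟨y, hPle hy⟩, ?_, rfl⟩
      show ψ ⟨y, hPle hy⟩ ∈ P ⊔ T
      have h1 := hψx ⟨y, hy⟩
      have e : ψ ⟨y, hPle hy⟩ = ((α ⟨y, hy⟩ : P) : Ω) *
          (((α ⟨y, hy⟩ : P) : Ω)⁻¹ * ψ (Subgroup.inclusion le_sup_left ⟨y, hy⟩)) := by
        rw [mul_inv_cancel_left]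
        rfl
      rw [e]
      exact Subgroup.mul_mem _ (hPle (α ⟨y, hy⟩).2) (hTle h1)
    · intro t ht
      refine ⟨⟨t, hTle ht⟩, ?_, rfl⟩
      show ψ ⟨t, hTle ht⟩ ∈ P ⊔ T
      exact hTle (map_mem_of_stronglyClosed F hT hψ _ ht)
  have hval : ∀ y : ↥(P ⊔ T), ψ y ∈ P ⊔ T := by
    intro y
    obtain ⟨y', hy', hyy'⟩ := hK y.2
    have : y' = y := Subtype.ext hyy'
    rw [← this]
    exact hy'
  obtain ⟨ψ', hψ', hψ'x⟩ := exists_aut_of_hom_self F hψ hval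
  have hψ'α : ∀ x : P, ((α x : P) : Ω)⁻¹ *
      ((ψ' (Subgroup.inclusion le_sup_left x) : ↥(P ⊔ T)) : Ω) ∈ T := by
    intro x
    rw [hψ'x]
    exact hψx x
  obtain ⟨k, hk1, hkord⟩ := exists_pow_coprime_modEq p ψ' (orderOf α) hord
  have hαk : α ^ k = α := pow_eq_self_of_modEq α (pow_orderOf_eq_one α) hk1
  have hβ : ψ' ^ k ∈ F.autGroup (P ⊔ T) := Subgroup.pow_mem _ hψ' k
  have hβα := ext_pow F hT hPTS α ψ' hψ' hψ'α k
  rw [hαk] at hβα
  -- restrict to T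
  obtain ⟨γ, hγ, hγx⟩ := exists_restrict_aut F hPTS (le_sup_right : T ≤ P ⊔ T) hβ
    (fun y hy => aut_mem_of_stronglyClosed F hPTS hT hβ y hy)
  have hγpow : γ ^ orderOf (ψ' ^ k) = 1 := by
    ext t
    rw [restrict_aut_pow (le_sup_right : T ≤ P ⊔ T) (ψ' ^ k) γ hγx, pow_orderOf_eq_one]
    rfl
  have hγord : Nat.Coprime (orderOf γ) p :=
    Nat.Coprime.coprime_dvd_left (orderOf_dvd_of_pow_eq_one hγpow) hkord
  have hγres : (⟨γ, hγ⟩ : F.autGroup T) ∈ pResidual p (F.autGroup T) := by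
    apply Subgroup.subset_closure
    show Nat.Coprime (orderOf (⟨γ, hγ⟩ : F.autGroup T)) p
    rw [← Subgroup.orderOf_coe]
    exact hγord
  -- conjugation by x on T
  have hxN : (x : Ω) ∈ Subgroup.normalizer (T : Set Ω) :=
    le_normalizer_of_stronglyClosed F hT (hPS x.2)
  have hcx : normConj T ⟨x, hxN⟩ ∈ F.autGroup T := by
    apply autInducedBy_le_autGroup F hT.1
    rw [autInducedBy_eq_map]
    exact ⟨⟨x, hxN⟩, Subgroup.mem_subgroupOf.mpr (hPS x.2), rfl⟩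
  have hq : (⟨normConj T ⟨x, hxN⟩, hcx⟩ : F.autGroup T)⁻¹ * ⟨γ, hγ⟩ *
      (⟨normConj T ⟨x, hxN⟩, hcx⟩ : F.autGroup T)⁻¹⁻¹ * (⟨γ, hγ⟩ : F.autGroup T)⁻¹ ∈
      pResidual p (F.autGroup T) :=
    Subgroup.mul_mem _ ((pResidual_normal p).conj_mem _ hγres _) (Subgroup.inv_mem _ hγres)
  -- the element τ
  have hb : (((ψ' ^ k) (Subgroup.inclusion le_sup_left x) : ↥(P ⊔ T)) : Ω) ∈ S :=
    hPTS ((ψ' ^ k) (Subgroup.inclusion le_sup_left x)).2
  have hτ := hβα x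
  refine ⟨(normConj T ⟨x, hxN⟩)⁻¹ * γ * (normConj T ⟨x, hxN⟩) * γ⁻¹ *
    (MulAut.conj (⟨_, hτ⟩ : T))⁻¹, ?_, ?_⟩
  · apply Subgroup.mul_mem_sup
    · refine ⟨_, hq, ?_⟩
      simp
    · exact Subgroup.inv_mem _ ⟨_, rfl⟩
  · intro t
    -- evaluate
    have e1 : ∀ t : T, (((MulAut.conj (⟨_, hτ⟩ : T))⁻¹ t : T) : Ω) =
        (((α x : P) : Ω)⁻¹ *
          (((ψ' ^ k) (Subgroup.inclusion le_sup_left x) : ↥(P ⊔ T)) : Ω))⁻¹ * (t : Ω) *
        (((α x : P) : Ω)⁻¹ *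
          (((ψ' ^ k) (Subgroup.inclusion le_sup_left x) : ↥(P ⊔ T)) : Ω)) := by
      intro t
      rw [← map_inv, MulAut.conj_apply]
      simp
    have e2 : ∀ t : T, (((normConj T ⟨x, hxN⟩)⁻¹ t : T) : Ω) = (x : Ω)⁻¹ * (t : Ω) * (x : Ω) := by
      intro t
      rw [← map_inv, normConj_apply]
      simp
    have e3 : ∀ t : T, ((γ (normConj T ⟨x, hxN⟩ t) : T) : Ω) =
        (((ψ' ^ k) (Subgroup.inclusion le_sup_left x) : ↥(P ⊔ T)) : Ω) * ((γ t : T) : Ω) *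
        (((ψ' ^ k) (Subgroup.inclusion le_sup_left x) : ↥(P ⊔ T)) : Ω)⁻¹ := by
      intro t
      rw [hγx, hγx]
      have : Subgroup.inclusion (le_sup_right : T ≤ P ⊔ T) (normConj T ⟨x, hxN⟩ t) =
          Subgroup.inclusion le_sup_left x * Subgroup.inclusion (le_sup_right : T ≤ P ⊔ T) t *
            (Subgroup.inclusion le_sup_left x)⁻¹ := by
        apply Subtype.ext
        show ((normConj T ⟨x, hxN⟩ t : T) : Ω) = _
        rw [normConj_apply]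
        rfl
      rw [this, map_mul, map_mul, map_inv]
      rfl
    show (((normConj T ⟨x, hxN⟩)⁻¹ (γ ((normConj T ⟨x, hxN⟩) (γ⁻¹
      ((MulAut.conj (⟨_, hτ⟩ : T))⁻¹ t)))) : T) : Ω) = _
    rw [e2, e3]
    have e0 : γ (γ⁻¹ ((MulAut.conj (⟨_, hτ⟩ : T))⁻¹ t)) = (MulAut.conj (⟨_, hτ⟩ : T))⁻¹ t :=
      MulEquiv.apply_symm_apply _ _
    rw [e0, e1]
    group

/-- Let F be a saturated fusion system over a finite p-group S and T a subgroup of S strongly closed in F (so T is normal in S). Then every element x of the hyperfocal subgroup of F acts on T by conjugation as an element of O^p(Aut_F(T))·Inn(T): there is an automorphism of T in the subgroup generated by the elements of Aut_F(T) of order prime to p together with the inner automorphisms of T that agrees with conjugation by x. -/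
theorem result {Ω : Type*} [Group Ω] {S : Subgroup Ω} [Finite S] (p : ℕ) [Fact p.Prime] (hS : IsPGroup p S) (F : Cfsg.FusionSystem S) (hF : F.IsSaturated p) (T : Subgroup Ω) (hT : F.StronglyClosed T) : ∀ x ∈ F.hyperfocalSubgroup p, ∃ α ∈ ((Cfsg.pResidual p ↥(F.autGroup T)).map (F.autGroup T).subtype ⊔ Cfsg.Inn ↥T : Subgroup (MulAut ↥T)), ∀ t : ↥T, ((α t : ↥T) : Ω) = x * (t : Ω) * x⁻¹ := by
  intro x hx
  exact hyperfocal_le_of_gen F p _ (gen_mem p hS F hF T hT) hx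

end Cfsg.Agent.S5198
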