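import Cfsg.Statements.S5199
import Cfsg.Agent.S5082
import Cfsg.Agent.Lib.Helper9.FusionFull
import Cfsg.Agent.Lib.Helper9.FusionHyp
-- import your own Cfsg.Agent.* helpers here

set_option autoImplicit false
open Cfsg

namespace Cfsg.Agent.S5199

open Cfsg.FusionSystem Cfsg.Agent.Lib.Helper9

/-- Let F be a saturated fusion system over a finite p-group S, E a normal subsystem of F over T, and F₀ a normal subsystem of F over a subgroup U containing both T and the hyperfocal subgroup of F, such that F₀ has p-power index in F. Then E is a subsystem of F₀. -/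
theorem result {Ω : Type*} [Group Ω] {S : Subgroup Ω} [Finite S] (p : ℕ) [Fact p.Prime] (hS : IsPGroup p S) (F : Cfsg.FusionSystem S) (hF : F.IsSaturated p) {T U : Subgroup Ω} (E : Cfsg.FusionSystem T) (hE : E.IsNormalIn F p) (F₀ : Cfsg.FusionSystem U) (hF₀ : F₀.IsNormalIn F p) (hU : T ⊔ F.hyperfocalSubgroup p ≤ U) (hidx : F₀.HasPPowerIndexIn F p) : E.IsSubsystemOf F₀ := by
  obtain ⟨hEsat, -, hEF, hTsc, -, -⟩ := hE.1
  have hTS : T ≤ S := hTsc.1
  have hTU : T ≤ U := le_sup_left.trans hU
  have hUS : U ≤ S := hF₀.1.2.2.2.1.1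
  haveI hfinT : Finite T := finite_of_le' hTS
  have hTp : IsPGroup p T := hS.to_le hTS
  have key : E ≤ fullSub F₀ T hTU := by
    apply Cfsg.Agent.S5082.result p hTp E hEsat
    intro P hP
    have hPT : P ≤ T := by
      rcases hP with rfl | hess
      · exact le_rfl
      · exact hess.1.1
    have hPU : P ≤ U := hPT.trans hTU
    have hfn : E.IsFullyNormalized P := by
      rcases hP with rfl | hess
      · exact isFullyNormalized_top E
      · exact hess.2.1
    obtain ⟨-, hfa⟩ := sat_fullyNormalized p hTp E hEsat hfn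
    obtain ⟨Rs, hRs⟩ := hfa.2
    haveI hfinP : Finite P := finite_of_le' (hPT.trans hTS)
    rw [fullSub_autGroup F₀ T hTU hPT]
    -- the p'-part
    have hres : pResidual p (E.autGroup P) ≤ (F₀.autGroup P).subgroupOf (E.autGroup P) := by
      unfold pResidual
      rw [Subgroup.closure_le]
      intro ρ hρ
      rw [SetLike.mem_coe, Subgroup.mem_subgroupOf]
      have hρord : Nat.Coprime (orderOf (ρ : MulAut P)) p := by
        rw [Subgroup.orderOf_coe]; exact hρ
      have hρF : (ρ : MulAut P) ∈ F.autGroup P := by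
        rw [mem_autGroup_iff F (hPT.trans hTS)]
        exact hEF P ((mem_autGroup_iff E hPT _).mp ρ.2)
      have hρres : (⟨(ρ : MulAut P), hρF⟩ : F.autGroup P) ∈ pResidual p (F.autGroup P) := by
        apply Subgroup.subset_closure
        show Nat.Coprime (orderOf (⟨(ρ : MulAut P), hρF⟩ : F.autGroup P)) p
        rw [← Subgroup.orderOf_coe]
        exact hρord
      exact hidx.2.2 P hPU ⟨_, hρres, rfl⟩
    intro α hα
    obtain ⟨r, hr, σ, hσ, hασ⟩ := exists_mul_pResidual_sylow p Rs ⟨α, hα⟩
    have hα' : α = (r : MulAut P) * (σ : MulAut P) := congrArg Subtype.val hασ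
    rw [hα']
    apply Subgroup.mul_mem
    · exact Subgroup.mem_subgroupOf.mp (hres hr)
    · have hσ' : σ ∈ (Rs : Subgroup (E.autGroup P)) := hσ
      rw [hRs] at hσ'
      have h1 : (σ : MulAut P) ∈ autInducedBy T P := Subgroup.mem_subgroupOf.mp hσ'
      have h2 : autInducedBy T P ≤ autInducedBy U P := by
        unfold autInducedBy
        apply Subgroup.closure_mono
        rintro β ⟨g, hg, hβ⟩
        exact ⟨g, hTU hg, hβ⟩
      exact autInducedBy_le_autGroup F₀ hPU (h2 h1)
  intro P φ hφ
  exact (key P hφ).1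

end Cfsg.Agent.S5199
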