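import Cfsg.Statements.S5223
import Cfsg.Agent.Lib.Helper9.FusionInner

set_option autoImplicit false
open Cfsg

namespace Cfsg.Agent.S5223

open Cfsg.Agent.Lib.Helper9 Cfsg.FusionSystem

/-- Let F be a saturated fusion system over a finite p-group S. Suppose there are subgroups Q₀ = S, Q₁, …, Qₙ = 1 (not required to be nested) such that for each i < n the focal subgroup of Qᵢ (generated by the elements x⁻¹φ(x), x ∈ Qᵢ, φ a map of F defined on the cyclic group generated by x) lies in Qᵢ₊₁. Then F is the inner fusion system of S. -/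
theorem result {Ω : Type*} [Group Ω] {S : Subgroup Ω} [Finite S] (p : ℕ) [Fact p.Prime] (hS : IsPGroup p S) (F : Cfsg.FusionSystem S) (hF : F.IsSaturated p) (n : ℕ) (Q : Fin (n + 1) → Subgroup Ω) (hQ0 : Q 0 = S) (hQn : Q (Fin.last n) = ⊥) (hstep : ∀ i : Fin n, Subgroup.closure {y : Ω | ∃ x ∈ Q i.castSucc, ∃ φ ∈ F.Hom (Subgroup.zpowers x), y = x⁻¹ * φ ⟨x, Subgroup.mem_zpowers x⟩} ≤ Q i.succ) : ∀ P : Subgroup Ω, F.Hom P = (Cfsg.innerFusionSystem S).Hom P := by
  apply eq_inner_of_autGroup_pgroup p hS F hF
  intro P hP
  have hPS : P ≤ S := by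
    rcases hP with rfl | hess
    · exact le_rfl
    · exact hess.1.1
  have hfinP : Finite P := finite_of_le' hPS
  have hfinA : Finite (MulAut P) := inferInstance
  -- p'-elements are trivial
  have key : ∀ β ∈ F.autGroup P, Nat.Coprime (orderOf β) p → β = 1 := by
    intro β hβ hcop
    have hφ := (mem_autGroup_iff F hPS β).mp hβ
    have hfix : ∀ i : Fin (n + 1), ∀ x : P, (x : Ω) ∈ Q i → β x = x := by
      intro i
      induction i using Fin.reverseInduction with
      | last =>
        intro x hx
        rw [hQn, Subgroup.mem_bot] at hx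
        have : x = 1 := Subtype.ext hx
        rw [this, map_one]
      | cast i ih =>
        intro x hx
        have hzle : Subgroup.zpowers (x : Ω) ≤ P := by
          rw [Subgroup.zpowers_le]; exact x.2
        have hgen : (x : Ω)⁻¹ * ((β x : P) : Ω) ∈ Q i.succ := by
          apply hstep i
          apply Subgroup.subset_closure
          exact ⟨x, hx, _, restrict_mem F hφ hzle, rfl⟩
        have hy : β (x⁻¹ * β x) = x⁻¹ * β x := ih (x⁻¹ * β x) (by push_cast; exact hgen)
        have hpow : ∀ k : ℕ, (β ^ k) x = x * (x⁻¹ * β x) ^ k := by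
          intro k
          induction k with
          | zero => simp
          | succ k ihk =>
            rw [pow_succ]
            show (β ^ k) (β x) = _
            have h1 : β x = x * (x⁻¹ * β x) := by group
            have hfixk : ∀ j : ℕ, (β ^ j) (x⁻¹ * β x) = x⁻¹ * β x := by
              intro j
              induction j with
              | zero => simp
              | succ j ihj =>
                rw [pow_succ]
                show (β ^ j) (β (x⁻¹ * β x)) = _
                rw [hy, ihj]
            rw [h1, map_mul, ihk, hfixk, pow_succ]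
            group
        have h2 := hpow (orderOf β)
        rw [pow_orderOf_eq_one] at h2
        have h3 : (x⁻¹ * β x) ^ orderOf β = 1 := by
          have : x = x * (x⁻¹ * β x) ^ orderOf β := h2
          exact mul_left_cancel (a := x) (by rw [mul_one]; exact this.symm)
        have hPp : IsPGroup p P := hS.to_le hPS
        obtain ⟨j, hj⟩ := hPp (x⁻¹ * β x)
        have h4 : orderOf (x⁻¹ * β x) ∣ orderOf β := orderOf_dvd_of_pow_eq_one h3
        have h5 : orderOf (x⁻¹ * β x) ∣ p ^ j := orderOf_dvd_of_pow_eq_one hj
        have h6 : orderOf (x⁻¹ * β x) = 1 :=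
          Nat.eq_one_of_dvd_coprimes (hcop.pow_right j) h4 h5
        have h7 : x⁻¹ * β x = 1 := orderOf_eq_one_iff.mp h6
        calc β x = x * (x⁻¹ * β x) := by group
          _ = x := by rw [h7, mul_one]
    ext x
    have := hfix 0 x (by rw [hQ0]; exact hPS x.2)
    rw [this]; rfl
  intro α
  refine ⟨(orderOf (α : MulAut P)).factorization p, ?_⟩
  have hcop : Nat.Coprime (orderOf ((α : MulAut P) ^ p ^ (orderOf (α : MulAut P)).factorization p)) p := by
    have hp : Fact p.Prime := inferInstance
    have hpos : orderOf (α : MulAut P) ≠ 0 := (orderOf_pos (α : MulAut P)).ne'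
    rw [orderOf_pow' _ (pow_ne_zero _ hp.out.ne_zero),
      Nat.gcd_eq_right (Nat.ordProj_dvd (orderOf (α : MulAut P)) p)]
    exact (Nat.coprime_ordCompl hp.out hpos).symm
  have h1 := key _ ((F.autGroup P).pow_mem α.2 _) hcop
  exact Subtype.ext h1

end Cfsg.Agent.S5223
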