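import Cfsg.Statements.S5226
import Cfsg.Agent.S5088
import Cfsg.Agent.Lib.Helper9.FusionChain3

set_option autoImplicit false
open Cfsg

namespace Cfsg.Agent.S5226

open Cfsg.Agent.Lib.Helper9 Cfsg.FusionSystem
open scoped commutatorElement

/-- Let F be a saturated fusion system over a finite p-group S and Q a subgroup of S. Then Q is normal in F (F equals the normalizer system of Q) if and only if Q is strongly closed in F and admits a central series 1 = Q₀ ≤ Q₁ ≤ ⋯ ≤ Qₙ = Q ([Qᵢ₊₁, Q] ≤ Qᵢ) all of whose proper terms are weakly closed in F. -/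
theorem result {Ω : Type*} [Group Ω] {S : Subgroup Ω} [Finite S] (p : ℕ) [Fact p.Prime] (hS : IsPGroup p S) (F : Cfsg.FusionSystem S) (hF : F.IsSaturated p) (Q : Subgroup Ω) : F.IsNormal Q ↔ F.StronglyClosed Q ∧ ∃ (n : ℕ) (C : Fin (n + 1) → Subgroup Ω), C 0 = ⊥ ∧ C (Fin.last n) = Q ∧ Monotone C ∧ (∀ i : Fin n, ⁅C i.succ, Q⁆ ≤ C i.castSucc) ∧ ∀ i : Fin n, F.WeaklyClosed (C i.castSucc) := by
  constructor
  · intro hQ
    have hQsc := ((Cfsg.Agent.S5086.result p hS F hF Q).mp hQ).1
    refine ⟨hQsc, ?_⟩
    obtain ⟨n, Qs, h0, hlast, hmono, hstep⟩ := (Cfsg.Agent.S5088.result p hS F hF Q).mp hQ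
    refine ⟨n, Qs, h0, hlast, hmono, fun i => ?_, fun i => ?_⟩
    · rw [Subgroup.commutator_comm]
      exact (hstep i).2
    · rcases Fin.eq_zero_or_eq_succ i.castSucc with h | ⟨j, h⟩
      · rw [h, h0]
        exact weaklyClosed_of_stronglyClosed F (stronglyClosed_bot F)
      · rw [h]
        exact weaklyClosed_of_stronglyClosed F (hstep j).1
  · rintro ⟨hQsc, n, C, h0, hlast, hmono, hcomm, hwc⟩
    rw [Cfsg.Agent.S5086.result p hS F hF Q]
    refine ⟨hQsc, ?_⟩
    intro P hcen hrad
    have hPS := hcen.1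
    have hQS := hQsc.1
    obtain ⟨Cn, hCn⟩ : ∃ Cn : ℕ → Subgroup Ω,
        Cn = fun k => if h : k < n + 1 then C ⟨k, h⟩ else ⊤ := ⟨_, rfl⟩
    have hCnlt : ∀ k (h : k < n + 1), Cn k = C ⟨k, h⟩ := by
      intro k h; rw [hCn]; simp [h]
    have hCn0 : Cn 0 = ⊥ := by rw [hCnlt 0 (Nat.succ_pos n)]; exact h0
    have hCnn : Cn n = Q := by rw [hCnlt n (Nat.lt_succ_self n)]; exact hlast
    have hCnmono : ∀ k k', k ≤ k' → k' ≤ n → Cn k ≤ Cn k' := by
      intro k k' hkk' hk'
      rw [hCnlt k (by omega), hCnlt k' (by omega)]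
      exact hmono (by simpa using hkk')
    have hCnwc : ∀ k, k < n → F.WeaklyClosed (Cn k) := by
      intro k hk
      rw [hCnlt k (by omega)]
      exact hwc ⟨k, hk⟩
    have hCncomm : ∀ k, k < n → ⁅Cn (k + 1), Q⁆ ≤ Cn k := by
      intro k hk
      rw [hCnlt k (by omega), hCnlt (k + 1) (by omega)]
      exact hcomm ⟨k, hk⟩
    have hCnQ : ∀ k, k ≤ n → Cn k ≤ Q := by
      intro k hk
      rw [← hCnn]
      exact hCnmono k n hk le_rfl
    have key : ∀ j, j ≤ n → Cn j ≤ P := by
      intro j
      induction j with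
      | zero => intro _; rw [hCn0]; exact bot_le
      | succ j ih =>
        intro hj
        have hjn : j < n := hj
        have hCjP : Cn j ≤ P := ih hjn.le
        have hCiP : ∀ i, i ≤ j → Cn i ≤ P := fun i hi => (hCnmono i j hi hjn.le).trans hCjP
        have hnorm : S ≤ Subgroup.normalizer ((Cn (j + 1) : Subgroup Ω) : Set Ω) := by
          rcases Nat.lt_or_ge (j + 1) n with h | h
          · exact le_normalizer_of_weaklyClosed F (hCnwc (j + 1) h)
          · have : j + 1 = n := by omega
            rw [this, hCnn]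
            exact le_normalizer_of_stronglyClosed F hQsc
        have hCS : Cn (j + 1) ≤ S := (hCnQ (j + 1) hj).trans hQS
        apply le_of_forall_mem_normalizer_mem p hS hPS hCS (hPS.trans hnorm)
        intro b hbC hbN
        have hbQ : b ∈ Q := hCnQ (j + 1) hj hbC
        obtain ⟨R, hRdef⟩ : ∃ R : ℕ → Subgroup P, R = fun k =>
            if k ≤ j then (Cn k).subgroupOf P else if k = j + 1 then Q.subgroupOf P else ⊤ :=
          ⟨_, rfl⟩
        have hRle : ∀ k, k ≤ j → R k = (Cn k).subgroupOf P := by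
          intro k hk; rw [hRdef]; simp [hk]
        have hRj1 : R (j + 1) = Q.subgroupOf P := by
          rw [hRdef]; simp
        have hRge : ∀ k, j + 2 ≤ k → R k = ⊤ := by
          intro k hk
          have h1 : ¬ k ≤ j := by omega
          have h2 : k ≠ j + 1 := by omega
          rw [hRdef]; simp [h1, h2]
        have hRinv : ∀ α ∈ F.autGroup P, ∀ k, ∀ x ∈ R k, α x ∈ R k := by
          intro α hα k x hx
          rcases Nat.lt_or_ge j k with hk | hk
          · rcases Nat.lt_or_ge (j + 1) k with hk' | hk'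
            · rw [hRge k hk']; exact Subgroup.mem_top _
            · have : k = j + 1 := by omega
              subst this
              rw [hRj1] at hx ⊢
              exact Subgroup.mem_subgroupOf.mpr
                (aut_mem_of_stronglyClosed F hPS hQsc hα x (Subgroup.mem_subgroupOf.mp hx))
          · rw [hRle k hk] at hx ⊢
            exact Subgroup.mem_subgroupOf.mpr
              (aut_mem_of_weaklyClosed F hPS (hCnwc k (by omega)) (hCiP k hk) hα x
                (Subgroup.mem_subgroupOf.mp hx))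
        have hR0 : R 0 = ⊥ := by
          rw [hRle 0 (Nat.zero_le j), hCn0]
          ext x
          rw [Subgroup.mem_subgroupOf, Subgroup.mem_bot, Subgroup.mem_bot]
          exact ⟨fun h => Subtype.ext h, fun h => by rw [h]; rfl⟩
        apply mem_of_stabilizes_chain p hS F hcen hrad R (j + 2) (hRge (j + 2) le_rfl) hR0 hRinv
          (hQS hbQ) hbN
        intro k x hx
        rcases Nat.lt_or_ge j k with hk | hk
        · rcases Nat.lt_or_ge (j + 1) k with hk' | hk'
          · rw [hRge k hk']; exact Subgroup.mem_top _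
          · have : k = j + 1 := by omega
            subst this
            rw [hRj1, Subgroup.mem_subgroupOf]
            show (x : Ω)⁻¹ * (b * (x : Ω) * b⁻¹) ∈ Q
            have h5 := conj_mem_of_stronglyClosed F hQsc (hPS (Subgroup.inv_mem _ x.2)) hbQ
            have h6 : (x : Ω)⁻¹ * (b * (x : Ω) * b⁻¹) =
                ((x : Ω)⁻¹ * b * ((x : Ω)⁻¹)⁻¹) * b⁻¹ := by group
            rw [h6]
            exact Q.mul_mem h5 (Q.inv_mem hbQ)
        · rw [hRle k hk, Subgroup.mem_subgroupOf]
          show (x : Ω)⁻¹ * (b * (x : Ω) * b⁻¹) ∈ Cn k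
          rcases Nat.lt_or_ge k j with hk' | hk'
          · -- x ∈ Cn (k+1), k + 1 ≤ j
            rw [hRle (k + 1) hk'] at hx
            have hx' : (x : Ω) ∈ Cn (k + 1) := Subgroup.mem_subgroupOf.mp hx
            have h2 : ⁅(x : Ω)⁻¹, b⁆ ∈ ⁅Cn (k + 1), Q⁆ :=
              Subgroup.commutator_mem_commutator (Subgroup.inv_mem _ hx') hbQ
            have h3 := hCncomm k (by omega) h2
            have h4 : (x : Ω)⁻¹ * (b * (x : Ω) * b⁻¹) = ⁅(x : Ω)⁻¹, b⁆ := by
              rw [commutatorElement_def]; group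
            rw [h4]
            exact h3
          · have : k = j := by omega
            subst this
            rw [hRj1] at hx
            have hx' : (x : Ω) ∈ Q := Subgroup.mem_subgroupOf.mp hx
            have h2 : ⁅b, (x : Ω)⁻¹⁆ ∈ ⁅Cn (k + 1), Q⁆ :=
              Subgroup.commutator_mem_commutator hbC (Subgroup.inv_mem _ hx')
            have h3 := hCncomm k hjn h2
            have h4 : (x : Ω)⁻¹ * (b * (x : Ω) * b⁻¹) = (⁅b, (x : Ω)⁻¹⁆)⁻¹ := by
              rw [commutatorElement_def]; group
            rw [h4]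
            exact Subgroup.inv_mem _ h3
    rw [← hCnn]
    exact key n le_rfl

end Cfsg.Agent.S5226
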