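import Cfsg.Statements.S5236
import Cfsg.Agent.S5085
import Cfsg.Agent.S5086
import Cfsg.Agent.Lib.Helper9.FusionOmegaChain
-- import your own Cfsg.Agent.* helpers here

set_option autoImplicit false
open Cfsg

namespace Cfsg.Agent.S5236

open Cfsg.FusionSystem Cfsg.Agent.Lib.Helper9

/-- Let p be an odd prime, F a saturated fusion system over a finite p-group S and P a subgroup of S strongly closed in F. Then P is normal in F if and only if Ω₁(P) (the subgroup generated by the elements of order p of P) has a chain of subgroups 1 = Q₀ ≤ Q₁ ≤ ⋯ ≤ Qₙ = Ω₁(P), each strongly closed in F, with [Qᵢ₊₁, P] ≤ Qᵢ for all i. -/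
theorem result {Ω : Type*} [Group Ω] {S : Subgroup Ω} [Finite S] (p : ℕ) [Fact p.Prime] (hS : IsPGroup p S) (F : Cfsg.FusionSystem S) (hF : F.IsSaturated p) (hp : p ≠ 2) (P : Subgroup Ω) (hP : F.StronglyClosed P) : F.IsNormal P ↔ ∃ (n : ℕ) (Q : Fin (n + 1) → Subgroup Ω), Q 0 = ⊥ ∧ Q (Fin.last n) = Cfsg.omegaOne p P ∧ Monotone Q ∧ (∀ i : Fin (n + 1), F.StronglyClosed (Q i)) ∧ ∀ i : Fin n, ⁅Q i.succ, P⁆ ≤ Q i.castSucc := by
  constructor
  · intro hN
    have hPS : P ≤ S := hN.1
    have hfinP : Finite P := finite_of_le' hPS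
    have hPp : IsPGroup p P := hS.to_le hPS
    haveI : Group.IsNilpotent P := hPp.isNilpotent
    -- `Ω₁(P)` is characteristic in `P`
    have hΩmap : Cfsg.omegaOne p P = (Subgroup.closure {y : P | y ^ p = 1}).map P.subtype := by
      unfold Cfsg.omegaOne
      rw [MonoidHom.map_closure]
      congr 1
      ext x
      constructor
      · rintro ⟨hx, hxp⟩
        exact ⟨⟨x, hx⟩, Subtype.ext hxp, rfl⟩
      · rintro ⟨y, hy, rfl⟩
        refine ⟨y.2, ?_⟩
        have := congrArg Subtype.val hy
        simpa using this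
    have hΩP : Cfsg.omegaOne p P ≤ P := by
      rw [hΩmap]
      rintro _ ⟨x, -, rfl⟩
      exact x.2
    have hsub : ∀ K : Subgroup P, (K.map P.subtype).subgroupOf P = K := by
      intro K
      ext x
      rw [Subgroup.mem_subgroupOf]
      constructor
      · rintro ⟨y, hy, hyx⟩
        have : y = x := Subtype.ext hyx
        rw [← this]; exact hy
      · intro hx
        exact ⟨x, hx, rfl⟩
    have hΩchar : ((Cfsg.omegaOne p P).subgroupOf P).Characteristic := by
      rw [hΩmap, hsub]
      rw [Subgroup.characteristic_iff_map_le]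
      intro ϕ
      rw [MonoidHom.map_closure, Subgroup.closure_le]
      rintro _ ⟨y, hy, rfl⟩
      apply Subgroup.subset_closure
      show (ϕ y) ^ p = 1
      rw [← map_pow, hy, map_one]
    have hΩN := Cfsg.Agent.S5085.result F P _ hN hΩP hΩchar
    have hΩsc := ((Cfsg.Agent.S5086.result p hS F hF _).mp hΩN).1
    have hZle : ∀ i : ℕ, (Subgroup.upperCentralSeries P i).map P.subtype ≤ P := by
      intro i
      rintro _ ⟨x, -, rfl⟩
      exact x.2
    have hZsc : ∀ i : ℕ, F.StronglyClosed ((Subgroup.upperCentralSeries P i).map P.subtype) := by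
      intro i
      have hchar : (((Subgroup.upperCentralSeries P i).map P.subtype).subgroupOf P).Characteristic := by
        rw [hsub]
        infer_instance
      have hnorm := Cfsg.Agent.S5085.result F P _ hN (hZle i) hchar
      exact ((Cfsg.Agent.S5086.result p hS F hF _).mp hnorm).1
    refine ⟨Group.nilpotencyClass P,
      fun i => Cfsg.omegaOne p P ⊓ (Subgroup.upperCentralSeries P i).map P.subtype, ?_, ?_, ?_, ?_, ?_⟩
    · show Cfsg.omegaOne p P ⊓ (Subgroup.upperCentralSeries P
        ((0 : Fin (Group.nilpotencyClass P + 1)) : ℕ)).map P.subtype = ⊥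
      rw [Fin.val_zero, Subgroup.upperCentralSeries_zero, Subgroup.map_bot, inf_bot_eq]
    · show Cfsg.omegaOne p P ⊓ (Subgroup.upperCentralSeries P
        ((Fin.last (Group.nilpotencyClass P)) : ℕ)).map P.subtype = Cfsg.omegaOne p P
      rw [Fin.val_last, Subgroup.upperCentralSeries_nilpotencyClass, ← MonoidHom.range_eq_map,
        Subgroup.range_subtype]
      exact inf_eq_left.mpr hΩP
    · intro i j hij
      exact inf_le_inf_left _ (Subgroup.map_mono (Subgroup.upperCentralSeries_mono P hij))
    · intro i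
      refine ⟨inf_le_left.trans hΩsc.1, ?_⟩
      intro R hR φ hφ x
      exact Subgroup.mem_inf.mpr ⟨hΩsc.2 R (hR.trans inf_le_left) φ hφ x,
        (hZsc i).2 R (hR.trans inf_le_right) φ hφ x⟩
    · intro i
      rw [Subgroup.commutator_le]
      intro g hg h hh
      obtain ⟨hgΩ, z, hz, hzg⟩ := Subgroup.mem_inf.mp hg
      refine Subgroup.mem_inf.mpr ⟨?_, ?_⟩
      · rw [commutatorElement_def]
        have h1 := conj_mem_of_stronglyClosed F hΩsc (hPS hh) (Subgroup.inv_mem _ hgΩ)
        have h2 : g * h * g⁻¹ * h⁻¹ = g * (h * g⁻¹ * h⁻¹) := by group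
        rw [h2]
        exact Subgroup.mul_mem _ hgΩ h1
      · have hz' : z ∈ Subgroup.upperCentralSeries P ((i : ℕ) + 1) := by
          simpa using hz
        rw [Subgroup.mem_upperCentralSeries_succ_iff] at hz'
        have h1 := hz' ⟨h, hh⟩
        refine ⟨z * ⟨h, hh⟩ * z⁻¹ * (⟨h, hh⟩ : P)⁻¹, ?_, ?_⟩
        · exact h1
        · rw [commutatorElement_def, ← hzg]
          rfl
  · rintro ⟨n, Q, h0, hlast, -, hsc, hstep⟩
    rw [Cfsg.Agent.S5086.result p hS F hF P]
    exact ⟨hP, fun R hcen hrad =>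
      le_centric_radical_of_omega_chain p hS F hp P hP n Q h0 hlast hsc hstep hcen hrad⟩

end Cfsg.Agent.S5236
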