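import Cfsg.Statements.S5245
import Cfsg.Agent.Lib.Helper9.FusionAutSys
import Cfsg.Agent.Lib.Helper9.KNorm1
import Cfsg.Agent.Lib.Helper9.FusionHyp2
import Cfsg.Agent.Lib.Helper9.FusionNorm
import Cfsg.Agent.Lib.Helper9.FusionAlp2
import Cfsg.Agent.S5124
import Cfsg.Agent.S5092
-- import your own Cfsg.Agent.* helpers here

set_option autoImplicit false
open Cfsg

namespace Cfsg.Agent.S5245

open Cfsg.FusionSystem Cfsg.Agent.Lib.Helper9

/-- An inner automorphism of a `p`-group of order dividing a prime `q ≠ p` is trivial. -/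
theorem eq_one_of_inn_of_pow {T : Type*} [Group T] (p q : ℕ) [hp : Fact p.Prime] (hT : IsPGroup p T)
    (hq : q.Prime) (hqp : q ≠ p) {α : MulAut T} (hα : α ∈ Cfsg.Inn T) (hαq : α ^ q = 1) : α = 1 := by
  obtain ⟨t, rfl⟩ := hα
  obtain ⟨k, hk⟩ := hT t
  have h1 : (MulAut.conj t) ^ p ^ k = 1 := by rw [← map_pow, hk, map_one]
  have hd1 := orderOf_dvd_of_pow_eq_one hαq
  have hd2 := orderOf_dvd_of_pow_eq_one h1
  have hcop : Nat.Coprime q (p ^ k) :=
    Nat.Coprime.pow_right k ((Nat.coprime_primes hq hp.out).mpr hqp)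
  have h5 := Nat.dvd_gcd hd1 hd2
  rw [hcop] at h5
  exact orderOf_eq_one_iff.mp (Nat.dvd_one.mp h5)

/-- An element of a `p`-group killed by a prime `q ≠ p` is trivial. -/
theorem eq_one_of_pow_prime {T : Type*} [Group T] (p q : ℕ) [hp : Fact p.Prime] (hT : IsPGroup p T)
    (hq : q.Prime) (hqp : q ≠ p) {t : T} (htq : t ^ q = 1) : t = 1 := by
  obtain ⟨k, hk⟩ := hT t
  have hd1 := orderOf_dvd_of_pow_eq_one htq
  have hd2 := orderOf_dvd_of_pow_eq_one hk
  have hcop : Nat.Coprime q (p ^ k) :=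
    Nat.Coprime.pow_right k ((Nat.coprime_primes hq hp.out).mpr hqp)
  have h5 := Nat.dvd_gcd hd1 hd2
  rw [hcop] at h5
  exact orderOf_eq_one_iff.mp (Nat.dvd_one.mp h5)


/-- Let F be an extremely sparse fusion system over a finite p-group S (saturated, not the inner system, and every saturated fusion system over any subgroup T of S contained in F is F itself or the inner system of T). Then S is normal in F, the focal and hyperfocal subgroups of F are both S, and Aut_F(S) is generated by the inner automorphisms of S together with a single automorphism of prime order q ≠ p (F is the fusion system of the semidirect product of S by a cyclic group of prime order). -/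
theorem result {Ω : Type*} [Group Ω] {S : Subgroup Ω} [Finite S] (p : ℕ) [Fact p.Prime] (hS : IsPGroup p S) (F : Cfsg.FusionSystem S) (hF : F.IsSaturated p) (hxs : ¬ (∀ P : Subgroup Ω, F.Hom P = (Cfsg.innerFusionSystem S).Hom P) ∧ ∀ (T : Subgroup Ω) (E : Cfsg.FusionSystem T), E.IsSaturated p → E.IsSubsystemOf F → (T = S ∧ ∀ P : Subgroup Ω, E.Hom P = F.Hom P) ∨ (∀ P : Subgroup Ω, E.Hom P = (Cfsg.innerFusionSystem T).Hom P)) : F.IsNormal S ∧ F.focalSubgroup = S ∧ F.hyperfocalSubgroup p = S ∧ ∃ (q : ℕ) (β : MulAut ↥S), q.Prime ∧ q ≠ p ∧ β ∈ F.autGroup S ∧ orderOf β = q ∧ (F.autGroup S : Subgroup (MulAut ↥S)) = Cfsg.Inn ↥S ⊔ Subgroup.zpowers β := by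
  obtain ⟨hne, hsp⟩ := hxs
  have h1 : ∃ Q, (Q = S ∨ F.IsEssential p Q) ∧ ¬ IsPGroup p (F.autGroup Q) := by
    by_contra hcon
    apply hne
    apply eq_inner_of_autGroup_pgroup p hS F hF
    intro P hP
    by_contra hPp
    exact hcon ⟨P, hP, hPp⟩
  obtain ⟨Q, hQ, hQp⟩ := h1
  have hQS : Q ≤ S := by
    rcases hQ with rfl | h
    · exact le_rfl
    · exact h.1.1
  haveI hfinQ : Finite Q := finite_of_le' hQS
  haveI : Finite (MulAut Q) := inferInstance
  have hq : ∃ q : ℕ, q.Prime ∧ q ≠ p ∧ q ∣ Nat.card (F.autGroup Q) := by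
    by_contra hcon
    apply hQp
    have hcard := Nat.eq_prime_pow_of_unique_prime_dvd (n := Nat.card (F.autGroup Q)) (p := p)
      Nat.card_pos.ne' (by
        intro d hd hdn
        by_contra hne'
        exact hcon ⟨d, hd, hne', hdn⟩)
    exact IsPGroup.of_card hcard
  obtain ⟨q, hqprime, hqp, hqd⟩ := hq
  haveI : Fact q.Prime := ⟨hqprime⟩
  obtain ⟨β₀, hβ₀⟩ := exists_prime_orderOf_dvd_card' q hqd
  have hβord : orderOf (β₀ : MulAut Q) = q := by rw [Subgroup.orderOf_coe]; exact hβ₀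
  have hβq : (β₀ : MulAut Q) ^ q = 1 := by rw [← hβord]; exact pow_orderOf_eq_one _
  have hInnF : ∀ {T : Subgroup Ω}, T ≤ S → Cfsg.Inn T ≤ F.autGroup T := fun hT =>
    (inn_le_autInducedBy hT).trans (autInducedBy_le_autGroup F hT)
  have hKF : Cfsg.Inn Q ⊔ Subgroup.zpowers (β₀ : MulAut Q) ≤ F.autGroup Q :=
    sup_le (hInnF hQS) ((Subgroup.zpowers_le).mpr β₀.2)
  have hEsat := autSystem_saturated p (hS.to_le hQS) (Cfsg.Inn Q ⊔ Subgroup.zpowers (β₀ : MulAut Q))
    le_sup_left (fun b hb k hbk =>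
      mem_inn_of_pElem_of_sup_zpowers p q hqprime hqp (β₀ : MulAut Q) hβq hb hbk)
  have hEsub := autSystem_isSubsystemOf F hQS (Cfsg.Inn Q ⊔ Subgroup.zpowers (β₀ : MulAut Q))
    le_sup_left hKF
  have hq1 : q ≠ 1 := hqprime.one_lt.ne'
  rcases hsp Q _ hEsat hEsub with ⟨hQeq, hEF⟩ | hEinn
  swap
  · exfalso
    have hmem : Q.subtype.comp (β₀ : MulAut Q).toMonoidHom ∈
        (autSystem Q (Cfsg.Inn Q ⊔ Subgroup.zpowers (β₀ : MulAut Q)) le_sup_left).Hom Q :=
      ⟨le_rfl, (β₀ : MulAut Q), Subgroup.mem_sup_right (Subgroup.mem_zpowers _), fun x => rfl⟩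
    rw [hEinn Q] at hmem
    obtain ⟨-, g, hg, hβg⟩ := hmem
    have hinn : (β₀ : MulAut Q) ∈ Cfsg.Inn Q := by
      refine ⟨⟨g, hg⟩, ?_⟩
      ext x
      exact (hβg x).symm
    have h1 := eq_one_of_inn_of_pow p q (hS.to_le hQS) hqprime hqp hinn hβq
    rw [h1, orderOf_one] at hβord
    exact hq1 hβord.symm
  subst hQeq
  -- now `Q = S`
  have haut : F.autGroup Q = Cfsg.Inn Q ⊔ Subgroup.zpowers (β₀ : MulAut Q) := by
    rw [← autSystem_autGroup_top Q (Cfsg.Inn Q ⊔ Subgroup.zpowers (β₀ : MulAut Q)) le_sup_left]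
    unfold FusionSystem.autGroup
    rw [hEF Q]
  have hnormal : F.IsNormal Q := by
    refine ⟨le_rfl, fun P φ hφ => ?_⟩
    rw [← hEF P] at hφ
    obtain ⟨hP, b, hb, h⟩ := hφ
    have hle : P ⊔ Q ≤ Q := sup_le hP le_rfl
    refine ⟨Q.subtype.comp (b.toMonoidHom.comp (Subgroup.inclusion hle)), ?_, fun x => (h x).symm, ?_⟩
    · rw [← hEF]
      exact ⟨hle, b, hb, fun x => rfl⟩
    · rw [map_subgroupOf_eq_iff]
      refine ⟨fun y => (b _).2, fun y hy => ⟨b⁻¹ ⟨y, hy⟩, ?_⟩⟩
      show ((b (b⁻¹ ⟨y, hy⟩) : Q) : Ω) = y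
      rw [MulAut.apply_inv_self]
  have hhyp : F.hyperfocalSubgroup p = Q := by
    by_contra hT
    have hTS : F.hyperfocalSubgroup p ≤ Q := hyperfocal_le F p
    have hsc := Cfsg.Agent.S5124.result p hS F hF
    haveI hfinT : Finite ↥(F.hyperfocalSubgroup p) := finite_of_le' hTS
    have hpres : ∀ α ∈ F.autGroup Q, ∀ x : Q, (x : Ω) ∈ F.hyperfocalSubgroup p →
        ((α x : Q) : Ω) ∈ F.hyperfocalSubgroup p := by
      intro α hα x hx
      have h1 := (mem_autGroup_iff F le_rfl α).mp hα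
      exact hsc.2 _ le_rfl _ (restrict_mem F h1 hTS) ⟨x, hx⟩
    have hstab : (β₀ : MulAut Q) ∈ autStab Q (F.hyperfocalSubgroup p) := by
      intro x
      constructor
      · intro hx
        have h1 := hpres _ ((F.autGroup Q).inv_mem β₀.2) _ hx
        rw [MulAut.inv_apply_self] at h1
        exact h1
      · intro hx
        exact hpres _ β₀.2 x hx
    have hβT : ∀ x, ((autRes hTS ⟨(β₀ : MulAut Q), hstab⟩ x : ↥(F.hyperfocalSubgroup p)) : Ω) =
        (((β₀ : MulAut Q) (Subgroup.inclusion hTS x) : Q) : Ω) := fun x => rfl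
    have hβTq : (autRes hTS ⟨(β₀ : MulAut Q), hstab⟩) ^ q = 1 := by
      rw [← map_pow]
      have : (⟨(β₀ : MulAut Q), hstab⟩ : ↥(autStab Q (F.hyperfocalSubgroup p))) ^ q = 1 :=
        Subtype.ext hβq
      rw [this, map_one]
    have hβTF : autRes hTS ⟨(β₀ : MulAut Q), hstab⟩ ∈ F.autGroup (F.hyperfocalSubgroup p) := by
      rw [mem_autGroup_iff F hTS]
      have h1 := restrict_mem F ((mem_autGroup_iff F le_rfl _).mp β₀.2) hTS
      have : (Q.subtype.comp (β₀ : MulAut Q).toMonoidHom).comp (Subgroup.inclusion hTS) =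
          (F.hyperfocalSubgroup p).subtype.comp
            (autRes hTS ⟨(β₀ : MulAut Q), hstab⟩).toMonoidHom := by
        ext x
        rfl
      rw [← this]
      exact h1
    have hKTF : Cfsg.Inn ↥(F.hyperfocalSubgroup p) ⊔
        Subgroup.zpowers (autRes hTS ⟨(β₀ : MulAut Q), hstab⟩) ≤
        F.autGroup (F.hyperfocalSubgroup p) :=
      sup_le (hInnF hTS) ((Subgroup.zpowers_le).mpr hβTF)
    have hE'sat := autSystem_saturated p (hS.to_le hTS)
      (Cfsg.Inn ↥(F.hyperfocalSubgroup p) ⊔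
        Subgroup.zpowers (autRes hTS ⟨(β₀ : MulAut Q), hstab⟩)) le_sup_left
      (fun b hb k hbk => mem_inn_of_pElem_of_sup_zpowers p q hqprime hqp _ hβTq hb hbk)
    have hE'sub := autSystem_isSubsystemOf F hTS _ le_sup_left hKTF
    rcases hsp _ _ hE'sat hE'sub with ⟨hTeq, -⟩ | hE'inn
    · exact hT hTeq
    have hmem : (F.hyperfocalSubgroup p).subtype.comp
        (autRes hTS ⟨(β₀ : MulAut Q), hstab⟩).toMonoidHom ∈
        (autSystem (F.hyperfocalSubgroup p) (Cfsg.Inn ↥(F.hyperfocalSubgroup p) ⊔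
          Subgroup.zpowers (autRes hTS ⟨(β₀ : MulAut Q), hstab⟩)) le_sup_left).Hom
          (F.hyperfocalSubgroup p) :=
      ⟨le_rfl, _, Subgroup.mem_sup_right (Subgroup.mem_zpowers _), fun x => rfl⟩
    rw [hE'inn] at hmem
    obtain ⟨-, g, hg, hβg⟩ := hmem
    have hinn : autRes hTS ⟨(β₀ : MulAut Q), hstab⟩ ∈ Cfsg.Inn ↥(F.hyperfocalSubgroup p) := by
      refine ⟨⟨g, hg⟩, ?_⟩
      ext x
      exact (hβg x).symm
    have h1 := eq_one_of_inn_of_pow p q (hS.to_le hTS) hqprime hqp hinn hβTq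
    -- `β` fixes `T` pointwise
    have hfix : ∀ t : Q, (t : Ω) ∈ F.hyperfocalSubgroup p → (β₀ : MulAut Q) t = t := by
      intro t ht
      apply Subtype.ext
      have h2 := hβT ⟨t, ht⟩
      rw [h1] at h2
      exact h2.symm
    have hcop : Nat.Coprime (orderOf (β₀ : MulAut Q)) p := by
      rw [hβord]
      exact (Nat.coprime_primes hqprime Fact.out).mpr hqp
    have hβone : (β₀ : MulAut Q) = 1 := by
      ext x
      have ht : ((x⁻¹ * (β₀ : MulAut Q) x : Q) : Ω) ∈ F.hyperfocalSubgroup p :=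
        hyperfocal_gen_mem' F p le_rfl _ β₀.2 hcop x
      have hβt := hfix _ ht
      have hpow : ∀ n : ℕ, ((β₀ : MulAut Q) ^ n) x = x * (x⁻¹ * (β₀ : MulAut Q) x) ^ n := by
        intro n
        induction n with
        | zero => simp
        | succ n ih =>
          rw [pow_succ', MulAut.mul_apply, ih, map_mul, map_pow, hβt, pow_succ', ← mul_assoc,
            mul_inv_cancel_left]
      have h3 := hpow q
      rw [hβq, MulAut.one_apply] at h3
      have h4 : (x⁻¹ * (β₀ : MulAut Q) x) ^ q = 1 := by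
        have := mul_left_cancel (a := x) (b := 1) (c := (x⁻¹ * (β₀ : MulAut Q) x) ^ q)
          (by rw [mul_one]; exact h3)
        exact this.symm
      have h5 := eq_one_of_pow_prime p q hS hqprime hqp h4
      have h6 : (β₀ : MulAut Q) x = x := by
        have := congrArg (fun z => x * z) h5
        simpa using this
      rw [h6]
      rfl
    rw [hβone, orderOf_one] at hβord
    exact hq1 hβord.symm
  refine ⟨hnormal, ?_, hhyp, q, (β₀ : MulAut Q), hqprime, hqp, β₀.2, hβord, haut⟩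
  rw [Cfsg.Agent.S5092.result p hS F hF, hhyp]
  apply sup_eq_left.mpr
  rw [Subgroup.commutator_le]
  intro a ha b hb
  exact Q.mul_mem (Q.mul_mem (Q.mul_mem ha hb) (Q.inv_mem ha)) (Q.inv_mem hb)

end Cfsg.Agent.S5245
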