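import Cfsg.Statements.S5246
import Cfsg.Agent.Lib.Helper9.PStabFus4
-- import your own Cfsg.Agent.* helpers here

set_option autoImplicit false
open Cfsg

namespace Cfsg.Agent.S5246

open Cfsg.Agent.Lib.Helper9

/-- Let p be an odd prime, G a finite group and P a Sylow p-subgroup. Call a fusion system F p-stable when, for every fully normalized subgroup Q and every χ ∈ Aut_F(Q) acting quadratically on Q (that is, χ fixes a⁻¹χ(a) for every a ∈ Q; equivalently χ(a⁻¹)·a·χ(a⁻¹)·χ(χ(a)) = 1), χ lies in O_p(Aut_F(Q)). Then G is p-stable in the normalizer form (for every p-subgroup Q and x ∈ N_G(Q) with [Q, x, x] = 1, the image of x lies in O_p(N_G(Q)/C_G(Q))) if and only if the fusion system of G on P is p-stable. -/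
theorem result {Ω : Type*} [Group Ω] [Finite Ω] {p : ℕ} [Fact p.Prime] (hp : p ≠ 2) (P : Sylow p Ω) : Cfsg.IsNormalizerPStable p Ω ↔ (∀ Q : Subgroup Ω, (Cfsg.groupFusionSystem (P : Subgroup Ω)).IsFullyNormalized Q → ∀ χ : MulAut ↥Q, χ ∈ (Cfsg.groupFusionSystem (P : Subgroup Ω)).autGroup Q → (∀ a : ↥Q, (χ a⁻¹) * a * (χ a⁻¹) * (χ (χ a)) = 1) → χ ∈ ((Cfsg.pCore p ↥((Cfsg.groupFusionSystem (P : Subgroup Ω)).autGroup Q)).map ((Cfsg.groupFusionSystem (P : Subgroup Ω)).autGroup Q).subtype : Subgroup (MulAut ↥Q))) := by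
  constructor
  · intro hNPS Q hQfn χ hχ hquad
    have hQP : Q ≤ (P : Subgroup Ω) := hQfn.1
    rw [PStabFus.autGroup_eq_range _ Q hQP] at hχ ⊢
    obtain ⟨n, rfl⟩ := hχ
    have hQp : IsPGroup p Q := P.isPGroup'.to_le hQP
    have h1 := (PStabFus.quad_elt_iff Q n).1 hquad
    have h2 := (PStabFus.quad_subgroup_iff Q (n : Ω)).2 h1
    have h3 := hNPS Q hQp (n : Ω) n.2 h2
    exact (PStabFus.mem_pCore_quot_iff p Q n).1 h3
  · intro hF R hRp g hg hsub
    rw [PStabFus.mem_pCore_quot_iff p R ⟨g, hg⟩]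
    obtain ⟨h, hfn⟩ := PStabFus.exists_fullyNormalized_cj P R hRp
    have hQP : PStabFus.cj R h ≤ (P : Subgroup Ω) := hfn.1
    have hq := (PStabFus.quad_subgroup_iff R g).1 hsub
    have hq' := PStabFus.quad_cj (h := h) hq
    have h4 := hF (PStabFus.cj R h) hfn
      ((PStabFus.cj R h).normalizerMonoidHom ⟨h * g * h⁻¹, PStabFus.conj_mem_normalizer_cj hg⟩)
      (by rw [PStabFus.autGroup_eq_range _ _ hQP]; exact ⟨_, rfl⟩)
      ((PStabFus.quad_elt_iff _ ⟨h * g * h⁻¹, PStabFus.conj_mem_normalizer_cj hg⟩).2 hq')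
    rw [PStabFus.autGroup_eq_range _ _ hQP] at h4
    apply (PStabFus.mem_pCoreOf_map_equiv p (PStabFus.autCj R h) _ _).2
    rw [PStabFus.range_cj, PStabFus.autCj_apply]
    exact h4

end Cfsg.Agent.S5246
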