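import Cfsg.Statements.S5251
import Cfsg.Agent.Lib.Helper9.FusionStabChain
import Cfsg.Agent.Lib.Helper9.FusionSat4
import Cfsg.Agent.S5079
-- import your own Cfsg.Agent.* helpers here

set_option autoImplicit false
open Cfsg

namespace Cfsg.Agent.S5251

open Cfsg.FusionSystem Cfsg.Agent.Lib.Helper9

/-- Let F be a saturated fusion system over a finite p-group S, E a normal subsystem of F over T, and P an F-centric subgroup of S such that P ∩ T is not E-centric. Then some F-conjugate P* of P satisfies Out_S(P*) ∩ O_p(Out_F(P*)) ≠ 1: there is an element of N_S(P*) outside P* whose conjugation action on P* lies in O_p(Aut_F(P*)). In particular P is not both centric and radical in F. -/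
theorem result {Ω : Type*} [Group Ω] {S : Subgroup Ω} [Finite S] (p : ℕ) [Fact p.Prime] (hS : IsPGroup p S) (F : Cfsg.FusionSystem S) (hF : F.IsSaturated p) {T : Subgroup Ω} (E : Cfsg.FusionSystem T) (hE : E.IsNormalIn F p) (P : Subgroup Ω) (hP : F.IsCentric P) (hPT : ¬ E.IsCentric (P ⊓ T)) : (∃ φ ∈ F.Hom P, ∃ x ∈ S ⊓ Subgroup.normalizer (φ.range : Set Ω), x ∉ φ.range ∧ ∃ α ∈ ((Cfsg.pCore p ↥(F.autGroup φ.range)).map (F.autGroup φ.range).subtype : Subgroup (MulAut ↥φ.range)), ∀ y : ↥φ.range, ((α y : ↥φ.range) : Ω) = x * (y : Ω) * x⁻¹) ∧ ¬ F.IsRadical p P := by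
  have hsub : E.IsSubsystemOf F := hE.1.2.2.1
  have hT : F.StronglyClosed T := hE.1.2.2.2.1
  have hTS : T ≤ S := hT.1
  have hPS : P ≤ S := hP.1
  have hfinT : Finite T := finite_of_le' hTS
  -- Step 1: an E-conjugate R of P ⊓ T with C_T(R) ≰ R
  have h1 : ∃ R : Subgroup Ω, E.IsConj (P ⊓ T) R ∧ ¬ centralizerIn T R ≤ R := by
    by_contra hcon
    push_neg at hcon
    exact hPT ⟨inf_le_right, hcon⟩
  obtain ⟨R, hconjE, hRnot⟩ := h1
  have hconjF : F.IsConj (P ⊓ T) R := by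
    obtain ⟨φ, hφ, hr⟩ := hconjE
    exact ⟨φ, hsub _ hφ, hr⟩
  have hRS : R ≤ S := (isConj_le F hconjF).2
  obtain ⟨c, hcC, hcR⟩ := SetLike.not_le_iff_exists.mp hRnot
  obtain ⟨hcT, hccent⟩ := mem_centralizerIn.mp hcC
  -- Step 2: a fully normalized conjugate R'
  obtain ⟨R', hconjRR', hR'fn⟩ := exists_fullyNormalized_conj F hRS
  obtain ⟨hfc, hfa⟩ := sat_fullyNormalized p hS F hF hR'fn
  have hrec := sat_fullyCentralized_receptive p hS F hF hfc
  have hR'S : R' ≤ S := hR'fn.1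
  obtain ⟨χ, hχ, -, hχR⟩ := Cfsg.Agent.S5079.result p hS F R' R hfa hrec hconjRR'
  have hcN : c ∈ normalizerIn S R :=
    ⟨hTS hcT, centralizer_le_normalizer' R (by
      rw [Subgroup.mem_centralizer_iff]
      intro r hr
      exact hccent r hr)⟩
  have hR'T : R' ≤ T := by
    rw [← hχR]
    rintro _ ⟨r, hr, rfl⟩
    have hrR : (r : Ω) ∈ R := Subgroup.mem_subgroupOf.mp hr
    have hRT : R ≤ T := by
      obtain ⟨φ, hφ, hr'⟩ := hconjE
      rw [← hr']
      rintro _ ⟨z, rfl⟩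
      exact (E.le_of_mem hφ).2 z
    have hle : normalizerIn S R ⊓ T ≤ normalizerIn S R := inf_le_left
    exact hT.2 _ inf_le_right _ (restrict_mem F hχ hle) ⟨r, ⟨r.2, hRT hrR⟩⟩
  have hC' : ¬ centralizerIn T R' ≤ R' := by
    intro hle
    have hc'T : χ ⟨c, hcN⟩ ∈ T := by
      have hle' : normalizerIn S R ⊓ T ≤ normalizerIn S R := inf_le_left
      exact hT.2 _ inf_le_right _ (restrict_mem F hχ hle') ⟨c, ⟨hcN, hcT⟩⟩
    have hc'C : χ ⟨c, hcN⟩ ∈ centralizerIn T R' := by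
      rw [mem_centralizerIn]
      refine ⟨hc'T, ?_⟩
      intro y hy
      rw [← hχR] at hy
      obtain ⟨r, hr, rfl⟩ := hy
      have hrR : (r : Ω) ∈ R := Subgroup.mem_subgroupOf.mp hr
      rw [← map_mul, ← map_mul]
      congr 1
      apply Subtype.ext
      exact hccent r hrR
    have := hle hc'C
    rw [← hχR] at this
    obtain ⟨r, hr, hrc⟩ := this
    have hrR : (r : Ω) ∈ R := Subgroup.mem_subgroupOf.mp hr
    have := F.injective_of_mem hχ hrc
    apply hcR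
    have e : (r : Ω) = c := congrArg Subtype.val this
    rw [← e]; exact hrR
  -- Step 3: carry P along
  have hconjQR' : F.IsConj (P ⊓ T) R' := isConj_trans F hconjF hconjRR'
  obtain ⟨χ₂, hχ₂, -, hχ₂Q⟩ := Cfsg.Agent.S5079.result p hS F R' (P ⊓ T) hfa hrec hconjQR'
  have hPN : P ≤ normalizerIn S (P ⊓ T) := by
    intro g hg
    have hgT := le_normalizer_of_stronglyClosed F hT (hPS hg)
    have hgP : g ∈ Subgroup.normalizer (P : Set Ω) := Subgroup.le_normalizer hg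
    have hgQ : g ∈ Subgroup.normalizer ((P ⊓ T : Subgroup Ω) : Set Ω) := by
      rw [Subgroup.mem_normalizer_iff] at hgT hgP ⊢
      intro z
      rw [Subgroup.mem_inf, Subgroup.mem_inf, ← hgT z, ← hgP z]
    exact ⟨hPS hg, hgQ⟩
  have hφ := restrict_mem F hχ₂ hPN
  obtain ⟨φ, hφdef⟩ : ∃ φ : P →* Ω, φ = χ₂.comp (Subgroup.inclusion hPN) := ⟨_, rfl⟩
  rw [← hφdef] at hφ
  have hPsS : φ.range ≤ S := by
    rintro _ ⟨z, rfl⟩
    exact (F.le_of_mem hφ).2 z
  have hR'le : R' ≤ φ.range := by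
    rw [← hχ₂Q]
    rintro _ ⟨q, hq, rfl⟩
    have hqQ : (q : Ω) ∈ P ⊓ T := Subgroup.mem_subgroupOf.mp hq
    refine ⟨⟨q, hqQ.1⟩, ?_⟩
    rw [hφdef]
    rfl
  have hinter : ∀ y ∈ φ.range, y ∈ T → y ∈ R' := by
    rintro _ ⟨z, rfl⟩ hzT
    have hz : (z : Ω) ∈ T := mem_of_map_mem_stronglyClosed F hT hφ z hzT
    rw [← hχ₂Q]
    refine ⟨⟨z, hPN z.2⟩, Subgroup.mem_subgroupOf.mpr ⟨z.2, hz⟩, ?_⟩
    rw [hφdef]
    rfl
  have hfinPs : Finite φ.range := finite_of_le' hPsS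
  -- Step 4: the element x
  have hPsN : φ.range ≤ Subgroup.normalizer ((centralizerIn T R' : Subgroup Ω) : Set Ω) := by
    intro g hg
    have hfinC : Finite ↥(centralizerIn T R') := finite_of_le' (inf_le_left.trans hTS)
    apply mem_normalizer_of_conj_mem_of_finite
    intro z hz
    obtain ⟨hzT, hzc⟩ := mem_centralizerIn.mp hz
    rw [mem_centralizerIn]
    refine ⟨conj_mem_of_stronglyClosed F hT (hPsS hg) hzT, ?_⟩
    intro y hy
    have hy' : g⁻¹ * y * g⁻¹⁻¹ ∈ R' := by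
      apply hinter
      · exact Subgroup.mul_mem _ (Subgroup.mul_mem _ (Subgroup.inv_mem _ hg) (hR'le hy))
          (Subgroup.inv_mem _ (Subgroup.inv_mem _ hg))
      · exact conj_mem_of_stronglyClosed F hT (S.inv_mem (hPsS hg)) (hR'T hy)
    have h3 := hzc _ hy'
    calc y * (g * z * g⁻¹) = g * ((g⁻¹ * y * g⁻¹⁻¹) * z) * g⁻¹ := by group
      _ = g * (z * (g⁻¹ * y * g⁻¹⁻¹)) * g⁻¹ := by rw [h3]
      _ = g * z * g⁻¹ * y := by group
  obtain ⟨c', hc'C, hc'R'⟩ := SetLike.not_le_iff_exists.mp hC'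
  have hc'Ps : c' ∉ φ.range := fun h => hc'R' (hinter c' h (mem_centralizerIn.mp hc'C).1)
  have hWS : φ.range ⊔ centralizerIn T R' ≤ S := sup_le hPsS (inf_le_left.trans hTS)
  have hfinW : Finite ↥(φ.range ⊔ centralizerIn T R') := finite_of_le' hWS
  have hWp : IsPGroup p ↥(φ.range ⊔ centralizerIn T R') := hS.to_le hWS
  have hltW : φ.range < φ.range ⊔ centralizerIn T R' := by
    refine lt_of_le_of_ne le_sup_left ?_
    intro heq
    apply hc'Ps
    rw [heq]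
    exact (le_sup_right : centralizerIn T R' ≤ _) hc'C
  have hlt := lt_normalizerIn p hWp hltW.le hltW.ne
  obtain ⟨w, hwN, hwPs⟩ := SetLike.exists_of_lt hlt
  obtain ⟨y, hy, x, hxC, hwyx⟩ := exists_mul_of_mem_sup_of_le_normalizer hPsN hwN.1
  have hxN : x ∈ Subgroup.normalizer (φ.range : Set Ω) := by
    have : x = y⁻¹ * w := by rw [hwyx]; group
    rw [this]
    exact Subgroup.mul_mem _ (Subgroup.inv_mem _ (Subgroup.le_normalizer hy)) hwN.2
  have hxPs : x ∉ φ.range := by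
    intro h
    apply hwPs
    rw [hwyx]
    exact Subgroup.mul_mem _ hy h
  obtain ⟨hxT, hxc⟩ := mem_centralizerIn.mp hxC
  have hxS : x ∈ S := hTS hxT
  -- Step 5: the automorphism
  have hαA : normConj φ.range ⟨x, hxN⟩ ∈ F.autGroup φ.range :=
    autInducedBy_le_autGroup F hPsS (Subgroup.subset_closure ⟨x, hxS, fun _ => rfl⟩)
  have hαstab : (⟨normConj φ.range ⟨x, hxN⟩, hαA⟩ : ↥(F.autGroup φ.range)) ∈
      stabChain F T φ.range hT hPsS := by
    refine ⟨fun z hz => ?_, fun z => ?_⟩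
    · apply Subtype.ext
      show x * (z : Ω) * x⁻¹ = z
      have := hxc z (hinter z z.2 hz)
      calc x * (z : Ω) * x⁻¹ = ((z : Ω) * x) * x⁻¹ := by rw [this]
        _ = z := by group
    · show (z : Ω)⁻¹ * (x * (z : Ω) * x⁻¹) ∈ T
      have h4 : (z : Ω)⁻¹ * x * ((z : Ω)⁻¹)⁻¹ ∈ T :=
        conj_mem_of_stronglyClosed F hT (S.inv_mem (hPsS z.2)) hxT
      have e : (z : Ω)⁻¹ * (x * (z : Ω) * x⁻¹) = ((z : Ω)⁻¹ * x * ((z : Ω)⁻¹)⁻¹) * x⁻¹ := by group
      rw [e]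
      exact T.mul_mem h4 (T.inv_mem hxT)
  have hαcore := stabChain_le_pCore p hS F T φ.range hT hPsS hαstab
  refine ⟨⟨φ, hφ, x, ⟨hxS, hxN⟩, hxPs, normConj φ.range ⟨x, hxN⟩, ⟨_, hαcore, rfl⟩,
    fun z => normConj_apply _ _ _⟩, ?_⟩
  -- Step 6: P is not radical
  intro hrad
  obtain ⟨θ', θi, hθ', hθi, hθi', -⟩ := exists_iso_data F hφ rfl
  have hα'A : (MulAut.congr θ'.symm) (normConj φ.range ⟨x, hxN⟩) ∈ F.autGroup P := by
    apply map_congr_autGroup_le F hθi θ'.symm φ (fun z => (hθi' z).symm) hφ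
      (fun z => (hθ' z).symm)
    exact ⟨_, hαA, rfl⟩
  have hα'val : ∀ z : P, (MulAut.congr θ'.symm) (normConj φ.range ⟨x, hxN⟩) z =
      θ'.symm (normConj φ.range ⟨x, hxN⟩ (θ' z)) := fun z => rfl
  have hφT : ∀ z : P, (z : Ω) ∈ T → φ z ∈ T := by
    intro z hz
    have hle : P ⊓ T ≤ P := inf_le_left
    exact hT.2 _ inf_le_right _ (restrict_mem F hφ hle) ⟨z, ⟨z.2, hz⟩⟩
  have hθiT : ∀ t : φ.range, (t : Ω) ∈ T → ((θ'.symm t : P) : Ω) ∈ T := by
    intro t ht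
    rw [← hθi']
    have hle : φ.range ⊓ T ≤ φ.range := inf_le_left
    exact hT.2 _ inf_le_right _ (restrict_mem F hθi hle) ⟨t, ⟨t.2, ht⟩⟩
  have hα'stab : (⟨(MulAut.congr θ'.symm) (normConj φ.range ⟨x, hxN⟩), hα'A⟩ : ↥(F.autGroup P)) ∈
      stabChain F T P hT hPS := by
    refine ⟨fun z hz => ?_, fun z => ?_⟩
    · show (MulAut.congr θ'.symm) (normConj φ.range ⟨x, hxN⟩) z = z
      rw [hα'val]
      have hz' : ((θ' z : φ.range) : Ω) ∈ T := by rw [hθ']; exact hφT z hz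
      have := hαstab.1 (θ' z) hz'
      have e : normConj φ.range ⟨x, hxN⟩ (θ' z) = θ' z := this
      rw [e, MulEquiv.symm_apply_apply]
    · show (z : Ω)⁻¹ * (((MulAut.congr θ'.symm) (normConj φ.range ⟨x, hxN⟩) z : P) : Ω) ∈ T
      rw [hα'val]
      have h5 := hαstab.2 (θ' z)
      have h6 := hθiT ((θ' z)⁻¹ * normConj φ.range ⟨x, hxN⟩ (θ' z)) h5
      rw [map_mul, map_inv, MulEquiv.symm_apply_apply] at h6
      exact h6
  have hα'core := stabChain_le_pCore p hS F T P hT hPS hα'stab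
  have hinn : (MulAut.congr θ'.symm) (normConj φ.range ⟨x, hxN⟩) ∈ Inn P := by
    rw [← hrad.2]
    exact ⟨_, hα'core, rfl⟩
  obtain ⟨y₀, hy₀⟩ := hinn
  have hinn' : normConj φ.range ⟨x, hxN⟩ ∈ Inn φ.range := by
    refine ⟨θ' y₀, ?_⟩
    ext z
    have h7 : (MulAut.congr θ'.symm) (normConj φ.range ⟨x, hxN⟩) (θ'.symm z) =
        MulAut.conj y₀ (θ'.symm z) := by rw [hy₀]
    rw [hα'val, MulEquiv.apply_symm_apply] at h7
    have h8 : normConj φ.range ⟨x, hxN⟩ z = θ' (MulAut.conj y₀ (θ'.symm z)) := by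
      rw [← h7, MulEquiv.apply_symm_apply]
    rw [h8]
    show ((θ' y₀ * z * (θ' y₀)⁻¹ : φ.range) : Ω) = ((θ' (y₀ * θ'.symm z * y₀⁻¹) : φ.range) : Ω)
    rw [map_mul, map_mul, map_inv, MulEquiv.apply_symm_apply]
  have hCent : centralizerIn S φ.range ≤ φ.range := hP.2 φ.range ⟨φ, hφ, rfl⟩
  exact hxPs (mem_of_normConj_mem_inn hPsS hCent hxS hxN hinn')

end Cfsg.Agent.S5251
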