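import Cfsg.Statements.S5255
import Cfsg.Agent.Lib.Helper9.FusionTExt2

set_option autoImplicit false
open Cfsg

namespace Cfsg.Agent.S5255

open Cfsg.Agent.Lib.Helper9 Cfsg.FusionSystem

/-- Let F be a saturated fusion system over a finite p-group S and T a subgroup of S strongly closed in F. Then T·C_S(T) is strongly closed in F. -/
theorem result {Ω : Type*} [Group Ω] {S : Subgroup Ω} [Finite S] (p : ℕ) [Fact p.Prime] (hS : IsPGroup p S) (F : Cfsg.FusionSystem S) (hF : F.IsSaturated p) (T : Subgroup Ω) (hT : F.StronglyClosed T) : F.StronglyClosed (T ⊔ Cfsg.FusionSystem.centralizerIn S T) := by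
  have hCS : centralizerIn S T ≤ S := inf_le_left
  refine ⟨sup_le hT.1 hCS, ?_⟩
  intro R hR φ hφ x
  obtain ⟨ψ, hψ, hψx⟩ := exists_ext_mod_stronglyClosed p hS F hF hT hφ
  have hN : centralizerIn S T ≤ Subgroup.normalizer (T : Set Ω) :=
    hCS.trans (le_normalizer_of_stronglyClosed F hT)
  have hx : (x : Ω) ∈ centralizerIn S T ⊔ T := by rw [sup_comm]; exact hR x.2
  obtain ⟨c, hc, t, ht, hxt⟩ := exists_mul_of_mem_sup_of_le_normalizer hN hx
  have ht' : t ∈ R ⊔ T := (le_sup_right : T ≤ R ⊔ T) ht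
  have hc' : c ∈ R ⊔ T := by
    have : c = (x : Ω) * t⁻¹ := by rw [hxt]; group
    rw [this]
    exact Subgroup.mul_mem _ ((le_sup_left : R ≤ R ⊔ T) x.2) (Subgroup.inv_mem _ ht')
  have e : Subgroup.inclusion le_sup_left x = (⟨c, hc'⟩ : ↥(R ⊔ T)) * ⟨t, ht'⟩ :=
    Subtype.ext hxt
  have h3 := hψx x
  rw [e, map_mul] at h3
  have h5 : ψ ⟨t, ht'⟩ ∈ T := map_mem_of_stronglyClosed F hT hψ _ ht
  have h4 : ψ ⟨c, hc'⟩ ∈ centralizerIn S T := by
    refine Subgroup.mem_inf.mpr ⟨(F.le_of_mem hψ).2 _, ?_⟩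
    rw [Subgroup.mem_centralizer_iff]
    intro t' ht'T
    obtain ⟨z, hzT, hz⟩ := exists_preimage_of_stronglyClosed F hT le_sup_right hψ t' ht'T
    have hcomm : (z : Ω) * c = c * (z : Ω) :=
      (Subgroup.mem_centralizer_iff.mp (Subgroup.mem_inf.mp hc).2) z hzT
    have hcomm' : z * (⟨c, hc'⟩ : ↥(R ⊔ T)) = ⟨c, hc'⟩ * z := Subtype.ext hcomm
    rw [← hz, ← map_mul, ← map_mul, hcomm']
  have h6 : φ x = (ψ ⟨c, hc'⟩ * ψ ⟨t, ht'⟩) *
      ((φ x)⁻¹ * (ψ ⟨c, hc'⟩ * ψ ⟨t, ht'⟩))⁻¹ := by group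
  rw [h6]
  refine Subgroup.mul_mem _ (Subgroup.mul_mem _ ((le_sup_right : _ ≤ T ⊔ centralizerIn S T) h4)
    ((le_sup_left : T ≤ T ⊔ centralizerIn S T) h5))
    (Subgroup.inv_mem _ ((le_sup_left : T ≤ T ⊔ centralizerIn S T) h3))

end Cfsg.Agent.S5255
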