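import Cfsg.Statements.S5290
import Cfsg.Agent.S5106
import Cfsg.Agent.Lib.Helper9.FusionInnerSat

set_option autoImplicit false
open Cfsg

namespace Cfsg.Agent.S5290

open Cfsg.Agent.Lib.Helper9 Cfsg.FusionSystem

/-- Let F be a saturated fusion system over a finite p-group S and Q a subgroup of S. Then Q is normal in F (F = N_F(Q)) if and only if the inner fusion system of Q, consisting of the conjugations by elements of Q on subgroups of Q, is a weakly normal subsystem of F (both saturated, Q strongly closed, invariant under F-conjugation, with the Frattini property). -/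
theorem result {Ω : Type*} [Group Ω] {S : Subgroup Ω} [Finite S] (p : ℕ) [Fact p.Prime] (hS : IsPGroup p S)
    (F : Cfsg.FusionSystem S) (hF : F.IsSaturated p)
    (Q : Subgroup Ω) (hQ : Q ≤ S) :
    F.IsNormal Q ↔ (Cfsg.innerFusionSystem Q).IsWeaklyNormalIn F p := by
  have hfinQ : Finite Q := finite_of_le' hQ
  have hQp : IsPGroup p Q := hS.to_le hQ
  constructor
  · intro hQn
    have hQsc := ((Cfsg.Agent.S5086.result p hS F hF Q).mp hQn).1
    have hext := (Cfsg.Agent.S5106.result p hS F hF Q hQ).mp hQn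
    refine ⟨inner_saturated p hQp, hF, ?_, hQsc, ?_, ?_⟩
    · rintro P φ ⟨hP, g, hg, hgx⟩
      have : φ = conjHom P g := by
        ext x
        rw [hgx x]
        rfl
      rw [this]
      exact F.conj_mem (hP.trans hQ) (hQ hg)
    · rintro P hPQ φ ⟨-, g, hg, hgx⟩ α _
      refine ⟨conjHom _ ((α ⟨g, hg⟩ : Q) : Ω), ⟨?_, _, (α ⟨g, hg⟩).2, fun x => rfl⟩, ?_⟩
      · rintro _ ⟨x, -, rfl⟩
        exact (α x).2
      · intro x hφx hαx
        have e : (⟨φ x, hφx⟩ : Q) = ⟨g, hg⟩ * ⟨x, hPQ x.2⟩ * (⟨g, hg⟩ : Q)⁻¹ :=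
          Subtype.ext (hgx x)
        rw [e, map_mul, map_mul, map_inv]
        rfl
    · intro P hPQ φ hφ
      obtain ⟨α, hα, hαx⟩ := hext P hPQ φ hφ
      refine ⟨α, hα, P.subtype, ⟨hPQ, 1, Q.one_mem, fun x => by simp⟩, fun x hx => ?_⟩
      rw [← hαx x]
      rfl
  · rintro ⟨-, -, -, hQsc, -, hfr⟩
    rw [Cfsg.Agent.S5106.result p hS F hF Q hQ]
    intro P hPQ φ hφ
    obtain ⟨α, hα, φ₀, ⟨-, g, hg, hgx⟩, hφx⟩ := hfr P hPQ φ hφ
    have hc : MulAut.conj (⟨g, hg⟩ : Q) ∈ F.autGroup Q := by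
      rw [mem_autGroup_iff F hQ]
      have : Q.subtype.comp (MulAut.conj (⟨g, hg⟩ : Q)).toMonoidHom = conjHom Q g := by
        ext x; rfl
      rw [this]
      exact F.conj_mem hQ (hQ hg)
    refine ⟨α * MulAut.conj (⟨g, hg⟩ : Q), (F.autGroup Q).mul_mem hα hc, fun x => ?_⟩
    have hx : φ₀ x ∈ Q := by
      rw [hgx]
      exact Q.mul_mem (Q.mul_mem hg (hPQ x.2)) (Q.inv_mem hg)
    rw [hφx x hx]
    show ((α (MulAut.conj (⟨g, hg⟩ : Q) (Subgroup.inclusion hPQ x)) : Q) : Ω) = _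
    congr 2
    apply Subtype.ext
    exact (hgx x).symm

end Cfsg.Agent.S5290
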