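import Cfsg.Statements.S5291
import Cfsg.Agent.S5085
import Cfsg.Agent.S5086
import Cfsg.Agent.S5088
import Cfsg.Agent.Lib.Helper9.FusionAutMorph
import Cfsg.Agent.Lib.Helper9.Fusion2
-- import your own Cfsg.Agent.* helpers here

set_option autoImplicit false
open Cfsg

namespace Cfsg.Agent.S5291

open Cfsg.FusionSystem Cfsg.Agent.Lib.Helper9

open scoped commutatorElement

/-- The terms of the upper central series of an `Aut`-invariant subgroup are `Aut`-invariant. -/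
theorem ucs_invariant {Ω : Type*} [Group Ω] {T : Subgroup Ω} (A : Subgroup (MulAut T))
    (Rs : Subgroup Ω) (hRsT : Rs ≤ T)
    (hinv : ∀ α ∈ A, ∀ t : T, (t : Ω) ∈ Rs → ((α t : T) : Ω) ∈ Rs) :
    ∀ (i : ℕ), ∀ α ∈ A, ∀ t : T, (t : Ω) ∈ (Subgroup.upperCentralSeries Rs i).map Rs.subtype →
      ((α t : T) : Ω) ∈ (Subgroup.upperCentralSeries Rs i).map Rs.subtype := by
  intro i
  induction i with
  | zero =>
    intro α hα t ht
    rw [Subgroup.upperCentralSeries_zero, Subgroup.map_bot, Subgroup.mem_bot] at ht ⊢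
    have : t = 1 := Subtype.ext ht
    rw [this, map_one]
    rfl
  | succ i ih =>
    intro α hα t ht
    obtain ⟨z, hz, hzt⟩ := ht
    have htRs : (t : Ω) ∈ Rs := by rw [← hzt]; exact z.2
    have hαt : ((α t : T) : Ω) ∈ Rs := hinv α hα t htRs
    refine ⟨⟨(α t : T), hαt⟩, ?_, rfl⟩
    rw [SetLike.mem_coe] at hz ⊢
    rw [Subgroup.mem_upperCentralSeries_succ_iff] at hz ⊢
    intro y
    have hα' : α⁻¹ ∈ A := A.inv_mem hα
    have hy₀ : ((α⁻¹ ⟨y, hRsT y.2⟩ : T) : Ω) ∈ Rs := hinv α⁻¹ hα' ⟨y, hRsT y.2⟩ y.2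
    have h1 := hz ⟨(α⁻¹ ⟨y, hRsT y.2⟩ : T), hy₀⟩
    rw [commutatorElement_def] at h1
    have h2 := ih α hα ⟨((z * ⟨(α⁻¹ ⟨y, hRsT y.2⟩ : T), hy₀⟩ * z⁻¹ *
      (⟨(α⁻¹ ⟨y, hRsT y.2⟩ : T), hy₀⟩ : Rs)⁻¹ : Rs) : Ω), hRsT (Subtype.coe_prop _)⟩ ⟨_, h1, rfl⟩
    obtain ⟨w, hw, hwe⟩ := h2
    have hwe' : (w : Ω) = ((α ⟨((z * ⟨(α⁻¹ ⟨y, hRsT y.2⟩ : T), hy₀⟩ * z⁻¹ *
      (⟨(α⁻¹ ⟨y, hRsT y.2⟩ : T), hy₀⟩ : Rs)⁻¹ : Rs) : Ω), hRsT (Subtype.coe_prop _)⟩ : T) : Ω) := hwe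
    have e : w = ⁅(⟨(α t : T), hαt⟩ : Rs), y⁆ := by
      apply Subtype.ext
      rw [hwe']
      have e2 : (⟨((z * ⟨(α⁻¹ ⟨y, hRsT y.2⟩ : T), hy₀⟩ * z⁻¹ *
          (⟨(α⁻¹ ⟨y, hRsT y.2⟩ : T), hy₀⟩ : Rs)⁻¹ : Rs) : Ω), hRsT (Subtype.coe_prop _)⟩ : T) =
          t * (α⁻¹ ⟨y, hRsT y.2⟩) * t⁻¹ * (α⁻¹ ⟨y, hRsT y.2⟩)⁻¹ := by
        apply Subtype.ext
        show (z : Ω) * _ * (z : Ω)⁻¹ * _ = (t : Ω) * _ * (t : Ω)⁻¹ * _
        have hzt' : (z : Ω) = t := hzt
        rw [hzt']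
        rfl
      rw [e2, map_mul, map_mul, map_mul, map_inv, map_inv, MulAut.apply_inv_self,
        commutatorElement_def]
      rfl
    rw [← e]
    exact hw

/-- Let F be a saturated fusion system over a finite p-group S and E a weakly normal subsystem of F over a subgroup T. Suppose a subgroup R of T is normal in E (E = N_E(R)), and let R* be the subgroup of T generated by the images of R under all maps of F with source R. Then R* is normal in F (F = N_F(R*)). -/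
theorem result {Ω : Type*} [Group Ω] {S : Subgroup Ω} [Finite S] (p : ℕ) [Fact p.Prime] (hS : IsPGroup p S)
    (F : Cfsg.FusionSystem S) (hF : F.IsSaturated p)
    {T : Subgroup Ω} (E : Cfsg.FusionSystem T) (hE : E.IsWeaklyNormalIn F p)
    (R : Subgroup Ω) (hR : E.IsNormal R) :
    F.IsNormal (Subgroup.closure {x : Ω | ∃ φ ∈ F.Hom R, ∃ r : R, x = φ r}) := by
  obtain ⟨hEsat, -, hinv⟩ := hE
  have hTS : T ≤ S := hinv.2.1.1
  have hfinT : Finite T := finite_of_le' hTS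
  have hTp : IsPGroup p T := hS.to_le hTS
  have hRT : R ≤ T := hR.1
  have hRsc : E.StronglyClosed R := ((Cfsg.Agent.S5086.result p hTp E hEsat R).mp hR).1
  obtain ⟨Rs, hRsdef⟩ : ∃ Rs : Subgroup Ω,
      Rs = Subgroup.closure {x : Ω | ∃ φ ∈ F.Hom R, ∃ r : R, x = φ r} := ⟨_, rfl⟩
  rw [← hRsdef]
  -- Step A
  have hRsT : Rs ≤ T := by
    rw [hRsdef, Subgroup.closure_le]
    rintro _ ⟨φ, hφ, r, rfl⟩
    exact hinv.2.1.2 R hRT φ hφ r
  -- Step B
  have hRsinv : ∀ α ∈ F.autGroup T, ∀ t : T, (t : Ω) ∈ Rs → ((α t : T) : Ω) ∈ Rs := by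
    intro α hα t ht
    have hαF : T.subtype.comp α.toMonoidHom ∈ F.Hom T := (mem_autGroup_iff F hTS α).mp hα
    have hle : Rs ≤ preimageAlong (T.subtype.comp α.toMonoidHom) Rs := by
      rw [hRsdef, Subgroup.closure_le]
      rintro _ ⟨φ, hφ, r, rfl⟩
      have hφT : ∀ x : R, φ x ∈ T := fun x => hinv.2.1.2 R hRT φ hφ x
      show φ r ∈ preimageAlong (T.subtype.comp α.toMonoidHom) _
      rw [mem_preimageAlong (hφT r)]
      apply Subgroup.subset_closure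
      exact ⟨_, F.comp_mem hφ hαF hφT, r, rfl⟩
    exact (mem_preimageAlong t.2).mp (hle ht)
  -- Step C
  have hRsnorm : E.IsNormal Rs := by
    have hmem := sSup_mem_of_sup_closed (S := T) {Q | E.IsNormal Q ∧ Q ≤ Rs}
      ⟨isNormal_bot E, bot_le⟩ (fun Q hQ => hQ.1.1)
      (fun Q₁ h₁ Q₂ h₂ => ⟨isNormal_sup E h₁.1 h₂.1, sup_le h₁.2 h₂.2⟩)
    have hle : Rs ≤ sSup {Q | E.IsNormal Q ∧ Q ≤ Rs} := by
      refine hRsdef.le.trans ?_
      rw [Subgroup.closure_le]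
      rintro _ ⟨φ, hφ, r, rfl⟩
      obtain ⟨α, hα, φ₀, hφ₀, hspec⟩ := hinv.2.2.2 R hRT φ hφ
      have hαF : T.subtype.comp α.toMonoidHom ∈ F.Hom T := (mem_autGroup_iff F hTS α).mp hα
      have h1 : imageAlong (T.subtype.comp α.toMonoidHom) R ∈ {Q | E.IsNormal Q ∧ Q ≤ Rs} := by
        refine ⟨isNormal_image_of_invariant E F hinv hα hR, ?_⟩
        rintro _ ⟨q, hq, rfl⟩
        rw [hRsdef]
        apply Subgroup.subset_closure
        exact ⟨_, restrict_mem F hαF hRT, ⟨q, Subgroup.mem_subgroupOf.mp hq⟩, rfl⟩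
      have h2 : φ r ∈ imageAlong (T.subtype.comp α.toMonoidHom) R := by
        rw [hspec r ((E.le_of_mem hφ₀).2 r)]
        exact ⟨⟨φ₀ r, (E.le_of_mem hφ₀).2 r⟩,
          Subgroup.mem_subgroupOf.mpr (hRsc.2 R le_rfl φ₀ hφ₀ r), rfl⟩
      exact (le_sSup h1) h2
    have heq : Rs = sSup {Q | E.IsNormal Q ∧ Q ≤ Rs} := le_antisymm hle hmem.2
    rw [heq]
    exact hmem.1
  have hRsS : Rs ≤ S := hRsT.trans hTS
  have hfinRs : Finite Rs := finite_of_le' hRsS
  have hRsp : IsPGroup p Rs := hS.to_le hRsS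
  have : Group.IsNilpotent Rs := hRsp.isNilpotent
  have hucsF : ∀ i : ℕ, F.StronglyClosed ((Subgroup.upperCentralSeries Rs i).map Rs.subtype) := by
    intro i
    have hle : (Subgroup.upperCentralSeries Rs i).map Rs.subtype ≤ Rs := by
      rintro _ ⟨x, -, rfl⟩
      exact x.2
    have hchar : (((Subgroup.upperCentralSeries Rs i).map Rs.subtype).subgroupOf Rs).Characteristic := by
      have : ((Subgroup.upperCentralSeries Rs i).map Rs.subtype).subgroupOf Rs =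
          Subgroup.upperCentralSeries Rs i := by
        ext x
        rw [Subgroup.mem_subgroupOf]
        constructor
        · rintro ⟨y, hy, hyx⟩
          have : y = x := Subtype.ext hyx
          rw [← this]; exact hy
        · intro hx
          exact ⟨x, hx, rfl⟩
      rw [this]
      infer_instance
    have hnorm := Cfsg.Agent.S5085.result E Rs _ hRsnorm hle hchar
    have hscE := ((Cfsg.Agent.S5086.result p hTp E hEsat _).mp hnorm).1
    exact stronglyClosed_of_invariant E F hinv hscE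
      (ucs_invariant (F.autGroup T) Rs hRsT hRsinv i)
  rw [Cfsg.Agent.S5088.result p hS F hF Rs]
  refine ⟨Group.nilpotencyClass Rs, fun i => (Subgroup.upperCentralSeries Rs i).map Rs.subtype,
    ?_, ?_, ?_, ?_⟩
  · show (Subgroup.upperCentralSeries Rs ((0 : Fin (Group.nilpotencyClass Rs + 1)) : ℕ)).map
      Rs.subtype = ⊥
    rw [Fin.val_zero, Subgroup.upperCentralSeries_zero, Subgroup.map_bot]
  · show (Subgroup.upperCentralSeries Rs ((Fin.last (Group.nilpotencyClass Rs)) : ℕ)).map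
      Rs.subtype = Rs
    rw [Fin.val_last, Subgroup.upperCentralSeries_nilpotencyClass, ← MonoidHom.range_eq_map,
      Subgroup.range_subtype]
  · intro i j hij
    exact Subgroup.map_mono (Subgroup.upperCentralSeries_mono Rs hij)
  · intro i
    refine ⟨hucsF _, ?_⟩
    rw [Subgroup.commutator_le]
    rintro g₁ hg₁ _ ⟨z, hz, rfl⟩
    have hz' : z ∈ Subgroup.upperCentralSeries Rs ((i : ℕ) + 1) := by
      simpa using hz
    rw [Subgroup.mem_upperCentralSeries_succ_iff] at hz'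
    have h1 := hz' ⟨g₁, hg₁⟩
    refine ⟨(⁅z, (⟨g₁, hg₁⟩ : Rs)⁆)⁻¹, Subgroup.inv_mem _ h1, ?_⟩
    rw [commutatorElement_inv]
    rfl

end Cfsg.Agent.S5291
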