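import Cfsg.Statements.S5294
import Cfsg.Agent.Lib.Helper9.FusionGrun
import Cfsg.Agent.Lib.Helper9.RelTrace
import Cfsg.Agent.Lib.Helper9.Fusion2
import Cfsg.Agent.Lib.Helper9.FusionChain2
import Cfsg.Agent.Lib.Helper9.FusionNorm
import Cfsg.Agent.S5084
import Cfsg.Agent.S5086
-- import your own Cfsg.Agent.* helpers here

set_option autoImplicit false
universe u
open Cfsg

namespace Cfsg.Agent.S5294

open Cfsg.FusionSystem Cfsg.Agent.Lib.Helper9
open scoped IsMulCommutative

/-- The restriction homomorphism from automorphisms of a group to automorphisms of its centre. -/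
noncomputable def centerHom (G : Type*) [Group G] : MulAut G →* MulAut (Subgroup.center G) :=
  MonoidHom.mk' (fun a => Subgroup.centerCongr a) (fun a b => by ext x; rfl)

theorem centerHom_apply {G : Type*} [Group G] (a : MulAut G) (v : Subgroup.center G) :
    ((centerHom G a v : Subgroup.center G) : G) = a v := rfl

/-- Elements of the core fixed by all of `Aut_F(O_p(F))` are central in `F`. -/
theorem mem_center_of_fixed {Ω : Type u} [Group Ω] {S : Subgroup Ω} [Finite S] (p : ℕ) [Fact p.Prime]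
    (hS : IsPGroup p S) (F : Cfsg.FusionSystem S) (hF : F.IsSaturated p) (v : F.core)
    (hv : ∀ a ∈ F.autGroup F.core, a v = v) : (v : Ω) ∈ F.center := by
  have hQn := isNormal_core F
  have hQS : F.core ≤ S := hQn.1
  have hcen : F.IsCentral (Subgroup.zpowers (v : Ω)) := by
    apply (Cfsg.Agent.S5084.result p hS F hF _).mpr
    refine ⟨Subgroup.zpowers_le.mpr (hQS v.2), ?_⟩
    rintro x hx y ⟨φ, hφ, rfl⟩
    obtain ⟨i, rfl⟩ := Subgroup.mem_zpowers_iff.mp hx
    have hxQ : (v : Ω) ^ i ∈ F.core := F.core.zpow_mem v.2 i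
    obtain ⟨ψ, hψ, hψP, hψQ⟩ := hQn.2 _ φ hφ
    rw [map_subgroupOf_eq_iff] at hψQ
    have hle : F.core ≤ Subgroup.zpowers ((v : Ω) ^ i) ⊔ F.core := le_sup_right
    have hψ' := restrict_mem F hψ hle
    obtain ⟨a, ha, hax⟩ := exists_aut_of_hom_self F hψ' (fun q => hψQ.1 q)
    have h1 := hax ⟨(v : Ω) ^ i, hxQ⟩
    have h2 : a ⟨(v : Ω) ^ i, hxQ⟩ = ⟨(v : Ω) ^ i, hxQ⟩ := by
      have e : (⟨(v : Ω) ^ i, hxQ⟩ : F.core) = v ^ i := Subtype.ext (by simp)
      rw [e, map_zpow, hv a ha]
    rw [h2] at h1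
    rw [← hψP ⟨(v : Ω) ^ i, Subgroup.mem_zpowers _⟩]
    exact h1.symm
  have hle : Subgroup.zpowers (v : Ω) ≤ F.center := le_sSup hcen
  exact hle (Subgroup.mem_zpowers _)

/-- Let F be a saturated fusion system over a finite p-group S whose centre Z(S) lies in the largest subgroup O_p(F) normal in F. Then the centre Z(F) of F is a direct factor of Z(S): there is a subgroup K of Z(S) with Z(F) ∩ K = 1 and Z(F)K = Z(S). -/
theorem result {Ω : Type u} [Group Ω] {S : Subgroup Ω} [Finite S] (p : ℕ) [Fact p.Prime] (hS : IsPGroup p S)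
    (F : Cfsg.FusionSystem S) (hF : F.IsSaturated p) (hZ : (S ⊓ Subgroup.centralizer (S : Set Ω)) ≤ F.core) :
    ∃ K : Subgroup Ω, K ≤ (S ⊓ Subgroup.centralizer (S : Set Ω)) ∧ F.center ⊓ K = ⊥ ∧ F.center ⊔ K = (S ⊓ Subgroup.centralizer (S : Set Ω)) := by
  have hp : p.Prime := Fact.out
  have hQn := isNormal_core F
  have hQsc := ((Cfsg.Agent.S5086.result p hS F hF F.core).mp hQn).1
  have hQS : F.core ≤ S := hQn.1
  have hZc := isCentral_center F
  haveI hfinQ : Finite ↥F.core := finite_of_le' hQS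
  have hSnorm : S ≤ Subgroup.normalizer (F.core : Set Ω) := le_normalizer_of_stronglyClosed F hQsc
  have hnorm : normalizerIn S F.core = S := by
    unfold normalizerIn
    exact inf_of_le_left hSnorm
  have hfn : F.IsFullyNormalized F.core := by
    refine ⟨hQS, fun Q' _ => ?_⟩
    rw [hnorm]
    exact Nat.card_le_card_of_injective _
      (Subgroup.inclusion_injective (normalizerIn_le_left S Q'))
  obtain ⟨R, hR⟩ := (sat_fullyNormalized p hS F hF hfn).2.2
  have hidx : ¬ p ∣ ((autInducedBy S F.core).subgroupOf (F.autGroup F.core)).index := by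
    rw [← hR]
    exact R.not_dvd_index
  have hMp : IsPGroup p (Subgroup.center ↥F.core) := (hS.to_le hQS).to_subgroup _
  obtain ⟨k, hk⟩ := IsPGroup.iff_card.mp hMp
  have hcop : (Nat.card (Subgroup.center ↥F.core)).Coprime
      ((autInducedBy S F.core).subgroupOf (F.autGroup F.core)).index := by
    rw [hk]
    exact Nat.Coprime.pow_left k ((Nat.Prime.coprime_iff_not_dvd hp).mpr hidx)
  obtain ⟨K, hKP, hKA, hdec⟩ := exists_fixed_complement
    ((centerHom ↥F.core).comp (F.autGroup F.core).subtype)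
    ((autInducedBy S F.core).subgroupOf (F.autGroup F.core)) hcop
  -- characterization of the fixed points
  have char1 : ∀ v : Subgroup.center ↥F.core,
      (∀ h ∈ (autInducedBy S F.core).subgroupOf (F.autGroup F.core),
        ((centerHom ↥F.core).comp (F.autGroup F.core).subtype) h v = v) ↔
      ((v : F.core) : Ω) ∈ S ⊓ Subgroup.centralizer (S : Set Ω) := by
    intro v
    constructor
    · intro hv
      refine Subgroup.mem_inf.mpr ⟨hQS (v : F.core).2, ?_⟩
      rw [Subgroup.mem_centralizer_iff]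
      intro s hs
      have hcs : normConj F.core ⟨s, hSnorm hs⟩ ∈ autInducedBy S F.core := by
        rw [autInducedBy_eq_map]
        exact ⟨⟨s, hSnorm hs⟩, Subgroup.mem_subgroupOf.mpr hs, rfl⟩
      have hcsA := autInducedBy_le_autGroup F hQS hcs
      have h1 := hv ⟨_, hcsA⟩ (Subgroup.mem_subgroupOf.mpr hcs)
      have h2 : ((normConj F.core ⟨s, hSnorm hs⟩ (v : F.core) : F.core) : Ω) = ((v : F.core) : Ω) :=
        congrArg (fun w : Subgroup.center ↥F.core => ((w : F.core) : Ω)) h1
      rw [normConj_apply] at h2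
      calc s * ((v : F.core) : Ω) = (s * ((v : F.core) : Ω) * s⁻¹) * s := by group
        _ = ((v : F.core) : Ω) * s := by rw [h2]
    · intro hv h hh
      have hh' : (h : MulAut F.core) ∈ autInducedBy S F.core := Subgroup.mem_subgroupOf.mp hh
      rw [autInducedBy_eq_map] at hh'
      obtain ⟨n, hn, hnh⟩ := hh'
      have hnS : (n : Ω) ∈ S := Subgroup.mem_subgroupOf.mp hn
      apply Subtype.ext
      apply Subtype.ext
      show (((h : MulAut F.core) (v : F.core) : F.core) : Ω) = ((v : F.core) : Ω)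
      rw [← hnh, normConj_apply]
      have := Subgroup.mem_centralizer_iff.mp hv.2 (n : Ω) hnS
      rw [this]
      group
  have char2 : ∀ v : Subgroup.center ↥F.core,
      (∀ a : F.autGroup F.core,
        ((centerHom ↥F.core).comp (F.autGroup F.core).subtype) a v = v) ↔
      ((v : F.core) : Ω) ∈ F.center := by
    intro v
    constructor
    · intro hv
      apply mem_center_of_fixed p hS F hF (v : F.core)
      intro a ha
      have h1 := hv ⟨a, ha⟩
      exact congrArg (fun w : Subgroup.center ↥F.core => (w : F.core)) h1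
    · intro hv a
      have hφ := (mem_autGroup_iff F hQS (a : MulAut F.core)).mp a.2
      have h1 := central_fix F hZc hφ (v : F.core) hv
      apply Subtype.ext
      apply Subtype.ext
      exact h1
  have hZSM : ∀ x ∈ S ⊓ Subgroup.centralizer (S : Set Ω),
      ∃ v : Subgroup.center ↥F.core, ((v : F.core) : Ω) = x := by
    intro x hx
    have hxQ : x ∈ F.core := hZ hx
    refine ⟨⟨⟨x, hxQ⟩, ?_⟩, rfl⟩
    rw [Subgroup.mem_center_iff]
    intro g
    apply Subtype.ext
    show (g : Ω) * x = x * (g : Ω)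
    exact Subgroup.mem_centralizer_iff.mp hx.2 (g : Ω) (hQS g.2)
  have hK1 : (K.map (Subgroup.center ↥F.core).subtype).map F.core.subtype ≤
      S ⊓ Subgroup.centralizer (S : Set Ω) := by
    rintro _ ⟨_, ⟨v, hv, rfl⟩, rfl⟩
    exact (char1 v).mp (hKP v hv)
  have hcenZS : F.center ≤ S ⊓ Subgroup.centralizer (S : Set Ω) := by
    intro z hz
    refine Subgroup.mem_inf.mpr ⟨hZc.1 hz, ?_⟩
    rw [Subgroup.mem_centralizer_iff]
    intro s hs
    have := central_comm F hZc hs hz
    calc s * z = (s * z * s⁻¹) * s := by group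
      _ = z * s := by rw [this]
  refine ⟨(K.map (Subgroup.center ↥F.core).subtype).map F.core.subtype, hK1, ?_, ?_⟩
  · rw [eq_bot_iff]
    rintro x ⟨hxZ, ⟨_, ⟨v, hv, rfl⟩, rfl⟩⟩
    have h1 := hKA v hv ((char2 v).mpr hxZ)
    rw [h1]
    exact Subgroup.one_mem _
  · apply le_antisymm (sup_le hcenZS hK1)
    intro x hx
    obtain ⟨v, rfl⟩ := hZSM x hx
    obtain ⟨u, k', hu, hk', rfl⟩ := hdec v ((char1 v).mpr hx)
    have e : (((u * k' : Subgroup.center ↥F.core) : F.core) : Ω) =
        ((u : F.core) : Ω) * ((k' : F.core) : Ω) := rfl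
    rw [e]
    exact Subgroup.mul_mem_sup ((char2 u).mp hu) ⟨_, ⟨k', hk', rfl⟩, rfl⟩

end Cfsg.Agent.S5294
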