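import Cfsg.Statements.S5299
import Cfsg.Agent.Lib.Helper9.SectionSylow
-- import your own Cfsg.Agent.* helpers here

set_option autoImplicit false
universe u
open Cfsg

namespace Cfsg.Agent.S5299

open Cfsg.Agent.Lib.Helper9

/-- Let F be a saturated fusion system over a finite p-group S, H a finite group and Q a p-subgroup of H. If Q is not involved in S (no section of S is isomorphic to Q), then F is H-free: H is involved in no model of the normalizer system of a fully normalized centric subgroup. -/
theorem result {Ω : Type u} [Group Ω] {S : Subgroup Ω} [Finite S] (p : ℕ) [Fact p.Prime] (hS : IsPGroup p S)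
    (F : Cfsg.FusionSystem S) (hF : F.IsSaturated p) (H : Type*) [Group H] [Finite H] (Q : Subgroup H) (hQ : IsPGroup p Q)
    (hfree : ¬ Cfsg.Involves (↥Q) (↥S)) : F.IsSectionFree p H := by
  intro Q' _ _ N _ L _ ι hmodel hInv
  apply hfree
  obtain ⟨hfin, hreal, ⟨T, hT⟩, _⟩ := hmodel
  haveI : Finite L := hfin
  have hι : Function.Injective ι := hreal.1
  have h1 : Cfsg.Involves ↥Q L := Cfsg.Agent.Lib.Helper3.involves_subgroup hInv Q
  have h2 : Cfsg.Involves ↥Q ↥(T : Subgroup L) := SectionSylow.involves_sylow hQ h1 T
  -- embed `T` into `S`
  have hle : Cfsg.FusionSystem.normalizerIn S Q' ≤ S := inf_le_left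
  let e := MonoidHom.ofInjective hι
  let j : ↥(T : Subgroup L) →* ↥S :=
    (Subgroup.inclusion hle).comp
      (e.symm.toMonoidHom.comp (MulEquiv.subgroupCongr hT).toMonoidHom)
  have hj : Function.Injective j := by
    have i1 : Function.Injective (Subgroup.inclusion hle) := Subgroup.inclusion_injective hle
    have i2 : Function.Injective e.symm.toMonoidHom := e.symm.injective
    have i3 : Function.Injective (MulEquiv.subgroupCongr hT).toMonoidHom :=
      (MulEquiv.subgroupCongr hT).injective
    exact i1.comp (i2.comp i3)
  exact SectionSylow.involves_of_injective j hj h2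

end Cfsg.Agent.S5299
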