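import Cfsg.Statements.S5301
import Cfsg.Agent.S5087
import Cfsg.Agent.Lib.Helper9.FusionChain3

set_option autoImplicit false
universe u
open Cfsg

namespace Cfsg.Agent.S5301

open Cfsg.Agent.Lib.Helper9 Cfsg.FusionSystem

/-- Let F be a saturated fusion system over a finite p-group S. If for every subgroup P of S that is fully normalized, centric and radical in F the automorphism group that F induces on P has a normal Sylow p-subgroup, then S is normal in F. -/
theorem result {Ω : Type u} [Group Ω] {S : Subgroup Ω} [Finite S] (p : ℕ) [Fact p.Prime] (hS : IsPGroup p S)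
    (F : Cfsg.FusionSystem S) (hF : F.IsSaturated p)
    (hcl : ∀ P : Subgroup Ω, F.IsFullyNormalized P → F.IsCentric P → F.IsRadical p P →
      ∃ R : Sylow p ↥(F.autGroup P), (R : Subgroup ↥(F.autGroup P)).Normal) :
    F.IsNormal S := by
  rw [Cfsg.Agent.S5087.result p hS F hF S]
  have htop : ∀ P : Subgroup Ω, P = S → (S ≤ P ∧ ∀ α ∈ F.autGroup P,
      (S.subgroupOf P).map α.toMonoidHom = S.subgroupOf P) := by
    rintro P rfl
    refine ⟨le_rfl, fun α _ => ?_⟩
    have : P.subgroupOf P = ⊤ := Subgroup.subgroupOf_self P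
    rw [this]
    exact Subgroup.map_top_of_surjective _ α.surjective
  intro P hP
  rcases hP with rfl | hess
  · exact htop _ rfl
  · apply htop
    have hcen := hess.1
    have hfn := hess.2.1
    have hrad := Cfsg.Agent.S5080.result p hS F hF P hess
    have hPS := hcen.1
    have hC : centralizerIn S P ≤ P := hcen.2 P (isConj_refl F hPS)
    obtain ⟨R, hRn⟩ := hcl P hfn hcen hrad
    obtain ⟨-, hfa⟩ := sat_fullyNormalized p hS F hF hfn
    obtain ⟨Rs, hRs⟩ := hfa.2
    have hfinP : Finite P := finite_of_le' hPS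
    have hfinA : Finite (MulAut P) := inferInstance
    have hRsR : Rs = R := by
      obtain ⟨g, hg⟩ := MulAction.exists_smul_eq (F.autGroup P) R Rs
      rw [← hg]
      haveI := hRn
      exact Sylow.smul_eq_of_normal
    have hcore : (R : Subgroup (F.autGroup P)) ≤ pCore p ↥(F.autGroup P) :=
      le_sSup ⟨hRn, R.2⟩
    by_contra hne
    have hlt := lt_normalizerIn p hS hPS hne
    obtain ⟨g, hgN, hgP⟩ := SetLike.exists_of_lt hlt
    have hgS : g ∈ S := (Subgroup.mem_inf.mp hgN).1
    have hgN' : g ∈ Subgroup.normalizer (P : Set Ω) := (Subgroup.mem_inf.mp hgN).2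
    have hcS : normConj P ⟨g, hgN'⟩ ∈ autInducedBy S P :=
      Subgroup.subset_closure ⟨g, hgS, fun x => rfl⟩
    have hcA : normConj P ⟨g, hgN'⟩ ∈ F.autGroup P := autInducedBy_le_autGroup F hPS hcS
    have h1 : (⟨normConj P ⟨g, hgN'⟩, hcA⟩ : F.autGroup P) ∈ (Rs : Subgroup (F.autGroup P)) := by
      rw [hRs]
      exact Subgroup.mem_subgroupOf.mpr hcS
    rw [hRsR] at h1
    have h2 := hcore h1
    have h3 : normConj P ⟨g, hgN'⟩ ∈ (pCore p ↥(F.autGroup P)).map (F.autGroup P).subtype :=
      ⟨_, h2, rfl⟩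
    rw [hrad.2] at h3
    exact hgP (mem_of_normConj_mem_inn hPS hC hgS hgN' h3)

end Cfsg.Agent.S5301
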