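import Cfsg.Statements.S5315
import Cfsg.Agent.Lib.Helper9.FusionGrun
import Cfsg.Agent.S5084
import Cfsg.Agent.Lib.Helper9.Fusion2
-- import your own Cfsg.Agent.* helpers here

set_option autoImplicit false
open Cfsg

namespace Cfsg.Agent.S5315

open Cfsg.FusionSystem Cfsg.Agent.Lib.Helper9

section

variable {Ω : Type*} [Group Ω] {S : Subgroup Ω} [Finite S] (p : ℕ) [Fact p.Prime]
  (hS : IsPGroup p S) (F : Cfsg.FusionSystem S) (hF : F.IsSaturated p)
  {Ω' : Type*} [Group Ω'] {S' : Subgroup Ω'} (θ : S →* Ω') (E : Cfsg.FusionSystem S')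
  (hE : F.IsFactorSystem F.center θ E) {Q' : Subgroup Ω'} (hQ' : E.IsCentral Q')

include hS hF hE hQ'

theorem claimA {P : Subgroup Ω} {φ : P →* Ω} (hφ : φ ∈ F.Hom P) (hPS : P ≤ S) (w : P)
    (hw : θ ⟨w, hPS w.2⟩ ∈ Q') : (w : Ω)⁻¹ * φ w ∈ F.center := by
  have hZ := isCentral_center F
  have hZsc := central_stronglyClosed F hZ
  obtain ⟨φ', hφ', hP, hφS, hPP', hind⟩ :=
    Cfsg.Agent.S5134.exists_induced_of_factorSystem p hS F hF _ hZsc θ E hE P _ hφ
  have h1 := central_fix E hQ' hφ' ⟨θ ⟨w, hP w.2⟩, hPP' w⟩ hw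
  have h2 := hind w
  rw [h1] at h2
  have h3 : θ ((⟨w, hP w.2⟩ : S)⁻¹ * ⟨φ w, hφS w⟩) = 1 := by
    rw [map_mul, map_inv, ← h2]
    exact inv_mul_cancel _
  exact (hE.2.1 _).mp h3

theorem claimB {R : Subgroup Ω} (hRS : R ≤ S) (γ : MulAut R) (hγ : γ ∈ F.autGroup R)
    (hord : Nat.Coprime (orderOf γ) p) (w : R) (hw : θ ⟨w, hRS w.2⟩ ∈ Q') : γ w = w := by
  have hZ := isCentral_center F
  have hφ := (mem_autGroup_iff F hRS γ).mp hγ
  have hζ : ((w⁻¹ * γ w : R) : Ω) ∈ F.center := claimA p hS F hF θ E hE hQ' hφ hRS w hw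
  have hfix : γ (w⁻¹ * γ w) = w⁻¹ * γ w := by
    apply Subtype.ext
    exact central_fix F hZ hφ (w⁻¹ * γ w) hζ
  have hpow : ∀ n : ℕ, (γ ^ n) w = w * (w⁻¹ * γ w) ^ n := by
    intro n
    induction n with
    | zero => simp
    | succ n ih =>
      rw [pow_succ']
      show γ ((γ ^ n) w) = _
      rw [ih, map_mul, map_pow, hfix, pow_succ']
      simp [mul_assoc]
  have h1 := hpow (orderOf γ)
  rw [pow_orderOf_eq_one] at h1
  have h2 : (w⁻¹ * γ w) ^ orderOf γ = 1 := by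
    have : w * 1 = w * (w⁻¹ * γ w) ^ orderOf γ := by rw [mul_one]; exact h1
    exact (mul_left_cancel this).symm
  obtain ⟨k, hk⟩ := hS ⟨((w⁻¹ * γ w : R) : Ω), hRS (w⁻¹ * γ w).2⟩
  have h3 : (w⁻¹ * γ w) ^ p ^ k = 1 := by
    apply Subtype.ext
    have := congrArg Subtype.val hk
    simpa using this
  have h4 : orderOf (w⁻¹ * γ w) ∣ Nat.gcd (orderOf γ) (p ^ k) :=
    Nat.dvd_gcd (orderOf_dvd_of_pow_eq_one h2) (orderOf_dvd_of_pow_eq_one h3)
  have h5 : Nat.gcd (orderOf γ) (p ^ k) = 1 := Nat.Coprime.pow_right k hord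
  rw [h5, Nat.dvd_one, orderOf_eq_one_iff] at h4
  have : γ w = w * (w⁻¹ * γ w) := by group
  rw [this, h4, mul_one]

theorem claimC (hperf : F.hyperfocalSubgroup p = S) (w : S) (hw : θ w ∈ Q') :
    ∀ s ∈ S, (w : Ω) * s = s * (w : Ω) := by
  have hZ := isCentral_center F
  have hZsc := central_stronglyClosed F hZ
  have hle : F.hyperfocalSubgroup p ≤ Subgroup.centralizer {(w : Ω)} := by
    apply hyperfocal_le_of_gen
    intro P hPS α hα hord x
    obtain ⟨hle, β, hβ, hβα⟩ := lift_ext p hS F hF _ hZsc θ E hE hQ' hPS hα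
    have hRS : preimageAlong θ (imageAlong θ P ⊔ Q') ≤ S := preimageAlong_le θ _
    haveI hfinR : Finite ↥(preimageAlong θ (imageAlong θ P ⊔ Q')) := finite_of_le' hRS
    obtain ⟨k, hk1, hkord⟩ := exists_pow_coprime_modEq p β (orderOf α) hord
    have hαk : α ^ k = α := pow_eq_self_of_modEq α (pow_orderOf_eq_one α) hk1
    have hγ : β ^ k ∈ F.autGroup (preimageAlong θ (imageAlong θ P ⊔ Q')) :=
      Subgroup.pow_mem _ hβ k
    have hγα := ext_pow_general F hZsc hRS hle α β hβ hβα k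
    rw [hαk] at hγα
    have hwR : (w : Ω) ∈ preimageAlong θ (imageAlong θ P ⊔ Q') := by
      rw [mem_preimageAlong w.2]
      exact (le_sup_right : Q' ≤ imageAlong θ P ⊔ Q') hw
    have hγw : (β ^ k) ⟨w, hwR⟩ = ⟨w, hwR⟩ :=
      claimB p hS F hF θ E hE hQ' hRS (β ^ k) hγ hkord ⟨w, hwR⟩ hw
    -- the commutator d
    have hxS : (x : Ω) ∈ S := hPS x.2
    have hd : (w : Ω)⁻¹ * ((x : Ω) * (w : Ω) * (x : Ω)⁻¹) ∈ F.center :=
      claimA p hS F hF θ E hE hQ' (F.conj_mem hRS hxS) hRS ⟨w, hwR⟩ hw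
    have hφγ := (mem_autGroup_iff F hRS (β ^ k)).mp hγ
    have hd' : (((⟨w, hwR⟩ : ↥(preimageAlong θ (imageAlong θ P ⊔ Q')))⁻¹ *
        (Subgroup.inclusion hle x * (⟨w, hwR⟩ : ↥(preimageAlong θ (imageAlong θ P ⊔ Q'))) *
          (Subgroup.inclusion hle x)⁻¹) : ↥(preimageAlong θ (imageAlong θ P ⊔ Q'))) : Ω) ∈
        F.center := hd
    have hdfix := central_fix F hZ hφγ _ hd'
    have hdfix' : (((β ^ k) ((⟨w, hwR⟩ : ↥(preimageAlong θ (imageAlong θ P ⊔ Q')))⁻¹ *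
        (Subgroup.inclusion hle x * ⟨w, hwR⟩ * (Subgroup.inclusion hle x)⁻¹)) :
        ↥(preimageAlong θ (imageAlong θ P ⊔ Q'))) : Ω) =
        (w : Ω)⁻¹ * ((x : Ω) * (w : Ω) * (x : Ω)⁻¹) := hdfix
    rw [map_mul, map_mul, map_mul, map_inv, map_inv, hγw] at hdfix'
    -- now in Ω
    have hζ := hγα x
    have hζcomm := central_comm F hZ w.2 hζ
    rw [Subgroup.mem_centralizer_iff]
    intro h hh
    rw [Set.mem_singleton_iff] at hh
    rw [hh]
    have hb : ∃ b : Ω, (((β ^ k) (Subgroup.inclusion hle x) :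
        ↥(preimageAlong θ (imageAlong θ P ⊔ Q'))) : Ω) = b := ⟨_, rfl⟩
    obtain ⟨b, hb⟩ := hb
    have hdΩ : (w : Ω)⁻¹ * (b * (w : Ω) * b⁻¹) = (w : Ω)⁻¹ * ((x : Ω) * (w : Ω) * (x : Ω)⁻¹) := by
      rw [← hb]
      exact hdfix'
    rw [hb] at hζ hζcomm
    have h1 : b * (w : Ω) * b⁻¹ = (x : Ω) * (w : Ω) * (x : Ω)⁻¹ := mul_left_cancel hdΩ
    -- b = a ζ, ζ commutes with w
    have h2 : ((α x : P) : Ω) * (w : Ω) * ((α x : P) : Ω)⁻¹ = b * (w : Ω) * b⁻¹ := by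
      have e1 : (w : Ω) * (((α x : P) : Ω)⁻¹ * b) = (((α x : P) : Ω)⁻¹ * b) * (w : Ω) := by
        have := hζcomm
        calc (w : Ω) * (((α x : P) : Ω)⁻¹ * b)
            = ((w : Ω) * (((α x : P) : Ω)⁻¹ * b) * (w : Ω)⁻¹) * (w : Ω) := by group
          _ = (((α x : P) : Ω)⁻¹ * b) * (w : Ω) := by rw [this]
      calc ((α x : P) : Ω) * (w : Ω) * ((α x : P) : Ω)⁻¹
          = ((α x : P) : Ω) * ((w : Ω) * (((α x : P) : Ω)⁻¹ * b)) * b⁻¹ := by group
        _ = ((α x : P) : Ω) * ((((α x : P) : Ω)⁻¹ * b) * (w : Ω)) * b⁻¹ := by rw [e1]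
        _ = b * (w : Ω) * b⁻¹ := by group
    rw [h1] at h2
    calc (w : Ω) * ((x : Ω)⁻¹ * ((α x : P) : Ω))
        = (x : Ω)⁻¹ * ((x : Ω) * (w : Ω) * (x : Ω)⁻¹) * ((α x : P) : Ω) := by group
      _ = (x : Ω)⁻¹ * (((α x : P) : Ω) * (w : Ω) * ((α x : P) : Ω)⁻¹) * ((α x : P) : Ω) := by
          rw [h2]
      _ = (x : Ω)⁻¹ * ((α x : P) : Ω) * (w : Ω) := by group
  intro s hs
  rw [← hperf] at hs
  have := Subgroup.mem_centralizer_iff.mp (hle hs) (w : Ω) (Set.mem_singleton _)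
  exact this

theorem claimD (hperf : F.hyperfocalSubgroup p = S) (w : Ω) (hwS : w ∈ S)
    (hw : θ ⟨w, hwS⟩ ∈ Q') (φ : ↥(Subgroup.zpowers w) →* Ω)
    (hφ : φ ∈ F.Hom (Subgroup.zpowers w)) : φ ⟨w, Subgroup.mem_zpowers w⟩ = w := by
  have hZ := isCentral_center F
  have hC := claimC p hS F hF θ E hE hQ' hperf ⟨w, hwS⟩ hw
  obtain ⟨ψ, hψ, hψP, hψZ⟩ := hZ.2 _ φ hφ
  have hzS : Subgroup.zpowers w ≤ S := Subgroup.zpowers_le.mpr hwS
  have hWS : Subgroup.zpowers w ⊔ F.center ≤ S := sup_le hzS hZ.1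
  have hzle : Subgroup.zpowers w ≤ Subgroup.zpowers w ⊔ F.center := le_sup_left
  have hZle : F.center ≤ Subgroup.zpowers w ⊔ F.center := le_sup_right
  have hθz : ∀ y : ↥(Subgroup.zpowers w), θ ⟨y, hzS y.2⟩ ∈ Q' := by
    rintro ⟨y, hy⟩
    obtain ⟨i, rfl⟩ := Subgroup.mem_zpowers_iff.mp hy
    have : (⟨w ^ i, hzS hy⟩ : S) = (⟨w, hwS⟩ : S) ^ i := Subtype.ext (by simp)
    show θ ⟨w ^ i, hzS hy⟩ ∈ Q'
    rw [this, map_zpow]
    exact Q'.zpow_mem hw i
  have hK : Subgroup.zpowers w ⊔ F.center ≤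
      ((Subgroup.zpowers w ⊔ F.center).comap ψ).map (Subgroup.zpowers w ⊔ F.center).subtype := by
    apply sup_le
    · intro y hy
      refine ⟨⟨y, hzle hy⟩, ?_, rfl⟩
      show ψ ⟨y, hzle hy⟩ ∈ Subgroup.zpowers w ⊔ F.center
      have h1 := hψP ⟨y, hy⟩
      have e : ψ ⟨y, hzle hy⟩ = ψ (Subgroup.inclusion le_sup_left ⟨y, hy⟩) := rfl
      rw [e, h1]
      have h2 := claimA p hS F hF θ E hE hQ' hφ hzS ⟨y, hy⟩ (hθz ⟨y, hy⟩)
      have e2 : φ ⟨y, hy⟩ = y * (y⁻¹ * φ ⟨y, hy⟩) := by group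
      rw [e2]
      exact Subgroup.mul_mem _ (hzle hy) (hZle h2)
    · intro t ht
      refine ⟨⟨t, hZle ht⟩, ?_, rfl⟩
      show ψ ⟨t, hZle ht⟩ ∈ Subgroup.zpowers w ⊔ F.center
      have h1 := hψZ ⟨t, ht⟩
      have e : ψ ⟨t, hZle ht⟩ = ψ (Subgroup.inclusion le_sup_right ⟨t, ht⟩) := rfl
      rw [e, h1]
      exact hZle ht
  have hval : ∀ y : ↥(Subgroup.zpowers w ⊔ F.center), ψ y ∈ Subgroup.zpowers w ⊔ F.center := by
    intro y
    obtain ⟨y', hy', hyy'⟩ := hK y.2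
    have : y' = y := Subtype.ext hyy'
    rw [← this]
    exact hy'
  obtain ⟨ω, hω, hωψ⟩ := exists_aut_of_hom_self F hψ hval
  have hcent : Subgroup.zpowers w ⊔ F.center ≤ Subgroup.centralizer (S : Set Ω) := by
    apply sup_le
    · rw [Subgroup.zpowers_le, Subgroup.mem_centralizer_iff]
      intro s hs
      exact (hC s hs).symm
    · intro ζ hζ
      rw [Subgroup.mem_centralizer_iff]
      intro s hs
      have := central_comm F hZ hs hζ
      calc s * ζ = (s * ζ * s⁻¹) * s := by group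
        _ = ζ * s := by rw [this]
  have hcent' : ∀ s ∈ S, ∀ u ∈ Subgroup.zpowers w ⊔ F.center, s * u * s⁻¹ = u := by
    intro s hs u hu
    have := Subgroup.mem_centralizer_iff.mp (hcent hu) s hs
    rw [this]
    group
  have hcop := autGroup_card_coprime_of_central p hS F hF hWS hcent'
  haveI hfinW : Finite ↥(Subgroup.zpowers w ⊔ F.center) := finite_of_le' hWS
  have hord : Nat.Coprime (orderOf ω) p := by
    have h1 : orderOf (⟨ω, hω⟩ : F.autGroup (Subgroup.zpowers w ⊔ F.center)) ∣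
        Nat.card (F.autGroup (Subgroup.zpowers w ⊔ F.center)) := orderOf_dvd_natCard _
    rw [← Subgroup.orderOf_coe] at h1
    exact Nat.Coprime.coprime_dvd_left h1 hcop
  have hfix := claimB p hS F hF θ E hE hQ' hWS ω hω hord
    ⟨w, hzle (Subgroup.mem_zpowers w)⟩ hw
  have h1 := hψP ⟨w, Subgroup.mem_zpowers w⟩
  rw [← h1]
  have h2 := hωψ ⟨w, hzle (Subgroup.mem_zpowers w)⟩
  rw [hfix] at h2
  exact h2.symm

end

/-- An analogue of Grün's lemma for fusion systems. Let F be a saturated fusion system over a finite p-group S that is perfect in the sense that its hyperfocal subgroup is all of S (F coincides with its p-residual subsystem). Then the second centre of F equals its centre: every fusion system over S/(Z(F) ∩ S) that is the factor system of F modulo its centre Z(F), read through the quotient map, has trivial centre. -/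
theorem result {Ω : Type*} [Group Ω] {S : Subgroup Ω} [Finite S] (p : ℕ) [Fact p.Prime] (hS : IsPGroup p S) (F : Cfsg.FusionSystem S) (hF : F.IsSaturated p)
    (hperf : F.hyperfocalSubgroup p = S)
    (E : Cfsg.FusionSystem (⊤ : Subgroup (↥S ⧸ (F.center).subgroupOf S)))
    (hE : F.IsFactorSystem F.center (QuotientGroup.mk' ((F.center).subgroupOf S)) E) : E.center = ⊥ := by
  rw [eq_bot_iff]
  have hcdef : E.center = sSup {Q | E.IsCentral Q} := rfl
  rw [hcdef]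
  apply sSup_le
  intro Q' hQ' y hy
  have hQ'c : E.IsCentral Q' := hQ'
  obtain ⟨z, rfl⟩ := QuotientGroup.mk'_surjective ((F.center).subgroupOf S) y
  rw [Subgroup.mem_bot]
  apply (hE.2.1 z).mpr
  have hcen : F.IsCentral (Subgroup.zpowers (z : Ω)) := by
    apply (Cfsg.Agent.S5084.result p hS F hF _).mpr
    refine ⟨Subgroup.zpowers_le.mpr z.2, ?_⟩
    rintro x hx y' ⟨φ, hφ, rfl⟩
    obtain ⟨i, rfl⟩ := Subgroup.mem_zpowers_iff.mp hx
    have hxS : (z : Ω) ^ i ∈ S := S.zpow_mem z.2 i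
    have hθ : (QuotientGroup.mk' ((F.center).subgroupOf S)) ⟨(z : Ω) ^ i, hxS⟩ ∈ Q' := by
      have : (⟨(z : Ω) ^ i, hxS⟩ : S) = z ^ i := Subtype.ext (by simp)
      rw [this, map_zpow]
      exact Q'.zpow_mem hy i
    exact claimD p hS F hF _ E hE hQ'c hperf _ hxS hθ φ hφ
  have hle : Subgroup.zpowers (z : Ω) ≤ F.center := le_sSup hcen
  exact hle (Subgroup.mem_zpowers _)

end Cfsg.Agent.S5315
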