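import Cfsg.Statements.S5326
import Cfsg.Agent.Lib.Helper9.FusionOmit2
-- import your own Cfsg.Agent.* helpers here

set_option autoImplicit false
open Cfsg

namespace Cfsg.Agent.S5326

open Cfsg.FusionSystem Cfsg.Agent.Lib.Helper9

/-- Let F be a saturated fusion system over a finite p-group S and Q an essential subgroup. Then the F-conjugacy class of Q cannot be left out of a generating family: there is a fusion system E over S whose automorphism group of every subgroup R ≤ S not F-conjugate to Q contains Aut_F(R), and yet E does not contain every map of F. -/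
theorem result {Ω : Type*} [Group Ω] {S : Subgroup Ω} [Finite S] (p : ℕ) [Fact p.Prime] (hS : IsPGroup p S) (F : Cfsg.FusionSystem S) (hF : F.IsSaturated p) (Q : Subgroup Ω) (hQ : F.IsEssential p Q) : ∃ E : Cfsg.FusionSystem S, (∀ R : Subgroup Ω, R ≤ S → ¬ F.IsConj Q R → F.autGroup R ≤ E.autGroup R) ∧ ¬ F ≤ E := by
  obtain ⟨hcen, hfn, -⟩ := id hQ
  have hQS : Q ≤ S := hfn.1
  have hfinQ : Finite Q := finite_of_le' hQS
  obtain ⟨hfc, hauto⟩ := sat_fullyNormalized p hS F hF hfn
  have hrec := sat_fullyCentralized_receptive p hS F hF hfc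
  obtain ⟨-, R, hR⟩ := id hauto
  have hIn : ((Inn Q).subgroupOf (F.autGroup Q)).Normal := inferInstance
  have hne_top := map_closure_extGens_ne_top p hS F hQ R hR
  -- Q ≠ S
  have hQne : Q ≠ S := by
    intro h
    apply hne_top
    have hall : F.autGroup Q ≤ Subgroup.closure (extGens F Q) := by
      -- Aut_F(S) is generated by Aut_S(S) and p'-elements; simpler: use the p-divisibility
      exfalso
      obtain ⟨-, -, -, Mb, hdvd, -, -, -⟩ := id hQ
      -- Out_F(S) is a p'-group
      have hsyl : (R : Subgroup ↥(F.autGroup Q)) ≤ (Inn Q).subgroupOf (F.autGroup Q) := by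
        rw [hR]
        intro a ha
        rw [Subgroup.mem_subgroupOf] at ha ⊢
        rw [autInducedBy_eq_map] at ha
        obtain ⟨n, hn, hna⟩ := ha
        have hnS : (n : Ω) ∈ S := Subgroup.mem_subgroupOf.mp hn
        have hnQ : (n : Ω) ∈ Q := h.ge hnS
        refine ⟨⟨n, hnQ⟩, ?_⟩
        rw [← hna]
        ext y
        rfl
      have hfinA : Finite ↥(F.autGroup Q) := inferInstance
      have hidx : ((Inn Q).subgroupOf (F.autGroup Q)).index ∣ (R : Subgroup ↥(F.autGroup Q)).index :=
        Subgroup.index_dvd_of_le hsyl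
      have hcard : Nat.card (↥(F.autGroup Q) ⧸ (Inn Q).subgroupOf (F.autGroup Q)) =
          ((Inn Q).subgroupOf (F.autGroup Q)).index := (Subgroup.index_eq_card _).symm
      rw [hcard] at hdvd
      exact R.not_dvd_index (hdvd.trans hidx)
    have htop : (Subgroup.closure (extGens F Q)).subgroupOf (F.autGroup Q) = ⊤ := by
      rw [Subgroup.subgroupOf_eq_top]; exact hall
    rw [htop]
    exact Subgroup.map_top_of_surjective _ (QuotientGroup.mk'_surjective _)
  -- an automorphism outside H
  have hex : ∃ α ∈ F.autGroup Q, α ∉ Subgroup.closure (extGens F Q) := by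
    by_contra hcon
    push_neg at hcon
    apply hne_top
    have htop : (Subgroup.closure (extGens F Q)).subgroupOf (F.autGroup Q) = ⊤ := by
      rw [Subgroup.subgroupOf_eq_top]; exact hcon
    rw [htop]
    exact Subgroup.map_top_of_surjective _ (QuotientGroup.mk'_surjective _)
  obtain ⟨α, hαA, hαH⟩ := hex
  refine ⟨omitSystem p hS F Q (Subgroup.closure (extGens F Q)) hauto hrec hQne
    Subgroup.subset_closure, ?_, ?_⟩
  · intro R' hR'S hnconj a ha
    apply Subgroup.subset_closure
    refine ⟨(mem_autGroup_iff F hR'S a).mp ha, ?_⟩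
    intro P₀ P₁ hP₀ hconj himg θ₀ θ₁ h₀ h₁ β hc
    apply Subgroup.subset_closure
    have hne : P₀ ≠ R' := fun h => hnconj (h ▸ hconj)
    exact mem_extGens_of_compat p hS F (lt_of_le_of_ne hP₀ hne)
      ((mem_autGroup_iff F hR'S a).mp ha) himg h₀ h₁ β hc
  · intro hle
    apply hαH
    have hmem := hle Q ((mem_autGroup_iff F hQS α).mp hαA)
    have himg : (Q.subgroupOf Q).map (Q.subtype.comp α.toMonoidHom) = Q := by
      ext z
      constructor
      · rintro ⟨x, -, rfl⟩
        exact (α x).2
      · intro hz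
        refine ⟨α⁻¹ ⟨z, hz⟩, Subgroup.mem_subgroupOf.mpr (α⁻¹ ⟨z, hz⟩).2, ?_⟩
        show ((α (α⁻¹ ⟨z, hz⟩) : Q) : Ω) = z
        have e : α (α⁻¹ ⟨z, hz⟩) = ⟨z, hz⟩ := MulEquiv.apply_symm_apply α _
        rw [e]
    refine hmem.2 Q Q le_rfl (isConj_refl F hQS) himg Q.subtype Q.subtype
      (goodId_subtype F hQS) (goodId_subtype F hQS) α ?_
    intro x q y hq hy
    have hqx : q = x := Subtype.ext hq
    rw [hqx]
    exact hy.symm

end Cfsg.Agent.S5326
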