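import Cfsg.Statements.S5327
import Cfsg.Agent.S5326
import Cfsg.Agent.S5082
-- import your own Cfsg.Agent.* helpers here

set_option autoImplicit false
open Cfsg

namespace Cfsg.Agent.S5327

open Cfsg.FusionSystem Cfsg.Agent.Lib.Helper9

/-- The subsystem of `F` whose maps defined on all of `S` are those lying in `E` as well. -/
def topRestrict {Ω : Type*} [Group Ω] {S : Subgroup Ω} [Finite S] (F E : Cfsg.FusionSystem S) :
    Cfsg.FusionSystem S where
  Hom P := {φ | φ ∈ F.Hom P ∧ ∀ h : S ≤ P, φ.comp (Subgroup.inclusion h) ∈ E.Hom S}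
  le_of_mem h := F.le_of_mem h.1
  injective_of_mem h := F.injective_of_mem h.1
  conj_mem := by
    intro P g hP hg
    refine ⟨F.conj_mem hP hg, fun h => ?_⟩
    have e : (conjHom P g).comp (Subgroup.inclusion h) = conjHom S g := by
      ext x; rfl
    rw [e]
    exact E.conj_mem le_rfl hg
  comp_mem := by
    intro P P₂ φ ψ hφ hψ h
    refine ⟨F.comp_mem hφ.1 hψ.1 h, fun hSP => ?_⟩
    have hφS := hφ.2 hSP
    have hP₂S : P₂ ≤ S := (F.le_of_mem hψ.1).1
    have hval : ∀ s : S, (φ.comp (Subgroup.inclusion hSP)) s ∈ S := fun s => hP₂S (h _)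
    have hinj : Function.Injective ((φ.comp (Subgroup.inclusion hSP)).codRestrict S hval) := by
      intro a b hab
      exact E.injective_of_mem hφS (congrArg Subtype.val hab)
    have hsurj := Finite.injective_iff_surjective.mp hinj
    have hSP₂ : S ≤ P₂ := by
      intro s hs
      obtain ⟨a, ha⟩ := hsurj ⟨s, hs⟩
      have : (φ.comp (Subgroup.inclusion hSP)) a = s := congrArg Subtype.val ha
      rw [← this]
      exact h _
    have hψS := hψ.2 hSP₂
    have e : (ψ.comp (φ.codRestrict P₂ h)).comp (Subgroup.inclusion hSP) =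
        (ψ.comp (Subgroup.inclusion hSP₂)).comp
          ((φ.comp (Subgroup.inclusion hSP)).codRestrict S hval) := by
      ext x; rfl
    rw [e]
    exact E.comp_mem hφS hψS hval
  inv_mem := by
    intro P φ hφ
    obtain ⟨ψ, hψ, hψs⟩ := F.inv_mem hφ.1
    refine ⟨ψ, ⟨hψ, fun hSr => ?_⟩, hψs⟩
    have hPS : P ≤ S := (F.le_of_mem hφ.1).1
    have hfinP : Finite P := Finite.of_injective _ (Subgroup.inclusion_injective hPS)
    -- S ≤ P
    have hSP : S ≤ P := by
      have hcard : Nat.card φ.range = Nat.card P :=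
        (Nat.card_congr (Equiv.ofInjective φ (F.injective_of_mem hφ.1))).symm
      have hrS : φ.range ≤ S := by
        rintro _ ⟨x, rfl⟩
        exact (F.le_of_mem hφ.1).2 x
      have hreq : φ.range = S := le_antisymm hrS hSr
      have hge : Nat.card S ≤ Nat.card P := by
        rw [← hcard, hreq]
      exact (Subgroup.eq_of_le_of_card_ge hPS hge).ge
    have hφS := hφ.2 hSP
    obtain ⟨ψ', hψ', hψ's⟩ := E.inv_mem hφS
    have hle : S ≤ (φ.comp (Subgroup.inclusion hSP)).range := by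
      intro s hs
      obtain ⟨x, hx⟩ := hSr hs
      exact ⟨⟨x, hPS x.2⟩, hx⟩
    have e : ψ.comp (Subgroup.inclusion hSr) = ψ'.comp (Subgroup.inclusion hle) := by
      ext s
      obtain ⟨x, hx⟩ := hSr s.2
      have e1 : Subgroup.inclusion hSr s = ⟨φ x, ⟨x, rfl⟩⟩ := Subtype.ext hx.symm
      have e2 : Subgroup.inclusion hle s =
          ⟨(φ.comp (Subgroup.inclusion hSP)) ⟨x, hPS x.2⟩, ⟨_, rfl⟩⟩ := Subtype.ext hx.symm
      show ψ (Subgroup.inclusion hSr s) = ψ' (Subgroup.inclusion hle s)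
      rw [e1, e2, hψs, hψ's]
    rw [e]
    exact restrict_mem E hψ' hle

/-- A generating family closed under conjugacy contains every essential subgroup. -/
theorem mem_of_generating {Ω : Type*} [Group Ω] {S : Subgroup Ω} [Finite S] (p : ℕ) [Fact p.Prime]
    (hS : IsPGroup p S) (F : Cfsg.FusionSystem S) (hF : F.IsSaturated p) (𝒬 : Set (Subgroup Ω))
    (h : ∀ R ∈ 𝒬, ∀ R' : Subgroup Ω, F.IsConj R R' → R' ∈ 𝒬)
    (hg : ∀ E : Cfsg.FusionSystem S, (∀ R ∈ 𝒬, F.autGroup R ≤ E.autGroup R) → F ≤ E)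
    (Q : Subgroup Ω) (hQ : F.IsEssential p Q) : Q ∈ 𝒬 := by
  by_contra hQn
  obtain ⟨E, hE, hnle⟩ := Cfsg.Agent.S5326.result p hS F hF Q hQ
  apply hnle
  apply hg
  intro R hR
  by_cases hRS : R ≤ S
  · apply hE R hRS
    intro hconj
    exact hQn (h R hR Q (isConj_symm F hconj))
  · have : F.autGroup R = ⊥ := by
      unfold FusionSystem.autGroup
      rw [Subgroup.closure_eq_bot_iff]
      intro α hα
      exact absurd (F.le_of_mem hα).1 hRS
    rw [this]
    exact bot_le

/-- If `S` itself is not in a generating family, then `Aut_F(S) ≤ Aut_E(S)` for every `E`. -/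
theorem autGroup_top_le_of_generating {Ω : Type*} [Group Ω] {S : Subgroup Ω} [Finite S]
    (F : Cfsg.FusionSystem S) (𝒬 : Set (Subgroup Ω))
    (hg : ∀ E : Cfsg.FusionSystem S, (∀ R ∈ 𝒬, F.autGroup R ≤ E.autGroup R) → F ≤ E)
    (hSn : S ∉ 𝒬) (E : Cfsg.FusionSystem S) : F.autGroup S ≤ E.autGroup S := by
  have hle : F ≤ topRestrict F E := by
    apply hg
    intro R hR
    unfold FusionSystem.autGroup
    apply Subgroup.closure_mono
    intro α hα
    refine ⟨hα, fun hSR => ?_⟩
    exfalso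
    have hRS : R ≤ S := (F.le_of_mem hα).1
    exact hSn ((le_antisymm hRS hSR) ▸ hR)
  unfold FusionSystem.autGroup
  apply Subgroup.closure_mono
  intro α hα
  have := (hle S hα).2 le_rfl
  have e : (S.subtype.comp α.toMonoidHom).comp (Subgroup.inclusion (le_refl S)) =
      S.subtype.comp α.toMonoidHom := by
    ext x; rfl
  rw [e] at this
  exact this

/-- Let F be a saturated fusion system over a finite p-group S. Call a family of subgroups of S generating when every fusion system over S whose automorphism group of each member R contains Aut_F(R) contains every map of F. If two families are each closed under F-conjugacy and each generating, then their intersection is generating. -/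
theorem result {Ω : Type*} [Group Ω] {S : Subgroup Ω} [Finite S] (p : ℕ) [Fact p.Prime] (hS : IsPGroup p S) (F : Cfsg.FusionSystem S) (hF : F.IsSaturated p) (𝒬₁ 𝒬₂ : Set (Subgroup Ω)) (h₁ : ∀ R ∈ 𝒬₁, ∀ R' : Subgroup Ω, F.IsConj R R' → R' ∈ 𝒬₁) (h₂ : ∀ R ∈ 𝒬₂, ∀ R' : Subgroup Ω, F.IsConj R R' → R' ∈ 𝒬₂) (hg₁ : ∀ E : Cfsg.FusionSystem S, (∀ R ∈ 𝒬₁, F.autGroup R ≤ E.autGroup R) → F ≤ E) (hg₂ : ∀ E : Cfsg.FusionSystem S, (∀ R ∈ 𝒬₂, F.autGroup R ≤ E.autGroup R) → F ≤ E) (E : Cfsg.FusionSystem S) (hE : ∀ R ∈ 𝒬₁ ∩ 𝒬₂, F.autGroup R ≤ E.autGroup R) : F ≤ E := by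
  apply Cfsg.Agent.S5082.result p hS F hF E
  intro P hP
  rcases hP with rfl | hess
  · by_cases hS₁ : P ∈ 𝒬₁
    · by_cases hS₂ : P ∈ 𝒬₂
      · exact hE P ⟨hS₁, hS₂⟩
      · exact autGroup_top_le_of_generating F 𝒬₂ hg₂ hS₂ E
    · exact autGroup_top_le_of_generating F 𝒬₁ hg₁ hS₁ E
  · exact hE P ⟨mem_of_generating p hS F hF 𝒬₁ h₁ hg₁ P hess,
      mem_of_generating p hS F hF 𝒬₂ h₂ hg₂ P hess⟩

end Cfsg.Agent.S5327
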