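import Cfsg.Statements.S5330
import Cfsg.Agent.S5084
import Cfsg.Agent.Lib.Helper9.Fusion2
import Cfsg.Agent.Lib.Helper9.FusionAbelian
import Cfsg.Agent.Lib.Helper9.CoprimeAbelian

set_option autoImplicit false
open Cfsg

namespace Cfsg.Agent.S5330

open Cfsg.Agent.Lib.Helper9 Cfsg.FusionSystem

/-- Let F be a saturated fusion system over a finite abelian p-group S. Then S is the internal direct product of the centre of the system and the focal subgroup: Z(F) ∩ foc(F) = 1 and Z(F)·foc(F) = S. -/
theorem result {Ω : Type*} [Group Ω] {S : Subgroup Ω} [Finite S] (p : ℕ) [Fact p.Prime] (hS : IsPGroup p S) (F : Cfsg.FusionSystem S) (hF : F.IsSaturated p) (hab : ∀ x ∈ S, ∀ y ∈ S, x * y = y * x) : F.center ⊓ F.focalSubgroup = ⊥ ∧ F.center ⊔ F.focalSubgroup = S := by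
  have hp : Fact p.Prime := inferInstance
  have hStop : F.StronglyClosed S := ⟨le_rfl, fun R _ φ hφ x => (F.le_of_mem hφ).2 x⟩
  have hSnormal := isNormal_of_abelian_stronglyClosed p hS F hF hStop hab
  have hext := (Cfsg.Agent.S5106.result p hS F hF S le_rfl).mp hSnormal
  have hfinA : Finite (MulAut S) := inferInstance
  -- Aut_F(S) has order prime to p
  have hcop : (Nat.card S).Coprime (Nat.card (F.autGroup S)) := by
    obtain ⟨-, hfa⟩ := sat_fullyNormalized p hS F hF (isFullyNormalized_top F)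
    have hcard := (fullyAutomized_iff_card p F le_rfl).mp hfa
    have hbot : autInducedBy S S = ⊥ := by
      unfold autInducedBy
      rw [Subgroup.closure_eq_bot_iff]
      rintro α ⟨g, hg, hgx⟩
      rw [Set.mem_singleton_iff]
      ext x
      rw [hgx x, hab g hg x x.2, mul_assoc, mul_inv_cancel, mul_one]
      rfl
    rw [hbot, Subgroup.card_bot] at hcard
    obtain ⟨e, he⟩ := hS.exists_card_eq
    rw [he]
    apply Nat.Coprime.pow_left
    rw [Nat.Prime.coprime_iff_not_dvd hp.out]
    intro hdvd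
    have hpos : 0 < (Nat.card (F.autGroup S)).factorization p :=
      hp.out.factorization_pos_of_dvd Nat.card_pos.ne' hdvd
    have : 1 < p ^ (Nat.card (F.autGroup S)).factorization p :=
      Nat.one_lt_pow hpos.ne' hp.out.one_lt
    omega
  -- fixed points and commutator
  obtain ⟨C, hC⟩ : ∃ C : Subgroup S, ∀ x, x ∈ C ↔ ∀ α ∈ F.autGroup S, α x = x :=
    ⟨{ carrier := {x | ∀ α ∈ F.autGroup S, α x = x}
       one_mem' := fun α _ => map_one α
       mul_mem' := fun {a b} ha hb α hα => by rw [map_mul, ha α hα, hb α hα]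
       inv_mem' := fun {a} ha α hα => by rw [map_inv, ha α hα] }, fun x => Iff.rfl⟩
  obtain ⟨K, hK⟩ : ∃ K : Subgroup S, K = Subgroup.closure
      {y | ∃ (x : S) (α : MulAut S), α ∈ F.autGroup S ∧ y = x⁻¹ * α x} := ⟨_, rfl⟩
  obtain ⟨hinf, hsup⟩ := coprime_abelian_decomp'
    (fun x y : S => Subtype.ext (hab x x.2 y y.2)) (F.autGroup S) hcop C K hC hK
  -- the centre
  have hcenter : F.center = C.map S.subtype := by
    apply le_antisymm
    · have hcen := (Cfsg.Agent.S5084.result p hS F hF F.center).mp (isCentral_center F)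
      intro x hx
      have hxS := hcen.1 hx
      refine ⟨⟨x, hxS⟩, ?_, rfl⟩
      rw [SetLike.mem_coe, hC]
      intro α hα
      have hφ := (mem_autGroup_iff F le_rfl α).mp hα
      have hzle : Subgroup.zpowers x ≤ S := by rw [Subgroup.zpowers_le]; exact hxS
      have h1 := hcen.2 x hx (((α ⟨x, hxS⟩ : S)) : Ω)
        ⟨_, restrict_mem F hφ hzle, rfl⟩
      exact Subtype.ext h1
    · apply le_sSup
      show F.IsCentral (C.map S.subtype)
      rw [Cfsg.Agent.S5084.result p hS F hF]
      refine ⟨?_, ?_⟩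
      · rintro _ ⟨x, -, rfl⟩
        exact x.2
      · rintro _ ⟨x, hx, rfl⟩ y ⟨φ, hφ, hφx⟩
        have hzle : Subgroup.zpowers ((S.subtype x : Ω)) ≤ S := by
          rw [Subgroup.zpowers_le]; exact x.2
        obtain ⟨α, hα, hαx⟩ := hext _ hzle φ hφ
        have h1 := hαx ⟨(S.subtype x : Ω), Subgroup.mem_zpowers _⟩
        rw [hφx] at h1
        rw [← h1]
        have h2 : Subgroup.inclusion hzle ⟨(S.subtype x : Ω), Subgroup.mem_zpowers _⟩ = x :=
          Subtype.ext rfl
        rw [h2, (hC x).mp hx α hα]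
        rfl
  have hfocal : F.focalSubgroup = K.map S.subtype := by
    apply le_antisymm
    · unfold focalSubgroup
      rw [Subgroup.closure_le]
      rintro _ ⟨P, φ, x, hφ, rfl⟩
      have hPS := (F.le_of_mem hφ).1
      obtain ⟨α, hα, hαx⟩ := hext P hPS φ hφ
      refine ⟨(Subgroup.inclusion hPS x)⁻¹ * α (Subgroup.inclusion hPS x), ?_, ?_⟩
      · rw [hK]
        exact Subgroup.subset_closure ⟨_, α, hα, rfl⟩
      · rw [← hαx x]
        rfl
    · rw [hK, MonoidHom.map_closure, Subgroup.closure_le]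
      rintro _ ⟨_, ⟨x, α, hα, rfl⟩, rfl⟩
      apply Subgroup.subset_closure
      exact ⟨S, S.subtype.comp α.toMonoidHom, x, (mem_autGroup_iff F le_rfl α).mp hα, rfl⟩
  rw [hcenter, hfocal]
  constructor
  · rw [← Subgroup.map_inf _ _ S.subtype S.subtype_injective, hinf, Subgroup.map_bot]
  · rw [← Subgroup.map_sup, hsup, ← MonoidHom.range_eq_map, Subgroup.range_subtype]

end Cfsg.Agent.S5330
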