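import Cfsg.Statements.S5331
import Cfsg.Agent.Lib.Helper9.DistinctInv
import Cfsg.Agent.Lib.Helper9.FusionInner
-- import your own Cfsg.Agent.* helpers here

set_option autoImplicit false
open Cfsg

namespace Cfsg.Agent.S5331

open Cfsg.FusionSystem Cfsg.Agent.Lib.Helper9

/-- Let S be a finite abelian 2-group that is a direct product of cyclic groups of pairwise distinct orders 2^{a_1} < 2^{a_2} < ⋯ < 2^{a_n} (all a_i ≥ 1). Then every saturated fusion system over S is the inner one: its maps are exactly the conjugations by elements of S. -/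
theorem result {Ω : Type*} [Group Ω] {S : Subgroup Ω} [Finite S] (n : ℕ) (a : Fin n → ℕ) (ha : StrictMono a) (ha1 : ∀ i, 1 ≤ a i) (e : ↥S ≃* Multiplicative ((i : Fin n) → ZMod (2 ^ a i))) (F : Cfsg.FusionSystem S) (hF : F.IsSaturated 2) (P : Subgroup Ω) : F.Hom P = (Cfsg.innerFusionSystem S).Hom P := by
  haveI : Fact (Nat.Prime 2) := ⟨Nat.prime_two⟩
  have hS : IsPGroup 2 S := isPGroup_of_equiv a e
  have hcomm := comm_of_equiv a e
  have hAut : IsPGroup 2 (MulAut S) := isPGroup_mulAut_of_distinct a ha ha1 e
  apply eq_inner_of_autGroup_pgroup 2 hS F hF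
  intro P' hP'
  have hPS : P' = S := by
    rcases hP' with rfl | hess
    · rfl
    · have hcen := hess.1
      have h1 := hcen.2 P' (isConj_refl F hcen.1)
      apply le_antisymm hcen.1
      intro s hs
      apply h1
      rw [mem_centralizerIn]
      refine ⟨hs, fun x hx => ?_⟩
      have := hcomm ⟨x, hcen.1 hx⟩ ⟨s, hs⟩
      exact congrArg Subtype.val this
  rw [hPS]
  exact hAut.to_subgroup _

end Cfsg.Agent.S5331
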