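import Cfsg.Statements.S5333
import Cfsg.Agent.Lib.Helper9.FusionSat4
import Cfsg.Agent.Lib.Helper9.FusionCent
-- import your own Cfsg.Agent.* helpers here

set_option autoImplicit false
open Cfsg

namespace Cfsg.Agent.S5333

open Cfsg.FusionSystem Cfsg.Agent.Lib.Helper9

theorem comp2 {Ω : Type*} [Group Ω] {S : Subgroup Ω} (F : Cfsg.FusionSystem S) {P Q : Subgroup Ω}
    {φ : P →* Ω} {ψ : Q →* Ω} (hφ : φ ∈ F.Hom P) (hψ : ψ ∈ F.Hom Q) (h : ∀ x : P, φ x ∈ Q) :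
    ∃ χ ∈ F.Hom P, ∀ x : P, χ x = ψ ⟨φ x, h x⟩ :=
  ⟨_, F.comp_mem hφ hψ h, fun _ => rfl⟩

theorem inv2 {Ω : Type*} [Group Ω] {S : Subgroup Ω} (F : Cfsg.FusionSystem S) {P : Subgroup Ω}
    {φ : P →* Ω} (hφ : φ ∈ F.Hom P) :
    ∃ ψ ∈ F.Hom φ.range, (∀ x : P, ψ ⟨φ x, ⟨x, rfl⟩⟩ = x) ∧
      ∀ y : φ.range, ∃ x : P, φ x = y ∧ ψ y = x := by
  obtain ⟨ψ, hψ, hψφ⟩ := F.inv_mem hφ
  refine ⟨ψ, hψ, hψφ, ?_⟩
  rintro ⟨_, x, rfl⟩
  exact ⟨x, rfl, hψφ x⟩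

/-- A nontrivial subgroup of a finite `p`-group has a central element of order `p`. -/
theorem exists_central_order_p {Ω : Type*} [Group Ω] {S : Subgroup Ω} [Finite S] (p : ℕ)
    [Fact p.Prime] (hS : IsPGroup p S) {P : Subgroup Ω} (hPS : P ≤ S) (hP : P ≠ ⊥) :
    ∃ z ∈ P, orderOf z = p ∧ ∀ x ∈ P, x * z = z * x := by
  haveI hfinP : Finite P := finite_of_le' hPS
  haveI : Nontrivial P := (Subgroup.nontrivial_iff_ne_bot P).mpr hP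
  have hPp : IsPGroup p P := hS.to_le hPS
  haveI := hPp.center_nontrivial
  have hCp : IsPGroup p (Subgroup.center P) := hPp.to_subgroup _
  obtain ⟨k, hk⟩ := IsPGroup.iff_card.mp hCp
  have hk0 : k ≠ 0 := by
    intro h0
    rw [h0, pow_zero] at hk
    have := (Nat.card_eq_one_iff_unique.mp hk).1
    exact not_subsingleton _ this
  have hdvd : p ∣ Nat.card (Subgroup.center P) := by
    rw [hk]
    exact dvd_pow_self p hk0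
  obtain ⟨z₀, hz₀⟩ := exists_prime_orderOf_dvd_card' p hdvd
  refine ⟨((z₀ : P) : Ω), (z₀ : P).2, ?_, ?_⟩
  · rw [Subgroup.orderOf_coe, Subgroup.orderOf_coe]
    exact hz₀
  · intro x hx
    have := Subgroup.mem_center_iff.mp z₀.2 ⟨x, hx⟩
    exact congrArg Subtype.val this

/-- Let F′ ≤ F be saturated fusion systems over the same finite p-group S. Suppose that for every subgroup Z ≤ S of order p that is fully centralized in F′, the maps of F and of F′ with source Z coincide and the centralizer systems C_F(Z) and C_{F′}(Z) coincide. Then F = F′. -/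
theorem result {Ω : Type*} [Group Ω] {S : Subgroup Ω} [Finite S] (p : ℕ) [Fact p.Prime] (hS : IsPGroup p S) (F : Cfsg.FusionSystem S) (hF : F.IsSaturated p) (F' : Cfsg.FusionSystem S) (hF' : F'.IsSaturated p) (hle : F' ≤ F) (hZ : ∀ Z : Subgroup Ω, Z ≤ S → Nat.card Z = p → F'.IsFullyCentralized Z → F.Hom Z = F'.Hom Z ∧ ∀ (C C' : Cfsg.FusionSystem (Cfsg.FusionSystem.centralizerIn S Z)), F.IsCentralizerSystem Z C → F'.IsCentralizerSystem Z C' → ∀ P : Subgroup Ω, C.Hom P = C'.Hom P) (P : Subgroup Ω) : F.Hom P = F'.Hom P := by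
  apply Set.Subset.antisymm _ (hle P)
  intro φ hφ
  obtain ⟨hPS, hφS⟩ := F.le_of_mem hφ
  by_cases hP : P = ⊥
  · subst hP
    have : φ = conjHom ⊥ 1 := by
      ext x
      have hx : x = 1 := Subtype.ext (Subgroup.mem_bot.mp x.2)
      rw [hx, map_one, map_one]
    rw [this]
    exact F'.conj_mem bot_le S.one_mem
  -- the central element z
  obtain ⟨z, hzP, hzord, hzcen⟩ := exists_central_order_p p hS hPS hP
  have hZP : Subgroup.zpowers z ≤ P := Subgroup.zpowers_le.mpr hzP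
  have hZS : Subgroup.zpowers z ≤ S := hZP.trans hPS
  have hZcard : Nat.card (Subgroup.zpowers z) = p := by rw [Nat.card_zpowers, hzord]
  have hZcen : ∀ x ∈ P, ∀ y ∈ Subgroup.zpowers z, x * y = y * x := by
    intro x hx y hy
    obtain ⟨i, rfl⟩ := Subgroup.mem_zpowers_iff.mp hy
    exact ((Commute.zpow_right (hzcen x hx) i : Commute x (z ^ i))).eq
  -- a fully centralized conjugate
  obtain ⟨Z₁, ⟨ψ, hψ, hψr⟩, hfc⟩ := exists_fullyCentralized_conj F' hZS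
  have hZ₁S : Z₁ ≤ S := hfc.1
  have hZ₁card : Nat.card Z₁ = p := by
    rw [card_eq_of_isConj F' ⟨ψ, hψ, hψr⟩, hZcard]
  have hrec := sat_fullyCentralized_receptive p hS F' hF' hfc
  obtain ⟨hHomZ₁, hCentZ₁⟩ := hZ Z₁ hZ₁S hZ₁card hfc
  -- extend ψ to P
  obtain ⟨ψt, hψt, hψtext⟩ := hrec.2 _ ψ hψ hψr
  have hPext : P ≤ extender S (Subgroup.zpowers z) ψ := by
    refine le_trans ?_ (centralizerIn_le_extender S _ ψ)
    intro x hx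
    rw [mem_centralizerIn]
    exact ⟨hPS hx, fun y hy => (hZcen x hx y hy).symm⟩
  have hψ₁ := restrict_mem F' hψt hPext
  obtain ⟨ψ₁, hψ₁, hψ₁def⟩ : ∃ ψ₁ ∈ F'.Hom P, ∀ x : P, ψ₁ x = ψt ⟨x, hPext x.2⟩ :=
    ⟨_, hψ₁, fun _ => rfl⟩
  have hψ₁Z : ∀ (y : Ω) (hy : y ∈ Subgroup.zpowers z), ψ₁ ⟨y, hZP hy⟩ = ψ ⟨y, hy⟩ := by
    intro y hy
    rw [hψ₁def]
    exact hψtext y hy _
  -- inverse of ψ
  obtain ⟨ψi, hψi, hψiψ, hψisurj⟩ := inv2 F' hψ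
  -- φ restricted to Z
  have hφZ := restrict_mem F hφ hZP
  -- χ₀ = φ ∘ ψ⁻¹ on Z₁
  have hψi' : ψi ∈ F.Hom ψ.range := hle _ hψi
  obtain ⟨χ₀, hχ₀, hχ₀def⟩ := comp2 F hψi' hφZ (fun y => by
    obtain ⟨x, -, hx⟩ := hψisurj y
    rw [hx]; exact x.2)
  -- transport to Z₁
  subst hψr
  rw [hHomZ₁] at hχ₀
  -- inverse of χ₀
  obtain ⟨χi, hχi, hχiχ, hχisurj⟩ := inv2 F' hχ₀
  have hχir : χi.range = ψ.range := by
    ext y
    constructor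
    · rintro ⟨w, rfl⟩
      obtain ⟨x, -, hx⟩ := hχisurj w
      rw [hx]; exact x.2
    · intro hy
      exact ⟨⟨χ₀ ⟨y, hy⟩, ⟨_, rfl⟩⟩, hχiχ ⟨y, hy⟩⟩
  obtain ⟨ρt, hρt, hρtext⟩ := hrec.2 _ χi hχi hχir
  -- φ(P) centralizes χ₀.range
  have hχ₀r : ∀ w ∈ χ₀.range, ∃ y ∈ Subgroup.zpowers z, ∃ hy : y ∈ P, w = φ ⟨y, hy⟩ := by
    rintro _ ⟨v, rfl⟩
    rw [hχ₀def]
    obtain ⟨x, -, hx⟩ := hψisurj v
    refine ⟨(x : Ω), x.2, hZP x.2, ?_⟩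
    show φ _ = φ _
    congr 1
    apply Subtype.ext
    exact hx
  have hφPext : φ.range ≤ extender S χ₀.range χi := by
    refine le_trans ?_ (centralizerIn_le_extender S _ χi)
    rintro _ ⟨x, rfl⟩
    rw [mem_centralizerIn]
    refine ⟨hφS x, fun w hw => ?_⟩
    obtain ⟨y, hyZ, hyP, rfl⟩ := hχ₀r w hw
    rw [← map_mul, ← map_mul]
    congr 1
    apply Subtype.ext
    exact (hZcen x x.2 y hyZ).symm
  have hρ := restrict_mem F' hρt hφPext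
  obtain ⟨ρ, hρ, hρdef⟩ : ∃ ρ ∈ F'.Hom φ.range, ∀ w : φ.range, ρ w = ρt ⟨w, hφPext w.2⟩ :=
    ⟨_, hρ, fun _ => rfl⟩
  -- inverse of ψ₁
  obtain ⟨ψ₁i, hψ₁i, hψ₁iψ, hψ₁isurj⟩ := inv2 F' hψ₁
  -- κ = φ ∘ ψ₁⁻¹
  obtain ⟨κ, hκ, hκdef⟩ := comp2 F (hle _ hψ₁i) hφ (fun y => by
    obtain ⟨x, -, hx⟩ := hψ₁isurj y
    rw [hx]; exact x.2)
  have hκr : ∀ y : ψ₁.range, κ y ∈ φ.range := fun y => by rw [hκdef]; exact ⟨_, rfl⟩
  obtain ⟨θ, hθ, hθdef⟩ := comp2 F hκ (hle _ hρ) hκr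
  -- θ(ψ₁ x) = ρ(φ x)
  have hθψ₁ : ∀ x : P, θ ⟨ψ₁ x, ⟨x, rfl⟩⟩ = ρ ⟨φ x, ⟨x, rfl⟩⟩ := by
    intro x
    rw [hθdef]
    congr 1
    apply Subtype.ext
    show κ ⟨ψ₁ x, ⟨x, rfl⟩⟩ = φ x
    rw [hκdef]
    congr 1
    apply Subtype.ext
    exact hψ₁iψ x
  -- Z₁ ≤ ψ₁.range and θ fixes Z₁
  have hZ₁P₁ : ψ.range ≤ ψ₁.range := by
    rintro _ ⟨y, rfl⟩
    exact ⟨⟨y, hZP y.2⟩, hψ₁Z y y.2⟩
  have hθfix : ∀ (w : Ω) (hw : w ∈ ψ.range), θ ⟨w, hZ₁P₁ hw⟩ = w := by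
    rintro _ ⟨y, rfl⟩
    have e1 : (⟨ψ y, hZ₁P₁ ⟨y, rfl⟩⟩ : ψ₁.range) = ⟨ψ₁ ⟨y, hZP y.2⟩, ⟨_, rfl⟩⟩ :=
      Subtype.ext (hψ₁Z y y.2).symm
    rw [e1, hθψ₁, hρdef]
    have hmem : φ ⟨y, hZP y.2⟩ ∈ χ₀.range := by
      refine ⟨⟨ψ y, ⟨y, rfl⟩⟩, ?_⟩
      rw [hχ₀def]
      show φ _ = φ _
      congr 1
      apply Subtype.ext
      exact hψiψ y
    rw [hρtext _ hmem]
    have e2 : (⟨φ ⟨y, hZP y.2⟩, hmem⟩ : χ₀.range) = ⟨χ₀ ⟨ψ y, ⟨y, rfl⟩⟩, ⟨_, rfl⟩⟩ := by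
      apply Subtype.ext
      show φ ⟨y, hZP y.2⟩ = χ₀ ⟨ψ y, ⟨y, rfl⟩⟩
      rw [hχ₀def]
      show φ _ = φ _
      congr 1
      apply Subtype.ext
      exact (hψiψ y).symm
    rw [e2, hχiχ]
  -- θ is a map of the centralizer system
  have hP₁S : ψ₁.range ≤ S := by
    rintro _ ⟨x, rfl⟩
    exact (F'.le_of_mem hψ₁).2 x
  have hcomm₁ : ∀ x ∈ ψ₁.range, ∀ w ∈ ψ.range, w * x = x * w := by
    rintro _ ⟨x, rfl⟩ _ ⟨y, rfl⟩
    rw [← hψ₁Z y y.2, ← map_mul, ← map_mul]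
    congr 1
    apply Subtype.ext
    exact (hZcen x x.2 y y.2).symm
  have hθcent : θ ∈ F.centralizerHom ψ.range ψ₁.range := by
    refine ⟨hθ, ?_, ?_, ?_⟩
    · intro x hx
      rw [mem_centralizerIn]
      exact ⟨hP₁S hx, fun w hw => hcomm₁ x hx w hw⟩
    · intro x
      rw [mem_centralizerIn]
      refine ⟨(F.le_of_mem hθ).2 x, fun w hw => ?_⟩
      have h1 := hθfix w hw
      have h2 := hcomm₁ x x.2 w hw
      have h3 : (⟨w, hZ₁P₁ hw⟩ : ψ₁.range) * x = x * ⟨w, hZ₁P₁ hw⟩ := Subtype.ext h2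
      have h4 := congrArg θ h3
      rw [map_mul, map_mul, h1] at h4
      exact h4
    · have hsup : ψ₁.range ⊔ ψ.range ≤ ψ₁.range := sup_le le_rfl hZ₁P₁
      refine ⟨θ.comp (Subgroup.inclusion hsup), restrict_mem F hθ hsup, fun x => ?_, fun w => ?_⟩
      · show θ _ = θ x
        congr 1
      · show θ _ = (w : Ω)
        rw [← hθfix w w.2]
        congr 1
  have hθ' : θ ∈ F'.Hom ψ₁.range := by
    have h1 : θ ∈ (centralizerSystem F ψ.range hZ₁S).Hom ψ₁.range := hθcent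
    rw [hCentZ₁ (centralizerSystem F ψ.range hZ₁S) (centralizerSystem F' ψ.range hZ₁S)
      (fun _ => rfl) (fun _ => rfl)] at h1
    exact h1.1
  -- reassemble φ
  obtain ⟨ρi, hρi, hρiρ, -⟩ := inv2 F' hρ
  obtain ⟨ξ, hξ, hξdef⟩ := comp2 F' hψ₁ hθ' (fun x => ⟨x, rfl⟩)
  have hξr : ∀ x : P, ξ x ∈ ρ.range := by
    intro x
    rw [hξdef, hθψ₁]
    exact ⟨_, rfl⟩
  obtain ⟨φ', hφ', hφ'def⟩ := comp2 F' hξ hρi hξr
  have : φ = φ' := by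
    ext x
    rw [hφ'def]
    have e3 : (⟨ξ x, hξr x⟩ : ρ.range) = ⟨ρ ⟨φ x, ⟨x, rfl⟩⟩, ⟨_, rfl⟩⟩ := by
      apply Subtype.ext
      show ξ x = ρ ⟨φ x, ⟨x, rfl⟩⟩
      rw [hξdef, hθψ₁]
    rw [e3, hρiρ]
  rw [this]
  exact hφ'


end Cfsg.Agent.S5333
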