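import Cfsg.Statements.S5334
import Cfsg.Agent.Lib.Helper9.FusionCentric4

set_option autoImplicit false
open Cfsg

namespace Cfsg.Agent.S5334

open Cfsg.Agent.Lib.Helper9 Cfsg.FusionSystem

/-- Let F′ ≤ F be saturated fusion systems over the same finite p-group S, let Q and R be F-centric subgroups, φ a map of F with source Q and values in R, and ψ a map of F with source R. If two of φ, ψ and the composite ψ ∘ φ are maps of F′ then so is the third. -/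
theorem result {Ω : Type*} [Group Ω] {S : Subgroup Ω} [Finite S] (p : ℕ) [Fact p.Prime] (hS : IsPGroup p S) (F : Cfsg.FusionSystem S) (hF : F.IsSaturated p) (F' : Cfsg.FusionSystem S) (hF' : F'.IsSaturated p) (hle : F' ≤ F) (Q R : Subgroup Ω) (hQ : F.IsCentric Q) (hR : F.IsCentric R) (φ : ↥Q →* Ω) (hφ : φ ∈ F.Hom Q) (hφR : ∀ x : Q, φ x ∈ R) (ψ : ↥R →* Ω) (hψ : ψ ∈ F.Hom R) : (φ ∈ F'.Hom Q → ψ ∈ F'.Hom R → ψ.comp (φ.codRestrict R hφR) ∈ F'.Hom Q) ∧ (ψ ∈ F'.Hom R → ψ.comp (φ.codRestrict R hφR) ∈ F'.Hom Q → φ ∈ F'.Hom Q) ∧ (φ ∈ F'.Hom Q → ψ.comp (φ.codRestrict R hφR) ∈ F'.Hom Q → ψ ∈ F'.Hom R) := by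
  refine ⟨fun hφ' hψ' => F'.comp_mem hφ' hψ' hφR, ?_, ?_⟩
  · intro hψ' hc
    obtain ⟨ψi, hψi, hψix⟩ := F'.inv_mem hψ'
    have hvals : ∀ x : Q, (ψ.comp (φ.codRestrict R hφR)) x ∈ ψ.range := fun x => ⟨_, rfl⟩
    have h1 := F'.comp_mem hc hψi hvals
    have : ψi.comp ((ψ.comp (φ.codRestrict R hφR)).codRestrict ψ.range hvals) = φ := by
      ext x
      show ψi ⟨ψ (φ.codRestrict R hφR x), _⟩ = φ x
      rw [hψix]
      rfl
    rw [this] at h1
    exact h1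
  · intro hφ' hc
    have hQ₁R : φ.range ≤ R := by
      rintro _ ⟨x, rfl⟩
      exact hφR x
    have hQ₁cen : F.IsCentric φ.range := centric_of_isConj F hQ ⟨φ, hφ, rfl⟩
    obtain ⟨φi, hφi, hφix⟩ := F'.inv_mem hφ'
    have hvals : ∀ y : φ.range, φi y ∈ Q := by
      rintro ⟨_, ⟨x, rfl⟩⟩
      rw [hφix]
      exact x.2
    have h1 := F'.comp_mem hφi hc hvals
    have : (ψ.comp (φ.codRestrict R hφR)).comp (φi.codRestrict Q hvals) =
        ψ.comp (Subgroup.inclusion hQ₁R) := by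
      ext ⟨_, ⟨x, rfl⟩⟩
      show ψ (φ.codRestrict R hφR (φi.codRestrict Q hvals ⟨φ x, ⟨x, rfl⟩⟩)) =
        ψ (Subgroup.inclusion hQ₁R ⟨φ x, ⟨x, rfl⟩⟩)
      congr 1
      apply Subtype.ext
      show φ (φi.codRestrict Q hvals ⟨φ x, ⟨x, rfl⟩⟩) = φ x
      congr 1
      apply Subtype.ext
      exact hφix x
    rw [this] at h1
    exact mem_subsystem_of_restrict_centric p hS F hF F' hF' hle hQ₁R hQ₁cen hψ h1

end Cfsg.Agent.S5334
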