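import Cfsg.Statements.S5335
import Cfsg.Agent.Lib.Helper9.FusionCentric4

set_option autoImplicit false
open Cfsg

namespace Cfsg.Agent.S5335

open Cfsg.Agent.Lib.Helper9 Cfsg.FusionSystem

theorem isCentric_top {Ω : Type*} [Group Ω] {S : Subgroup Ω} [Finite S] (F : Cfsg.FusionSystem S) :
    F.IsCentric S := by
  refine ⟨le_rfl, fun Q hQ => ?_⟩
  have hQS := (isConj_le F hQ).2
  have hcard := card_eq_of_isConj F hQ
  have : Q = S := Subgroup.eq_of_le_of_card_ge hQS hcard.ge
  rw [this]
  exact inf_le_left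

/-- Let F′ ≤ F be saturated fusion systems over the same finite p-group S. If the maps of F and of F′ with source Q coincide for every F-centric subgroup Q that is minimal among F-centric subgroups, then F = F′. -/
theorem result {Ω : Type*} [Group Ω] {S : Subgroup Ω} [Finite S] (p : ℕ) [Fact p.Prime] (hS : IsPGroup p S) (F : Cfsg.FusionSystem S) (hF : F.IsSaturated p) (F' : Cfsg.FusionSystem S) (hF' : F'.IsSaturated p) (hle : F' ≤ F) (hmin : ∀ Q : Subgroup Ω, F.IsCentric Q → (∀ R : Subgroup Ω, R < Q → ¬ F.IsCentric R) → F.Hom Q = F'.Hom Q) (P : Subgroup Ω) : F.Hom P = F'.Hom P := by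
  refine Set.Subset.antisymm ?_ (hle P)
  have hFF' : F ≤ F' := by
    apply Cfsg.Agent.S5082.result p hS F hF
    intro U hU α hα
    have hUcen : F.IsCentric U := by
      rcases hU with rfl | hess
      · exact isCentric_top F
      · exact hess.1
    have hUS := hUcen.1
    have hfinU : Finite U := finite_of_le' hUS
    -- a minimal centric subgroup of U
    classical
    obtain ⟨Q, ⟨hQU, hQcen⟩, hQmin⟩ : ∃ Q : Subgroup Ω, (Q ≤ U ∧ F.IsCentric Q) ∧
        ∀ R : Subgroup Ω, (R ≤ U ∧ F.IsCentric R) → Nat.card Q ≤ Nat.card R := by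
      have hne : ∃ n, ∃ Q : Subgroup Ω, (Q ≤ U ∧ F.IsCentric Q) ∧ Nat.card Q = n :=
        ⟨_, U, ⟨le_rfl, hUcen⟩, rfl⟩
      obtain ⟨Q, hQ, hQn⟩ := Nat.find_spec hne
      refine ⟨Q, hQ, fun R hR => ?_⟩
      rw [hQn]
      exact Nat.find_min' hne ⟨R, hR, rfl⟩
    have hQminimal : ∀ R : Subgroup Ω, R < Q → ¬ F.IsCentric R := by
      intro R hRQ hRcen
      have h1 := hQmin R ⟨hRQ.le.trans hQU, hRcen⟩
      have hfinQ : Finite Q := finite_of_le' hQcen.1
      have h2 : Q = R := (Subgroup.eq_of_le_of_card_ge hRQ.le h1).symm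
      exact absurd h2.symm hRQ.ne
    have heq := hmin Q hQcen hQminimal
    have hψ := (mem_autGroup_iff F hUS α).mp hα
    have h1 : (U.subtype.comp α.toMonoidHom).comp (Subgroup.inclusion hQU) ∈ F'.Hom Q := by
      rw [← heq]
      exact restrict_mem F hψ hQU
    rw [mem_autGroup_iff F' hUS]
    exact mem_subsystem_of_restrict_centric p hS F hF F' hF' hle hQU hQcen hψ h1
  exact hFF' P

end Cfsg.Agent.S5335
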