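import Cfsg.Statements.S5336
import Cfsg.Agent.S5118
import Cfsg.Agent.Lib.Helper9.Frattini
-- import your own Cfsg.Agent.* helpers here

set_option autoImplicit false
open Cfsg

namespace Cfsg.Agent.S5336

open Cfsg.FusionSystem Cfsg.Agent.Lib.Helper9

/-- Let G be a finite group with Sylow p-subgroup S whose fusion system F_S(G) is simple. If G has no nontrivial normal subgroup of order prime to p and no proper subgroup H containing S induces the same fusion system on S as G does, then G is a simple group. -/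
theorem result {G : Type*} [Group G] [Finite G] (p : ℕ) [Fact p.Prime] (S : Sylow p G) (hsimple : (Cfsg.groupFusionSystem (S : Subgroup G)).IsSimple p) (hcore : Cfsg.pPrimeCore p G = ⊥) (hmin : ∀ (H : Subgroup G) (hSH : (S : Subgroup G) ≤ H), H ≠ ⊤ → ∃ P : Subgroup G, (Cfsg.fusionSystemOfSubgroup H (S : Subgroup G) hSH).Hom P ≠ (Cfsg.groupFusionSystem (S : Subgroup G)).Hom P) : IsSimpleGroup G := by
  obtain ⟨hsat, hS1, hsimp⟩ := hsimple
  have hnt : Nontrivial G := by
    by_contra hcon
    rw [not_nontrivial_iff_subsingleton] at hcon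
    exact hS1 (Subsingleton.elim _ _)
  refine ⟨fun N hN => ?_⟩
  haveI := hN
  rcases hsimp _ _ (Cfsg.Agent.S5118.result p S N) with h0 | ⟨hT, hHom⟩
  · left
    have hcard := card_sylow_inf_normal p S N
    rw [h0, Subgroup.card_bot] at hcard
    have hfac : (Nat.card N).factorization p = 0 := by
      by_contra hne
      have : 1 < p ^ (Nat.card N).factorization p :=
        Nat.one_lt_pow hne (Fact.out : p.Prime).one_lt
      omega
    have hcop : (Nat.card N).Coprime p := by
      rw [Nat.coprime_comm, (Fact.out : p.Prime).coprime_iff_not_dvd]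
      intro hdvd
      have := (Nat.Prime.factorization_pos_of_dvd (Fact.out : p.Prime) Nat.card_pos.ne' hdvd)
      omega
    have hle : N ≤ pPrimeCore p G := le_sSup ⟨hN, hcop⟩
    rw [hcore] at hle
    exact le_bot_iff.mp hle
  · right
    by_contra hne
    have hSN : (S : Subgroup G) ≤ N := by
      rw [← hT]; exact inf_le_right
    obtain ⟨P, hP⟩ := hmin N hSN hne
    apply hP
    rw [← hHom P]
    ext φ
    show (P ≤ (S : Subgroup G) ∧ (∀ x : P, φ x ∈ (S : Subgroup G)) ∧ ∃ g ∈ N, ∀ x : P, φ x = g * (x : G) * g⁻¹) ↔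
      (P ≤ (S : Subgroup G) ⊓ N ∧ (∀ x : P, φ x ∈ (S : Subgroup G) ⊓ N) ∧ ∃ g ∈ N, ∀ x : P, φ x = g * (x : G) * g⁻¹)
    rw [hT]

end Cfsg.Agent.S5336
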