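import Cfsg.Statements.S5337
import Cfsg.Agent.Lib.Helper9.FusionAbelian

set_option autoImplicit false
open Cfsg

namespace Cfsg.Agent.S5337

open Cfsg.Agent.Lib.Helper9 Cfsg.FusionSystem

/-- Let F be a saturated fusion system over a finite abelian p-group S. Then F is simple if and only if S has order p and F is the inner system of S (whose only maps are the inclusions, S being abelian). -/
theorem result {Ω : Type*} [Group Ω] {S : Subgroup Ω} [Finite S] (p : ℕ) [Fact p.Prime] (hS : IsPGroup p S) (F : Cfsg.FusionSystem S) (hF : F.IsSaturated p) (hab : ∀ x ∈ S, ∀ y ∈ S, x * y = y * x) : F.IsSimple p ↔ (Nat.card S = p ∧ ∀ P : Subgroup Ω, F.Hom P = (Cfsg.innerFusionSystem S).Hom P) := by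
  have hp : Fact p.Prime := inferInstance
  constructor
  · rintro ⟨-, hSne, hsimple⟩
    have hStop : F.StronglyClosed S :=
      ⟨le_rfl, fun R _ φ hφ x => (F.le_of_mem hφ).2 x⟩
    have h1 := hsimple S (innerFusionSystem S)
      (inner_isNormalIn_of_abelian_stronglyClosed p hS F hF hStop hab)
    have hinner : ∀ P : Subgroup Ω, (innerFusionSystem S).Hom P = F.Hom P := by
      rcases h1 with h | h
      · exact absurd h hSne
      · exact h.2
    refine ⟨?_, fun P => (hinner P).symm⟩
    -- every subgroup of S is strongly closed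
    have hsub : ∀ T : Subgroup Ω, T ≤ S → T = ⊥ ∨ T = S := by
      intro T hTS
      have hTsc : F.StronglyClosed T := by
        refine ⟨hTS, fun R hRT φ hφ x => ?_⟩
        rw [← hinner R] at hφ
        obtain ⟨hRS, g, hg, hgx⟩ := hφ
        rw [hgx x, hab g hg x (hRS x.2), mul_assoc, mul_inv_cancel, mul_one]
        exact hRT x.2
      have h2 := hsimple T (innerFusionSystem T)
        (inner_isNormalIn_of_abelian_stronglyClosed p hS F hF hTsc
          (fun x hx y hy => hab x (hTS hx) y (hTS hy)))
      rcases h2 with h | h
      · exact Or.inl h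
      · exact Or.inr h.1
    obtain ⟨k, hk⟩ := hS.exists_card_eq
    have hk1 : 1 ≤ k := by
      rcases Nat.eq_zero_or_pos k with rfl | h
      · exfalso
        apply hSne
        rw [pow_zero] at hk
        exact Subgroup.card_eq_one.mp hk
      · exact h
    have hdvd : p ^ 1 ∣ Nat.card S := by rw [hk]; exact pow_dvd_pow p hk1
    obtain ⟨K, hK⟩ := Sylow.exists_subgroup_card_pow_prime p hdvd
    rw [pow_one] at hK
    have hcardmap : Nat.card (K.map S.subtype) = p := by
      rw [Subgroup.card_map_of_injective S.subtype_injective]; exact hK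
    have hle : K.map S.subtype ≤ S := by
      rintro _ ⟨x, -, rfl⟩
      exact x.2
    rcases hsub _ hle with h | h
    · exfalso
      rw [h, Subgroup.card_bot] at hcardmap
      exact hp.out.one_lt.ne hcardmap
    · rw [← h]; exact hcardmap
  · rintro ⟨hcard, hinner⟩
    refine ⟨hF, ?_, ?_⟩
    · intro h
      rw [h, Subgroup.card_bot] at hcard
      exact hp.out.one_lt.ne hcard
    · intro T E hE
      have hTS : T ≤ S := hE.1.2.2.2.1.1
      have hsubE : E.IsSubsystemOf F := hE.1.2.2.1
      have hdvd : Nat.card T ∣ p := by
        rw [← hcard]; exact Subgroup.card_dvd_of_le hTS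
      rcases (Nat.dvd_prime hp.out).mp hdvd with h | h
      · exact Or.inl (Subgroup.card_eq_one.mp h)
      · right
        have hTeq : T = S := Subgroup.eq_of_le_of_card_ge hTS (by rw [h, hcard])
        subst hTeq
        refine ⟨rfl, fun P => Set.Subset.antisymm (hsubE P) ?_⟩
        rw [hinner P]
        exact inner_le E P

end Cfsg.Agent.S5337
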