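import Cfsg.Statements.S5338
import Cfsg.Agent.Lib.Helper9.FusionAlpInd
import Cfsg.Agent.Lib.Helper9.Frattini
import Cfsg.Agent.Lib.Helper9.FusionHyp

set_option autoImplicit false
open Cfsg

namespace Cfsg.Agent.S5338

open Cfsg.Agent.Lib.Helper9 Cfsg.FusionSystem

/-- Let F be a saturated fusion system over a finite p-group S and F′ ≤ F a saturated subsystem over all of S that is invariant under F in the conjugation sense: for every map φ of F with source Q and every map ψ of F′ between subgroups R ≤ Q (with values in Q), the transported map φψφ⁻¹ defined on φ(R) is again a map of F′. If moreover Aut_{F′}(S) = Aut_F(S), then F′ = F. -/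
theorem result {Ω : Type*} [Group Ω] {S : Subgroup Ω} [Finite S] (p : ℕ) [Fact p.Prime] (hS : IsPGroup p S) (F : Cfsg.FusionSystem S) (hF : F.IsSaturated p) (F' : Cfsg.FusionSystem S) (hF' : F'.IsSaturated p) (hle : F' ≤ F) (hinv : ∀ (Q : Subgroup Ω) (φ : ↥Q →* Ω), φ ∈ F.Hom Q → ∀ (R : Subgroup Ω) (hRQ : R ≤ Q) (ψ : ↥R →* Ω), ψ ∈ F'.Hom R → ∀ (hψQ : ∀ x : R, ψ x ∈ Q), ∃ χ ∈ F'.Hom ((R.subgroupOf Q).map φ), ∀ (x : R) (hx : φ ⟨(x : Ω), hRQ x.2⟩ ∈ (R.subgroupOf Q).map φ), χ ⟨φ ⟨(x : Ω), hRQ x.2⟩, hx⟩ = φ ⟨ψ x, hψQ x⟩) (htop : F'.autGroup S = F.autGroup S) (P : Subgroup Ω) : F'.Hom P = F.Hom P := by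
  apply Set.Subset.antisymm (hle P)
  intro φ hφ
  refine alperin_induction p hS F hF (fun P φ => φ ∈ F'.Hom P) ?_ ?_ ?_ ?_ P φ hφ
  · intro P hP g hg
    exact F'.conj_mem hP hg
  · intro P Q φ ψ _ _ h hφ' hψ'
    exact F'.comp_mem hφ' hψ' h
  · intro P φ _ hφ' ψ _ hψx
    obtain ⟨ψ', hψ', hψ'x⟩ := F'.inv_mem hφ'
    have : ψ = ψ' := by
      ext ⟨_, ⟨x, rfl⟩⟩
      rw [hψx, hψ'x]
    rw [this]
    exact hψ'
  · intro U hU IH α hα
    by_cases hUeq : U = S
    · subst hUeq
      rw [← htop] at hα
      exact (mem_autGroup_iff F' le_rfl α).mp hα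
    · have hess : F.IsEssential p U := by
        rcases hU with h | h
        · exact absurd h hUeq
        · exact h
      have hUS := hess.1.1
      have hfn := hess.2.1
      obtain ⟨hfc, hfa⟩ := sat_fullyNormalized p hS F hF hfn
      have hrec := sat_fullyCentralized_receptive p hS F hF hfc
      have hfinU : Finite U := finite_of_le' hUS
      have hfinA : Finite (MulAut U) := inferInstance
      have hA'A : F'.autGroup U ≤ F.autGroup U := by
        intro β hβ
        rw [mem_autGroup_iff F hUS]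
        exact hle U ((mem_autGroup_iff F' hUS β).mp hβ)
      -- normality
      haveI hnormal : ((F'.autGroup U).subgroupOf (F.autGroup U)).Normal := by
        constructor
        intro β hβ γ
        rw [Subgroup.mem_subgroupOf] at hβ ⊢
        have hφγ := (mem_autGroup_iff F hUS (γ : MulAut U)).mp γ.2
        have hψβ := (mem_autGroup_iff F' hUS (β : MulAut U)).mp hβ
        have hψQ : ∀ x : U, (U.subtype.comp (β : MulAut U).toMonoidHom) x ∈ U :=
          fun x => ((β : MulAut U) x).2
        obtain ⟨χ, hχ, hχx⟩ := hinv U _ hφγ U le_rfl _ hψβ hψQ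
        have hleU : U ≤ (U.subgroupOf U).map (U.subtype.comp (γ : MulAut U).toMonoidHom) := by
          intro y hy
          refine ⟨(γ : MulAut U)⁻¹ ⟨y, hy⟩, Subgroup.mem_subgroupOf.mpr (SetLike.coe_mem _), ?_⟩
          show (((γ : MulAut U) ((γ : MulAut U)⁻¹ ⟨y, hy⟩) : U) : Ω) = y
          have e0 : (γ : MulAut U) ((γ : MulAut U)⁻¹ ⟨y, hy⟩) = ⟨y, hy⟩ :=
            MulEquiv.apply_symm_apply _ _
          rw [e0]
        have h1 := restrict_mem F' hχ hleU
        rw [mem_autGroup_iff F' hUS]
        have : U.subtype.comp ((γ * β * γ⁻¹ : F.autGroup U) : MulAut U).toMonoidHom =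
            χ.comp (Subgroup.inclusion hleU) := by
          ext y
          have hy : (U.subtype.comp (γ : MulAut U).toMonoidHom)
              ⟨(((γ : MulAut U)⁻¹ y : U) : Ω), SetLike.coe_mem _⟩ = (y : Ω) := by
            show (((γ : MulAut U) ((γ : MulAut U)⁻¹ y) : U) : Ω) = y
            have e0 : (γ : MulAut U) ((γ : MulAut U)⁻¹ y) = y := MulEquiv.apply_symm_apply _ _
            rw [e0]
          have h2 := hχx ((γ : MulAut U)⁻¹ y) (by rw [hy]; exact hleU y.2)
          have h3 : (χ.comp (Subgroup.inclusion hleU)) y =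
              χ ⟨(U.subtype.comp (γ : MulAut U).toMonoidHom)
                ⟨(((γ : MulAut U)⁻¹ y : U) : Ω), SetLike.coe_mem _⟩,
                  by rw [hy]; exact hleU y.2⟩ := by
            show χ ⟨(y : Ω), _⟩ = _
            congr 1
            exact Subtype.ext hy.symm
          rw [h3, h2]
          rfl
        rw [this]
        exact h1
      obtain ⟨Rs, hRs⟩ := hfa.2
      obtain ⟨n, hn, h, hαeq, hnorm⟩ :=
        frattini_inf p Rs ((F'.autGroup U).subgroupOf (F.autGroup U)) ⟨α, hα⟩
      have hαeq' : α = (h : MulAut U) * (n : MulAut U) := congrArg Subtype.val hαeq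
      have hnA' : (n : MulAut U) ∈ F'.autGroup U := Subgroup.mem_subgroupOf.mp hn
      have hSigA' : autInducedBy S U ≤ F'.autGroup U := autInducedBy_le_autGroup F' hUS
      have hnorm' : ∀ b ∈ autInducedBy S U,
          (h : MulAut U) * b * (h : MulAut U)⁻¹ ∈ autInducedBy S U := by
        intro b hb
        have hbA : b ∈ F.autGroup U := hA'A (hSigA' hb)
        have hmem : (⟨b, hbA⟩ : F.autGroup U) ∈ (Rs : Subgroup (F.autGroup U)) ⊓
            (F'.autGroup U).subgroupOf (F.autGroup U) := by
          refine Subgroup.mem_inf.mpr ⟨?_, Subgroup.mem_subgroupOf.mpr (hSigA' hb)⟩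
          rw [hRs]
          exact Subgroup.mem_subgroupOf.mpr hb
        have h1 := (Subgroup.mem_inf.mp (hnorm _ hmem)).1
        rw [hRs, Subgroup.mem_subgroupOf] at h1
        exact h1
      obtain ⟨φ', hφ', hφ'x⟩ := exists_aut_extension F hUS hrec (h : MulAut U) h.2 hnorm'
      have hNS : normalizerIn S U ≤ S := normalizerIn_le_left S U
      have hcard := card_lt_card_normalizerIn p hS hUS hUeq
      have h1 := IH _ hcard _ ((mem_autGroup_iff F hNS φ').mp hφ')
      have h2 := restrict_mem F' h1 (le_normalizerIn hUS)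
      have hhA' : (h : MulAut U) ∈ F'.autGroup U := by
        rw [mem_autGroup_iff F' hUS]
        have : U.subtype.comp (h : MulAut U).toMonoidHom =
            ((normalizerIn S U).subtype.comp φ'.toMonoidHom).comp
              (Subgroup.inclusion (le_normalizerIn hUS)) := by
          ext x
          exact (hφ'x x).symm
        rw [this]
        exact h2
      have hαA' : α ∈ F'.autGroup U := by
        rw [hαeq']
        exact (F'.autGroup U).mul_mem hhA' hnA'
      exact (mem_autGroup_iff F' hUS α).mp hαA'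

end Cfsg.Agent.S5338
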