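import Cfsg.Statements.S5342
import Cfsg.Agent.Lib.Helper9.FusionConstrSub
-- import your own Cfsg.Agent.* helpers here

set_option autoImplicit false
open Cfsg

namespace Cfsg.Agent.S5342

open Cfsg.FusionSystem Cfsg.Agent.Lib.Helper9

/-- Let F be a constrained saturated fusion system over a finite p-group S. Then every subsystem of F that is subnormal in F (reached from F by a finite chain of successive normal subsystems) is constrained. -/
theorem result {Ω : Type*} [Group Ω] {S : Subgroup Ω} [Finite S] (p : ℕ) [Fact p.Prime] (hS : IsPGroup p S) (F : Cfsg.FusionSystem S) (hF : F.IsConstrained p) {T : Subgroup Ω} (E : Cfsg.FusionSystem T) (hE : E.IsSubnormalIn F p) : E.IsConstrained p := by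
  have key : ∀ {T' : Subgroup Ω} (E' : Cfsg.FusionSystem T') {S' : Subgroup Ω}
      (F' : Cfsg.FusionSystem S') (p' : ℕ), E'.IsSubnormalIn F' p' → p' = p → Finite S' →
      IsPGroup p S' → F'.IsConstrained p → E'.IsConstrained p := by
    intro T' E' S' F' p' h
    induction h with
    | refl F'' p'' => intro _ _ _ h; exact h
    | step hED hDF ih =>
      intro hp hfin hS' hF'
      subst hp
      have hinv := hDF.1.2.2
      have hUS := hinv.2.1.1
      have hDc := constrained_of_subsystem _ hS' _ hF' _ hDF.1.1 hinv.1 hinv.2.1
      exact ih rfl (finite_of_le' hUS) (hS'.to_le hUS) hDc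
  exact key E F p hE rfl inferInstance hS hF

end Cfsg.Agent.S5342
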