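import Cfsg.Statements.S5343
import Cfsg.Agent.Lib.Helper9.FusionRealNormal3
import Cfsg.Agent.Lib.Helper9.SylowConj2
-- import your own Cfsg.Agent.* helpers here

set_option autoImplicit false
universe u
open Cfsg

namespace Cfsg.Agent.S5343

open Cfsg.FusionSystem Cfsg.Agent.Lib.Helper9

/-- If the preimage of `N` in `S` is trivial, the quotient by `N` still realizes `F`. -/
theorem isRealizedBy_quotient {Ω : Type*} [Group Ω] {S : Subgroup Ω} {G : Type*} [Group G]
    [Finite G] (p : ℕ) [Fact p.Prime] (F : FusionSystem S) (ι : S →* G)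
    (hreal : F.IsRealizedBy ι) (T : Sylow p G) (hT : (T : Subgroup G) = ι.range)
    (N : Subgroup G) [hN : N.Normal] (h0 : preimageAlong ι N = ⊥) :
    F.IsRealizedBy ((QuotientGroup.mk' N).comp ι) := by
  have hTN : ∀ t ∈ (T : Subgroup G), t ∈ N → t = 1 := by
    intro t ht htN
    obtain ⟨x, hx, hxN, rfl⟩ := exists_of_mem_inf ι N _ hT ⟨ht, htN⟩
    rw [h0, Subgroup.mem_bot] at hxN
    have : (⟨x, hx⟩ : S) = 1 := Subtype.ext hxN
    rw [this, map_one]
  refine ⟨?_, ?_⟩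
  · rw [injective_iff_map_eq_one]
    intro s hs
    have h1 : ι s ∈ N := by
      rw [MonoidHom.comp_apply, QuotientGroup.mk'_apply, QuotientGroup.eq_one_iff] at hs
      exact hs
    have h2 : ι s = 1 := hTN _ (by rw [hT]; exact ⟨s, rfl⟩) h1
    exact (injective_iff_map_eq_one ι).mp hreal.1 s h2
  · intro P hP φ hφ
    rw [hreal.2 P hP φ hφ]
    constructor
    · rintro ⟨g, hg⟩
      refine ⟨QuotientGroup.mk' N g, fun x => ?_⟩
      show QuotientGroup.mk' N (ι ⟨φ x, hφ x⟩) = _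
      rw [hg x, map_mul, map_mul, map_inv]
      rfl
    · rintro ⟨q, hq⟩
      obtain ⟨g, rfl⟩ := QuotientGroup.mk'_surjective N q
      have hq' : ∀ x : P, (ι ⟨φ x, hφ x⟩)⁻¹ * (g * ι ⟨x, hP x.2⟩ * g⁻¹) ∈ N := by
        intro x
        have h1 : ((ι ⟨φ x, hφ x⟩ : G) : G ⧸ N) = ((g * ι ⟨x, hP x.2⟩ * g⁻¹ : G) : G ⧸ N) := by
          rw [QuotientGroup.mk_mul, QuotientGroup.mk_mul, QuotientGroup.mk_inv]
          exact hq x
        exact QuotientGroup.eq.mp h1
      have hA : imageAlong ι P ≤ (T : Subgroup G) := by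
        rintro _ ⟨s, -, rfl⟩
        rw [hT]
        exact ⟨s, rfl⟩
      have hg₀ : ∀ a ∈ imageAlong ι P, g * a * g⁻¹ ∈ (T : Subgroup G) ⊔ N := by
        rintro _ ⟨s, hs, rfl⟩
        have hsP : (s : Ω) ∈ P := Subgroup.mem_subgroupOf.mp hs
        have e : g * ι s * g⁻¹ = ι ⟨φ ⟨s, hsP⟩, hφ _⟩ *
            ((ι ⟨φ ⟨s, hsP⟩, hφ _⟩)⁻¹ * (g * ι s * g⁻¹)) := by group
        rw [e]
        exact Subgroup.mul_mem_sup (by rw [hT]; exact ⟨_, rfl⟩) (hq' ⟨s, hsP⟩)
      obtain ⟨h, hhN, hh⟩ := exists_conj_mod_normal p T N (imageAlong ι P) hA g hg₀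
      refine ⟨h * g, fun x => ?_⟩
      have hb : ι ⟨φ x, hφ x⟩ ∈ (T : Subgroup G) := by rw [hT]; exact ⟨_, rfl⟩
      have hb' : (h * g) * ι ⟨x, hP x.2⟩ * (h * g)⁻¹ ∈ (T : Subgroup G) :=
        hh _ (mem_imageAlong hP x)
      have hmN : (ι ⟨φ x, hφ x⟩)⁻¹ * ((h * g) * ι ⟨x, hP x.2⟩ * (h * g)⁻¹) ∈ N := by
        have e : (ι ⟨φ x, hφ x⟩)⁻¹ * ((h * g) * ι ⟨x, hP x.2⟩ * (h * g)⁻¹) =
            ((ι ⟨φ x, hφ x⟩)⁻¹ * h * (ι ⟨φ x, hφ x⟩)⁻¹⁻¹) *
              ((ι ⟨φ x, hφ x⟩)⁻¹ * (g * ι ⟨x, hP x.2⟩ * g⁻¹)) * h⁻¹ := by group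
        rw [e]
        exact N.mul_mem (N.mul_mem (hN.conj_mem h hhN _) (hq' x)) (N.inv_mem hhN)
      have h1 := hTN _ (Subgroup.mul_mem _ (Subgroup.inv_mem _ hb) hb') hmN
      exact inv_mul_eq_one.mp h1

/-- A realizing group of minimal order for a simple system is simple. -/
theorem simple_of_minimal {Ω : Type u} [Group Ω] {S : Subgroup Ω} [Finite S] (p : ℕ)
    [Fact p.Prime] (hS : IsPGroup p S) (F : FusionSystem S) (hsimple : F.IsSimple p)
    {G : Type u} [Group G] [Finite G] (ι : S →* G) (hreal : F.IsRealizedBy ι) (T : Sylow p G)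
    (hT : (T : Subgroup G) = ι.range)
    (hmin : ∀ (G' : Type u) [Group G'] [Finite G'] (ι' : S →* G'), F.IsRealizedBy ι' →
      (∃ T' : Sylow p G', (T' : Subgroup G') = ι'.range) → Nat.card G ≤ Nat.card G') :
    IsSimpleGroup G := by
  obtain ⟨hsat, hS1, hsimp⟩ := hsimple
  have hnt : Nontrivial G := by
    by_contra hcon
    rw [not_nontrivial_iff_subsingleton] at hcon
    apply hS1
    rw [Subgroup.eq_bot_iff_forall]
    intro s hs
    have : (⟨s, hs⟩ : S) = 1 := hreal.1 (Subsingleton.elim _ _)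
    exact congrArg Subtype.val this
  refine ⟨fun N hN => ?_⟩
  haveI := hN
  rcases hsimp _ _ (realNormalSub_isNormalIn F ι N p hS hreal T hT) with h0 | ⟨hT', hHom⟩
  · left
    have hQ := isRealizedBy_quotient p F ι hreal T hT N h0
    have hle := hmin (G ⧸ N) ((QuotientGroup.mk' N).comp ι) hQ
      ⟨T.mapSurjective (QuotientGroup.mk'_surjective N), by
        rw [MonoidHom.range_comp, ← hT]; rfl⟩
    have hcard := Subgroup.card_eq_card_quotient_mul_card_subgroup N
    have hpos : 0 < Nat.card (G ⧸ N) := Nat.card_pos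
    have hN1 : Nat.card N ≤ 1 := by nlinarith
    exact N.eq_bot_of_card_le hN1
  · right
    have hSN : ∀ s : S, ι s ∈ N := by
      intro s
      have h1 : (s : Ω) ∈ preimageAlong ι N := by rw [hT']; exact s.2
      exact (mem_preimageAlong s.2).mp h1
    have hrealN : F.IsRealizedBy (ι.codRestrict N hSN) := by
      refine ⟨fun a b hab => hreal.1 (congrArg Subtype.val hab), ?_⟩
      intro P hP φ hφ
      constructor
      · intro hφF
        have h1 : φ ∈ (realNormalSub F ι N).Hom P := by rw [hHom P]; exact hφF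
        obtain ⟨-, -, g, hgN, hg⟩ := h1
        exact ⟨⟨g, hgN⟩, fun x => Subtype.ext (hg x (hP x.2) (hφ x))⟩
      · rintro ⟨g, hg⟩
        exact (hreal.2 P hP φ hφ).mpr ⟨g, fun x => congrArg Subtype.val (hg x)⟩
    have hTleN : (T : Subgroup G) ≤ N := by
      rw [hT]
      rintro _ ⟨s, rfl⟩
      exact hSN s
    have hcardT : Nat.card (T : Subgroup G) = p ^ (Nat.card N).factorization p := by
      have h1 := card_sylow_inf_normal p T N
      rwa [inf_of_le_left hTleN] at h1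
    obtain ⟨TN, hTN⟩ := (exists_sylow_eq_subgroupOf_iff p hTleN).mpr hcardT
    have hrange : (ι.codRestrict N hSN).range = (T : Subgroup G).subgroupOf N := by
      ext y
      constructor
      · rintro ⟨s, rfl⟩
        exact Subgroup.mem_subgroupOf.mpr (by rw [hT]; exact ⟨s, rfl⟩)
      · intro hy
        have h1 : (y : G) ∈ ι.range := by rw [← hT]; exact Subgroup.mem_subgroupOf.mp hy
        obtain ⟨s, hs⟩ := h1
        exact ⟨s, Subtype.ext hs⟩
    have hle := hmin ↥N (ι.codRestrict N hSN) hrealN ⟨TN, by rw [hTN, hrange]⟩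
    exact N.eq_top_of_le_card hle

/-- Let F be a simple saturated fusion system over a finite p-group S that is realized by some finite group on a Sylow p-subgroup. Then F is realized by a finite simple group on a Sylow p-subgroup. -/
theorem result {Ω : Type u} [Group Ω] {S : Subgroup Ω} [Finite S] (p : ℕ) [Fact p.Prime] (hS : IsPGroup p S) (F : Cfsg.FusionSystem S) (hsimple : F.IsSimple p) (hreal : F.IsRealizable p) : ∃ (G : Type u) (_ : Group G) (_ : Finite G) (_ : IsSimpleGroup G) (ι : ↥S →* G), F.IsRealizedBy ι ∧ ∃ T : Sylow p G, (T : Subgroup G) = ι.range := by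
  classical
  have hex : ∃ n : ℕ, ∃ (G : Type u) (_ : Group G) (_ : Finite G) (ι : S →* G),
      F.IsRealizedBy ι ∧ (∃ T : Sylow p G, (T : Subgroup G) = ι.range) ∧ Nat.card G = n := by
    obtain ⟨G, hG, hfin, ι, h1, h2⟩ := hreal
    exact ⟨Nat.card G, G, hG, hfin, ι, h1, h2, rfl⟩
  obtain ⟨G, hG, hfin, ι, h1, ⟨T, hT⟩, hcard⟩ := Nat.find_spec hex
  refine ⟨G, hG, hfin, ?_, ι, h1, T, hT⟩
  apply simple_of_minimal p hS F hsimple ι h1 T hT
  intro G' _ _ ι' h1' h2'
  by_contra hlt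
  rw [not_le] at hlt
  exact Nat.find_min hex (m := Nat.card G') (by rw [← hcard]; exact hlt)
    ⟨G', inferInstance, inferInstance, ι', h1', h2', rfl⟩

end Cfsg.Agent.S5343
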