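import Cfsg.Statements.S5344
import Cfsg.Agent.Lib.Helper9.CoxA3b
-- import your own Cfsg.Agent.* helpers here

set_option autoImplicit false
open Cfsg

namespace Cfsg.Agent.S5344

open Cfsg.Agent.Lib.Helper9

/-- In a set of 3-transpositions, let a, b, c be members with a and c different and commuting, while neither a nor c commutes with b (a 3-string). Then there is an injective homomorphism from the symmetric group of degree 4 into the ambient group sending the transpositions (0 1), (1 2), (2 3) to a, b, c; so a, b, c generate a copy of the symmetric group of degree 4 in which they are transpositions. -/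
theorem result {G : Type*} [Group G] {D : Set G} (hD : Cfsg.IsThreeTranspositionSet D) {a b c : G} (ha : a ∈ D) (hb : b ∈ D) (hc : c ∈ D) (hac : a ≠ c) (hac' : Commute a c) (hab : ¬ Commute a b) (hbc : ¬ Commute b c) : ∃ φ : Equiv.Perm (Fin 4) →* G, Function.Injective φ ∧ φ (Equiv.swap 0 1) = a ∧ φ (Equiv.swap 1 2) = b ∧ φ (Equiv.swap 2 3) = c := by
  have sq : ∀ d ∈ D, d * d = 1 := by
    intro d hdD
    have := pow_orderOf_eq_one d
    rwa [hD.1 d hdD, pow_two] at this
  have haa := sq a ha
  have hbb := sq b hb
  have hcc := sq c hc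
  have h3ab : (a * b) ^ 3 = 1 := by
    rcases hD.2 a ha b hb with h | h
    · exact absurd (CoxA3.commute_of_sq haa hbb h) hab
    · exact h
  have h3bc : (b * c) ^ 3 = 1 := by
    rcases hD.2 b hb c hc with h | h
    · exact absurd (CoxA3.commute_of_sq hbb hcc h) hbc
    · exact h
  have hrel : CoxA3.Rel a b c :=
    ⟨haa, hbb, hcc, hac'.eq.symm, CoxA3.braid_of_pow_three haa hbb h3ab,
      CoxA3.braid_of_pow_three hbb hcc h3bc⟩
  exact CoxA3.exists_hom hrel hac

end Cfsg.Agent.S5344
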