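import Cfsg.Statements.S5345

set_option autoImplicit false
open Cfsg

namespace Cfsg.Agent.S5345

theorem commute_of_sq {G : Type*} [Group G] {a y : G} (ha : a * a = 1) (hy : y * y = 1)
    (h : (a * y) ^ 2 = 1) : Commute a y := by
  have h1 : a * y * (a * y) = 1 := by rw [← pow_two]; exact h
  have hai : a⁻¹ = a := inv_eq_of_mul_eq_one_left ha
  have hyi : y⁻¹ = y := inv_eq_of_mul_eq_one_left hy
  have : a * y = (a * y)⁻¹ := eq_inv_of_mul_eq_one_left h1
  rw [mul_inv_rev, hai, hyi] at this
  exact this

/-- Let D be a conjugation-invariant generating set of 3-transpositions of a finite group G and T a Sylow 2-subgroup of G. Then the members of D lying in T generate an abelian subgroup, and their number is the width of D (the largest number of pairwise commuting members of D). -/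
theorem result {G : Type*} [Group G] [Finite G] {D : Set G} (hD : Cfsg.IsThreeTranspositionGroup D) (T : Sylow 2 G) : IsMulCommutative (Subgroup.closure {d : G | d ∈ D ∧ d ∈ T}) ∧ {d : G | d ∈ D ∧ d ∈ T}.ncard = Cfsg.commutingWidth D := by
  obtain ⟨⟨hord, hprod⟩, hconj, -⟩ := hD
  have hsq : ∀ x ∈ D, x * x = 1 := by
    intro x hx
    have := pow_orderOf_eq_one x
    rw [hord x hx, pow_two] at this
    exact this
  have : Fact (Nat.Prime 2) := ⟨Nat.prime_two⟩
  -- members of D in T commute pairwise
  have hcomm : ∀ a ∈ {d : G | d ∈ D ∧ d ∈ T}, ∀ b ∈ {d : G | d ∈ D ∧ d ∈ T}, a * b = b * a := by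
    rintro a ⟨haD, haT⟩ b ⟨hbD, hbT⟩
    have habT : a * b ∈ (T : Subgroup G) := T.mul_mem haT hbT
    apply commute_of_sq (hsq a haD) (hsq b hbD)
    rcases hprod a haD b hbD with h | h
    · exact h
    · obtain ⟨k, hk⟩ := T.2 ⟨a * b, habT⟩
      have hk' : (a * b) ^ 2 ^ k = 1 := by
        have := congrArg Subtype.val hk
        simpa using this
      have h1 : orderOf (a * b) ∣ 2 ^ k := orderOf_dvd_of_pow_eq_one hk'
      have h2 : orderOf (a * b) ∣ 3 := orderOf_dvd_of_pow_eq_one h
      have hcop : Nat.Coprime (2 ^ k) 3 := Nat.Coprime.pow_left _ (by norm_num)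
      have : orderOf (a * b) ∣ 1 := by
        have := Nat.dvd_gcd h1 h2
        rwa [hcop] at this
      have : a * b = 1 := orderOf_eq_one_iff.mp (Nat.dvd_one.mp this)
      rw [this, one_pow]
  refine ⟨Subgroup.isMulCommutative_closure hcomm, ?_⟩
  unfold commutingWidth
  apply le_antisymm
  · apply le_csSup
    · refine ⟨Nat.card G, ?_⟩
      rintro n ⟨E, -, hEf, -, rfl⟩
      rw [← Nat.card_coe_set_eq]
      exact Nat.card_le_card_of_injective _ Subtype.val_injective
    · exact ⟨_, fun x hx => hx.1, Set.toFinite _, fun a ha b hb => hcomm a ha b hb, rfl⟩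
  · apply csSup_le
    · exact ⟨0, ∅, Set.empty_subset _, Set.finite_empty, by simp, Set.ncard_empty G⟩
    · rintro n ⟨E, hED, hEf, hEc, rfl⟩
      -- closure E is a 2-group
      have hEcomm : IsMulCommutative (Subgroup.closure E) :=
        Subgroup.isMulCommutative_closure (fun x hx y hy => hEc x hx y hy)
      have hE2 : ∀ x ∈ Subgroup.closure E, x ^ 2 = 1 := by
        intro x hx
        induction hx using Subgroup.closure_induction with
        | mem x hx => rw [pow_two]; exact hsq x (hED hx)
        | one => simp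
        | mul x y hx hy ihx ihy =>
          have hc : Commute x y := by
            have := hEcomm.is_comm.comm ⟨x, hx⟩ ⟨y, hy⟩
            exact congrArg Subtype.val this
          rw [hc.mul_pow, ihx, ihy, one_mul]
        | inv x hx ih => rw [inv_pow, ih, inv_one]
      have hP : IsPGroup 2 (Subgroup.closure E) := by
        intro g
        refine ⟨1, ?_⟩
        apply Subtype.ext
        simpa using hE2 g.1 g.2
      obtain ⟨Q, hQ⟩ := hP.exists_le_sylow
      obtain ⟨g, hg⟩ := MulAction.exists_smul_eq G Q T
      have hmap : ∀ x ∈ E, g * x * g⁻¹ ∈ {d : G | d ∈ D ∧ d ∈ T} := by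
        intro x hx
        refine ⟨hconj g x (hED hx), ?_⟩
        have hxQ : x ∈ (Q : Subgroup G) := hQ (Subgroup.subset_closure hx)
        have : g * x * g⁻¹ ∈ ((g • Q : Sylow 2 G) : Subgroup G) := by
          rw [Sylow.coe_subgroup_smul]
          exact ⟨x, hxQ, rfl⟩
        rw [hg] at this
        exact this
      have hinj : Set.InjOn (fun x => g * x * g⁻¹) E := by
        intro x _ y _ h
        have h' : g * x * g⁻¹ = g * y * g⁻¹ := h
        exact mul_left_cancel (mul_right_cancel h')
      exact Set.ncard_le_ncard_of_injOn _ hmap hinj (Set.toFinite _)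

end Cfsg.Agent.S5345
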