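import Cfsg.Statements.S5348

set_option autoImplicit false
open Cfsg

namespace Cfsg.Agent.S5348

theorem result {G : Type*} [Group G] [Finite G] {D : Set G} (hD : Cfsg.IsThreeTranspositionGroup D) {d : G} (hd : d ∈ D) : {v : G | v ∈ D ∧ ∀ e ∈ D, Commute v e ↔ Commute d e} = {d} ∨ {w : G | w ∈ D ∧ {y : G | y ∈ D ∧ y ≠ d ∧ Commute d y} = {y : G | y ∈ D ∧ y ≠ w ∧ Commute w y}} = {d} := by
  by_contra hcon
  rw [not_or] at hcon
  obtain ⟨hV, hW⟩ := hcon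
  have hdV : d ∈ {v : G | v ∈ D ∧ ∀ e ∈ D, Commute v e ↔ Commute d e} := ⟨hd, fun e _ => Iff.rfl⟩
  have hdW : d ∈ {w : G | w ∈ D ∧ {y : G | y ∈ D ∧ y ≠ d ∧ Commute d y} = {y : G | y ∈ D ∧ y ≠ w ∧ Commute w y}} :=
    ⟨hd, rfl⟩
  obtain ⟨v, hvV, hvd⟩ : ∃ v ∈ {v : G | v ∈ D ∧ ∀ e ∈ D, Commute v e ↔ Commute d e}, v ≠ d := by
    by_contra h
    push_neg at h
    apply hV
    ext x
    constructor
    · intro hx; exact h x hx
    · intro hx; rw [Set.mem_singleton_iff] at hx; rw [hx]; exact hdV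
  obtain ⟨w, hwW, hwd⟩ : ∃ w ∈ {w : G | w ∈ D ∧ {y : G | y ∈ D ∧ y ≠ d ∧ Commute d y} = {y : G | y ∈ D ∧ y ≠ w ∧ Commute w y}}, w ≠ d := by
    by_contra h
    push_neg at h
    apply hW
    ext x
    constructor
    · intro hx; exact h x hx
    · intro hx; rw [Set.mem_singleton_iff] at hx; rw [hx]; exact hdW
  obtain ⟨hvD, hvc⟩ := hvV
  obtain ⟨hwD, hwset⟩ := hwW
  -- v commutes with d
  have hvd' : Commute v d := (hvc d hd).mpr (Commute.refl d)
  -- w does not commute with d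
  have hwd' : ¬ Commute d w := by
    intro h
    have : w ∈ {y : G | y ∈ D ∧ y ≠ d ∧ Commute d y} := ⟨hwD, hwd, h⟩
    rw [hwset] at this
    exact this.2.1 rfl
  -- v ∈ D_d = D_w, so v commutes with w
  have hvw : Commute w v := by
    have : v ∈ {y : G | y ∈ D ∧ y ≠ d ∧ Commute d y} := ⟨hvD, hvd, hvd'.symm⟩
    rw [hwset] at this
    exact this.2.2
  exact hwd' ((hvc w hwD).mp hvw.symm)

end Cfsg.Agent.S5348
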