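import Cfsg.Statements.S5349
import Cfsg.Agent.Lib.Helper9.ThreeTransV
-- import your own Cfsg.Agent.* helpers here

set_option autoImplicit false
open Cfsg

namespace Cfsg.Agent.S5349

open Cfsg.Agent.Lib.Helper9

/-- Let D be a conjugacy class of 3-transpositions generating the finite group G, with at least two members, and d a member of D. Then the set of members of D commuting with exactly the same members of D as d coincides with the set of members of D lying in the coset of d modulo the largest normal 2-subgroup of G, and also with the orbit of d under conjugation by that normal 2-subgroup. -/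
theorem result {G : Type*} [Group G] [Finite G] {D : Set G} (hD : Cfsg.IsThreeTranspositionClass D) (hD2 : ∃ a ∈ D, ∃ b ∈ D, a ≠ b) {d : G} (hd : d ∈ D) : {v : G | v ∈ D ∧ ∀ e ∈ D, Commute v e ↔ Commute d e} = {v : G | v ∈ D ∧ d⁻¹ * v ∈ Cfsg.pCore 2 G} ∧ {v : G | v ∈ D ∧ ∀ e ∈ D, Commute v e ↔ Commute d e} = {v : G | ∃ g ∈ Cfsg.pCore 2 G, v = g * d * g⁻¹} := by
  obtain ⟨hTT, ⟨d₀, hd₀, hDeq⟩, hgen⟩ := hD
  have hconj : ∀ g : G, ∀ x ∈ D, g * x * g⁻¹ ∈ D := by
    intro g x hx
    rw [hDeq] at hx ⊢
    have hx' : IsConj d₀ x := hx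
    exact hx'.trans (isConj_iff.mpr ⟨g, rfl⟩)
  have hQn : (Cfsg.pCore 2 G).Normal := pCore_normal' 2
  have hQ2 : IsPGroup 2 ↥(Cfsg.pCore 2 G) := pCore_isPGroup'
  have hMQ := sameCommGroup_le_pCore hTT hconj
  have hdd := tt_sq hTT hd
  have hdinv := tt_inv hTT hd
  -- (D): congruent modulo `O₂(G)` implies same commuting set
  have hone : ∀ x ∈ D, ∀ y ∈ D, x⁻¹ * y ∈ Cfsg.pCore 2 G → ∀ e ∈ D, Commute x e → Commute y e := by
    intro x hx y hy hq e he hxe
    by_contra hne
    have h3 := tt_cube hTT hy he hne
    have hxinv := tt_inv hTT hx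
    have heinv := tt_inv hTT he
    have hw2 : (y * e) ^ 2 ∈ Cfsg.pCore 2 G := by
      have h1 := hQn.conj_mem _ hq x
      have h2 := hQn.conj_mem _ hq e
      have e1 : (y * e) ^ 2 = (x * (x⁻¹ * y) * x⁻¹) * (e * (x⁻¹ * y) * e⁻¹) := by
        rw [hxinv, heinv, pow_two]
        have hxx := tt_sq hTT hx
        calc y * e * (y * e) = (x * x) * y * e * ((x * x) * y) * e := by
              rw [hxx]; simp only [one_mul, mul_assoc]
          _ = x * (x * y) * (e * x) * (x * y) * e := by simp only [mul_assoc]
          _ = x * (x * y) * (x * e) * (x * y) * e := by rw [hxe.eq]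
          _ = x * (x * y) * x * (e * (x * y) * e) := by simp only [mul_assoc]
      rw [e1]
      exact Subgroup.mul_mem _ h1 h2
    obtain ⟨k, hk⟩ := hQ2 ⟨_, hw2⟩
    have hk' : ((y * e) ^ 2) ^ 2 ^ k = 1 := by
      have := congrArg Subtype.val hk
      simpa using this
    have h3' : ((y * e) ^ 2) ^ 3 = 1 := by
      rw [← pow_mul, mul_comm, pow_mul, h3, one_pow]
    have hd1 := orderOf_dvd_of_pow_eq_one hk'
    have hd2 := orderOf_dvd_of_pow_eq_one h3'
    have hcop : Nat.Coprime (2 ^ k) 3 := Nat.Coprime.pow_left k (by norm_num)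
    have hd3 := Nat.dvd_gcd hd1 hd2
    rw [hcop] at hd3
    have hw1 : (y * e) ^ 2 = 1 := orderOf_eq_one_iff.mp (Nat.dvd_one.mp hd3)
    have hye : y * e = 1 := by
      have : (y * e) ^ 3 = (y * e) ^ 2 * (y * e) := pow_succ _ _
      rw [h3, hw1, one_mul] at this
      exact this.symm
    have : y = e := by
      have h5 := eq_inv_of_mul_eq_one_left hye
      rw [heinv] at h5
      exact h5
    rw [this] at hne
    exact hne (Commute.refl e)
  have hsame_of_mem : ∀ v ∈ D, d⁻¹ * v ∈ Cfsg.pCore 2 G → ∀ e ∈ D, Commute v e ↔ Commute d e := by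
    intro v hv hq e he
    constructor
    · apply hone v hv d hd _ e he
      have : v⁻¹ * d = (d⁻¹ * v)⁻¹ := by group
      rw [this]
      exact Subgroup.inv_mem _ hq
    · exact hone d hd v hv hq e he
  have hmem_of_same : ∀ v ∈ D, (∀ e ∈ D, Commute v e ↔ Commute d e) → d * v ∈ Cfsg.pCore 2 G := by
    intro v hv hsame
    apply hMQ
    exact Subgroup.subset_closure ⟨d, hd, v, hv, fun e he => (hsame e he).symm, rfl⟩
  constructor
  · ext v
    constructor
    · rintro ⟨hv, hsame⟩
      refine ⟨hv, ?_⟩
      rw [hdinv]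
      exact hmem_of_same v hv hsame
    · rintro ⟨hv, hq⟩
      exact ⟨hv, hsame_of_mem v hv hq⟩
  · ext v
    constructor
    · rintro ⟨hv, hsame⟩
      by_cases hvd : v = d
      · exact ⟨1, Subgroup.one_mem _, by rw [hvd]; group⟩
      · -- some member of `D` does not commute with `d`
        have hex : ∃ c ∈ D, ¬ Commute d c := by
          by_contra hall
          push_neg at hall
          have hcent : ∀ g : G, g * d = d * g := by
            intro g
            have hg : g ∈ Subgroup.closure D := by rw [hgen]; exact Subgroup.mem_top g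
            have hle : Subgroup.closure D ≤ Subgroup.centralizer ({d} : Set G) := by
              rw [Subgroup.closure_le]
              intro c hc
              rw [SetLike.mem_coe, Subgroup.mem_centralizer_singleton_iff]
              exact (hall c hc).eq.symm
            have := hle hg
            rw [Subgroup.mem_centralizer_singleton_iff] at this
            exact this
          have hall_eq : ∀ x ∈ D, x = d := by
            intro x hx
            have hd' := hd
            rw [hDeq] at hx hd'
            have hx'' : IsConj d₀ x := hx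
            have hd'' : IsConj d₀ d := hd'
            obtain ⟨g, hg⟩ := isConj_iff.mp (hd''.symm.trans hx'')
            rw [← hg, hcent g, mul_inv_cancel_right]
          obtain ⟨a, ha, b, hb, hab⟩ := hD2
          exact hab ((hall_eq a ha).trans (hall_eq b hb).symm)
        obtain ⟨c, hc, hdc⟩ := hex
        have hvv := tt_sq hTT hv
        have hcc := tt_sq hTT hc
        have hcinv := tt_inv hTT hc
        have hvc : ¬ Commute v c := fun h => hdc ((hsame c hc).mp h)
        have hdv : d * v = v * d := ((hsame d hd).mpr (Commute.refl d)).eq.symm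
        have r4 := s4_rel4 hdd hvv hcc hdv (tt_cube hTT hd hc hdc) (tt_cube hTT hv hc hvc)
        have hg : c * (d * v) * c⁻¹ ∈ Cfsg.pCore 2 G :=
          hQn.conj_mem _ (hmem_of_same v hv hsame) c
        refine ⟨c * (d * v) * c⁻¹, hg, ?_⟩
        have hinv : (c * (d * v) * c⁻¹)⁻¹ = c * (d * v) * c := by
          rw [hcinv]
          have : (d * v)⁻¹ = d * v := by
            rw [mul_inv_rev, hdinv, tt_inv hTT hv, hdv]
          rw [mul_inv_rev, mul_inv_rev, hcinv, this]
          simp only [mul_assoc]
        rw [hinv, hcinv]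
        exact r4.symm
    · rintro ⟨g, hg, rfl⟩
      have hv : g * d * g⁻¹ ∈ D := hconj g d hd
      refine ⟨hv, hsame_of_mem _ hv ?_⟩
      have h1 := hQn.conj_mem g hg d⁻¹
      have e : d⁻¹ * (g * d * g⁻¹) = (d⁻¹ * g * d⁻¹⁻¹) * g⁻¹ := by group
      rw [e]
      exact Subgroup.mul_mem _ h1 (Subgroup.inv_mem _ hg)

end Cfsg.Agent.S5349
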