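import Cfsg.Statements.S5355
import Cfsg.Agent.Lib.Helper9.ThreeTrS4
import Cfsg.Agent.Lib.Helper9.CommGraphLift
-- import your own Cfsg.Agent.* helpers here

set_option autoImplicit false
open Cfsg

namespace Cfsg.Agent.S5355

open Cfsg.Agent.Lib.Helper9

/-- Let D be a conjugacy class of 3-transpositions generating the finite group G, with at least two members, and d a member of D. Suppose that every member of D commuting with d commutes with exactly the same members of D as d does, and that exactly one member of D other than d commutes with d. Then G is isomorphic to the symmetric group of degree 4. -/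
theorem result {G : Type*} [Group G] [Finite G] {D : Set G} (hD : Cfsg.IsThreeTranspositionClass D) (hD2 : ∃ a ∈ D, ∃ b ∈ D, a ≠ b) {d : G} (hd : d ∈ D) (hV : {y : G | y ∈ D ∧ Commute d y} = {v : G | v ∈ D ∧ ∀ e ∈ D, Commute v e ↔ Commute d e}) (hm : {y : G | y ∈ D ∧ Commute d y}.ncard = 2) : Nonempty (G ≃* Equiv.Perm (Fin 4)) := by
  obtain ⟨hD3, ⟨d₀, hd₀, hDeq⟩, hgen⟩ := hD
  have hconj : ∀ g : G, ∀ x ∈ D, g * x * g⁻¹ ∈ D := by
    intro g x hx
    rw [hDeq] at hx ⊢
    obtain ⟨c, rfl⟩ := CommGraphLift.mem_conjugatesOf_iff'.1 hx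
    exact CommGraphLift.mem_conjugatesOf_iff'.2 ⟨g * c, by group⟩
  have hclass : ∀ x ∈ D, ∃ g : G, g * d * g⁻¹ = x := by
    intro x hx
    rw [hDeq] at hx hd
    obtain ⟨c₂, rfl⟩ := CommGraphLift.mem_conjugatesOf_iff'.1 hx
    obtain ⟨c₁, rfl⟩ := CommGraphLift.mem_conjugatesOf_iff'.1 hd
    exact ⟨c₂ * c₁⁻¹, by group⟩
  obtain ⟨c, pc⟩ : ∃ c, ThreeTrS4.IsPartner D d c := by
    obtain ⟨u, v, huv, hset⟩ := Set.ncard_eq_two.1 hm
    have hdmem : d ∈ {y : G | y ∈ D ∧ Commute d y} := ⟨hd, Commute.refl d⟩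
    have key : ∀ c, c ≠ d → {y : G | y ∈ D ∧ Commute d y} = {d, c} →
        ThreeTrS4.IsPartner D d c := by
      intro c hcd hs
      have hcmem : c ∈ {y : G | y ∈ D ∧ Commute d y} := by rw [hs]; simp
      refine ⟨hcmem.1, hcd, hcmem.2, ?_, ?_⟩
      · intro y hy hyc
        have : y ∈ {y : G | y ∈ D ∧ Commute d y} := ⟨hy, hyc⟩
        rw [hs] at this
        simpa using this
      · have : c ∈ {v : G | v ∈ D ∧ ∀ e ∈ D, Commute v e ↔ Commute d e} := by
          rw [← hV]; exact hcmem
        exact this.2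
    rw [hset] at hdmem
    rcases hdmem with h | h
    · refine ⟨v, key v ?_ ?_⟩
      · rw [h]; exact huv.symm
      · rw [hset, h]
    · have h' : d = v := h
      refine ⟨u, key u ?_ ?_⟩
      · rw [h']; exact huv
      · rw [hset, h', Set.pair_comm]
  have partner : ∀ x ∈ D, ∃ x', ThreeTrS4.IsPartner D x x' := by
    intro x hx
    obtain ⟨g, rfl⟩ := hclass x hx
    exact ⟨_, pc.conj hconj g⟩
  obtain ⟨b, hbD, hdb⟩ : ∃ b ∈ D, ¬ Commute d b := by
    by_contra hall
    push_neg at hall
    have hcen : ∀ g : G, g * d * g⁻¹ = d := by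
      intro g
      have hg : g ∈ Subgroup.centralizer ({d} : Set G) := by
        have : Subgroup.closure D ≤ Subgroup.centralizer ({d} : Set G) := by
          rw [Subgroup.closure_le]
          intro y hy
          rw [SetLike.mem_coe, Subgroup.mem_centralizer_iff]
          intro h hh
          rw [Set.mem_singleton_iff] at hh
          rw [hh]
          exact (hall y hy).eq
        rw [hgen] at this
        exact this (Subgroup.mem_top g)
      rw [Subgroup.mem_centralizer_iff] at hg
      have := hg d rfl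
      rw [← this]; group
    obtain ⟨g, hg⟩ := hclass c pc.mem
    exact pc.ne (by rw [← hg, hcen g])
  obtain ⟨b', pb⟩ := partner b hbD
  obtain ⟨φ, hinj, h01, h12, h23, h03⟩ :=
    ThreeTrS4.string_partner hD3 hconj hd hbD pc pb hdb
  have pe := pc.conj hconj b
  have heD : b * d * b⁻¹ ∈ D := hconj b d hd
  have hsub : ∀ x ∈ D, x ∈ φ.range := by
    intro x hx
    by_contra hxr
    obtain ⟨x', px⟩ := partner x hx
    have hxd : ¬ Commute d x := by
      intro h
      rcases pc.only x hx h with h1 | h1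
      · exact hxr ⟨Equiv.swap 0 1, by rw [h01, h1]⟩
      · exact hxr ⟨Equiv.swap 2 3, by rw [h23, h1]⟩
    have hxb : ¬ Commute b x := by
      intro h
      rcases pb.only x hx h with h1 | h1
      · exact hxr ⟨Equiv.swap 1 2, by rw [h12, h1]⟩
      · exact hxr ⟨Equiv.swap 0 3, by rw [h03, h1]⟩
    have hxe : ¬ Commute (b * d * b⁻¹) x := by
      intro h
      rcases pe.only x hx h with h1 | h1
      · exact hxr ⟨Equiv.swap 1 2 * Equiv.swap 0 1 * (Equiv.swap 1 2)⁻¹, by
          rw [map_mul, map_mul, map_inv, h01, h12, h1]⟩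
      · exact hxr ⟨Equiv.swap 1 2 * Equiv.swap 2 3 * (Equiv.swap 1 2)⁻¹, by
          rw [map_mul, map_mul, map_inv, h23, h12, h1]⟩
    obtain ⟨s1, _⟩ := ThreeTrS4.star hD3 hconj hd hbD pc pb hdb
    obtain ⟨s2, _⟩ := ThreeTrS4.star hD3 hconj hd hx pc px hxd
    obtain ⟨s3, c3⟩ := ThreeTrS4.star hD3 hconj hbD hx pb px hxb
    obtain ⟨s4, _⟩ := ThreeTrS4.star hD3 hconj heD hx pe px hxe
    have hze : (b * d * b⁻¹) * (b * c * b⁻¹) = (d * c) * (b * b') := by
      rw [← s1]; group
    have hzx := px.z_sq hD3 hx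
    have h5 : x * ((d * c) * (b * b')) * x⁻¹ = (d * c) * (b * b') := by
      calc x * ((d * c) * (b * b')) * x⁻¹
          = (x * (d * c) * x⁻¹) * (x * (b * b') * x⁻¹) := by group
        _ = ((d * c) * (x * x')) * ((b * b') * (x * x')) := by rw [s2, s3]
        _ = (d * c) * ((x * x') * (b * b')) * (x * x') := by group
        _ = (d * c) * ((b * b') * (x * x')) * (x * x') := by rw [c3.eq]
        _ = (d * c) * (b * b') * ((x * x') * (x * x')) := by group
        _ = (d * c) * (b * b') := by rw [hzx, mul_one]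
    rw [hze] at s4
    rw [h5] at s4
    have h6 : x * x' = 1 := by
      have := mul_left_cancel (a := (d * c) * (b * b')) (b := 1) (c := x * x')
        (by rw [mul_one]; exact s4)
      exact this.symm
    have h7 : x' = x := by
      have : x' = x⁻¹ := eq_inv_of_mul_eq_one_right h6
      rw [this, ThreeTrS4.inv_self hD3 hx]
    exact px.ne h7
  have hsurj : Function.Surjective φ := by
    rw [← MonoidHom.range_eq_top, eq_top_iff, ← hgen, Subgroup.closure_le]
    exact hsub
  exact ⟨(MulEquiv.ofBijective φ ⟨hinj, hsurj⟩).symm⟩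

end Cfsg.Agent.S5355
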