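import Mathlib
import Cfsg.Statements.S5357
import Cfsg.Agent.S0792
import Cfsg.Agent.Lib.Helper5.QF3

set_option autoImplicit false
open scoped MatrixGroups
open Cfsg

namespace Cfsg.Agent.S5357

open Cfsg.Agent.Lib.Helper2 Matrix Cfsg.Agent.S0784 Cfsg.Agent.S0792

section
variable {F : Type*} [Field F] {n : ℕ} (Q : QuadraticForm F (Fin n → F))

theorem act_inv_act (g : ↥(Cfsg.isometryGroup F ⇑Q)) (x : Fin n → F) :
    act Q g (act Q g⁻¹ x) = x := by
  rw [← act_mul, mul_inv_cancel, act_one]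

theorem eq_reflG (g : ↥(Cfsg.isometryGroup F ⇑Q)) (w : NS Q)
    (h : ∀ x, act Q g x = x + (-(Q w.1)⁻¹ * QuadraticMap.polar (⇑Q) w.1 x) • w.1) :
    g = reflG Q w := by
  apply act_ext
  intro x
  rw [h, act_reflG]

/-- conjugating a reflection -/
theorem conj_reflG (g : ↥(Cfsg.isometryGroup F ⇑Q)) (w : NS Q) (w' : NS Q)
    (hw' : w'.1 = act Q g w.1) : g * reflG Q w * g⁻¹ = reflG Q w' := by
  apply eq_reflG
  intro x
  rw [act_mul, act_mul, act_reflG, act_add, act_smul, act_inv_act, hw', Q_act]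
  have h1 : QuadraticMap.polar (⇑Q) w.1 (act Q g⁻¹ x)
      = QuadraticMap.polar (⇑Q) (act Q g w.1) x := by
    rw [← pol_act Q g w.1 (act Q g⁻¹ x), act_inv_act]
  rw [h1]

/-- scaling the centre does not change the reflection -/
theorem reflG_smul (w w' : NS Q) (a : F) (ha : a ≠ 0) (hw' : w'.1 = a • w.1) :
    reflG Q w' = reflG Q w := by
  symm
  apply eq_reflG
  intro x
  rw [act_reflG, hw', QuadraticMap.map_smul, QuadraticMap.polar_smul_left, smul_smul]
  congr 2
  have := w.2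
  simp only [smul_eq_mul]
  field_simp

theorem reflG_inv (w : NS Q) : (reflG Q w)⁻¹ = reflG Q w :=
  inv_eq_of_mul_eq_one_right (reflG_mul_self Q w)

/-- braid relation when the two images are proportional -/
theorem braid (u v w : NS Q) (hw : w.1 = act Q (reflG Q u) v.1) (a : F) (ha : a ≠ 0)
    (hw2 : act Q (reflG Q v) u.1 = a • w.1) :
    (reflG Q u * reflG Q v) ^ 3 = 1 := by
  have h1 : reflG Q u * reflG Q v * reflG Q u = reflG Q w := by
    have := conj_reflG Q (reflG Q u) v w hw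
    rw [reflG_inv] at this
    exact this
  have h2 : reflG Q v * reflG Q u * reflG Q v = reflG Q w := by
    have hne : Q (a • w.1) ≠ 0 := by
      rw [QuadraticMap.map_smul]
      exact mul_ne_zero (mul_ne_zero ha ha) w.2
    have := conj_reflG Q (reflG Q v) u ⟨a • w.1, hne⟩ hw2.symm
    rw [reflG_inv] at this
    rw [this]
    exact reflG_smul Q w ⟨a • w.1, hne⟩ a ha rfl
  calc (reflG Q u * reflG Q v) ^ 3
      = (reflG Q u * reflG Q v * reflG Q u) * (reflG Q v * reflG Q u * reflG Q v) := by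
        rw [pow_succ, pow_two]; group
    _ = 1 := by rw [h1, h2, reflG_mul_self]

theorem exists_value [Finite F] (hQ : (QuadraticMap.polarBilin Q).Nondegenerate) (hn : 2 ≤ n)
    (d : F) (hd : d ≠ 0) : ∃ x : Fin n → F, Q x = d := by
  have hnd : (QuadraticMap.polarBilin (d⁻¹ • Q)).Nondegenerate := by
    refine ⟨?_, ?_⟩
    · intro x hx
      apply hQ.1 x
      intro y
      have := hx y
      rw [QuadraticMap.polarBilin_apply_apply] at this ⊢
      have h2 : QuadraticMap.polar (⇑(d⁻¹ • Q)) x y = d⁻¹ * QuadraticMap.polar (⇑Q) x y := by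
        unfold QuadraticMap.polar
        simp only [QuadraticMap.smul_apply, smul_eq_mul]
        ring
      rw [h2] at this
      rcases mul_eq_zero.1 this with h | h
      · exact absurd h (inv_ne_zero hd)
      · exact h
    · intro y hy
      apply hQ.2 y
      intro x
      have := hy x
      rw [QuadraticMap.polarBilin_apply_apply] at this ⊢
      have h2 : QuadraticMap.polar (⇑(d⁻¹ • Q)) x y = d⁻¹ * QuadraticMap.polar (⇑Q) x y := by
        unfold QuadraticMap.polar
        simp only [QuadraticMap.smul_apply, smul_eq_mul]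
        ring
      rw [h2] at this
      rcases mul_eq_zero.1 this with h | h
      · exact absurd h (inv_ne_zero hd)
      · exact h
  have hfr : 2 ≤ Module.finrank F (Fin n → F) := by
    rw [Module.finrank_fin_fun]
    exact hn
  obtain ⟨x, hx⟩ := Cfsg.Agent.Lib.Helper5.exists_value_one hnd hfr
  refine ⟨x, ?_⟩
  rw [QuadraticMap.smul_apply, smul_eq_mul] at hx
  field_simp at hx
  exact hx

theorem exists_perp_value [Finite F] (h2 : (2 : F) ≠ 0)
    (hQ : (QuadraticMap.polarBilin Q).Nondegenerate) (hn : 4 ≤ n)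
    (u v : Fin n → F) (hu : Q u ≠ 0) (hv : Q v ≠ 0) (huv : QuadraticMap.polar (⇑Q) u v = 0)
    (d : F) (hd : d ≠ 0) :
    ∃ z : Fin n → F, QuadraticMap.polar (⇑Q) u z = 0 ∧ QuadraticMap.polar (⇑Q) v z = 0 ∧
      Q z = d := by
  classical
  have hvu : QuadraticMap.polar (⇑Q) v u = 0 := by rw [QuadraticMap.polar_comm]; exact huv
  have huu := pol_self_ne Q h2 u hu
  have hvv := pol_self_ne Q h2 v hv
  set L : (Fin n → F) →ₗ[F] F × F :=
    (QuadraticMap.polarBilin Q u).prod (QuadraticMap.polarBilin Q v) with hL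
  have hmem : ∀ x, x ∈ LinearMap.ker L ↔
      QuadraticMap.polar (⇑Q) u x = 0 ∧ QuadraticMap.polar (⇑Q) v x = 0 := by
    intro x
    rw [LinearMap.mem_ker, hL, LinearMap.prod_apply]
    show (QuadraticMap.polar (⇑Q) u x, QuadraticMap.polar (⇑Q) v x) = 0 ↔ _
    exact Prod.mk_eq_zero
  set W := LinearMap.ker L with hW
  -- projection to W
  have hproj : ∀ y : Fin n → F,
      y - (QuadraticMap.polar (⇑Q) u y * (QuadraticMap.polar (⇑Q) u u)⁻¹) • u
        - (QuadraticMap.polar (⇑Q) v y * (QuadraticMap.polar (⇑Q) v v)⁻¹) • v ∈ W := by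
    intro y
    rw [hmem]
    constructor
    · rw [QuadraticMap.polar_sub_right, QuadraticMap.polar_sub_right,
        QuadraticMap.polar_smul_right, QuadraticMap.polar_smul_right, huv, smul_zero, sub_zero,
        smul_eq_mul, mul_assoc, inv_mul_cancel₀ huu, mul_one, sub_self]
    · rw [QuadraticMap.polar_sub_right, QuadraticMap.polar_sub_right,
        QuadraticMap.polar_smul_right, QuadraticMap.polar_smul_right, hvu, smul_zero, sub_zero,
        smul_eq_mul, mul_assoc, inv_mul_cancel₀ hvv, mul_one, sub_self]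
  set Q' : QuadraticForm F W := d⁻¹ • Q.comp W.subtype with hQ'
  have hpol : ∀ x y : W, QuadraticMap.polar (⇑Q') x y
      = d⁻¹ * QuadraticMap.polar (⇑Q) x.1 y.1 := by
    intro x y
    unfold QuadraticMap.polar
    simp only [hQ', QuadraticMap.smul_apply, QuadraticMap.comp_apply, Submodule.subtype_apply,
      smul_eq_mul, Submodule.coe_add]
    ring
  have hsep : ∀ x : W, (∀ y : W, QuadraticMap.polar (⇑Q) x.1 y.1 = 0) → x = 0 := by
    intro x hx
    apply Subtype.ext
    apply hQ.1 x.1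
    intro y
    rw [QuadraticMap.polarBilin_apply_apply]
    have h1 := hx ⟨_, hproj y⟩
    have hxu : QuadraticMap.polar (⇑Q) x.1 u = 0 := by
      rw [QuadraticMap.polar_comm]; exact ((hmem x.1).1 x.2).1
    have hxv : QuadraticMap.polar (⇑Q) x.1 v = 0 := by
      rw [QuadraticMap.polar_comm]; exact ((hmem x.1).1 x.2).2
    rw [QuadraticMap.polar_sub_right, QuadraticMap.polar_sub_right,
      QuadraticMap.polar_smul_right, QuadraticMap.polar_smul_right, hxu, hxv, smul_zero,
      smul_zero, sub_zero, sub_zero] at h1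
    exact h1
  have hnd : (QuadraticMap.polarBilin Q').Nondegenerate := by
    refine ⟨?_, ?_⟩
    · intro x hx
      apply hsep x
      intro y
      have := hx y
      rw [QuadraticMap.polarBilin_apply_apply, hpol] at this
      rcases mul_eq_zero.1 this with h | h
      · exact absurd h (inv_ne_zero hd)
      · exact h
    · intro y hy
      apply hsep y
      intro x
      have := hy x
      rw [QuadraticMap.polarBilin_apply_apply, hpol] at this
      rcases mul_eq_zero.1 this with h | h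
      · exact absurd h (inv_ne_zero hd)
      · rw [QuadraticMap.polar_comm]; exact h
  have hfr : 2 ≤ Module.finrank F W := by
    have h1 : Module.finrank F (LinearMap.range L) + Module.finrank F W
        = Module.finrank F (Fin n → F) := LinearMap.finrank_range_add_finrank_ker L
    rw [Module.finrank_fin_fun] at h1
    have h3 : Module.finrank F (LinearMap.range L) ≤ 2 := by
      have := Submodule.finrank_le (LinearMap.range L)
      rw [Module.finrank_prod, Module.finrank_self] at this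
      exact this
    omega
  obtain ⟨x, hx⟩ := Cfsg.Agent.Lib.Helper5.exists_value_one hnd hfr
  refine ⟨x.1, ((hmem x.1).1 x.2).1, ((hmem x.1).1 x.2).2, ?_⟩
  rw [hQ', QuadraticMap.smul_apply, QuadraticMap.comp_apply, Submodule.subtype_apply,
    smul_eq_mul] at hx
  field_simp at hx
  exact hx

end

section Z3
variable {n : ℕ} (Q : QuadraticForm (ZMod 3) (Fin n → ZMod 3)) (c : ZMod 3)

theorem tri : ∀ a c : ZMod 3, c ≠ 0 → a = 0 ∨ a = c ∨ a = -c := by decide

theorem dbl : ∀ c : ZMod 3, c + c = -c := by decide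

theorem two_ne : (2 : ZMod 3) ≠ 0 := by decide

theorem memD (w : NS Q) (hw : Q w.1 = c) : reflG Q w ∈ Cfsg.reflectionsOfNorm (⇑Q) c :=
  ⟨w.1, hw, rfl⟩

theorem conj_pos (hc : c ≠ 0) (u v : NS Q) (hu : Q u.1 = c) (hv : Q v.1 = c)
    (huv : QuadraticMap.polar (⇑Q) u.1 v.1 = c) :
    ∃ g ∈ Cfsg.reflectionSubgroup (⇑Q) c, g * reflG Q u * g⁻¹ = reflG Q v := by
  have hvu : QuadraticMap.polar (⇑Q) v.1 u.1 = c := by rw [QuadraticMap.polar_comm]; exact huv
  have hQw : Q (v.1 + (-1 : ZMod 3) • u.1) = c := by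
    rw [quad_add_smul, hu, hv, hvu]
    ring
  set w : NS Q := ⟨v.1 + (-1 : ZMod 3) • u.1, by rw [hQw]; exact hc⟩ with hw
  refine ⟨reflG Q w, Subgroup.subset_closure (memD Q c w hQw), ?_⟩
  apply conj_reflG
  rw [act_reflG]
  have h1 : QuadraticMap.polar (⇑Q) w.1 u.1 = -c := by
    show QuadraticMap.polar (⇑Q) (v.1 + (-1 : ZMod 3) • u.1) u.1 = -c
    rw [QuadraticMap.polar_add_left, QuadraticMap.polar_smul_left, QuadraticMap.polar_self, hvu,
      hu, two_smul, smul_eq_mul]
    ring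
  show v.1 = u.1 + (-(Q (v.1 + (-1 : ZMod 3) • u.1))⁻¹ * QuadraticMap.polar (⇑Q) w.1 u.1) •
    (v.1 + (-1 : ZMod 3) • u.1)
  rw [h1, hQw, neg_mul_neg, inv_mul_cancel₀ hc]
  module

theorem conj_neg (hc : c ≠ 0) (u v : NS Q) (hu : Q u.1 = c) (hv : Q v.1 = c)
    (huv : QuadraticMap.polar (⇑Q) u.1 v.1 = -c) :
    ∃ g ∈ Cfsg.reflectionSubgroup (⇑Q) c, g * reflG Q u * g⁻¹ = reflG Q v := by
  have hvu : QuadraticMap.polar (⇑Q) v.1 u.1 = -c := by rw [QuadraticMap.polar_comm]; exact huv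
  have hQw : Q (v.1 + (1 : ZMod 3) • u.1) = c := by
    rw [quad_add_smul, hu, hv, hvu]
    ring
  set w : NS Q := ⟨v.1 + (1 : ZMod 3) • u.1, by rw [hQw]; exact hc⟩ with hw
  refine ⟨reflG Q w, Subgroup.subset_closure (memD Q c w hQw), ?_⟩
  have hnv : Q ((-1 : ZMod 3) • v.1) ≠ 0 := by
    rw [QuadraticMap.map_smul]
    exact mul_ne_zero (by decide) v.2
  have h2 : reflG Q w * reflG Q u * (reflG Q w)⁻¹ = reflG Q ⟨(-1 : ZMod 3) • v.1, hnv⟩ := by
    apply conj_reflG
    rw [act_reflG]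
    have h1 : QuadraticMap.polar (⇑Q) w.1 u.1 = c := by
      show QuadraticMap.polar (⇑Q) (v.1 + (1 : ZMod 3) • u.1) u.1 = c
      rw [QuadraticMap.polar_add_left, QuadraticMap.polar_smul_left, QuadraticMap.polar_self, hvu,
        hu, two_smul, smul_eq_mul]
      ring
    show (-1 : ZMod 3) • v.1 = u.1 + (-(Q (v.1 + (1 : ZMod 3) • u.1))⁻¹ *
      QuadraticMap.polar (⇑Q) w.1 u.1) • (v.1 + (1 : ZMod 3) • u.1)
    rw [h1, hQw, neg_mul, inv_mul_cancel₀ hc]
    module
  rw [h2]
  exact reflG_smul Q v ⟨(-1 : ZMod 3) • v.1, hnv⟩ (-1) (by decide) rfl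

theorem conj_any (hQ : (QuadraticMap.polarBilin Q).Nondegenerate) (hn : 5 ≤ n) (hc : c ≠ 0)
    (u v : NS Q) (hu : Q u.1 = c) (hv : Q v.1 = c) :
    ∃ g ∈ Cfsg.reflectionSubgroup (⇑Q) c, g * reflG Q u * g⁻¹ = reflG Q v := by
  rcases tri (QuadraticMap.polar (⇑Q) u.1 v.1) c hc with h | h | h
  · -- orthogonal case
    have hnc : -c ≠ 0 := neg_ne_zero.2 hc
    obtain ⟨z, hz1, hz2, hz3⟩ := exists_perp_value Q two_ne hQ (by omega) u.1 v.1 u.2 v.2 h
      (-c) hnc
    have hQw : Q (u.1 + v.1 + z) = c := by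
      rw [QuadraticMap.map_add (⇑Q), QuadraticMap.map_add (⇑Q), QuadraticMap.polar_add_left, hu,
        hv, hz3, h, hz1, hz2]
      ring
    set w : NS Q := ⟨u.1 + v.1 + z, by rw [hQw]; exact hc⟩ with hw
    have huw : QuadraticMap.polar (⇑Q) u.1 w.1 = -c := by
      show QuadraticMap.polar (⇑Q) u.1 (u.1 + v.1 + z) = -c
      rw [QuadraticMap.polar_add_right, QuadraticMap.polar_add_right, QuadraticMap.polar_self, hu,
        h, hz1, two_smul]
      linear_combination dbl c
    have hwv : QuadraticMap.polar (⇑Q) w.1 v.1 = -c := by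
      show QuadraticMap.polar (⇑Q) (u.1 + v.1 + z) v.1 = -c
      rw [QuadraticMap.polar_add_left, QuadraticMap.polar_add_left, QuadraticMap.polar_self, hv,
        h, QuadraticMap.polar_comm (⇑Q) z v.1, hz2, two_smul]
      linear_combination dbl c
    obtain ⟨g1, hg1, e1⟩ := conj_neg Q c hc u w hu hQw huw
    obtain ⟨g2, hg2, e2⟩ := conj_neg Q c hc w v hQw hv hwv
    refine ⟨g2 * g1, Subgroup.mul_mem _ hg2 hg1, ?_⟩
    have : g2 * g1 * reflG Q u * (g2 * g1)⁻¹ = g2 * (g1 * reflG Q u * g1⁻¹) * g2⁻¹ := by group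
    rw [this, e1, e2]
  · exact conj_pos Q c hc u v hu hv h
  · exact conj_neg Q c hc u v hu hv h

theorem three_transp (hc : c ≠ 0) (u v : NS Q) (hu : Q u.1 = c) (hv : Q v.1 = c) :
    (reflG Q u * reflG Q v) ^ 2 = 1 ∨ (reflG Q u * reflG Q v) ^ 3 = 1 := by
  have hvu : QuadraticMap.polar (⇑Q) v.1 u.1 = QuadraticMap.polar (⇑Q) u.1 v.1 :=
    QuadraticMap.polar_comm _ _ _
  rcases tri (QuadraticMap.polar (⇑Q) u.1 v.1) c hc with h | h | h
  · left
    have hcomm : reflG Q u * reflG Q v * (reflG Q u)⁻¹ = reflG Q v := by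
      apply conj_reflG
      rw [act_reflG, h, mul_zero, zero_smul, add_zero]
    rw [reflG_inv] at hcomm
    rw [pow_two]
    calc reflG Q u * reflG Q v * (reflG Q u * reflG Q v)
        = (reflG Q u * reflG Q v * reflG Q u) * reflG Q v := by group
      _ = 1 := by rw [hcomm, reflG_mul_self]
  · right
    have hQw : Q (v.1 + (-1 : ZMod 3) • u.1) = c := by
      rw [quad_add_smul, hu, hv, hvu, h]
      ring
    apply braid Q u v ⟨v.1 + (-1 : ZMod 3) • u.1, by rw [hQw]; exact hc⟩ _ (-1) (by decide)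
    · rw [act_reflG, hvu, h, hv, neg_mul, inv_mul_cancel₀ hc]
      module
    · show v.1 + (-1 : ZMod 3) • u.1 = act Q (reflG Q u) v.1
      rw [act_reflG, h, hu, neg_mul, inv_mul_cancel₀ hc]
  · right
    have hQw : Q (v.1 + (1 : ZMod 3) • u.1) = c := by
      rw [quad_add_smul, hu, hv, hvu, h]
      ring
    apply braid Q u v ⟨v.1 + (1 : ZMod 3) • u.1, by rw [hQw]; exact hc⟩ _ 1 one_ne_zero
    · rw [act_reflG, hvu, h, hv, neg_mul_neg, inv_mul_cancel₀ hc]
      module
    · show v.1 + (1 : ZMod 3) • u.1 = act Q (reflG Q u) v.1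
      rw [act_reflG, h, hu, neg_mul_neg, inv_mul_cancel₀ hc]

theorem result (n : ℕ) (hn : 5 ≤ n) (Q : QuadraticForm (ZMod 3) (Fin n → ZMod 3)) (hQ : (QuadraticMap.polarBilin Q).Nondegenerate) (c : ZMod 3) (hc : c ≠ 0) : Cfsg.IsThreeTranspositionClass {g : ↥(Cfsg.reflectionSubgroup (⇑Q) c) | (g : ↥(Cfsg.isometryGroup (ZMod 3) (⇑Q))) ∈ Cfsg.reflectionsOfNorm (⇑Q) c} := by
  classical
  -- members of D are reflections
  have hD : ∀ d : ↥(Cfsg.reflectionSubgroup (⇑Q) c),
      (d : ↥(Cfsg.isometryGroup (ZMod 3) (⇑Q))) ∈ Cfsg.reflectionsOfNorm (⇑Q) c →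
      ∃ v : NS Q, Q v.1 = c ∧ (d : ↥(Cfsg.isometryGroup (ZMod 3) (⇑Q))) = reflG Q v := by
    intro d hd
    obtain ⟨v, hv, hmat⟩ := hd
    exact ⟨⟨v, by rw [hv]; exact hc⟩, hv, Subtype.ext (Units.ext hmat)⟩
  refine ⟨⟨?_, ?_⟩, ?_, ?_⟩
  · -- order two
    intro d hd
    obtain ⟨v, hv, hdv⟩ := hD d hd
    haveI : Fact (Nat.Prime 2) := ⟨Nat.prime_two⟩
    apply orderOf_eq_prime
    · apply Subtype.ext
      rw [Subgroup.coe_pow, hdv, pow_two, reflG_mul_self]
      rfl
    · intro h1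
      have h2 : (d : ↥(Cfsg.isometryGroup (ZMod 3) (⇑Q))) = 1 := by rw [h1]; rfl
      rw [hdv] at h2
      have h3 : act Q (reflG Q v) v.1 = -v.1 := (Cfsg.Agent.S0784.result Q v.1 v.2).2.1
      rw [h2, act_one] at h3
      have hv0 : v.1 = 0 := by
        have h4 : (2 : ZMod 3) • v.1 = 0 := by
          rw [two_smul]
          nth_rewrite 1 [h3]
          exact neg_add_cancel _
        rcases smul_eq_zero.1 h4 with h | h
        · exact absurd h two_ne
        · exact h
      apply v.2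
      rw [hv0, map_zero]
  · -- 3-transposition property
    intro d hd e he
    obtain ⟨u, hu, hdu⟩ := hD d hd
    obtain ⟨v, hv, hev⟩ := hD e he
    rcases three_transp Q c hc u v hu hv with h | h
    · left
      apply Subtype.ext
      rw [Subgroup.coe_pow, Subgroup.coe_mul, hdu, hev, h]
      rfl
    · right
      apply Subtype.ext
      rw [Subgroup.coe_pow, Subgroup.coe_mul, hdu, hev, h]
      rfl
  · -- single conjugacy class
    obtain ⟨v0, hv0⟩ := exists_value Q hQ (by omega) c hc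
    set w0 : NS Q := ⟨v0, by rw [hv0]; exact hc⟩ with hw0
    set d0 : ↥(Cfsg.reflectionSubgroup (⇑Q) c) :=
      ⟨reflG Q w0, Subgroup.subset_closure (memD Q c w0 hv0)⟩ with hd0
    refine ⟨d0, memD Q c w0 hv0, ?_⟩
    ext e
    constructor
    · intro he
      obtain ⟨v, hv, hev⟩ := hD e he
      obtain ⟨g, hg, hconj⟩ := conj_any Q c hQ hn hc w0 v hv0 hv
      show IsConj d0 e
      rw [isConj_iff]
      refine ⟨⟨g, hg⟩, ?_⟩
      apply Subtype.ext
      rw [Subgroup.coe_mul, Subgroup.coe_mul, Subgroup.coe_inv, hev]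
      exact hconj
    · intro he
      have he' : IsConj d0 e := he
      rw [isConj_iff] at he'
      obtain ⟨g, hg⟩ := he'
      have hQg : Q (act Q (g : ↥(Cfsg.isometryGroup (ZMod 3) (⇑Q))) v0) = c := by
        rw [Q_act, hv0]
      have h1 := conj_reflG Q (g : ↥(Cfsg.isometryGroup (ZMod 3) (⇑Q))) w0
        ⟨act Q (g : ↥(Cfsg.isometryGroup (ZMod 3) (⇑Q))) v0, by rw [hQg]; exact hc⟩ rfl
      have h2 : (e : ↥(Cfsg.isometryGroup (ZMod 3) (⇑Q))) =
          (g : ↥(Cfsg.isometryGroup (ZMod 3) (⇑Q))) * reflG Q w0 *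
            (g : ↥(Cfsg.isometryGroup (ZMod 3) (⇑Q)))⁻¹ := by
        rw [← hg]
        rfl
      show (e : ↥(Cfsg.isometryGroup (ZMod 3) (⇑Q))) ∈ Cfsg.reflectionsOfNorm (⇑Q) c
      rw [h2, h1]
      exact memD Q c _ hQg
  · exact Subgroup.closure_closure_coe_preimage

end Z3

end Cfsg.Agent.S5357
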