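import Cfsg.Statements.S5358

set_option autoImplicit false
open scoped MatrixGroups
open Cfsg

namespace Cfsg.Agent.S5358

open Matrix

theorem polarVec_dot {n : ℕ} (Q : QuadraticForm (ZMod 3) (Fin n → ZMod 3)) (u x : Fin n → ZMod 3) :
    polarVec (⇑Q) u ⬝ᵥ x = QuadraticMap.polar (⇑Q) u x := by
  conv_rhs => rw [pi_eq_sum_univ' x]
  rw [← QuadraticMap.polarBilin_apply_apply, map_sum]
  simp only [dotProduct, polarVec, map_smul, smul_eq_mul, QuadraticMap.polarBilin_apply_apply]
  apply Finset.sum_congr rfl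
  intro i _
  ring

theorem result (n : ℕ) (Q : QuadraticForm (ZMod 3) (Fin n → ZMod 3)) (hQ : (QuadraticMap.polarBilin Q).Nondegenerate) (u v : Fin n → ZMod 3) (hu : Q u ≠ 0) (huv : Q u = Q v) (h1 : v ≠ u) (h2 : v ≠ -u) : Commute (Cfsg.reflectionMatrix (⇑Q) u) (Cfsg.reflectionMatrix (⇑Q) v) ↔ QuadraticMap.polar (⇑Q) u v = 0 := by
  obtain ⟨a, ha⟩ : ∃ a, a = (Q u)⁻¹ := ⟨_, rfl⟩
  have ha0 : a ≠ 0 := by rw [ha]; exact inv_ne_zero hu
  obtain ⟨β, hβ⟩ : ∃ β, β = QuadraticMap.polar (⇑Q) u v := ⟨_, rfl⟩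
  have hβ' : QuadraticMap.polar (⇑Q) v u = β := by rw [hβ, QuadraticMap.polar_comm]
  have hRu : reflectionMatrix (⇑Q) u = 1 - a • vecMulVec u (polarVec (⇑Q) u) := by
    rw [reflectionMatrix, ha]
  have hRv : reflectionMatrix (⇑Q) v = 1 - a • vecMulVec v (polarVec (⇑Q) v) := by
    rw [reflectionMatrix, ha, huv]
  have hMM1 : vecMulVec u (polarVec (⇑Q) u) * vecMulVec v (polarVec (⇑Q) v) =
      β • vecMulVec u (polarVec (⇑Q) v) := by
    rw [vecMulVec_mul_vecMulVec, polarVec_dot, vecMulVec_smul, hβ]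
  have hMM2 : vecMulVec v (polarVec (⇑Q) v) * vecMulVec u (polarVec (⇑Q) u) =
      β • vecMulVec v (polarVec (⇑Q) u) := by
    rw [vecMulVec_mul_vecMulVec, polarVec_dot, vecMulVec_smul, hβ']
  rw [← hβ]
  have hexp : ∀ A B : Matrix (Fin n) (Fin n) (ZMod 3),
      (1 - a • A) * (1 - a • B) = 1 - a • A - a • B + (a * a) • (A * B) := by
    intro A B
    rw [sub_mul, mul_sub, mul_sub, one_mul, mul_one, one_mul, smul_mul_smul_comm]
    abel
  constructor
  · intro hc
    by_contra hβ0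
    have hc' := hc.eq
    rw [hRu, hRv, hexp, hexp, hMM1, hMM2] at hc'
    have h3 : (a * a) • β • vecMulVec u (polarVec (⇑Q) v) = (a * a) • β • vecMulVec v (polarVec (⇑Q) u) := by
      have := hc'
      have e : ∀ X Y Z W : Matrix (Fin n) (Fin n) (ZMod 3), 1 - X - Y + Z = 1 - Y - X + W → Z = W := by
        intro X Y Z W h
        have : Z = (1 - X - Y + Z) - (1 - X - Y) := by abel
        rw [this, h]; abel
      exact e _ _ _ _ this
    have haa : a * a ≠ 0 := mul_ne_zero ha0 ha0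
    have h4 : vecMulVec u (polarVec (⇑Q) v) = vecMulVec v (polarVec (⇑Q) u) := by
      have := smul_right_injective _ haa h3
      exact smul_right_injective _ hβ0 this
    have h5 := congrArg (fun M => M *ᵥ v) h4
    simp only [vecMulVec_mulVec, polarVec_dot, MulOpposite.smul_eq_mul_unop, MulOpposite.unop_op] at h5
    rw [← hβ, QuadraticMap.polar_self] at h5
    -- h5 : u * (2 * Q v) = v * β  (pointwise)
    have h2ne : (2 : ZMod 3) ≠ 0 := by decide
    have hQv : Q v ≠ 0 := huv ▸ hu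
    have h6 : u = (β * (2 * Q v)⁻¹) • v := by
      ext i
      have := congrFun h5 i
      simp only [Pi.smul_apply, smul_eq_mul] at this ⊢
      have hne : (2 * Q v) ≠ 0 := mul_ne_zero h2ne hQv
      have this' : u i * (2 * Q v) = v i * β := by
        have h := this
        simp only [MulOpposite.smul_eq_mul_unop, MulOpposite.unop_op, nsmul_eq_mul, Nat.cast_ofNat] at h
        exact h
      calc u i = u i * (2 * Q v) * (2 * Q v)⁻¹ := by rw [mul_assoc, mul_inv_cancel₀ hne, mul_one]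
        _ = v i * β * (2 * Q v)⁻¹ := by rw [this']
        _ = β * (2 * Q v)⁻¹ * v i := by ring
    obtain ⟨c, hc0⟩ : ∃ c, c = β * (2 * Q v)⁻¹ := ⟨_, rfl⟩
    rw [← hc0] at h6
    have h7 : Q u = (c * c) * Q v := by
      rw [h6, QuadraticMap.map_smul, smul_eq_mul]
    rw [huv] at h7
    have h8 : c * c = 1 := by
      have : (c * c) * Q v = 1 * Q v := by rw [← h7, one_mul]
      exact mul_right_cancel₀ hQv this
    rcases mul_self_eq_one_iff.mp h8 with hc1 | hc1
    · rw [hc1, one_smul] at h6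
      exact h1 h6.symm
    · rw [hc1, neg_smul, one_smul] at h6
      apply h2
      rw [h6, neg_neg]
  · intro hβ0
    show _ * _ = _ * _
    rw [hRu, hRv, hexp, hexp, hMM1, hMM2, hβ0, zero_smul, zero_smul]
    abel

end Cfsg.Agent.S5358
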