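import Cfsg.Statements.S5363

set_option autoImplicit false
open Cfsg

namespace Cfsg.Agent.S5363

theorem sq_of_order_two {G : Type*} [Group G] {x : G} (h : orderOf x = 2) : x * x = 1 := by
  have := pow_orderOf_eq_one x
  rw [h, pow_two] at this
  exact this

theorem commute_of_sq {G : Type*} [Group G] {a y : G} (ha : a * a = 1) (hy : y * y = 1)
    (h : (a * y) ^ 2 = 1) : Commute a y := by
  have h1 : a * y * (a * y) = 1 := by rw [← pow_two]; exact h
  have hai : a⁻¹ = a := inv_eq_of_mul_eq_one_left ha
  have hyi : y⁻¹ = y := inv_eq_of_mul_eq_one_left hy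
  have : a * y = (a * y)⁻¹ := eq_inv_of_mul_eq_one_left h1
  rw [mul_inv_rev, hai, hyi] at this
  exact this

/-- Let D be a conjugation-invariant set of involutions of a finite group G. Then every product of two members of D has odd order or order 2 if and only if, for every a in D and every b in D different from a and commuting with a, the members of D commuting with a b are exactly those commuting with both a and b. -/
theorem result {G : Type*} [Group G] [Finite G] {D : Set G} (hinv : ∀ d ∈ D, orderOf d = 2) (hconj : ∀ g : G, ∀ d ∈ D, g * d * g⁻¹ ∈ D) : (∀ a ∈ D, ∀ b ∈ D, Odd (orderOf (a * b)) ∨ orderOf (a * b) = 2) ↔ ∀ a ∈ D, ∀ b ∈ D, b ≠ a → Commute a b → {y : G | y ∈ D ∧ Commute (a * b) y} = {y : G | y ∈ D ∧ Commute a y} ∩ {y : G | y ∈ D ∧ Commute b y} := by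
  have hsq : ∀ x ∈ D, x * x = 1 := fun x hx => sq_of_order_two (hinv x hx)
  have hinv' : ∀ x ∈ D, x⁻¹ = x := fun x hx => inv_eq_of_mul_eq_one_left (hsq x hx)
  constructor
  · intro H a ha b hb hba hab
    ext y
    simp only [Set.mem_ofPred_eq, Set.mem_inter_iff]
    constructor
    · rintro ⟨hy, hc⟩
      have hay : Commute a y := by
        rcases H a ha y hy with hodd | h2
        · -- show y = a
          have hzz : (a * b) * (a * b) = 1 := by
            rw [hab.symm.mul_mul_mul_comm a b, hsq a ha, hsq b hb, one_mul]
          have hza : Commute (a * b) a := (Commute.refl a).mul_left hab.symm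
          have hzay : Commute (a * b) (a * y) := hza.mul_right hc
          have hby : b * y = (a * b) * (a * y) := by
            rw [hab.symm.mul_mul_mul_comm a y, hsq a ha, one_mul]
          set m := orderOf (a * y) with hm
          have hpow : (b * y) ^ m = a * b := by
            rw [hby, hzay.mul_pow, pow_orderOf_eq_one, mul_one]
            obtain ⟨j, hj⟩ := hodd
            rw [hj, pow_succ, pow_mul, pow_two, hzz, one_pow, one_mul]
          rcases H b hb y hy with hodd' | h2'
          · exfalso
            have h2m : (b * y) ^ (2 * m) = 1 := by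
              rw [mul_comm, pow_mul, hpow, pow_two, hzz]
            have hdvd : orderOf (b * y) ∣ 2 * m := orderOf_dvd_of_pow_eq_one h2m
            have hcop : Nat.Coprime (orderOf (b * y)) 2 := Nat.Coprime.symm (Nat.coprime_two_left.mpr hodd')
            have hdvd' : orderOf (b * y) ∣ m := hcop.dvd_of_dvd_mul_left hdvd
            have : (b * y) ^ m = 1 := orderOf_dvd_iff_pow_eq_one.mp hdvd'
            rw [hpow] at this
            have : b = a⁻¹ := eq_inv_of_mul_eq_one_right this
            rw [hinv' a ha] at this
            exact hba this
          · have : (b * y) ^ m = b * y := by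
              obtain ⟨j, hj⟩ := hodd
              rw [hj, pow_succ, pow_mul]
              have : (b * y) ^ 2 = 1 := by rw [← h2']; exact pow_orderOf_eq_one _
              rw [this, one_pow, one_mul]
            rw [this, hab.eq] at hpow
            have : y = a := mul_left_cancel hpow
            rw [this]
        · exact commute_of_sq (hsq a ha) (hsq y hy) (by rw [← h2]; exact pow_orderOf_eq_one _)
      refine ⟨⟨hy, hay⟩, hy, ?_⟩
      have : b = a⁻¹ * (a * b) := by group
      rw [this]
      exact (hay.inv_left).mul_left hc
    · rintro ⟨⟨hy, h1⟩, -, h2⟩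
      exact ⟨hy, h1.mul_left h2⟩
  · intro C a ha b hb
    obtain ⟨r, hr⟩ : ∃ r, r = a * b := ⟨_, rfl⟩
    rw [← hr]
    have hai := hinv' a ha
    have hbi := hinv' b hb
    have har : a * r * a⁻¹ = r⁻¹ := by
      rw [hr, mul_inv_rev, hai, hbi]
      calc a * (a * b) * a = (a * a) * (b * a) := by group
        _ = b * a := by rw [hsq a ha, one_mul]
    have hbr : b * r * b⁻¹ = r⁻¹ := by
      rw [hr, mul_inv_rev, hai, hbi]
      calc b * (a * b) * b = (b * a) * (b * b) := by group
        _ = b * a := by rw [hsq b hb, mul_one]
    have harD : ∀ k : ℕ, a * r ^ k ∈ D := by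
      intro k
      induction k using Nat.twoStepInduction with
      | zero => simpa using ha
      | one =>
        have : a * r ^ 1 = b := by
          rw [pow_one, hr, ← mul_assoc, hsq a ha, one_mul]
        rw [this]; exact hb
      | more k ih _ =>
        have h1 : r⁻¹ * (a * r ^ k) * (r⁻¹)⁻¹ ∈ D := hconj _ _ ih
        have h2 : r⁻¹ * a = a * r := by
          have : a * r = r⁻¹ * a := by
            have := congrArg (· * a) har
            simpa [mul_assoc] using this
          exact this.symm
        have : r⁻¹ * (a * r ^ k) * (r⁻¹)⁻¹ = a * r ^ (k + 2) := by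
          rw [inv_inv, ← mul_assoc, h2, pow_succ, pow_succ]
          simp only [mul_assoc]
          congr 1
          rw [← mul_assoc, ← pow_succ', pow_succ, mul_assoc]
        rw [← this]; exact h1
    obtain ⟨n, hn⟩ : ∃ n, n = orderOf r := ⟨_, rfl⟩
    rw [← hn]
    have hnpos : 0 < n := hn ▸ orderOf_pos r
    rcases Nat.even_or_odd n with heven | hodd
    · right
      obtain ⟨k, hk⟩ := heven
      have hkpos : 0 < k := by omega
      obtain ⟨w, hw⟩ : ∃ w, w = r ^ k := ⟨_, rfl⟩
      have hw1 : w ≠ 1 := by
        intro h
        rw [hw] at h
        have := orderOf_dvd_of_pow_eq_one h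
        have := Nat.le_of_dvd hkpos this
        omega
      have hww : w * w = 1 := by
        rw [hw, ← pow_add, ← hk, hn]; exact pow_orderOf_eq_one r
      have hwi : w⁻¹ = w := inv_eq_of_mul_eq_one_left hww
      have haw : a * w * a⁻¹ = w := by
        have : a * w * a⁻¹ = (a * r * a⁻¹) ^ k := by
          rw [hw]; exact (conj_pow (a := a) (b := r) (i := k)).symm
        rw [this, har, inv_pow, ← hw, hwi]
      have hbw : b * w * b⁻¹ = w := by
        have : b * w * b⁻¹ = (b * r * b⁻¹) ^ k := by
          rw [hw]; exact (conj_pow (a := b) (b := r) (i := k)).symm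
        rw [this, hbr, inv_pow, ← hw, hwi]
      have hcaw : Commute a w := by
        show a * w = w * a
        have := congrArg (· * a) haw
        simpa [mul_assoc] using this
      have hcbw : Commute b w := by
        show b * w = w * b
        have := congrArg (· * b) hbw
        simpa [mul_assoc] using this
      have ha'D : a * w ∈ D := hw ▸ harD k
      have hne : a * w ≠ a := by
        intro h
        apply hw1
        have : a * w = a * 1 := by rw [mul_one]; exact h
        exact mul_left_cancel this
      have hcomm : Commute a (a * w) := (Commute.refl a).mul_right hcaw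
      have hset := C a ha (a * w) ha'D hne hcomm
      have haaw : a * (a * w) = w := by rw [← mul_assoc, hsq a ha, one_mul]
      have hbmem : b ∈ {y : G | y ∈ D ∧ Commute (a * (a * w)) y} := by
        refine ⟨hb, ?_⟩
        rw [haaw]; exact hcbw.symm
      rw [hset] at hbmem
      have hab : Commute a b := hbmem.1.2
      have hr2 : r ^ 2 = 1 := by
        rw [pow_two, hr]
        calc a * b * (a * b) = a * (b * a) * b := by group
          _ = a * (a * b) * b := by rw [hab.eq]
          _ = (a * a) * (b * b) := by group
          _ = 1 := by rw [hsq a ha, hsq b hb, one_mul]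
      have hdvd : n ∣ 2 := hn ▸ orderOf_dvd_of_pow_eq_one hr2
      have hle := Nat.le_of_dvd (by norm_num) hdvd
      omega
    · left; exact hodd

end Cfsg.Agent.S5363
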