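import Cfsg.Statements.S5364

set_option autoImplicit false
open Cfsg

namespace Cfsg.Agent.S5364

theorem mem_zpowers_of_order_two {G : Type*} [Group G] (t : G) (ht : orderOf t = 2) (x : G)
    (hx : x ∈ Subgroup.zpowers t) : x = 1 ∨ x = t := by
  obtain ⟨k, rfl⟩ := Subgroup.mem_zpowers_iff.mp hx
  have h := zpow_mod_orderOf t k
  rw [ht] at h
  rcases Int.emod_two_eq_zero_or_one k with h0 | h1
  · left
    rw [← h]
    simp [h0]
  · right
    rw [← h]
    simp [h1]

/-- Let D be a conjugation-invariant set of involutions of a finite group G and t an involution in the centre of G such that d t does not lie in D for any d in D. If the images of the members of D in G modulo the subgroup generated by t satisfy the 3-transposition order conditions (each has order 2 and any two have product of order at most 3), then so do the members of D. -/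
theorem result {G : Type*} [Group G] [Finite G] {D : Set G} (hinv : ∀ d ∈ D, orderOf d = 2) (hconj : ∀ g : G, ∀ d ∈ D, g * d * g⁻¹ ∈ D) (t : G) (ht : orderOf t = 2) (htZ : t ∈ Subgroup.center G) (hDt : ∀ d ∈ D, d * t ∉ D) [(Subgroup.zpowers t).Normal] (himg : Cfsg.IsThreeTranspositionSet ((QuotientGroup.mk : G → G ⧸ Subgroup.zpowers t) '' D)) : Cfsg.IsThreeTranspositionSet D := by
  refine ⟨hinv, ?_⟩
  intro d hd e he
  have hsq : ∀ x ∈ D, x * x = 1 := by
    intro x hx
    have := pow_orderOf_eq_one x
    rw [hinv x hx, pow_two] at this
    exact this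
  have hinv' : ∀ x ∈ D, x⁻¹ = x := fun x hx => inv_eq_of_mul_eq_one_left (hsq x hx)
  have hdd := hsq d hd
  have hee := hsq e he
  have hdi := hinv' d hd
  have hei := hinv' e he
  have h1 := himg.2 (QuotientGroup.mk d) ⟨d, hd, rfl⟩ (QuotientGroup.mk e) ⟨e, he, rfl⟩
  have key : ∀ n : ℕ, ((QuotientGroup.mk d : G ⧸ Subgroup.zpowers t) * QuotientGroup.mk e) ^ n = 1 →
      (d * e) ^ n = 1 ∨ (d * e) ^ n = t := by
    intro n hn
    have : ((QuotientGroup.mk ((d * e) ^ n) : G ⧸ Subgroup.zpowers t)) = 1 := by
      rw [QuotientGroup.mk_pow, QuotientGroup.mk_mul]; exact hn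
    rw [QuotientGroup.eq_one_iff] at this
    exact mem_zpowers_of_order_two t ht _ this
  rcases h1 with h2 | h3
  · rcases key 2 h2 with h | h
    · left; exact h
    · exfalso
      -- d e d e = t, so e d e = d t
      have hede : e * d * e⁻¹ = d * t := by
        have h' : d * e * (d * e) = t := by rw [← pow_two]; exact h
        have : d * (d * e * (d * e)) = d * t := by rw [h']
        rw [hei]
        calc e * d * e = (d * d) * (e * d * e) := by rw [hdd, one_mul]
          _ = d * (d * e * (d * e)) := by group
          _ = d * t := this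
      exact hDt d hd (hede ▸ hconj e d hd)
  · rcases key 3 h3 with h | h
    · right; exact h
    · exfalso
      -- c = d e d, f = e d e; c f = t
      have hc : d * e * d⁻¹ ∈ D := hconj d e he
      have hf : e * d * e⁻¹ ∈ D := hconj e d hd
      rw [hdi] at hc
      rw [hei] at hf
      have hcf : (d * e * d) * (e * d * e) = t := by
        rw [← h]; simp only [pow_succ, pow_zero, one_mul, mul_assoc]
      have hcc := hsq _ hc
      have : e * d * e = (d * e * d) * t := by
        calc e * d * e = ((d * e * d) * (d * e * d)) * (e * d * e) := by rw [hcc, one_mul]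
          _ = (d * e * d) * ((d * e * d) * (e * d * e)) := by group
          _ = (d * e * d) * t := by rw [hcf]
      exact hDt _ hc (this ▸ hf)

end Cfsg.Agent.S5364
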