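import Mathlib
import Cfsg.Statements.S5395

set_option autoImplicit false
open Cfsg

namespace Cfsg.Agent.S5395

theorem exists_inj_hom (Z : Type*) [CommGroup Z] [Finite Z] (h : Nat.card Z = 2) :
    ∃ ι : Z →* ℂˣ, Function.Injective ι := by
  obtain ⟨z, hz1, huniq⟩ := (Nat.card_eq_two_iff' (1 : Z)).mp h
  have : NeZero (Monoid.exponent Z) := ⟨Monoid.exponent_ne_zero_of_finite⟩
  obtain ⟨φ, hφ⟩ := CommGroup.exists_apply_ne_one_of_hasEnoughRootsOfUnity Z ℂ hz1
  refine ⟨φ, (injective_iff_map_eq_one φ).mpr ?_⟩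
  intro a ha
  by_contra hne
  have := huniq a hne
  subst this
  exact hφ ha

theorem card_hom (E : Type*) [Group E] [Finite E] :
    Nat.card (E →* ℂˣ) = Nat.card (Abelianization E) := by
  have : NeZero (Monoid.exponent (Abelianization E)) := ⟨Monoid.exponent_ne_zero_of_finite⟩
  rw [← CommGroup.card_monoidHom_of_hasEnoughRootsOfUnity (Abelianization E) ℂ]
  exact Nat.card_congr Abelianization.lift

open scoped IsMulCommutative commutatorElement in
/-- For a finite extraspecial 2-group E, an automorphism of E that induces the identity on E modulo its centre is inner. -/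
theorem result {E : Type*} [Group E] [Finite E] (hE : Cfsg.IsExtraspecial 2 E) (φ : E ≃* E) (hφ : ∀ x : E, φ x * x⁻¹ ∈ Subgroup.center E) : ∃ g : E, ∀ x : E, φ x = g * x * g⁻¹ := by
  obtain ⟨⟨-, -, hcomm⟩, hcard⟩ := hE
  obtain ⟨ι, hι⟩ := exists_inj_hom (Subgroup.center E) hcard
  -- commutators are central
  have hcomC : ∀ g x : E, g * x * g⁻¹ * x⁻¹ ∈ Subgroup.center E := by
    intro g x
    rw [← hcomm]
    have : g * x * g⁻¹ * x⁻¹ = ⁅g, x⁆ := rfl
    rw [this]
    show ⁅g, x⁆ ∈ ⁅(⊤ : Subgroup E), (⊤ : Subgroup E)⁆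
    exact Subgroup.commutator_mem_commutator (Subgroup.mem_top g) (Subgroup.mem_top x)
  have hcentral : ∀ c ∈ Subgroup.center E, ∀ y : E, c * y = y * c := by
    intro c hc y
    exact (Subgroup.mem_center_iff.mp hc y).symm
  -- Θ g : E →* ℂˣ
  let Θg : E → (E →* ℂˣ) := fun g =>
    { toFun := fun x => ι ⟨g * x * g⁻¹ * x⁻¹, hcomC g x⟩
      map_one' := by
        have : (⟨g * 1 * g⁻¹ * 1⁻¹, hcomC g 1⟩ : Subgroup.center E) = 1 := by
          apply Subtype.ext; simp
        rw [this, map_one]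
      map_mul' := by
        intro x y
        rw [← map_mul]
        congr 1
        apply Subtype.ext
        show g * (x * y) * g⁻¹ * (x * y)⁻¹ = (g * x * g⁻¹ * x⁻¹) * (g * y * g⁻¹ * y⁻¹)
        have h1 := hcentral _ (hcomC g y) x⁻¹
        calc g * (x * y) * g⁻¹ * (x * y)⁻¹ = g * x * g⁻¹ * ((g * y * g⁻¹ * y⁻¹) * x⁻¹) := by group
          _ = g * x * g⁻¹ * (x⁻¹ * (g * y * g⁻¹ * y⁻¹)) := by rw [h1]
          _ = (g * x * g⁻¹ * x⁻¹) * (g * y * g⁻¹ * y⁻¹) := by group }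
  let Θ : E →* (E →* ℂˣ) :=
    { toFun := Θg
      map_one' := by
        ext x
        show ((ι ⟨1 * x * 1⁻¹ * x⁻¹, hcomC 1 x⟩ : ℂˣ) : ℂ) = ((1 : ℂˣ) : ℂ)
        have : (⟨1 * x * 1⁻¹ * x⁻¹, hcomC 1 x⟩ : Subgroup.center E) = 1 := by
          apply Subtype.ext; simp
        rw [this, map_one]
      map_mul' := by
        intro g h
        ext x
        show ((ι ⟨(g * h) * x * (g * h)⁻¹ * x⁻¹, hcomC (g * h) x⟩ : ℂˣ) : ℂ) =
          ((ι ⟨g * x * g⁻¹ * x⁻¹, hcomC g x⟩ * ι ⟨h * x * h⁻¹ * x⁻¹, hcomC h x⟩ : ℂˣ) : ℂ)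
        rw [← map_mul]
        congr 2
        apply Subtype.ext
        show (g * h) * x * (g * h)⁻¹ * x⁻¹ = (g * x * g⁻¹ * x⁻¹) * (h * x * h⁻¹ * x⁻¹)
        have h1 := hcentral _ (hcomC h x) (x * g⁻¹ * x⁻¹)
        calc (g * h) * x * (g * h)⁻¹ * x⁻¹ = g * ((h * x * h⁻¹ * x⁻¹) * (x * g⁻¹ * x⁻¹)) := by group
          _ = g * ((x * g⁻¹ * x⁻¹) * (h * x * h⁻¹ * x⁻¹)) := by rw [h1]
          _ = (g * x * g⁻¹ * x⁻¹) * (h * x * h⁻¹ * x⁻¹) := by group }
  have hΘapp : ∀ g x, Θ g x = ι ⟨g * x * g⁻¹ * x⁻¹, hcomC g x⟩ := fun g x => rfl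
  -- kernel of Θ is the centre
  have hker : Θ.ker = Subgroup.center E := by
    ext g
    rw [MonoidHom.mem_ker, Subgroup.mem_center_iff]
    constructor
    · intro hg x
      have h1 : Θ g x = 1 := by rw [hg]; rfl
      rw [hΘapp] at h1
      have h2 : (⟨g * x * g⁻¹ * x⁻¹, hcomC g x⟩ : Subgroup.center E) = 1 :=
        hι (h1.trans (map_one ι).symm)
      have h3 : g * x * g⁻¹ * x⁻¹ = 1 := congrArg Subtype.val h2
      have h4 := congrArg (· * (x * g)) h3
      simp only [one_mul] at h4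
      rw [← h4]; group
    · intro hg
      ext x
      show ((Θ g x : ℂˣ) : ℂ) = ((1 : ℂˣ) : ℂ)
      rw [hΘapp]
      have : (⟨g * x * g⁻¹ * x⁻¹, hcomC g x⟩ : Subgroup.center E) = 1 := by
        apply Subtype.ext
        show g * x * g⁻¹ * x⁻¹ = 1
        rw [← hg x]; group
      rw [this, map_one]
  -- cardinalities
  have hfin : Finite (E →* ℂˣ) := by
    apply Nat.finite_of_card_ne_zero
    rw [card_hom]
    exact Nat.card_pos.ne'
  have hrange : Θ.range = ⊤ := by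
    rw [← Subgroup.card_eq_iff_eq_top]
    have h1 : Nat.card Θ.ker * Θ.ker.index = Nat.card E := Subgroup.card_mul_index _
    rw [Subgroup.index_ker, hker, hcard] at h1
    have h2 : Nat.card (commutator E) * (commutator E).index = Nat.card E := Subgroup.card_mul_index _
    have h3 : (commutator E).index = Nat.card (Abelianization E) := rfl
    rw [h3, hcomm, hcard] at h2
    rw [card_hom]
    omega
  -- the character of φ
  let χ : E →* ℂˣ :=
    { toFun := fun x => ι ⟨φ x * x⁻¹, hφ x⟩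
      map_one' := by
        have : (⟨φ 1 * 1⁻¹, hφ 1⟩ : Subgroup.center E) = 1 := by
          apply Subtype.ext; simp
        rw [this, map_one]
      map_mul' := by
        intro x y
        rw [← map_mul]
        congr 1
        apply Subtype.ext
        show φ (x * y) * (x * y)⁻¹ = (φ x * x⁻¹) * (φ y * y⁻¹)
        have h1 := hcentral _ (hφ y) x⁻¹
        rw [map_mul]
        calc φ x * φ y * (x * y)⁻¹ = φ x * ((φ y * y⁻¹) * x⁻¹) := by group
          _ = φ x * (x⁻¹ * (φ y * y⁻¹)) := by rw [h1]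
          _ = (φ x * x⁻¹) * (φ y * y⁻¹) := by group }
  have hχ : χ ∈ Θ.range := by rw [hrange]; exact Subgroup.mem_top _
  obtain ⟨g, hg⟩ := hχ
  refine ⟨g, fun x => ?_⟩
  have h1 : Θ g x = χ x := by rw [hg]
  rw [hΘapp] at h1
  have h2 : (⟨g * x * g⁻¹ * x⁻¹, hcomC g x⟩ : Subgroup.center E) = ⟨φ x * x⁻¹, hφ x⟩ := hι h1
  have h3 : g * x * g⁻¹ * x⁻¹ = φ x * x⁻¹ := congrArg Subtype.val h2
  exact (mul_right_cancel h3).symm

end Cfsg.Agent.S5395
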