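import Cfsg.Statements.S5420
import Cfsg.Agent.Lib.Helper9.Basic

set_option autoImplicit false
open Cfsg

namespace Cfsg.Agent.S5420

open Cfsg.Agent.Lib.Helper9

/-- Let Q be an extraspecial 2-subgroup of the finite group G whose centralizer in G is its centre Z and which is normal in the centralizer of Z. If Z lies in the largest normal 2-subgroup of G, then Q is a large extraspecial 2-subgroup of G: it normalizes no non-trivial subgroup of G of odd order. -/
theorem result {G : Type*} [Group G] [Finite G] (Q : Subgroup G) (hL1 : Cfsg.IsExtraspecial 2 ↥Q) (hL2 : Subgroup.centralizer (Q : Set G) = ((Subgroup.center ↥Q).map Q.subtype)) (hL3 : Subgroup.centralizer (((Subgroup.center ↥Q).map Q.subtype) : Set G) ≤ Subgroup.normalizer (Q : Set G)) (hZ : ((Subgroup.center ↥Q).map Q.subtype) ≤ Cfsg.pCore 2 G) : Cfsg.IsLargeExtraspecial Q := by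
  refine ⟨hL1, hL2, hL3, ?_⟩
  intro K hK hQK
  have hQ2 : IsPGroup 2 Q := hL1.1.1
  have hZQ : (Subgroup.center ↥Q).map Q.subtype ≤ Q := by
    rintro _ ⟨x, -, rfl⟩
    exact x.2
  have hcore : IsPGroup 2 (pCore 2 G) := pCore_isPGroup'
  have hcoren : (pCore 2 G).Normal := pCore_normal' 2
  -- Step 1: K centralizes Z
  have h1 : K ≤ Subgroup.centralizer (((Subgroup.center ↥Q).map Q.subtype : Subgroup G) : Set G) := by
    intro k hk
    rw [Subgroup.mem_centralizer_iff]
    intro z hz
    have hzQ : z ∈ Q := hZQ hz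
    have hzN := hQK hzQ
    have hc1 : z * k * z⁻¹ * k⁻¹ ∈ K :=
      K.mul_mem ((Subgroup.mem_normalizer_iff.mp hzN k).mp hk) (K.inv_mem hk)
    have hc2 : z * k * z⁻¹ * k⁻¹ ∈ pCore 2 G := by
      have : z * k * z⁻¹ * k⁻¹ = z * (k * z⁻¹ * k⁻¹) := by group
      rw [this]
      exact (pCore 2 G).mul_mem (hZ hz) (hcoren.conj_mem _ ((pCore 2 G).inv_mem (hZ hz)) k)
    have := eq_one_of_mem_odd_of_mem_two hK hcore hc1 hc2
    have h' : z * k = k * z := by
      have := congrArg (· * (k * z)) this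
      simpa [mul_assoc] using this
    exact h'
  -- Step 2: K normalizes Q, hence centralizes Q
  have h2 : K ≤ Subgroup.normalizer (Q : Set G) := h1.trans hL3
  have h3 : K ≤ Subgroup.centralizer (Q : Set G) := by
    intro k hk
    rw [Subgroup.mem_centralizer_iff]
    intro q hq
    have hqN := hQK hq
    have hc1 : q * k * q⁻¹ * k⁻¹ ∈ K :=
      K.mul_mem ((Subgroup.mem_normalizer_iff.mp hqN k).mp hk) (K.inv_mem hk)
    have hc2 : q * k * q⁻¹ * k⁻¹ ∈ Q := by
      have : q * k * q⁻¹ * k⁻¹ = q * (k * q⁻¹ * k⁻¹) := by group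
      rw [this]
      exact Q.mul_mem hq ((Subgroup.mem_normalizer_iff.mp (h2 hk) q⁻¹).mp (Q.inv_mem hq))
    have := eq_one_of_mem_odd_of_mem_two hK hQ2 hc1 hc2
    have h' : q * k = k * q := by
      have := congrArg (· * (k * q)) this
      simpa [mul_assoc] using this
    exact h'
  rw [hL2] at h3
  rw [eq_bot_iff]
  intro k hk
  exact Subgroup.mem_bot.mpr (eq_one_of_mem_odd_of_mem_two hK hQ2 hk (hZQ (h3 hk)))

end Cfsg.Agent.S5420
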