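import Mathlib
import Cfsg.Statements.S5427
import Cfsg.Agent.S5595
import Cfsg.Agent.S5422
import Cfsg.Agent.S5431
import Cfsg.Agent.S1265
import Cfsg.Agent.Lib.Helper3.Transport
import Cfsg.Agent.Lib.Helper9.LargeExtra

set_option autoImplicit false
set_option maxHeartbeats 800000

open Cfsg
open Cfsg.Agent.S5595

namespace Cfsg.Agent.S5427

variable {G : Type*} [Group G]

theorem frattini_step [Finite G] {Qg : Subgroup G} {z : G} (hES : ES Qg z) (hz1 : z ≠ 1)
    (hQp : IsPGroup 2 ↥Qg) (N : Subgroup G) (hN : N.Normal) (hQgN : Qg ≤ N)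
    (hHN : Subgroup.centralizer ({z} : Set G) ≤ N) : N = ⊤ := by
  classical
  have hmemH : ∀ a : G, a ∈ Subgroup.centralizer ({z} : Set G) ↔ a * z = z * a :=
    fun a => Subgroup.mem_centralizer_singleton_iff
  haveI : Fact (Nat.Prime 2) := ⟨Nat.prime_two⟩
  haveI := hN
  obtain ⟨P, hP⟩ := (hQp.comap_subtype (K := N)).exists_le_sylow
  obtain ⟨T, hT⟩ : ∃ T : Subgroup G, T = (P : Subgroup ↥N).map N.subtype := ⟨_, rfl⟩
  have hQgT : Qg ≤ T := by
    intro q hq
    rw [hT]
    exact ⟨⟨q, hQgN hq⟩, hP (Subgroup.mem_subgroupOf.mpr hq), rfl⟩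
  have hTp : IsPGroup 2 ↥T := by rw [hT]; exact IsPGroup.map P.isPGroup' _
  have hzT : z ∈ T := hQgT hES.zQ
  have hZT : ∀ c ∈ T, (∀ t ∈ T, c * t = t * c) → c = 1 ∨ c = z := by
    intro c hc hcomm
    have h1 : ∀ q ∈ Qg, c * q = q * c := fun q hq => hcomm q (hQgT hq)
    have hcQ := hES.self c h1
    exact hES.ctr c hcQ h1
  have hzZT : ∀ t ∈ T, z * t = t * z := by
    haveI : Nontrivial ↥T := ⟨⟨⟨z, hzT⟩, 1, fun h => hz1 (congrArg Subtype.val h)⟩⟩
    haveI := hTp.center_nontrivial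
    obtain ⟨c, hc1⟩ := exists_ne (1 : ↥(Subgroup.center ↥T))
    have hcG : ∀ t ∈ T, ((c : ↥T) : G) * t = t * ((c : ↥T) : G) := fun t ht =>
      (congrArg Subtype.val (Subgroup.mem_center_iff.mp c.2 ⟨t, ht⟩)).symm
    rcases hZT _ (c : ↥T).2 hcG with h | h
    · exfalso; apply hc1; apply Subtype.ext; apply Subtype.ext; exact h
    · intro t ht; rw [← h]; exact hcG t ht
  have hNT : Subgroup.normalizer (T : Set G) ≤ Subgroup.centralizer ({z} : Set G) := by
    intro n hn
    rw [hmemH]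
    have hn' := Subgroup.mem_normalizer_iff.mp hn
    have hninv := Subgroup.mem_normalizer_iff.mp (Subgroup.inv_mem _ hn)
    have h1 : n * z * n⁻¹ ∈ T := (hn' z).mp hzT
    have h2 : ∀ t ∈ T, (n * z * n⁻¹) * t = t * (n * z * n⁻¹) := by
      intro t ht
      have h3 : n⁻¹ * t * n⁻¹⁻¹ ∈ T := (hninv t).mp ht
      have h4 := hzZT _ h3
      calc (n * z * n⁻¹) * t = n * (z * (n⁻¹ * t * n⁻¹⁻¹)) * n⁻¹ := by group
        _ = n * ((n⁻¹ * t * n⁻¹⁻¹) * z) * n⁻¹ := by rw [h4]
        _ = t * (n * z * n⁻¹) := by group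
    rcases hZT _ h1 h2 with h | h
    · exfalso; apply hz1
      calc z = n⁻¹ * (n * z * n⁻¹) * n := by group
        _ = 1 := by rw [h]; group
    · calc n * z = (n * z * n⁻¹) * n := by group
        _ = z * n := by rw [h]
  have hfr := Sylow.normalizer_sup_eq_top P
  rw [← hT] at hfr
  rw [eq_top_iff, ← hfr]
  exact sup_le (hNT.trans hHN) le_rfl

theorem z_mem_normal {Qg : Subgroup G} {z : G} (hES : ES Qg z) (N : Subgroup G)
    (hN : N.Normal) (n : G) (hnN : n ∈ N) (hnQ : n ∈ Qg) (hn1 : n ≠ 1) : z ∈ N := by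
  by_cases hcen : ∀ v ∈ Qg, n * v = v * n
  · rcases hES.ctr n hnQ hcen with h | h
    · exact absurd h hn1
    · rw [← h]; exact hnN
  · push Not at hcen
    obtain ⟨v, hv, hnv⟩ := hcen
    rcases hES.comm n hnQ v hv with h | h
    · exfalso
      apply hnv
      calc n * v = (n * v * n⁻¹ * v⁻¹) * (v * n) := by group
        _ = v * n := by rw [h, one_mul]
    · rw [← h]
      have e1 : n * v * n⁻¹ * v⁻¹ = n * (v * n⁻¹ * v⁻¹) := by group
      rw [e1]
      exact N.mul_mem hnN (hN.conj_mem _ (N.inv_mem hnN) v)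

theorem main5427 [Finite G] (z : G) (hz : orderOf z = 2) (Q : Subgroup G)
    (hF : (Cfsg.generalizedFittingSubgroup ↥(Subgroup.centralizer ({z} : Set G))).map
      (Subgroup.centralizer ({z} : Set G)).subtype = Q)
    (hQ : Cfsg.IsExtraspecial 2 ↥Q) (K U : Subgroup G)
    (hU : U = Subgroup.closure {x : G | ∃ k ∈ K, x = k * z * k⁻¹})
    (hUab : IsMulCommutative ↥U)
    (hgen : Subgroup.closure {x : G | ∃ c ∈ Subgroup.centralizer ({z} : Set G), ∃ u ∈ U,
      x = c * u * c⁻¹} = Subgroup.centralizer ({z} : Set G))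
    (h3 : (∃ k ∈ K, k * z * k⁻¹ ∈ Q ∧ k * z * k⁻¹ ≠ z) ∨ ∃ u ∈ U ⊓ Q, u ∉ Subgroup.zpowers z ∧
      (∃ hz' : z ∈ Subgroup.centralizer ({u} : Set G),
        (⟨z, hz'⟩ : ↥(Subgroup.centralizer ({u} : Set G))) ∈
          Cfsg.pCore 2 ↥(Subgroup.centralizer ({u} : Set G)))) :
    IsSimpleGroup G ∧ Cfsg.IsLargeExtraspecial Q := by
  classical
  have hz2 : z * z = 1 := by
    have := pow_orderOf_eq_one z
    rwa [hz, pow_two] at this
  have hz1 : z ≠ 1 := by
    intro h; rw [h, orderOf_one] at hz; omega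
  have hzi : z⁻¹ = z := inv_eq_of_mul_eq_one_right hz2
  have hzC : z ∈ Subgroup.centralizer ({z} : Set G) :=
    Subgroup.mem_centralizer_singleton_iff.mpr rfl
  have hself := Cfsg.Agent.S1265.result (G := ↥(Subgroup.centralizer ({z} : Set G)))
  have hnormal : (Cfsg.generalizedFittingSubgroup
      ↥(Subgroup.centralizer ({z} : Set G))).Normal :=
    Subgroup.normal_of_characteristic _
  have hQC : Q ≤ Subgroup.centralizer ({z} : Set G) := by
    rw [← hF]; exact Subgroup.map_subtype_le _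
  have hmemQ : ∀ (a : G) (ha : a ∈ Subgroup.centralizer ({z} : Set G)),
      (⟨a, ha⟩ : ↥(Subgroup.centralizer ({z} : Set G))) ∈
        Cfsg.generalizedFittingSubgroup ↥(Subgroup.centralizer ({z} : Set G)) ↔ a ∈ Q := by
    intro a ha
    rw [← hF]
    constructor
    · intro h; exact ⟨⟨a, ha⟩, h, rfl⟩
    · rintro ⟨q, hq, hqa⟩
      have : q = ⟨a, ha⟩ := Subtype.ext hqa
      rw [← this]; exact hq
  have hselfQ : ∀ c ∈ Subgroup.centralizer ({z} : Set G), (∀ q ∈ Q, c * q = q * c) →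
      c ∈ Q := by
    intro c hcC hc
    apply (hmemQ c hcC).mp
    apply hself
    rw [Subgroup.mem_centralizer_iff]
    intro f hf
    apply Subtype.ext
    exact (hc f.val ((hmemQ f.val f.2).mp hf)).symm
  have hzQ : z ∈ Q := hselfQ z hzC
    (fun q hq => (Subgroup.mem_centralizer_singleton_iff.mp (hQC hq)).symm)
  have hselfQ' : ∀ c : G, (∀ q ∈ Q, c * q = q * c) → c ∈ Q := fun c hc =>
    hselfQ c (Subgroup.mem_centralizer_singleton_iff.mpr (hc z hzQ)) hc
  have hzZ : z ∈ (Subgroup.center ↥Q).map Q.subtype := by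
    refine ⟨⟨z, hzQ⟩, ?_, rfl⟩
    rw [SetLike.mem_coe, Subgroup.mem_center_iff]
    intro q
    apply Subtype.ext
    exact Subgroup.mem_centralizer_singleton_iff.mp (hQC q.2)
  have hL2 : Subgroup.centralizer (Q : Set G) = (Subgroup.center ↥Q).map Q.subtype := by
    apply le_antisymm
    · intro c hc
      rw [Subgroup.mem_centralizer_iff] at hc
      have hcQ : c ∈ Q := hselfQ' c (fun q hq => (hc q hq).symm)
      refine ⟨⟨c, hcQ⟩, ?_, rfl⟩
      rw [SetLike.mem_coe, Subgroup.mem_center_iff]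
      intro q
      apply Subtype.ext
      exact hc q.val q.2
    · rintro _ ⟨c, hc, rfl⟩
      rw [SetLike.mem_coe, Subgroup.mem_center_iff] at hc
      rw [Subgroup.mem_centralizer_iff]
      intro q hq
      exact congrArg Subtype.val (hc ⟨q, hq⟩)
  have hL3 : Subgroup.centralizer (((Subgroup.center ↥Q).map Q.subtype : Subgroup G) : Set G)
      ≤ Subgroup.normalizer (Q : Set G) := by
    apply Cfsg.Agent.S5431.le_normalizer_of_conj
    intro a ha q hq
    rw [Subgroup.mem_centralizer_iff] at ha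
    have haC : a ∈ Subgroup.centralizer ({z} : Set G) :=
      Subgroup.mem_centralizer_singleton_iff.mpr (ha z hzZ).symm
    have h1 := hnormal.conj_mem ⟨q, hQC hq⟩ ((hmemQ q (hQC hq)).mpr hq) ⟨a, haC⟩
    exact (hmemQ (a * q * a⁻¹) (Subgroup.mul_mem _ (Subgroup.mul_mem _ haC (hQC hq))
      (Subgroup.inv_mem _ haC))).mp h1
  obtain ⟨z₀, hz₀1, hZiff, hES₀⟩ := Cfsg.Agent.S5422.setup Q hQ hL2 hL3
  have hzz₀ : z₀ = z := by
    rcases (hZiff z).mp hzZ with h | h
    · exact absurd h hz1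
    · exact h.symm
  rw [hzz₀] at hZiff hES₀
  have hES : ES Q z := hES₀
  have hUinv : ∀ u ∈ U, u * u = 1 := by
    intro u hu
    rw [hU] at hu
    induction hu using Subgroup.closure_induction with
    | mem s hs =>
        obtain ⟨k, _, rfl⟩ := hs
        calc k * z * k⁻¹ * (k * z * k⁻¹) = k * (z * z) * k⁻¹ := by group
          _ = 1 := by rw [hz2]; group
    | one => simp
    | mul a b ha hb iha ihb =>
        have haU : a ∈ U := by rw [hU]; exact ha
        have hbU : b ∈ U := by rw [hU]; exact hb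
        have hab : a * b = b * a :=
          congrArg Subtype.val (hUab.is_comm.comm (⟨a, haU⟩ : ↥U) ⟨b, hbU⟩)
        calc a * b * (a * b) = a * (b * a) * b := by group
          _ = a * (a * b) * b := by rw [hab]
          _ = (a * a) * (b * b) := by group
          _ = 1 := by rw [iha, ihb, one_mul]
    | inv a ha iha =>
        calc a⁻¹ * a⁻¹ = (a * a)⁻¹ := by group
          _ = 1 := by rw [iha, inv_one]
  have hbex : ∃ b ∈ Q, b ≠ 1 ∧ b ≠ z ∧ b * b = 1 ∧ z ∈ Qf b := by
    rcases h3 with ⟨k, _, hbQ, hbz⟩ | ⟨u, hu, huz, hz', hzO⟩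
    · have hb1 : k * z * k⁻¹ ≠ 1 := by
        intro h
        apply hz1
        calc z = k⁻¹ * (k * z * k⁻¹) * k := by group
          _ = 1 := by rw [h]; group
      have hb2 : k * z * k⁻¹ * (k * z * k⁻¹) = 1 := by
        calc k * z * k⁻¹ * (k * z * k⁻¹) = k * (z * z) * k⁻¹ := by group
          _ = 1 := by rw [hz2]; group
      have hzR := Cfsg.Agent.S5422.z_mem hES hz1 k hbz hbQ
      have hR : ES (Q.map (MulAut.conj k).toMonoidHom) (k * z * k⁻¹) := by
        have := hES.map' (MulAut.conj k)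
        rwa [MulAut.conj_apply] at this
      have hRle : Q.map (MulAut.conj k).toMonoidHom ≤ Qf (k * z * k⁻¹) :=
        Cfsg.Agent.S5422.le_Qf (hQ.1.1.map _) hR.cent hR.norm
      exact ⟨_, hbQ, hb1, hbz, hb2, hRle hzR⟩
    · rw [Subgroup.mem_inf] at hu
      have hu1 : u ≠ 1 := by
        intro h; apply huz; rw [h]; exact Subgroup.one_mem _
      have huz' : u ≠ z := by
        intro h; apply huz; rw [h]; exact Subgroup.mem_zpowers z
      exact ⟨u, hu.2, hu1, huz', hUinv u hu.1, ⟨⟨z, hz'⟩, hzO, rfl⟩⟩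
  have hLE : Cfsg.IsLargeExtraspecial Q := by
    obtain ⟨b, hbQ, hb1, hbz, hb2, hzQf⟩ := hbex
    have hbZ : b ∉ (Subgroup.center ↥Q).map Q.subtype := by
      intro h
      rcases (hZiff b).mp h with h | h
      · exact hb1 h
      · exact hbz h
    have hbo : orderOf b = 2 := orderOf_eq_prime (by rw [pow_two]; exact hb2) hb1
    apply Cfsg.Agent.Lib.Helper9.largeExtraspecial_of_involution Q hQ hL2 hL3 b hbQ hbZ hbo
    intro c hc
    rcases (hZiff c).mp hc with h | h
    · rw [h]; exact Subgroup.one_mem _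
    · rw [h]; exact hzQf
  refine ⟨?_, hLE⟩
  refine { toNontrivial := ⟨⟨z, 1, hz1⟩⟩, eq_bot_or_eq_top_of_normal := ?_ }
  intro N hN
  by_cases hNbot : N = ⊥
  · exact Or.inl hNbot
  right
  have hzN : z ∈ N := by
    by_contra hzN
    have hNQ : ∀ w ∈ N ⊓ Q, w = 1 := by
      intro w hw
      by_contra hw1
      exact hzN (z_mem_normal hES N hN w (Subgroup.mem_inf.mp hw).1
        (Subgroup.mem_inf.mp hw).2 hw1)
    have hCN : ∀ n ∈ N, z * n = n * z → n = 1 := by
      intro n hn hzn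
      have hnH : n * z = z * n := hzn.symm
      have hcomm : ∀ q ∈ Q, n * q = q * n := by
        intro q hq
        have h1 : n * q * n⁻¹ * q⁻¹ ∈ N ⊓ Q := by
          rw [Subgroup.mem_inf]
          constructor
          · have e1 : n * q * n⁻¹ * q⁻¹ = n * (q * n⁻¹ * q⁻¹) := by group
            rw [e1]; exact N.mul_mem hn (hN.conj_mem _ (N.inv_mem hn) q)
          · exact Q.mul_mem (hES.norm n hnH q hq) (Q.inv_mem hq)
        have h2 := hNQ _ h1
        calc n * q = (n * q * n⁻¹ * q⁻¹) * (q * n) := by group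
          _ = q * n := by rw [h2, one_mul]
      have hnQ : n ∈ Q := hES.self n hcomm
      exact hNQ n (Subgroup.mem_inf.mpr ⟨hn, hnQ⟩)
    have hzinv : ∀ n ∈ N, z * n * z⁻¹ = n⁻¹ :=
      Cfsg.Agent.Lib.Helper9.inverts_of_fixedPointFree hz2
        (fun x hx => hN.conj_mem x hx z) hCN
    have hodd : Odd (Nat.card ↥N) := by
      by_contra hno
      rw [Nat.not_odd_iff_even] at hno
      haveI : Fact (Nat.Prime 2) := ⟨Nat.prime_two⟩
      obtain ⟨t, ht⟩ := exists_prime_orderOf_dvd_card' 2 (even_iff_two_dvd.mp hno)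
      have ht1 : (t : G) ≠ 1 := by
        intro h
        have : t = 1 := Subtype.ext h
        rw [this, orderOf_one] at ht; omega
      have ht2 : (t : G) * (t : G) = 1 := by
        have := pow_orderOf_eq_one t
        rw [ht, pow_two] at this
        exact congrArg Subtype.val this
      have h1 := hzinv t t.2
      have hti : (t : G)⁻¹ = t := inv_eq_of_mul_eq_one_right ht2
      rw [hti] at h1
      apply ht1
      apply hCN t t.2
      calc z * t = (z * t * z⁻¹) * z := by group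
        _ = t * z := by rw [h1]
    apply hNbot
    apply hLE.2.2.2 N hodd
    intro q _
    rw [Subgroup.mem_normalizer_iff]
    intro n
    constructor
    · exact fun h => hN.conj_mem n h q
    · intro h
      have := hN.conj_mem _ h q⁻¹
      have e : q⁻¹ * (q * n * q⁻¹) * q⁻¹⁻¹ = n := by group
      rwa [e] at this
  have hUN : U ≤ N := by
    rw [hU, Subgroup.closure_le]
    rintro _ ⟨k, _, rfl⟩
    exact hN.conj_mem z hzN k
  have hHN : Subgroup.centralizer ({z} : Set G) ≤ N := by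
    rw [← hgen, Subgroup.closure_le]
    rintro _ ⟨c, _, u, hu, rfl⟩
    exact hN.conj_mem u (hUN hu) c
  have hQN : Q ≤ N := hQC.trans hHN
  exact frattini_step hES hz1 hQ.1.1 N hN hQN hHN

/-- Let z be an involution of the finite group G whose centralizer C has generalized Fitting subgroup Q, an extraspecial 2-group of width at least 2 (order 2^(2w+1), w ≥ 2). Let K be a subgroup of G such that the subgroup U generated by the K-conjugates of z is abelian and C is generated by the C-conjugates of U. Suppose that either some K-conjugate of z other than z lies in Q, or some element u of U ∩ Q outside the subgroup generated by z has z in the largest normal 2-subgroup of its centralizer. Then G is simple and Q is a large extraspecial 2-subgroup of G. -/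
theorem result {G : Type*} [Group G] [Finite G] (z : G) (hz : orderOf z = 2) (Q : Subgroup G) (hQC : Q ≤ Subgroup.centralizer ({z} : Set G)) (hF : (Cfsg.generalizedFittingSubgroup ↥(Subgroup.centralizer ({z} : Set G))).map (Subgroup.centralizer ({z} : Set G)).subtype = Q) (hQ : Cfsg.IsExtraspecial 2 ↥Q) (w : ℕ) (hw : 2 ≤ w) (hcard : Nat.card ↥Q = 2 ^ (2 * w + 1)) (K U : Subgroup G) (hU : U = Subgroup.closure {x : G | ∃ k ∈ K, x = k * z * k⁻¹}) (hUab : IsMulCommutative ↥U) (hgen : Subgroup.closure {x : G | ∃ c ∈ Subgroup.centralizer ({z} : Set G), ∃ u ∈ U, x = c * u * c⁻¹} = Subgroup.centralizer ({z} : Set G)) (h3 : (∃ k ∈ K, k * z * k⁻¹ ∈ Q ∧ k * z * k⁻¹ ≠ z) ∨ ∃ u ∈ U ⊓ Q, u ∉ Subgroup.zpowers z ∧ (∃ hz' : z ∈ Subgroup.centralizer ({u} : Set G), (⟨z, hz'⟩ : ↥(Subgroup.centralizer ({u} : Set G))) ∈ Cfsg.pCore 2 ↥(Subgroup.centralizer ({u} : Set G)))) : IsSimpleGroup G ∧ Cfsg.IsLargeExtraspecial Q := by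
  exact main5427 z hz Q hF hQ K U hU hUab hgen h3

end Cfsg.Agent.S5427
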