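import Cfsg.Statements.S5433

set_option autoImplicit false
open Cfsg

namespace Cfsg.Agent.S5433

/-- Let Q be a large extraspecial 2-subgroup of the finite group G (extraspecial; centralizer equal to its centre; normal in the centralizer of its centre; normalizing no non-trivial subgroup of odd order), and L a normal subgroup of G containing Q. Then G is the product of L and the normalizer of Q. -/
theorem result {G : Type*} [Group G] [Finite G] (Q : Subgroup G) (hQ : Cfsg.IsLargeExtraspecial Q) (L : Subgroup G) [L.Normal] (hQL : Q ≤ L) : L ⊔ Subgroup.normalizer (Q : Set G) = ⊤ := by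
  obtain ⟨hL1, hL2, hL3, -⟩ := hQ
  have : Fact (Nat.Prime 2) := ⟨Nat.prime_two⟩
  have hQ2 : IsPGroup 2 Q := hL1.1.1
  have hcardZ : Nat.card (Subgroup.center ↥Q) = 2 := hL1.2
  -- a Sylow 2-subgroup of L containing Q
  have hQL2 : IsPGroup 2 (Q.subgroupOf L) := by
    apply IsPGroup.of_injective hQ2 (Q.subgroupOfEquivOfLe hQL).toMonoidHom
    exact (Q.subgroupOfEquivOfLe hQL).injective
  obtain ⟨P, hP⟩ := hQL2.exists_le_sylow
  have hQP : Q ≤ (P : Subgroup L).map L.subtype := by
    intro q hq
    refine ⟨⟨q, hQL hq⟩, hP ?_, rfl⟩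
    exact Subgroup.mem_subgroupOf.mpr hq
  have hP2 : IsPGroup 2 ((P : Subgroup L).map L.subtype) := P.2.map _
  -- unique nontrivial element of the centre of Q
  obtain ⟨z, hz1, hzuniq⟩ := (Nat.card_eq_two_iff' (1 : Subgroup.center ↥Q)).mp hcardZ
  -- nontrivial central element of P'
  have hnt : Nontrivial ((P : Subgroup L).map L.subtype) := by
    refine ⟨⟨⟨(z : Q), hQP (z : Q).2⟩, 1, ?_⟩⟩
    intro h
    apply hz1
    have h' : ((z : Q) : G) = 1 := congrArg Subtype.val h
    exact Subtype.ext (Subtype.ext h')
  have := hnt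
  have hcn := hP2.center_nontrivial
  obtain ⟨x, hx1⟩ := exists_ne (1 : Subgroup.center ((P : Subgroup L).map L.subtype))
  have hxP : ((x : (P : Subgroup L).map L.subtype) : G) ∈ (P : Subgroup L).map L.subtype := (x : (P : Subgroup L).map L.subtype).2
  have hxc : ∀ y ∈ (P : Subgroup L).map L.subtype, y * ((x : (P : Subgroup L).map L.subtype) : G)
      = ((x : (P : Subgroup L).map L.subtype) : G) * y := by
    intro y hy
    have := Subgroup.mem_center_iff.mp x.2 ⟨y, hy⟩
    exact congrArg Subtype.val this
  have hxne : ((x : (P : Subgroup L).map L.subtype) : G) ≠ 1 := by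
    intro h
    apply hx1
    exact Subtype.ext (Subtype.ext h)
  -- x lies in C_G(Q) = Z(Q), so x = z
  have hxZ : ((x : (P : Subgroup L).map L.subtype) : G) ∈ (Subgroup.center ↥Q).map Q.subtype := by
    rw [← hL2, Subgroup.mem_centralizer_iff]
    intro q hq
    exact hxc q (hQP hq)
  obtain ⟨x', hx'c, hx'⟩ := hxZ
  have hx'z : (⟨x', hx'c⟩ : Subgroup.center ↥Q) = z := by
    apply hzuniq
    intro h
    apply hxne
    rw [← hx']
    have : x' = 1 := congrArg Subtype.val h
    rw [this]; rfl
  have hxz : ((x : (P : Subgroup L).map L.subtype) : G) = ((z : Q) : G) := by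
    rw [← hx', ← hx'z]; rfl
  -- N_G(P') ≤ C_G(Z) ≤ N_G(Q)
  have hN : Subgroup.normalizer (((P : Subgroup L).map L.subtype : Subgroup G) : Set G) ≤
      Subgroup.normalizer (Q : Set G) := by
    intro g hg
    apply hL3
    rw [Subgroup.mem_centralizer_iff]
    rintro _ ⟨w, hwc, rfl⟩
    -- w is 1 or z
    by_cases hw1 : (⟨w, hwc⟩ : Subgroup.center ↥Q) = 1
    · have : w = 1 := congrArg Subtype.val hw1
      rw [this]; simp
    · have hwz : (⟨w, hwc⟩ : Subgroup.center ↥Q) = z := hzuniq _ hw1
      have hwz' : Q.subtype w = ((z : Q) : G) := by rw [← hwz]; rfl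
      rw [hwz', ← hxz]
      -- g x g⁻¹ is a nontrivial central element of P', lying in Z(Q), hence equal to z = x
      have hgx : g * ((x : (P : Subgroup L).map L.subtype) : G) * g⁻¹ ∈ (P : Subgroup L).map L.subtype :=
        (Subgroup.mem_normalizer_iff.mp hg _).mp hxP
      have hgxc : g * ((x : (P : Subgroup L).map L.subtype) : G) * g⁻¹ ∈ (Subgroup.center ↥Q).map Q.subtype := by
        rw [← hL2, Subgroup.mem_centralizer_iff]
        intro q hq
        have hq' : g⁻¹ * q * g ∈ (P : Subgroup L).map L.subtype := by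
          have := (Subgroup.mem_normalizer_iff.mp (Subgroup.inv_mem _ hg) q).mp (hQP hq)
          simpa using this
        have := hxc _ hq'
        calc q * (g * ((x : (P : Subgroup L).map L.subtype) : G) * g⁻¹)
            = g * ((g⁻¹ * q * g) * ((x : (P : Subgroup L).map L.subtype) : G)) * g⁻¹ := by group
          _ = g * (((x : (P : Subgroup L).map L.subtype) : G) * (g⁻¹ * q * g)) * g⁻¹ := by rw [this]
          _ = g * ((x : (P : Subgroup L).map L.subtype) : G) * g⁻¹ * q := by group
      obtain ⟨y', hy'c, hy'⟩ := hgxc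
      have hy'z : (⟨y', hy'c⟩ : Subgroup.center ↥Q) = z := by
        apply hzuniq
        intro h
        have h1 : y' = 1 := congrArg Subtype.val h
        rw [h1] at hy'
        have : g * ((x : (P : Subgroup L).map L.subtype) : G) * g⁻¹ = 1 := by rw [← hy']; rfl
        apply hxne
        have := congrArg (fun t => g⁻¹ * t * g) this
        simpa [mul_assoc] using this
      have hgxz : g * ((x : (P : Subgroup L).map L.subtype) : G) * g⁻¹ = ((z : Q) : G) := by
        rw [← hy', ← hy'z]; rfl
      rw [← hxz] at hgxz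
      have := congrArg (· * g) hgxz
      simpa [mul_assoc] using this.symm
  have hF := Sylow.normalizer_sup_eq_top P
  rw [eq_top_iff, ← hF, sup_comm]
  exact sup_le_sup le_rfl hN

end Cfsg.Agent.S5433
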