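import Mathlib
import Cfsg.Statements.S5436
import Cfsg.Agent.S5595
import Cfsg.Agent.S1784
import Cfsg.Agent.S5430
import Cfsg.Agent.Lib.Helper9.LargeExtra

set_option autoImplicit false
set_option maxHeartbeats 800000

open Cfsg
open Cfsg.Agent.S5595

namespace Cfsg.Agent.S5436

variable {G : Type*} [Group G]

theorem main5436 [Finite G] (z : G) (hz : orderOf z = 2)
    (Q : Subgroup (Subgroup.centralizer ({z} : Set G))) [hQn : Q.Normal]
    (hF : Cfsg.generalizedFittingSubgroup ↥(Subgroup.centralizer ({z} : Set G)) = Q)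
    (hQ : Cfsg.IsExtraspecial 2 ↥Q)
    (hnwc : ∃ g : G, (∃ hq : g * z * g⁻¹ ∈ Subgroup.centralizer ({z} : Set G),
      (⟨g * z * g⁻¹, hq⟩ : Subgroup.centralizer ({z} : Set G)) ∈ Q) ∧ g * z * g⁻¹ ≠ z)
    (hsimp : IsSimpleGroup (↥(Subgroup.centralizer ({z} : Set G)) ⧸ Q))
    (hirr : ∀ W : Subgroup (Subgroup.centralizer ({z} : Set G)), W.Normal → W ≤ Q →
      (W = Q ∨ ∀ x ∈ W, (x : G) ∈ Subgroup.zpowers z))
    (hwcl : Subgroup.closure {x : Subgroup.centralizer ({z} : Set G) | IsConj z (x : G)} ≠ Q) :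
    IsSimpleGroup G := by
  classical
  have hES : ES (Cfsg.Agent.S1784.Fs z) z := by
    apply Cfsg.Agent.S1784.ES_fstar z hz
    rw [hF]; exact hQ
  obtain ⟨Qg, hQg⟩ : ∃ Qg : Subgroup G,
      Qg = Q.map (Subgroup.centralizer ({z} : Set G)).subtype := ⟨_, rfl⟩
  have hFs : Cfsg.Agent.S1784.Fs z = Qg := by
    rw [hQg]; unfold Cfsg.Agent.S1784.Fs; rw [hF]
  rw [hFs] at hES
  have hz2 : z * z = 1 := hES.z2
  have hz1 : z ≠ 1 := by
    intro h; rw [h, orderOf_one] at hz; omega
  have hzi : z⁻¹ = z := inv_eq_of_mul_eq_one_right hz2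
  have hmemH : ∀ a : G, a ∈ Subgroup.centralizer ({z} : Set G) ↔ a * z = z * a :=
    fun a => Subgroup.mem_centralizer_singleton_iff
  have hQgH : Qg ≤ Subgroup.centralizer ({z} : Set G) := by
    intro q hq; rw [hmemH]; exact hES.cent q hq
  have hmemQg : ∀ (a : G) (ha : a ∈ Subgroup.centralizer ({z} : Set G)),
      (⟨a, ha⟩ : ↥(Subgroup.centralizer ({z} : Set G))) ∈ Q ↔ a ∈ Qg := by
    intro a ha
    rw [hQg]
    constructor
    · intro h; exact ⟨⟨a, ha⟩, h, rfl⟩
    · rintro ⟨q, hq, hqa⟩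
      have : q = ⟨a, ha⟩ := Subtype.ext hqa
      rw [← this]; exact hq
  obtain ⟨g, ⟨hbH, hbQ⟩, hbz⟩ := hnwc
  have hbQg : g * z * g⁻¹ ∈ Qg := (hmemQg _ hbH).mp hbQ
  obtain ⟨b, hb⟩ : ∃ b, b = g * z * g⁻¹ := ⟨_, rfl⟩
  rw [← hb] at hbQg hbz
  have hb2 : b * b = 1 := by
    rw [hb]
    calc g * z * g⁻¹ * (g * z * g⁻¹) = g * (z * z) * g⁻¹ := by group
      _ = 1 := by rw [hz2]; group
  have hb1 : b ≠ 1 := by
    intro h
    apply hz1
    calc z = g⁻¹ * (g * z * g⁻¹) * g := by group
      _ = 1 := by rw [← hb, h]; group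
  have hirr' : ∀ W' : Subgroup G, W' ≤ Qg →
      (∀ h ∈ Subgroup.centralizer ({z} : Set G), ∀ w ∈ W', h * w * h⁻¹ ∈ W') →
      Qg ≤ W' ∨ ∀ w ∈ W', w = 1 ∨ w = z := by
    intro W' hW'Q hW'n
    have hWn : (W'.subgroupOf (Subgroup.centralizer ({z} : Set G))).Normal := by
      constructor
      intro w hw h
      rw [Subgroup.mem_subgroupOf] at hw ⊢
      exact hW'n h h.2 w hw
    have hWQ : W'.subgroupOf (Subgroup.centralizer ({z} : Set G)) ≤ Q := by
      intro w hw
      rw [Subgroup.mem_subgroupOf] at hw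
      exact (hmemQg w w.2).mpr (hW'Q hw)
    rcases hirr _ hWn hWQ with h | h
    · left
      intro q hq
      have hqH := hQgH hq
      have h1 : (⟨q, hqH⟩ : ↥(Subgroup.centralizer ({z} : Set G))) ∈
          W'.subgroupOf (Subgroup.centralizer ({z} : Set G)) := by
        rw [h]; exact (hmemQg q hqH).mpr hq
      exact Subgroup.mem_subgroupOf.mp h1
    · right
      intro w hw
      have hwH := hQgH (hW'Q hw)
      have h1 := h ⟨w, hwH⟩ (Subgroup.mem_subgroupOf.mpr hw)
      exact (Cfsg.Agent.S1784.mem_zpowers_two hz w).mp h1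
  refine { toNontrivial := ⟨⟨z, 1, hz1⟩⟩, eq_bot_or_eq_top_of_normal := ?_ }
  intro N hN
  by_cases hNbot : N = ⊥
  · exact Or.inl hNbot
  right
  have hNQn : ∀ h ∈ Subgroup.centralizer ({z} : Set G), ∀ w ∈ N ⊓ Qg,
      h * w * h⁻¹ ∈ N ⊓ Qg := by
    intro h hh w hw
    rw [Subgroup.mem_inf] at hw ⊢
    exact ⟨hN.conj_mem w hw.1 h, hES.norm h ((hmemH h).mp hh) w hw.2⟩
  -- Step A
  have hzN : z ∈ N := by
    by_contra hzN
    have hNQ : ∀ w ∈ N ⊓ Qg, w = 1 := by
      intro w hw
      rcases hirr' (N ⊓ Qg) inf_le_right hNQn with h | h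
      · exfalso; exact hzN (Subgroup.mem_inf.mp (h hES.zQ)).1
      · rcases h w hw with h1 | h1
        · exact h1
        · exfalso; rw [h1] at hw; exact hzN (Subgroup.mem_inf.mp hw).1
    have hCN : ∀ n ∈ N, z * n = n * z → n = 1 := by
      intro n hn hzn
      have hnH : n * z = z * n := hzn.symm
      have hcomm : ∀ q ∈ Qg, n * q = q * n := by
        intro q hq
        have h1 : n * q * n⁻¹ * q⁻¹ ∈ N ⊓ Qg := by
          rw [Subgroup.mem_inf]
          constructor
          · have e1 : n * q * n⁻¹ * q⁻¹ = n * (q * n⁻¹ * q⁻¹) := by group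
            rw [e1]; exact N.mul_mem hn (hN.conj_mem _ (N.inv_mem hn) q)
          · exact Qg.mul_mem (hES.norm n hnH q hq) (Qg.inv_mem hq)
        have h2 := hNQ _ h1
        calc n * q = (n * q * n⁻¹ * q⁻¹) * (q * n) := by group
          _ = q * n := by rw [h2, one_mul]
      have hnQ : n ∈ Qg := hES.self n hcomm
      exact hNQ n (Subgroup.mem_inf.mpr ⟨hn, hnQ⟩)
    have hzinv : ∀ n ∈ N, z * n * z⁻¹ = n⁻¹ :=
      Cfsg.Agent.Lib.Helper9.inverts_of_fixedPointFree hz2
        (fun x hx => hN.conj_mem x hx z) hCN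
    have hCNb : ∀ n ∈ N, b * n = n * b → n = 1 := by
      intro n hn hbn
      have h1 : g⁻¹ * n * g ∈ N := by
        have := hN.conj_mem n hn g⁻¹
        rwa [inv_inv] at this
      have h2 : z * (g⁻¹ * n * g) = (g⁻¹ * n * g) * z := by
        calc z * (g⁻¹ * n * g) = g⁻¹ * ((g * z * g⁻¹) * n) * g := by group
          _ = g⁻¹ * (b * n) * g := by rw [hb]
          _ = g⁻¹ * (n * b) * g := by rw [hbn]
          _ = g⁻¹ * (n * (g * z * g⁻¹)) * g := by rw [hb]
          _ = (g⁻¹ * n * g) * z := by group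
      have h3 := hCN _ h1 h2
      calc n = g * (g⁻¹ * n * g) * g⁻¹ := by group
        _ = 1 := by rw [h3]; group
    have hbinv : ∀ n ∈ N, b * n * b⁻¹ = n⁻¹ :=
      Cfsg.Agent.Lib.Helper9.inverts_of_fixedPointFree hb2
        (fun x hx => hN.conj_mem x hx b) hCNb
    have hzbC : z * b ∈ Subgroup.centralizer (N : Set G) := by
      rw [Subgroup.mem_centralizer_iff]
      intro n hn
      have h1 := hbinv n hn
      have h2 := hzinv n⁻¹ (N.inv_mem hn)
      have h3 : (z * b) * n * (z * b)⁻¹ = n := by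
        calc (z * b) * n * (z * b)⁻¹ = z * (b * n * b⁻¹) * z⁻¹ := by group
          _ = z * n⁻¹ * z⁻¹ := by rw [h1]
          _ = n⁻¹⁻¹ := h2
          _ = n := inv_inv n
      calc n * (z * b) = ((z * b) * n * (z * b)⁻¹) * (z * b) := by rw [h3]
        _ = z * b * n := by group
    haveI := hN
    have hCn : (Subgroup.centralizer (N : Set G)).Normal := Subgroup.normal_centralizer
    have hW := hirr' (Subgroup.centralizer (N : Set G) ⊓ Qg) inf_le_right (by
      intro h hh w hw
      rw [Subgroup.mem_inf] at hw ⊢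
      exact ⟨hCn.conj_mem w hw.1 h, hES.norm h ((hmemH h).mp hh) w hw.2⟩)
    rcases hW with h | h
    · have hzC := (Subgroup.mem_inf.mp (h hES.zQ)).1
      rw [Subgroup.mem_centralizer_iff] at hzC
      apply hNbot
      rw [Subgroup.eq_bot_iff_forall]
      intro n hn
      exact hCN n hn (hzC n hn).symm
    · have hzbQ : z * b ∈ Subgroup.centralizer (N : Set G) ⊓ Qg :=
        Subgroup.mem_inf.mpr ⟨hzbC, Qg.mul_mem hES.zQ hbQg⟩
      rcases h _ hzbQ with h1 | h1
      · apply hbz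
        have : b = z⁻¹ := eq_inv_of_mul_eq_one_right h1
        rw [this, hzi]
      · apply hb1
        have : z * b = z * 1 := by rw [mul_one]; exact h1
        exact mul_left_cancel this
  -- Step B
  have hbN : b ∈ N := by rw [hb]; exact hN.conj_mem z hzN g
  have hQgN : Qg ≤ N := by
    rcases hirr' (N ⊓ Qg) inf_le_right hNQn with h | h
    · exact fun q hq => (Subgroup.mem_inf.mp (h hq)).1
    · exfalso
      rcases h b (Subgroup.mem_inf.mpr ⟨hbN, hbQg⟩) with h1 | h1
      · exact hb1 h1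
      · exact hbz h1
  -- Step C
  have hHN : Subgroup.centralizer ({z} : Set G) ≤ N := by
    haveI := hsimp
    have hMn : ((N.subgroupOf (Subgroup.centralizer ({z} : Set G))).map
        (QuotientGroup.mk' Q)).Normal :=
      Subgroup.Normal.map (hN.subgroupOf _) _ (QuotientGroup.mk'_surjective Q)
    rcases hMn.eq_bot_or_eq_top with h | h
    · exfalso
      have hNHQ : N.subgroupOf (Subgroup.centralizer ({z} : Set G)) ≤ Q := by
        intro n hn
        have h1 : QuotientGroup.mk' Q n ∈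
            (N.subgroupOf (Subgroup.centralizer ({z} : Set G))).map (QuotientGroup.mk' Q) :=
          ⟨n, hn, rfl⟩
        rw [h, Subgroup.mem_bot] at h1
        rw [← QuotientGroup.ker_mk' Q]
        exact h1
      have hKle : Subgroup.closure
          {x : ↥(Subgroup.centralizer ({z} : Set G)) | IsConj z (x : G)} ≤ Q := by
        refine le_trans ?_ hNHQ
        rw [Subgroup.closure_le]
        intro x hx
        rw [SetLike.mem_coe, Subgroup.mem_subgroupOf]
        obtain ⟨c, hc⟩ := isConj_iff.mp hx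
        rw [← hc]; exact hN.conj_mem z hzN c
      have hKn : (Subgroup.closure
          {x : ↥(Subgroup.centralizer ({z} : Set G)) | IsConj z (x : G)}).Normal := by
        constructor
        intro k hk h
        refine Cfsg.Agent.S5430.conj_closure_le _ _ h ?_ k hk
        intro s hs
        apply Subgroup.subset_closure
        show IsConj z ((h * s * h⁻¹ : ↥(Subgroup.centralizer ({z} : Set G))) : G)
        obtain ⟨c, hc⟩ := isConj_iff.mp hs
        rw [isConj_iff]
        refine ⟨(h : G) * c, ?_⟩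
        show (h : G) * c * z * ((h : G) * c)⁻¹ = (h : G) * (s : G) * (h : G)⁻¹
        rw [← hc]; group
      rcases hirr _ hKn hKle with h1 | h1
      · exact hwcl h1
      · have hbK : (⟨b, hQgH hbQg⟩ : ↥(Subgroup.centralizer ({z} : Set G))) ∈
            Subgroup.closure
              {x : ↥(Subgroup.centralizer ({z} : Set G)) | IsConj z (x : G)} := by
          apply Subgroup.subset_closure
          show IsConj z b
          rw [isConj_iff]; exact ⟨g, hb.symm⟩
        have h2 := h1 _ hbK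
        rcases (Cfsg.Agent.S1784.mem_zpowers_two hz b).mp h2 with h3 | h3
        · exact hb1 h3
        · exact hbz h3
    · intro h' hh'
      have h1 : QuotientGroup.mk' Q ⟨h', hh'⟩ ∈
          (N.subgroupOf (Subgroup.centralizer ({z} : Set G))).map (QuotientGroup.mk' Q) := by
        rw [h]; trivial
      obtain ⟨n, hn, hnh⟩ := h1
      have h2 : n⁻¹ * ⟨h', hh'⟩ ∈ Q := by
        rw [← QuotientGroup.ker_mk' Q, MonoidHom.mem_ker, map_mul, map_inv, hnh, inv_mul_cancel]
      have h3 : (n : G)⁻¹ * h' ∈ Qg := by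
        rw [hQg]; exact ⟨_, h2, rfl⟩
      have e1 : h' = (n : G) * ((n : G)⁻¹ * h') := by group
      rw [e1]
      exact N.mul_mem (Subgroup.mem_subgroupOf.mp hn) (hQgN h3)
  -- Step D
  haveI : Fact (Nat.Prime 2) := ⟨Nat.prime_two⟩
  haveI := hN
  have hQp : IsPGroup 2 ↥Qg := by rw [hQg]; exact IsPGroup.map hQ.1.1 _
  obtain ⟨P, hP⟩ := (hQp.comap_subtype (K := N)).exists_le_sylow
  obtain ⟨T, hT⟩ : ∃ T : Subgroup G, T = (P : Subgroup ↥N).map N.subtype := ⟨_, rfl⟩
  have hQgT : Qg ≤ T := by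
    intro q hq
    rw [hT]
    exact ⟨⟨q, hQgN hq⟩, hP (Subgroup.mem_subgroupOf.mpr hq), rfl⟩
  have hTp : IsPGroup 2 ↥T := by rw [hT]; exact IsPGroup.map P.isPGroup' _
  have hzT : z ∈ T := hQgT hES.zQ
  have hZT : ∀ c ∈ T, (∀ t ∈ T, c * t = t * c) → c = 1 ∨ c = z := by
    intro c hc hcomm
    have h1 : ∀ q ∈ Qg, c * q = q * c := fun q hq => hcomm q (hQgT hq)
    have hcQ := hES.self c h1
    exact hES.ctr c hcQ h1
  have hzZT : ∀ t ∈ T, z * t = t * z := by
    haveI : Nontrivial ↥T := ⟨⟨⟨z, hzT⟩, 1, fun h => hz1 (congrArg Subtype.val h)⟩⟩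
    haveI := hTp.center_nontrivial
    obtain ⟨c, hc1⟩ := exists_ne (1 : ↥(Subgroup.center ↥T))
    have hcG : ∀ t ∈ T, ((c : ↥T) : G) * t = t * ((c : ↥T) : G) := fun t ht =>
      (congrArg Subtype.val (Subgroup.mem_center_iff.mp c.2 ⟨t, ht⟩)).symm
    rcases hZT _ (c : ↥T).2 hcG with h | h
    · exfalso; apply hc1; apply Subtype.ext; apply Subtype.ext; exact h
    · intro t ht; rw [← h]; exact hcG t ht
  have hNT : Subgroup.normalizer (T : Set G) ≤ Subgroup.centralizer ({z} : Set G) := by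
    intro n hn
    rw [hmemH]
    have hn' := Subgroup.mem_normalizer_iff.mp hn
    have hninv := Subgroup.mem_normalizer_iff.mp (Subgroup.inv_mem _ hn)
    have h1 : n * z * n⁻¹ ∈ T := (hn' z).mp hzT
    have h2 : ∀ t ∈ T, (n * z * n⁻¹) * t = t * (n * z * n⁻¹) := by
      intro t ht
      have h3 : n⁻¹ * t * n⁻¹⁻¹ ∈ T := (hninv t).mp ht
      have h4 := hzZT _ h3
      calc (n * z * n⁻¹) * t = n * (z * (n⁻¹ * t * n⁻¹⁻¹)) * n⁻¹ := by group
        _ = n * ((n⁻¹ * t * n⁻¹⁻¹) * z) * n⁻¹ := by rw [h4]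
        _ = t * (n * z * n⁻¹) := by group
    rcases hZT _ h1 h2 with h | h
    · exfalso; apply hz1
      calc z = n⁻¹ * (n * z * n⁻¹) * n := by group
        _ = 1 := by rw [h]; group
    · calc n * z = (n * z * n⁻¹) * n := by group
        _ = z * n := by rw [h]
  have hfr := Sylow.normalizer_sup_eq_top P
  rw [← hT] at hfr
  rw [eq_top_iff, ← hfr]
  exact sup_le (hNT.trans hHN) le_rfl

/-- Let z be an involution of the finite group G with centralizer H whose generalized Fitting subgroup Q is extraspecial of width at least 2 (order 2^(2w+1), w ≥ 2); suppose some conjugate of z other than z lies in Q, H/Q is a non-abelian simple group, H acts irreducibly by conjugation on Q modulo the subgroup generated by z (the only H-invariant subgroups of Q containing z are that subgroup and Q), and Q is not the subgroup generated by the conjugates of z lying in H. Then G is simple. -/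
theorem result {G : Type*} [Group G] [Finite G] (z : G) (hz : orderOf z = 2) (Q : Subgroup (Subgroup.centralizer ({z} : Set G))) [Q.Normal] (hF : Cfsg.generalizedFittingSubgroup ↥(Subgroup.centralizer ({z} : Set G)) = Q) (hQ : Cfsg.IsExtraspecial 2 ↥Q) (w : ℕ) (hw : 2 ≤ w) (hcard : Nat.card ↥Q = 2 ^ (2 * w + 1)) (hnwc : ∃ g : G, (∃ hq : g * z * g⁻¹ ∈ Subgroup.centralizer ({z} : Set G), (⟨g * z * g⁻¹, hq⟩ : Subgroup.centralizer ({z} : Set G)) ∈ Q) ∧ g * z * g⁻¹ ≠ z) (hsimp : IsSimpleGroup (↥(Subgroup.centralizer ({z} : Set G)) ⧸ Q)) (hna : ¬ IsMulCommutative (↥(Subgroup.centralizer ({z} : Set G)) ⧸ Q)) (hirr : ∀ W : Subgroup (Subgroup.centralizer ({z} : Set G)), W.Normal → W ≤ Q → (W = Q ∨ ∀ x ∈ W, (x : G) ∈ Subgroup.zpowers z)) (hwcl : Subgroup.closure {x : Subgroup.centralizer ({z} : Set G) | IsConj z (x : G)} ≠ Q) : IsSimpleGroup G := by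
  exact main5436 z hz Q hF hQ hnwc hsimp hirr hwcl

end Cfsg.Agent.S5436
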