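import Cfsg.Statements.S5437

set_option autoImplicit false
open Cfsg

namespace Cfsg.Agent.S5437

theorem mem_map_conj {G : Type*} [Group G] (H : Subgroup G) (g x : G) :
    x ∈ H.map (MulAut.conj g).toMonoidHom ↔ g⁻¹ * x * g ∈ H := by
  constructor
  · rintro ⟨y, hy, rfl⟩
    have : g⁻¹ * ((MulAut.conj g).toMonoidHom y) * g = y := by
      simp [MulAut.conj_apply, mul_assoc]
    rw [this]; exact hy
  · intro h
    refine ⟨g⁻¹ * x * g, h, ?_⟩
    simp [MulAut.conj_apply, mul_assoc]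

theorem smul_mk_eq_iff {G : Type*} [Group G] (H : Subgroup G) (x g : G) :
    x • (QuotientGroup.mk g : G ⧸ H) = QuotientGroup.mk g ↔ g⁻¹ * x * g ∈ H := by
  rw [MulAction.Quotient.smul_mk, eq_comm, QuotientGroup.eq, smul_eq_mul, ← mul_assoc]

theorem mem_centralizer_singleton {G : Type*} [Group G] (y k : G) (h : k * y * k⁻¹ = y) :
    k ∈ Subgroup.centralizer ({y} : Set G) := by
  rw [Subgroup.mem_centralizer_iff]
  intro y' hy'
  rw [Set.mem_singleton_iff] at hy'
  subst hy'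
  have := congrArg (· * k) h
  simpa [mul_assoc] using this.symm

theorem result {G : Type*} [Group G] [Finite G] (I : Set G) (hI : ∀ x ∈ I, orderOf x = 2) (hIc : ∀ g : G, ∀ x ∈ I, g * x * g⁻¹ ∈ I) (H : Subgroup G) : ((∀ x ∈ I, x ∈ H → (∀ g : G, g * x * g⁻¹ ∈ H → ∃ h ∈ H, h * x * h⁻¹ = g * x * g⁻¹) ∧ Subgroup.centralizer ({x} : Set G) ≤ H) ↔ (∀ g : G, g ∉ H → ∀ x ∈ I, ¬ (x ∈ H ∧ x ∈ (H : Subgroup G).map (MulAut.conj g).toMonoidHom))) ∧ ((∀ g : G, g ∉ H → ∀ x ∈ I, ¬ (x ∈ H ∧ x ∈ (H : Subgroup G).map (MulAut.conj g).toMonoidHom)) ↔ ∀ x ∈ I, x ∈ H → ∃! c : G ⧸ H, x • c = c) := by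
  simp only [mem_map_conj]
  refine ⟨⟨?_, ?_⟩, ⟨?_, ?_⟩⟩
  · intro h1 g hg x hxI ⟨hxH, hxg⟩
    apply hg
    have hyI : g⁻¹ * x * g ∈ I := by
      have := hIc g⁻¹ x hxI
      simpa using this
    obtain ⟨y, hy⟩ : ∃ y, y = g⁻¹ * x * g := ⟨_, rfl⟩
    rw [← hy] at hyI hxg
    obtain ⟨hfus, hcent⟩ := h1 _ hyI hxg
    have hgy : g * y * g⁻¹ = x := by rw [hy]; group
    obtain ⟨h, hhH, hh⟩ := hfus g (by rw [hgy]; exact hxH)
    have : h⁻¹ * g ∈ Subgroup.centralizer ({y} : Set G) := by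
      apply mem_centralizer_singleton
      calc h⁻¹ * g * y * (h⁻¹ * g)⁻¹ = h⁻¹ * (g * y * g⁻¹) * h := by group
        _ = h⁻¹ * (h * y * h⁻¹) * h := by rw [hh]
        _ = y := by group
    have h2 := hcent this
    have : g = h * (h⁻¹ * g) := by group
    rw [this]; exact H.mul_mem hhH h2
  · intro h2 x hxI hxH
    constructor
    · intro g hgx
      by_cases hg : g ∈ H
      · exact ⟨g, hg, rfl⟩
      · exfalso
        have hg' : g⁻¹ ∉ H := fun h => hg (by simpa using H.inv_mem h)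
        apply h2 g⁻¹ hg' x hxI
        refine ⟨hxH, ?_⟩
        rw [inv_inv]; exact hgx
    · intro c hc
      by_contra hcH
      apply h2 c hcH x hxI
      refine ⟨hxH, ?_⟩
      have hc' := Subgroup.mem_centralizer_iff.mp hc x rfl
      have : c⁻¹ * x * c = x := by
        rw [mul_assoc, hc']; group
      rw [this]; exact hxH
  · intro h2 x hxI hxH
    refine ⟨QuotientGroup.mk 1, ?_, ?_⟩
    · show x • (QuotientGroup.mk 1 : G ⧸ H) = QuotientGroup.mk 1
      rw [smul_mk_eq_iff]; simpa using hxH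
    · intro c hc
      induction c using QuotientGroup.induction_on with
      | H g =>
        have hc' : x • (QuotientGroup.mk g : G ⧸ H) = QuotientGroup.mk g := hc
        rw [smul_mk_eq_iff] at hc'
        by_cases hg : g ∈ H
        · rw [QuotientGroup.eq]; simpa using H.inv_mem hg
        · exact absurd ⟨hxH, hc'⟩ (h2 g hg x hxI)
  · intro h3 g hg x hxI ⟨hxH, hxg⟩
    obtain ⟨c, -, huniq⟩ := h3 x hxI hxH
    have e1 : (QuotientGroup.mk 1 : G ⧸ H) = c := by
      apply huniq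
      show x • (QuotientGroup.mk 1 : G ⧸ H) = QuotientGroup.mk 1
      rw [smul_mk_eq_iff]; simpa using hxH
    have e2 : (QuotientGroup.mk g : G ⧸ H) = c := by
      apply huniq
      show x • (QuotientGroup.mk g : G ⧸ H) = QuotientGroup.mk g
      rw [smul_mk_eq_iff]; exact hxg
    have : (QuotientGroup.mk 1 : G ⧸ H) = QuotientGroup.mk g := e1.trans e2.symm
    rw [QuotientGroup.eq] at this
    apply hg
    simpa using this

end Cfsg.Agent.S5437
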