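import Cfsg.Statements.S5438

set_option autoImplicit false
open Cfsg

namespace Cfsg.Agent.S5438

/-- A `2`-element of a finite group is conjugate into any given Sylow `2`-subgroup. -/
theorem conj_into_sylow {K : Type*} [Group K] [Finite K] (P : Sylow 2 K) (x : K)
    (hx : ∃ k : ℕ, orderOf x = 2 ^ k) : ∃ h : K, h * x * h⁻¹ ∈ P := by
  have : Fact (Nat.Prime 2) := ⟨Nat.prime_two⟩
  obtain ⟨k, hk⟩ := hx
  have hP : IsPGroup 2 (Subgroup.zpowers x) := by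
    apply IsPGroup.of_card (n := k)
    rw [Nat.card_zpowers, hk]
  obtain ⟨Q, hQ⟩ := hP.exists_le_sylow
  obtain ⟨g, hg⟩ := MulAction.exists_smul_eq K Q P
  refine ⟨g, ?_⟩
  have hxQ : x ∈ (Q : Subgroup K) := hQ (Subgroup.mem_zpowers x)
  have : g * x * g⁻¹ ∈ ((g • Q : Sylow 2 K) : Subgroup K) := by
    rw [Sylow.coe_subgroup_smul]
    exact ⟨x, hxQ, rfl⟩
  rw [hg] at this
  exact this

/-- A `2`-subgroup of a finite group is conjugate into any given Sylow `2`-subgroup. -/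
theorem conj_subgroup_into_sylow {K : Type*} [Group K] [Finite K] (P : Sylow 2 K) (R : Subgroup K)
    (hR : IsPGroup 2 R) : ∃ g : K, ∀ r ∈ R, g * r * g⁻¹ ∈ P := by
  have : Fact (Nat.Prime 2) := ⟨Nat.prime_two⟩
  obtain ⟨Q, hQ⟩ := hR.exists_le_sylow
  obtain ⟨g, hg⟩ := MulAction.exists_smul_eq K Q P
  refine ⟨g, fun r hr => ?_⟩
  have : g * r * g⁻¹ ∈ ((g • Q : Sylow 2 K) : Subgroup K) := by
    rw [Sylow.coe_subgroup_smul]
    exact ⟨r, hQ hr, rfl⟩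
  rw [hg] at this
  exact this

theorem orderOf_conj' {K : Type*} [Group K] (g x : K) : orderOf (g * x * g⁻¹) = orderOf x := by
  have := orderOf_injective (MulAut.conj g).toMonoidHom (MulAut.conj g).injective x
  simpa [MulAut.conj_apply] using this

theorem result {G : Type*} [Group G] [Finite G] (z : G) (hz : Cfsg.IsTwoCentralInvolution z) (H : Subgroup G) (hzH : z ∈ H) (hfix : ∀ g : G, g⁻¹ * z * g ∈ H → g ∈ H) : Odd H.index ∧ ∀ x ∈ H, (∃ k : ℕ, orderOf x = 2 ^ k) → ∀ g : G, g * x * g⁻¹ ∈ H → ∃ h ∈ H, h * x * h⁻¹ = g * x * g⁻¹ := by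
  have : Fact (Nat.Prime 2) := ⟨Nat.prime_two⟩
  obtain ⟨hz2, P, hzP, hPz⟩ := hz
  -- the centralizer of z lies in H
  have hCz : ∀ c : G, c * z = z * c → c ∈ H := by
    intro c hc
    apply hfix
    have : c⁻¹ * z * c = z := by rw [mul_assoc, ← hc]; group
    rw [this]; exact hzH
  have hPH : (P : Subgroup G) ≤ H := fun p hp => hCz p (hPz p hp)
  refine ⟨?_, ?_⟩
  · have h1 : H.index ∣ (P : Subgroup G).index := Subgroup.index_dvd_of_le hPH
    have h2 : ¬ 2 ∣ (P : Subgroup G).index := P.not_dvd_index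
    rw [← Nat.not_even_iff_odd, even_iff_two_dvd]
    exact fun h => h2 (h.trans h1)
  · -- Lemma L'
    have hL : ∀ (R : Subgroup G), IsPGroup 2 R → ∀ a b : G, a * z * a⁻¹ ∈ R → b * z * b⁻¹ ∈ R →
        a⁻¹ * b ∈ H := by
      intro R hR a b ha hb
      obtain ⟨w, hw⟩ := conj_subgroup_into_sylow P R hR
      have hwa : w * a ∈ H := by
        have h1 : (w * a)⁻¹ ∈ H := by
          apply hfix
          have : (w * a)⁻¹⁻¹ * z * (w * a)⁻¹ = w * (a * z * a⁻¹) * w⁻¹ := by group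
          rw [this]; exact hPH (hw _ ha)
        simpa using H.inv_mem h1
      have hwb : w * b ∈ H := by
        have h1 : (w * b)⁻¹ ∈ H := by
          apply hfix
          have : (w * b)⁻¹⁻¹ * z * (w * b)⁻¹ = w * (b * z * b⁻¹) * w⁻¹ := by group
          rw [this]; exact hPH (hw _ hb)
        simpa using H.inv_mem h1
      have : a⁻¹ * b = (w * a)⁻¹ * (w * b) := by group
      rw [this]; exact H.mul_mem (H.inv_mem hwa) hwb
    intro x hxH hx2 g hgx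
    -- conjugate x and y into P inside H
    have hconjH : ∀ u ∈ H, (∃ k : ℕ, orderOf u = 2 ^ k) → ∃ h ∈ H, h * u * h⁻¹ ∈ (P : Subgroup G) := by
      intro u hu hu2
      have hu2' : ∃ k : ℕ, orderOf (⟨u, hu⟩ : H) = 2 ^ k := by
        obtain ⟨k, hk⟩ := hu2
        exact ⟨k, by rw [← hk]; exact Subgroup.orderOf_mk u hu⟩
      obtain ⟨h, hh⟩ := conj_into_sylow (P.subtype hPH) ⟨u, hu⟩ hu2'
      refine ⟨h, h.2, ?_⟩
      have : h * ⟨u, hu⟩ * h⁻¹ ∈ (P : Subgroup G).subgroupOf H := by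
        rw [← Sylow.coe_subtype]; exact hh
      exact Subgroup.mem_subgroupOf.mp this
    have hy2 : ∃ k : ℕ, orderOf (g * x * g⁻¹) = 2 ^ k := by
      obtain ⟨k, hk⟩ := hx2
      exact ⟨k, by rw [← hk]; exact orderOf_conj' g x⟩
    obtain ⟨h₁, hh₁, hx'⟩ := hconjH x hxH hx2
    obtain ⟨h₂, hh₂, hy'⟩ := hconjH _ hgx hy2
    obtain ⟨x', hx'def⟩ : ∃ x', x' = h₁ * x * h₁⁻¹ := ⟨_, rfl⟩
    obtain ⟨y', hy'def⟩ : ∃ y', y' = h₂ * (g * x * g⁻¹) * h₂⁻¹ := ⟨_, rfl⟩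
    rw [← hx'def] at hx'
    rw [← hy'def] at hy'
    obtain ⟨k, hkdef⟩ : ∃ k, k = h₂ * g * h₁⁻¹ := ⟨_, rfl⟩
    have hkxy : k * x' * k⁻¹ = y' := by
      rw [hkdef, hx'def, hy'def]; group
    have hzx' : x' * z = z * x' := hPz x' hx'
    have hzy' : y' * z = z * y' := hPz y' hy'
    -- z and k z k⁻¹ lie in C = C_G(y')
    have hzC : z ∈ Subgroup.centralizer ({y'} : Set G) := by
      rw [Subgroup.mem_centralizer_iff]
      intro u hu
      rw [Set.mem_singleton_iff] at hu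
      subst hu; exact hzy'
    have hzkC : k * z * k⁻¹ ∈ Subgroup.centralizer ({y'} : Set G) := by
      rw [Subgroup.mem_centralizer_iff]
      intro u hu
      rw [Set.mem_singleton_iff] at hu
      subst hu
      rw [← hkxy]
      calc k * x' * k⁻¹ * (k * z * k⁻¹) = k * (x' * z) * k⁻¹ := by group
        _ = k * (z * x') * k⁻¹ := by rw [hzx']
        _ = k * z * k⁻¹ * (k * x' * k⁻¹) := by group
    have hordz : ∃ n : ℕ, orderOf (⟨z, hzC⟩ : Subgroup.centralizer ({y'} : Set G)) = 2 ^ n :=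
      ⟨1, by rw [Subgroup.orderOf_mk, hz2, pow_one]⟩
    have hordzk : ∃ n : ℕ, orderOf (⟨k * z * k⁻¹, hzkC⟩ : Subgroup.centralizer ({y'} : Set G)) = 2 ^ n :=
      ⟨1, by rw [Subgroup.orderOf_mk, orderOf_conj', hz2, pow_one]⟩
    obtain ⟨R₁⟩ : Nonempty (Sylow 2 (Subgroup.centralizer ({y'} : Set G))) := inferInstance
    obtain ⟨c₁, hc₁⟩ := conj_into_sylow R₁ _ hordz
    obtain ⟨c₂, hc₂⟩ := conj_into_sylow R₁ _ hordzk
    have hR : IsPGroup 2 ((R₁ : Subgroup (Subgroup.centralizer ({y'} : Set G))).map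
        (Subgroup.centralizer ({y'} : Set G)).subtype) := R₁.2.map _
    have ha : (c₁ : G) * z * (c₁ : G)⁻¹ ∈ (R₁ : Subgroup (Subgroup.centralizer ({y'} : Set G))).map
        (Subgroup.centralizer ({y'} : Set G)).subtype := ⟨_, hc₁, rfl⟩
    have hb : ((c₂ : G) * k) * z * ((c₂ : G) * k)⁻¹ ∈ (R₁ : Subgroup (Subgroup.centralizer ({y'} : Set G))).map
        (Subgroup.centralizer ({y'} : Set G)).subtype := by
      refine ⟨_, hc₂, ?_⟩
      show (c₂ : G) * (k * z * k⁻¹) * (c₂ : G)⁻¹ = _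
      group
    have hh' := hL _ hR _ _ ha hb
    have hc₁y : y' * (c₁ : G) = (c₁ : G) * y' := Subgroup.mem_centralizer_iff.mp c₁.2 y' rfl
    have hc₂y : y' * (c₂ : G) = (c₂ : G) * y' := Subgroup.mem_centralizer_iff.mp c₂.2 y' rfl
    refine ⟨h₂⁻¹ * ((c₁ : G)⁻¹ * ((c₂ : G) * k)) * h₁, H.mul_mem (H.mul_mem (H.inv_mem hh₂) hh') hh₁, ?_⟩
    have e1 : (c₂ : G) * y' * (c₂ : G)⁻¹ = y' := by rw [← hc₂y]; group
    have e2 : (c₁ : G)⁻¹ * y' * (c₁ : G) = y' := by rw [mul_assoc, hc₁y]; group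
    calc h₂⁻¹ * ((c₁ : G)⁻¹ * ((c₂ : G) * k)) * h₁ * x * (h₂⁻¹ * ((c₁ : G)⁻¹ * ((c₂ : G) * k)) * h₁)⁻¹
        = h₂⁻¹ * ((c₁ : G)⁻¹ * ((c₂ : G) * (k * (h₁ * x * h₁⁻¹) * k⁻¹) * (c₂ : G)⁻¹) * (c₁ : G)) * h₂ := by group
      _ = h₂⁻¹ * ((c₁ : G)⁻¹ * ((c₂ : G) * y' * (c₂ : G)⁻¹) * (c₁ : G)) * h₂ := by rw [← hx'def, hkxy]
      _ = h₂⁻¹ * y' * h₂ := by rw [e1, e2]
      _ = g * x * g⁻¹ := by rw [hy'def]; group

end Cfsg.Agent.S5438
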