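import Cfsg.Statements.S5439
import Cfsg.Agent.Lib.Helper9.Invol

set_option autoImplicit false
open Cfsg

namespace Cfsg.Agent.S5439

open Cfsg.Agent.Lib.Helper9

theorem result {G : Type*} [Group G] [Finite G] (I J : Set G) (a₀ b₀ : G) (ha₀ : orderOf a₀ = 2) (hb₀ : orderOf b₀ = 2) (hI : I = {x | IsConj a₀ x}) (hJ : J = {x | IsConj b₀ x}) (hIJ : I ≠ J) (H : Subgroup G) (hfix : ∀ x ∈ I ∪ J, ∃! c : G ⧸ H, x • c = c) (hcent : ∀ a ∈ I, a ∈ H → ∀ b ∈ I ∪ J, b ∈ H → a ≠ b → a * b = b * a → Subgroup.centralizer ({a * b} : Set G) ≤ H) : H = ⊤ := by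
  have ha₀I : a₀ ∈ I := by rw [hI]; exact IsConj.refl a₀
  have hb₀J : b₀ ∈ J := by rw [hJ]; exact IsConj.refl b₀
  -- I ∪ J consists of involutions and is closed under conjugation
  have hsqI : ∀ y ∈ I, y * y = 1 := by
    intro y hy
    rw [hI] at hy
    obtain ⟨c, rfl⟩ := isConj_iff.mp hy
    calc c * a₀ * c⁻¹ * (c * a₀ * c⁻¹) = c * (a₀ * a₀) * c⁻¹ := by group
      _ = 1 := by rw [sq_of_order_two ha₀]; group
  have hsqJ : ∀ y ∈ J, y * y = 1 := by
    intro y hy
    rw [hJ] at hy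
    obtain ⟨c, rfl⟩ := isConj_iff.mp hy
    calc c * b₀ * c⁻¹ * (c * b₀ * c⁻¹) = c * (b₀ * b₀) * c⁻¹ := by group
      _ = 1 := by rw [sq_of_order_two hb₀]; group
  have hsq : ∀ y ∈ I ∪ J, y * y = 1 := by
    rintro y (hy | hy)
    · exact hsqI y hy
    · exact hsqJ y hy
  have hconjI : ∀ g : G, ∀ y ∈ I, g * y * g⁻¹ ∈ I := by
    intro g y hy
    rw [hI] at hy ⊢
    exact hy.trans (isConj_iff.mpr ⟨g, rfl⟩)
  have hconjJ : ∀ g : G, ∀ y ∈ J, g * y * g⁻¹ ∈ J := by
    intro g y hy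
    rw [hJ] at hy ⊢
    exact hy.trans (isConj_iff.mpr ⟨g, rfl⟩)
  have hconj : ∀ g : G, ∀ y ∈ I ∪ J, g * y * g⁻¹ ∈ I ∪ J := by
    rintro g y (hy | hy)
    · exact Or.inl (hconjI g y hy)
    · exact Or.inr (hconjJ g y hy)
  -- pick a ∈ I ∩ H
  obtain ⟨a, haI, haH⟩ : ∃ a, a ∈ I ∧ a ∈ H := by
    obtain ⟨c, hc, -⟩ := hfix a₀ (Or.inl ha₀I)
    induction c using QuotientGroup.induction_on with
    | H g =>
      have hc' : a₀ • (QuotientGroup.mk g : G ⧸ H) = QuotientGroup.mk g := hc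
      rw [smul_mk_eq_iff] at hc'
      refine ⟨g⁻¹ * a₀ * g, ?_, hc'⟩
      have := hconjI g⁻¹ a₀ ha₀I
      simpa using this
  have haa := hsqI a haI
  have hafix1 : a • (QuotientGroup.mk 1 : G ⧸ H) = QuotientGroup.mk 1 := by
    rw [smul_mk_eq_iff]; simpa using haH
  -- every b ∈ J lies in H
  have hJH : ∀ b ∈ J, b ∈ H := by
    intro b hbJ
    have hbb := hsqJ b hbJ
    obtain ⟨r, hr⟩ : ∃ r, r = a * b := ⟨_, rfl⟩
    have hnotodd : ¬ Odd (orderOf (a * b)) := by
      intro hodd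
      have hab : IsConj a b := isConj_of_odd_order_mul haa hbb hodd
      apply hIJ
      rw [hI] at haI
      rw [hJ] at hbJ
      have h0 : IsConj a₀ b₀ := (haI.trans hab).trans hbJ.symm
      rw [hI, hJ]
      ext y
      exact ⟨fun hy => h0.symm.trans hy, fun hy => h0.trans hy⟩
    rw [Nat.not_odd_iff_even] at hnotodd
    obtain ⟨k, hk⟩ := hnotodd
    rw [← hr] at hk
    have hnpos : 0 < orderOf r := orderOf_pos r
    have hkpos : 0 < k := by omega
    obtain ⟨t, ht⟩ : ∃ t, t = r ^ k := ⟨_, rfl⟩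
    have ht1 : t ≠ 1 := by
      intro h
      rw [ht] at h
      have := Nat.le_of_dvd hkpos (orderOf_dvd_of_pow_eq_one h)
      omega
    have htt : t * t = 1 := by
      rw [ht, ← pow_add, ← hk]; exact pow_orderOf_eq_one r
    have hti : t⁻¹ = t := inv_eq_of_mul_eq_one_left htt
    have har : a * r * a⁻¹ = r⁻¹ := hr ▸ conj_mul_invol haa hbb
    have hbr : b * r * b⁻¹ = r⁻¹ := hr ▸ conj_mul_invol' haa hbb
    have hat : a * t * a⁻¹ = t := by
      have : a * t * a⁻¹ = (a * r * a⁻¹) ^ k := by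
        rw [ht]; exact (conj_pow (a := a) (b := r) (i := k)).symm
      rw [this, har, inv_pow, ← ht, hti]
    have hbt : b * t * b⁻¹ = t := by
      have : b * t * b⁻¹ = (b * r * b⁻¹) ^ k := by
        rw [ht]; exact (conj_pow (a := b) (b := r) (i := k)).symm
      rw [this, hbr, inv_pow, ← ht, hti]
    have hcat : a * t = t * a := by
      have := congrArg (· * a) hat
      simpa [mul_assoc] using this
    have hcbt : b * t = t * b := by
      have := congrArg (· * b) hbt
      simpa [mul_assoc] using this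
    have hcIJ : a * t ∈ I ∪ J := by
      rw [ht, hr]; exact mul_pow_mem hsq hconj (Or.inl haI) (Or.inr hbJ) k
    have hne : a ≠ a * t := by
      intro h
      apply ht1
      have : a * 1 = a * t := by rw [mul_one]; exact h
      exact (mul_left_cancel this).symm
    have hcomm : a * (a * t) = (a * t) * a := by
      rw [mul_assoc, ← hcat]
    -- a t fixes the coset H
    have hcH : a * t ∈ H := by
      obtain ⟨c, -, huniq⟩ := hfix a (Or.inl haI)
      have e1 : (QuotientGroup.mk 1 : G ⧸ H) = c := huniq _ hafix1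
      have e2 : (a * t) • (QuotientGroup.mk 1 : G ⧸ H) = c := by
        apply huniq
        rw [← mul_smul, hcomm, mul_smul, hafix1]
      have : (a * t) • (QuotientGroup.mk 1 : G ⧸ H) = QuotientGroup.mk 1 := e2.trans e1.symm
      rw [smul_mk_eq_iff] at this
      simpa using this
    have hC := hcent a haI haH (a * t) hcIJ hcH hne hcomm
    have haat : a * (a * t) = t := by rw [← mul_assoc, haa, one_mul]
    rw [haat] at hC
    apply hC
    rw [Subgroup.mem_centralizer_iff]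
    intro u hu
    rw [Set.mem_singleton_iff] at hu
    subst hu
    exact hcbt.symm
  rw [eq_top_iff]
  intro g _
  have hb₀H := hJH b₀ hb₀J
  obtain ⟨c, -, huniq⟩ := hfix b₀ (Or.inr hb₀J)
  have e1 : (QuotientGroup.mk 1 : G ⧸ H) = c := by
    apply huniq
    rw [smul_mk_eq_iff]; simpa using hb₀H
  have e2 : (QuotientGroup.mk g : G ⧸ H) = c := by
    apply huniq
    rw [smul_mk_eq_iff]
    apply hJH
    have := hconjJ g⁻¹ b₀ hb₀J
    simpa using this
  have : (QuotientGroup.mk 1 : G ⧸ H) = QuotientGroup.mk g := e1.trans e2.symm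
  rw [QuotientGroup.eq] at this
  simpa using this

end Cfsg.Agent.S5439
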