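import Cfsg.Statements.S5459
import Cfsg.Agent.Lib.Helper9.CommGraphLift3
-- import your own Cfsg.Agent.* helpers here

set_option autoImplicit false
open Cfsg

namespace Cfsg.Agent.S5459

open Cfsg.Agent.Lib.Helper9

/-- Let G be a finite group with a quasisimple normal subgroup L and an involution d such that G is generated by L and d, the centre of L has odd order, and d inverts every element of the centre of L. If the commuting graph on the conjugacy class of the image of d in G modulo the centre of L is connected, then the commuting graph on the conjugacy class of d is connected. -/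
theorem result {G : Type*} [Group G] [Finite G] (L : Subgroup G) [L.Normal] (hL : Cfsg.IsQuasisimple ↥L) (d : G) (hd : orderOf d = 2) (hgen : L ⊔ Subgroup.zpowers d = ⊤) (hodd : Odd (Nat.card ↥(Subgroup.center ↥L))) (hinv : ∀ c ∈ (Subgroup.center ↥L).map L.subtype, d * c * d⁻¹ = c⁻¹) [hn : ((Subgroup.center ↥L).map L.subtype).Normal] (hconn : (Cfsg.commutingGraph (conjugatesOf (QuotientGroup.mk d : G ⧸ (Subgroup.center ↥L).map L.subtype))).Connected) : (Cfsg.commutingGraph (conjugatesOf d)).Connected := by
  have hperf : ⁅L, L⁆ = L := by
    haveI := hL.1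
    exact Subgroup.isPerfect_iff.1 inferInstance
  have hZL : (Subgroup.center ↥L).map L.subtype ≤ L := by
    intro c hc
    obtain ⟨x, _, rfl⟩ := Subgroup.mem_map.1 hc
    exact x.2
  have hZc : ∀ c ∈ (Subgroup.center ↥L).map L.subtype, ∀ y ∈ L, Commute c y := by
    intro c hc y hy
    obtain ⟨x, hx, rfl⟩ := Subgroup.mem_map.1 hc
    have h1 := (Subgroup.mem_center_iff.1 hx) ⟨y, hy⟩
    have h2 := congrArg Subtype.val h1
    exact h2.symm
  have hodd' : Odd (Nat.card ↥((Subgroup.center ↥L).map L.subtype)) := by
    rw [Subgroup.card_subtype]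
    exact hodd
  exact CommGraphLift.connected_of_compStab_eq_top
    (CommGraphLift.compStab_eq_top _ L hperf hZL hZc hgen
      (CommGraphLift.exists_mul_mem_compStab _ hodd' hinv hconn))

end Cfsg.Agent.S5459
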