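import Mathlib
import Cfsg.Statements.S5541

set_option autoImplicit false
open Cfsg

namespace Cfsg.Agent.S5541

theorem result {H : Type*} [Group H] {U : Type*} [AddCommGroup U] [Module ℝ U] [FiniteDimensional ℝ U] (ρ : Representation ℝ H U) (hirr : ∀ W : Submodule ℝ U, (∀ g : H, W.map (ρ g) ≤ W) → W = ⊥ ∨ W = ⊤) (B : LinearMap.BilinForm ℝ U) (hB0 : B ≠ 0) (hBs : ∀ u v, B u v = B v u) (hBi : ∀ (g : H) (u v : U), B (ρ g u) (ρ g v) = B u v) : (∃ m : U →ₗ[ℝ] U →ₗ[ℝ] U, m ≠ 0 ∧ (∀ u v, m u v = m v u) ∧ (∀ (g : H) (u v : U), m (ρ g u) (ρ g v) = ρ g (m u v)) ∧ ∀ m' : U →ₗ[ℝ] U →ₗ[ℝ] U, (∀ (g : H) (u v : U), m' (ρ g u) (ρ g v) = ρ g (m' u v)) → ∃ c : ℝ, m' = c • m) ↔ (∃ t : U →ₗ[ℝ] U →ₗ[ℝ] U →ₗ[ℝ] ℝ, t ≠ 0 ∧ (∀ u v w, t u v w = t v u w ∧ t u v w = t u w v) ∧ (∀ (g : H) (u v w : U), t (ρ g u) (ρ g v) (ρ g w) = t u v w) ∧ ∀ t' : U →ₗ[ℝ] U →ₗ[ℝ] U →ₗ[ℝ] ℝ, (∀ (g : H) (u v w : U), t' (ρ g u) (ρ g v) (ρ g w) = t' u v w) → ∃ c : ℝ, t' = c • t) := by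
  have hginv : ∀ (g : H) (v : U), ρ g (ρ g⁻¹ v) = v := by
    intro g v
    rw [← Module.End.mul_apply, ← map_mul, mul_inv_cancel, map_one, Module.End.one_apply]
  have hginv' : ∀ (g : H) (v : U), ρ g⁻¹ (ρ g v) = v := by
    intro g v
    rw [← Module.End.mul_apply, ← map_mul, inv_mul_cancel, map_one, Module.End.one_apply]
  -- B is nondegenerate
  have hsepL : ∀ x : U, (∀ y, B x y = 0) → x = 0 := by
    have hW := hirr (LinearMap.ker B) (by
      intro g
      rintro _ ⟨u, hu, rfl⟩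
      rw [SetLike.mem_coe, LinearMap.mem_ker] at hu
      rw [LinearMap.mem_ker]
      ext v
      have : B (ρ g u) v = B u (ρ g⁻¹ v) := by
        rw [← hBi g u (ρ g⁻¹ v), hginv]
      rw [this, hu]; rfl)
    rcases hW with hW | hW
    · intro x hx
      have : x ∈ LinearMap.ker B := by
        rw [LinearMap.mem_ker]; ext y; exact hx y
      rw [hW] at this
      exact (Submodule.mem_bot ℝ).mp this
    · exfalso
      apply hB0
      ext u v
      have : u ∈ LinearMap.ker B := by rw [hW]; exact Submodule.mem_top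
      rw [LinearMap.mem_ker] at this
      rw [this]; rfl
  have hnd : B.Nondegenerate := ⟨hsepL, fun y hy => hsepL y (fun x => by rw [hBs]; exact hy x)⟩
  have nd : ∀ x x' : U, (∀ w, B x w = B x' w) → x = x' := by
    intro x x' h
    have := hsepL (x - x') (fun w => by rw [map_sub, LinearMap.sub_apply, h w, sub_self])
    exact sub_eq_zero.mp this
  -- from invariant trilinear forms to equivariant products
  have toM : ∀ t : U →ₗ[ℝ] U →ₗ[ℝ] U →ₗ[ℝ] ℝ, ∃ m : U →ₗ[ℝ] U →ₗ[ℝ] U, ∀ u v w, B (m u v) w = t u v w := by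
    intro t
    refine ⟨t.compr₂ (B.toDual hnd).symm.toLinearMap, fun u v w => ?_⟩
    rw [LinearMap.compr₂_apply]
    exact LinearMap.BilinForm.apply_toDual_symm_apply (hB := hnd) (t u v) w
  have equivariant_of : ∀ (t : U →ₗ[ℝ] U →ₗ[ℝ] U →ₗ[ℝ] ℝ) (m : U →ₗ[ℝ] U →ₗ[ℝ] U),
      (∀ u v w, B (m u v) w = t u v w) →
      (∀ (g : H) (u v w : U), t (ρ g u) (ρ g v) (ρ g w) = t u v w) →
      ∀ (g : H) (u v : U), m (ρ g u) (ρ g v) = ρ g (m u v) := by
    intro t m hm ht g u v
    apply nd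
    intro w
    rw [hm, ← hginv g w, ht, hBi, hm]
  have invariant_of : ∀ (t : U →ₗ[ℝ] U →ₗ[ℝ] U →ₗ[ℝ] ℝ) (m : U →ₗ[ℝ] U →ₗ[ℝ] U),
      (∀ u v w, B (m u v) w = t u v w) →
      (∀ (g : H) (u v : U), m (ρ g u) (ρ g v) = ρ g (m u v)) →
      ∀ (g : H) (u v w : U), t (ρ g u) (ρ g v) (ρ g w) = t u v w := by
    intro t m hm hmeq g u v w
    rw [← hm, hmeq, hBi, hm]
  constructor
  · rintro ⟨m, hm0, hmc, hmeq, hmu⟩
    have htdef : ∀ u v w, B (m u v) w = (m.compr₂ B) u v w := fun u v w => rfl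
    have htinv := invariant_of (m.compr₂ B) m htdef hmeq
    have ht0 : m.compr₂ B ≠ 0 := by
      intro h
      apply hm0
      ext u v
      apply nd
      intro w
      rw [htdef, h]; simp
    have hσ : ∀ u v w, (m.compr₂ B) u v w = (m.compr₂ B) v u w := by
      intro u v w
      rw [← htdef, ← htdef, hmc]
    have huniv : ∀ t' : U →ₗ[ℝ] U →ₗ[ℝ] U →ₗ[ℝ] ℝ, (∀ (g : H) (u v w : U), t' (ρ g u) (ρ g v) (ρ g w) = t' u v w) →
        ∃ c : ℝ, t' = c • (m.compr₂ B) := by
      intro t' ht'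
      obtain ⟨m', hm'⟩ := toM t'
      obtain ⟨c, hc⟩ := hmu m' (equivariant_of t' m' hm' ht')
      refine ⟨c, ?_⟩
      ext u v w
      rw [← hm', hc]
      simp only [LinearMap.smul_apply, map_smul, smul_eq_mul]
      rw [htdef]
    -- the (2 3)-symmetry
    obtain ⟨c, hc⟩ := huniv (LinearMap.lflip.comp (m.compr₂ B)) (by
      intro g u v w
      simp only [LinearMap.comp_apply, LinearMap.lflip_apply]
      exact htinv g u w v)
    have hτ : ∀ u v w, (m.compr₂ B) u w v = c * (m.compr₂ B) u v w := by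
      intro u v w
      have := congrArg (fun f => f u v w) hc
      simp only [LinearMap.comp_apply, LinearMap.lflip_apply, LinearMap.smul_apply, smul_eq_mul] at this
      exact this
    have hc1 : c = 1 := by
      obtain ⟨u, v, w, hne⟩ : ∃ u v w, (m.compr₂ B) u v w ≠ 0 := by
        by_contra hcon
        push Not at hcon
        apply ht0
        ext u v w
        rw [hcon]; simp
      have e1 : (m.compr₂ B) u v w = c * c * (m.compr₂ B) u v w := by
        have a := hτ u v w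
        have b := hτ u w v
        rw [a] at b
        rw [← mul_assoc] at b
        exact b
      have e2 : c * (m.compr₂ B) u v w = c * c * (m.compr₂ B) u v w := by
        -- t(w,v,u) two ways
        have pA : (m.compr₂ B) w v u = c * (m.compr₂ B) u v w := by
          rw [hσ w v u, hτ v u w, hσ v u w]
        have pB : (m.compr₂ B) w v u = c * c * (m.compr₂ B) u v w := by
          rw [hτ w u v, hσ w u v, hτ u v w]; ring
        rw [← pA, pB]
      have e3 : c * (m.compr₂ B) u v w = (m.compr₂ B) u v w := by rw [e2, ← e1]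
      have : (c - 1) * (m.compr₂ B) u v w = 0 := by rw [sub_mul, one_mul, e3, sub_self]
      rcases mul_eq_zero.mp this with h | h
      · linarith
      · exact absurd h hne
    refine ⟨m.compr₂ B, ht0, fun u v w => ⟨hσ u v w, ?_⟩, htinv, huniv⟩
    have := hτ u w v
    rw [hc1, one_mul] at this
    exact this
  · rintro ⟨t, ht0, hts, htinv, htu⟩
    obtain ⟨m, hm⟩ := toM t
    have hmeq := equivariant_of t m hm htinv
    refine ⟨m, ?_, ?_, hmeq, ?_⟩
    · intro h
      apply ht0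
      ext u v w
      rw [← hm, h]; simp
    · intro u v
      apply nd
      intro w
      rw [hm, hm, (hts u v w).1]
    · intro m' hm'
      have htdef : ∀ u v w, B (m' u v) w = (m'.compr₂ B) u v w := fun u v w => rfl
      obtain ⟨c, hc⟩ := htu (m'.compr₂ B) (invariant_of _ m' htdef hm')
      refine ⟨c, ?_⟩
      ext u v
      apply nd
      intro w
      rw [htdef, hc]
      simp only [LinearMap.smul_apply, map_smul, smul_eq_mul]
      rw [hm]

end Cfsg.Agent.S5541
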