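import Mathlib
import Cfsg.Statements.S5543

set_option autoImplicit false
open Cfsg

namespace Cfsg.Agent.S5543

theorem exists_notMem_of_card_lt {T : Type*} (F : Finset T) (h : F.card < Nat.card T) : ∃ t, t ∉ F := by
  by_contra hcon
  push Not at hcon
  have hfin : Finite T := Nat.finite_of_card_ne_zero (by omega)
  have := Fintype.ofFinite T
  rw [Nat.card_eq_fintype_card] at h
  have : Finset.univ ⊆ F := fun t _ => hcon t
  have := Finset.card_le_card this
  rw [Finset.card_univ] at this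
  omega

theorem result {V : Type*} [AddCommGroup V] [Module ℝ V] [FiniteDimensional ℝ V] (mul : V →ₗ[ℝ] V →ₗ[ℝ] V) (B : LinearMap.BilinForm ℝ V) (hV : Cfsg.Axial.IsMajoranaAmbient mul B) (X : Subgroup (V ≃ₗ[ℝ] V)) (hX : ∀ x ∈ X, x * x = 1) (ax : (V ≃ₗ[ℝ] V) → V) (hax : ∀ x ∈ X, x ≠ 1 → Cfsg.Axial.IsMajoranaPair mul B x (ax x)) (h1 : ∀ x ∈ X, x ≠ 1 → B (ax x) (ax x) = 1) (h2A : ∀ x ∈ X, ∀ y ∈ X, x ≠ 1 → y ≠ 1 → x ≠ y → mul (ax x) (ax y) = (1 / 8 : ℝ) • (ax x + ax y - ax (x * y))) : Nat.card ↥X ≤ 4 := by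
  classical
  by_contra hcard
  push Not at hcard
  obtain ⟨-, -, -, hassoc, -⟩ := hV
  -- X is commutative, elements are self-inverse
  have hinv : ∀ x ∈ X, x⁻¹ = x := fun x hx => inv_eq_of_mul_eq_one_left (hX x hx)
  have hcomm : ∀ x ∈ X, ∀ y ∈ X, x * y = y * x := by
    intro x hx y hy
    have h := hX (x * y) (X.mul_mem hx hy)
    have : x * y = (x * y)⁻¹ := eq_inv_of_mul_eq_one_left h
    rw [mul_inv_rev, hinv x hx, hinv y hy] at this
    exact this
  -- choose g, h, k
  obtain ⟨g, hg⟩ := exists_notMem_of_card_lt ({1} : Finset X) (by simp; omega)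
  obtain ⟨h, hh⟩ := exists_notMem_of_card_lt ({1, g} : Finset X) (by
    have := Finset.card_le_two (a := (1 : X)) (b := g); omega)
  obtain ⟨k, hk⟩ := exists_notMem_of_card_lt ({1, g, h, g * h} : Finset X) (by
    have := Finset.card_le_four (a := (1 : X)) (b := g) (c := h) (d := g * h); omega)
  simp only [Finset.mem_singleton, Finset.mem_insert, not_or] at hg hh hk
  obtain ⟨hh1, hhg⟩ := hh
  obtain ⟨hk1, hkg, hkh, hkgh⟩ := hk
  -- move to the ambient group
  obtain ⟨g, hgX⟩ := g
  obtain ⟨h, hhX⟩ := h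
  obtain ⟨k, hkX⟩ := k
  have hg1 : g ≠ 1 := fun e => hg (Subtype.ext e)
  have hh1 : h ≠ 1 := fun e => hh1 (Subtype.ext e)
  have hhg : h ≠ g := fun e => hhg (Subtype.ext e)
  have hk1 : k ≠ 1 := fun e => hk1 (Subtype.ext e)
  have hkg : k ≠ g := fun e => hkg (Subtype.ext e)
  have hkh : k ≠ h := fun e => hkh (Subtype.ext e)
  have hkgh : k ≠ g * h := fun e => hkgh (Subtype.ext e)
  have hgg := hX g hgX
  have hhh := hX h hhX
  have hkk := hX k hkX
  -- general: g * (g * y) = y
  have hggy : ∀ y, g * (g * y) = y := fun y => by rw [← mul_assoc, hgg, one_mul]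
  -- eigenvector lemma
  have hE : ∀ y ∈ X, y ≠ 1 → y ≠ g →
      mul (ax g) (ax y - ax (g * y)) = (1 / 4 : ℝ) • (ax y - ax (g * y)) := by
    intro y hy hy1 hyg
    have hgy1 : g * y ≠ 1 := by
      intro e
      apply hyg
      have := eq_inv_of_mul_eq_one_right e
      rw [hinv g hgX] at this; exact this
    have hggy' : g ≠ g * y := by
      intro e
      apply hy1
      have : g * 1 = g * y := by rw [mul_one]; exact e
      exact (mul_left_cancel this).symm
    rw [map_sub, h2A g hgX y hy hg1 hy1 (Ne.symm hyg),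
      h2A g hgX (g * y) (X.mul_mem hgX hy) hg1 hgy1 hggy', hggy]
    module
  -- β = 1/8
  have hβ : ∀ x ∈ X, ∀ y ∈ X, x ≠ 1 → y ≠ 1 → x ≠ y → B (ax x) (ax y) = 1 / 8 := by
    intro x hx y hy hx1 hy1 hxy
    have hxx := hX x hx
    have hidem : mul (ax x) (ax x) = ax x := (hax x hx hx1).2.2.1.1.2.1
    have hxy1 : x * y ≠ 1 := by
      intro e
      apply hxy
      have := eq_inv_of_mul_eq_one_left e
      rw [hinv y hy] at this; exact this
    have hxxy : x ≠ x * y := by
      intro e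
      apply hy1
      have : x * 1 = x * y := by rw [mul_one]; exact e
      exact (mul_left_cancel this).symm
    have e1 : B (ax x) (mul (ax x) (ax y)) = B (ax x) (ax y) := by
      rw [hassoc, hidem]
    have e2 : B (ax x) (mul (ax x) (ax (x * y))) = B (ax x) (ax (x * y)) := by
      rw [hassoc, hidem]
    rw [h2A x hx y hy hx1 hy1 hxy] at e1
    rw [h2A x hx (x * y) (X.mul_mem hx hy) hx1 hxy1 hxxy, ← mul_assoc, hxx, one_mul] at e2
    simp only [map_smul, map_add, map_sub, smul_eq_mul, h1 x hx hx1] at e1 e2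
    linarith
  -- fusion for the axis ax g
  obtain ⟨-, -, ⟨⟨-, hidem, -, hfus⟩, -⟩, -⟩ := hax g hgX hg1
  have hu := hE h hhX hh1 hhg
  have hu' := hE k hkX hk1 hkg
  have hhk1 : h * k ≠ 1 := by
    intro e
    apply hkh
    have := eq_inv_of_mul_eq_one_right e
    rw [hinv h hhX] at this; exact this
  have hhkg : h * k ≠ g := by
    intro e
    apply hkgh
    have : h * (h * k) = h * g := by rw [e]
    rw [← mul_assoc, hhh, one_mul] at this
    rw [this, hcomm h hhX g hgX]
  have hw := hE (h * k) (X.mul_mem hhX hkX) hhk1 hhkg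
  have hmem : (1 / 4 : ℝ) ∈ Cfsg.Axial.majoranaSpectrum := by
    simp [Cfsg.Axial.majoranaSpectrum]
  have hfus' := hfus (1 / 4) hmem (1 / 4) hmem (ax h - ax (g * h))
    (Module.End.mem_eigenspace_iff.mpr hu) (ax k - ax (g * k)) (Module.End.mem_eigenspace_iff.mpr hu')
  have hlaw : Cfsg.Axial.monsterLaw (1 / 4 : ℝ) (1 / 32) (1 / 4) (1 / 4) = {1, 0} := by
    unfold Cfsg.Axial.monsterLaw
    norm_num
  rw [hlaw] at hfus'
  -- compute the product
  have hgk1 : g * k ≠ 1 := by
    intro e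
    apply hkg
    have := eq_inv_of_mul_eq_one_right e
    rw [hinv g hgX] at this; exact this
  have hgh1 : g * h ≠ 1 := by
    intro e
    apply hhg
    have := eq_inv_of_mul_eq_one_right e
    rw [hinv g hgX] at this; exact this
  have hhgk : h ≠ g * k := by
    intro e
    apply hkgh
    have : g * h = g * (g * k) := by rw [e]
    rw [hggy] at this
    exact this.symm
  have hghgk : g * h ≠ g * k := fun e => hkh (mul_left_cancel e).symm
  have p1 := h2A h hhX k hkX hh1 hk1 (Ne.symm hkh)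
  have p2 := h2A h hhX (g * k) (X.mul_mem hgX hkX) hh1 hgk1 hhgk
  have p3 := h2A (g * h) (X.mul_mem hgX hhX) k hkX hgh1 hk1 (Ne.symm hkgh)
  have p4 := h2A (g * h) (X.mul_mem hgX hhX) (g * k) (X.mul_mem hgX hkX) hgh1 hgk1 hghgk
  have q2 : h * (g * k) = g * (h * k) := by
    rw [← mul_assoc, hcomm h hhX g hgX, mul_assoc]
  have q3 : g * h * k = g * (h * k) := mul_assoc _ _ _
  have q4 : g * h * (g * k) = h * k := by
    rw [hcomm g hgX h hhX, mul_assoc, hggy]
  rw [q2] at p2
  rw [q3] at p3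
  rw [q4] at p4
  have hprod : mul (ax h - ax (g * h)) (ax k - ax (g * k)) =
      (-(1 / 4) : ℝ) • (ax (h * k) - ax (g * (h * k))) := by
    simp only [map_sub, LinearMap.sub_apply]
    rw [p1, p2, p3, p4]
    module
  rw [hprod] at hfus'
  -- w lies in eigen 1 ⊔ eigen 0 and in eigen 1/4, hence is zero
  obtain ⟨w, hwdef⟩ : ∃ w, w = ax (h * k) - ax (g * (h * k)) := ⟨_, rfl⟩
  rw [← hwdef] at hfus' hw
  have hsum : Cfsg.Axial.eigenSum mul (ax g) ({1, 0} : Set ℝ) =
      Cfsg.Axial.eigen mul (ax g) 1 ⊔ Cfsg.Axial.eigen mul (ax g) 0 := by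
    unfold Cfsg.Axial.eigenSum
    rw [iSup_insert, iSup_singleton]
  rw [hsum, Submodule.mem_sup] at hfus'
  obtain ⟨p, hp, q, hq, hpq⟩ := hfus'
  have hp' : mul (ax g) p = p := by
    have := Module.End.mem_eigenspace_iff.mp hp
    rw [one_smul] at this; exact this
  have hq' : mul (ax g) q = 0 := by
    have := Module.End.mem_eigenspace_iff.mp hq
    rw [zero_smul] at this; exact this
  have hw0 : w = 0 := by
    have e1 : mul (ax g) ((-(1 / 4) : ℝ) • w) = p := by
      rw [← hpq, map_add, hp', hq', add_zero]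
    rw [map_smul, hw] at e1
    -- p = -(1/16) w, and -(1/4) w = p + q
    have e2 : mul (ax g) p = (1 / 4 : ℝ) • p := by
      rw [← e1, map_smul, map_smul, hw]
      module
    rw [hp'] at e2
    have hp0 : p = 0 := by
      have : (3 / 4 : ℝ) • p = 0 := by
        have : (3 / 4 : ℝ) • p = p - (1 / 4 : ℝ) • p := by module
        rw [this, ← e2, sub_self]
      rcases smul_eq_zero.mp this with h | h
      · norm_num at h
      · exact h
    rw [hp0] at e1
    have : (-(1 / 4) * (1 / 4) : ℝ) • w = 0 := by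
      rw [mul_smul]; exact e1
    rcases smul_eq_zero.mp this with h | h
    · norm_num at h
    · exact h
  -- contradiction
  have hEq : ax (h * k) = ax (g * (h * k)) := by
    rw [hwdef] at hw0
    exact sub_eq_zero.mp hw0
  have hghk1 : g * (h * k) ≠ 1 := by
    intro e
    apply hhkg
    have := eq_inv_of_mul_eq_one_right e
    rw [hinv g hgX] at this; exact this
  have hne : h * k ≠ g * (h * k) := by
    intro e
    apply hg1
    have : 1 * (h * k) = g * (h * k) := by rw [one_mul]; exact e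
    exact (mul_right_cancel this).symm
  have hb := hβ (h * k) (X.mul_mem hhX hkX) (g * (h * k)) (X.mul_mem hgX (X.mul_mem hhX hkX)) hhk1 hghk1 hne
  rw [← hEq, h1 (h * k) (X.mul_mem hhX hkX) hhk1] at hb
  norm_num at hb

end Cfsg.Agent.S5543
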