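import Cfsg.Statements.S5562

set_option autoImplicit false
open Cfsg

namespace Cfsg.Agent.S5562

theorem sq_of_order_two {G : Type*} [Group G] {x : G} (h : orderOf x = 2) : x * x = 1 := by
  have := pow_orderOf_eq_one x
  rw [h, pow_two] at this
  exact this

/-- In a conjugation-closed set `D` of involutions, `e * (e * f) ^ n ∈ D` for `e f ∈ D`. -/
theorem mul_pow_mem {G : Type*} [Group G] {D : Set G} (hsq : ∀ y ∈ D, y * y = 1)
    (hconj : ∀ g : G, ∀ y ∈ D, g * y * g⁻¹ ∈ D) {e f : G} (he : e ∈ D) (hf : f ∈ D) (n : ℕ) :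
    e * (e * f) ^ n ∈ D := by
  obtain ⟨r, hr⟩ : ∃ r, r = e * f := ⟨_, rfl⟩
  rw [← hr]
  have hei : e⁻¹ = e := inv_eq_of_mul_eq_one_left (hsq e he)
  have hfi : f⁻¹ = f := inv_eq_of_mul_eq_one_left (hsq f hf)
  have har : e * r * e⁻¹ = r⁻¹ := by
    rw [hr, mul_inv_rev, hei, hfi]
    calc e * (e * f) * e = (e * e) * (f * e) := by group
      _ = f * e := by rw [hsq e he, one_mul]
  induction n using Nat.twoStepInduction with
  | zero => simpa using he
  | one =>
    have : e * r ^ 1 = f := by
      rw [pow_one, hr, ← mul_assoc, hsq e he, one_mul]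
    rw [this]; exact hf
  | more k ih _ =>
    have h1 : r⁻¹ * (e * r ^ k) * (r⁻¹)⁻¹ ∈ D := hconj _ _ ih
    have h2 : r⁻¹ * e = e * r := by
      have : e * r = r⁻¹ * e := by
        have := congrArg (· * e) har
        simpa [mul_assoc] using this
      exact this.symm
    have : r⁻¹ * (e * r ^ k) * (r⁻¹)⁻¹ = e * r ^ (k + 2) := by
      rw [inv_inv, ← mul_assoc, h2, pow_succ, pow_succ]
      simp only [mul_assoc]
      congr 1
      rw [← mul_assoc, ← pow_succ', pow_succ, mul_assoc]
    rw [← this]; exact h1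

theorem result {G : Type*} [Group G] [Finite G] (d : G) (hd : orderOf d = 2)
    (hodd : ∀ a ∈ conjugatesOf d, ∀ b ∈ conjugatesOf d, Odd (orderOf (a * b)))
    (x : G) (hx : orderOf x = 2) :
    ∀ e ∈ conjugatesOf d,
      ∃! a : G, a ∈ conjugatesOf d ∧ Commute a x ∧ Commute e (a * x) := by
  intro e he
  have hdd : d * d = 1 := sq_of_order_two hd
  have hxx : x * x = 1 := sq_of_order_two hx
  have hxi : x⁻¹ = x := inv_eq_of_mul_eq_one_left hxx
  have hsq : ∀ y ∈ conjugatesOf d, y * y = 1 := by
    intro y hy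
    have hy' : IsConj d y := hy
    rw [isConj_iff] at hy'
    obtain ⟨c, rfl⟩ := hy'
    calc c * d * c⁻¹ * (c * d * c⁻¹) = c * (d * d) * c⁻¹ := by group
      _ = 1 := by rw [hdd]; group
  have hconj : ∀ g : G, ∀ y ∈ conjugatesOf d, g * y * g⁻¹ ∈ conjugatesOf d := by
    intro g y hy
    have hy' : IsConj d y := hy
    rw [isConj_iff] at hy'
    obtain ⟨c, rfl⟩ := hy'
    show IsConj d _
    rw [isConj_iff]
    exact ⟨g * c, by group⟩
  have hinv : ∀ y ∈ conjugatesOf d, y⁻¹ = y := fun y hy => inv_eq_of_mul_eq_one_left (hsq y hy)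
  have hee := hsq e he
  have hei := hinv e he
  obtain ⟨f, hf⟩ : ∃ f, f = x * e * x⁻¹ := ⟨_, rfl⟩
  have hfD : f ∈ conjugatesOf d := hf ▸ hconj x e he
  have hff := hsq f hfD
  have hfi := hinv f hfD
  have hxfx : x * f * x⁻¹ = e := by
    rw [hf, hxi]
    calc x * (x * e * x) * x = (x * x) * e * (x * x) := by group
      _ = e := by rw [hxx, one_mul, mul_one]
  obtain ⟨r, hr⟩ : ∃ r, r = e * f := ⟨_, rfl⟩
  obtain ⟨j, hj⟩ := hodd e he f hfD
  rw [← hr] at hj
  obtain ⟨a, ha⟩ : ∃ a, a = e * r ^ (j + 1) := ⟨_, rfl⟩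
  have haD : a ∈ conjugatesOf d := by
    rw [ha, hr]; exact mul_pow_mem hsq hconj he hfD (j + 1)
  have haa := hsq a haD
  have hai := hinv a haD
  have hr1 : r ^ (2 * j + 1) = 1 := by rw [← hj]; exact pow_orderOf_eq_one r
  -- a e a = f
  have haea : a * e * a = f := by
    rw [ha]
    calc e * r ^ (j + 1) * e * (e * r ^ (j + 1)) = e * r ^ (j + 1) * (e * e) * r ^ (j + 1) := by group
      _ = e * (r ^ (j + 1) * r ^ (j + 1)) := by rw [hee, mul_one, mul_assoc]
      _ = e * (r ^ (2 * j + 1) * r) := by rw [← pow_add, ← pow_succ]; congr 2; omega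
      _ = e * r := by rw [hr1, one_mul]
      _ = f := by rw [hr, ← mul_assoc, hee, one_mul]
  have hafa : a * f * a = e := by
    rw [← haea]
    calc a * (a * e * a) * a = (a * a) * e * (a * a) := by group
      _ = e := by rw [haa, one_mul, mul_one]
  -- a x commutes with e and f
  have hce : Commute (a * x) e := by
    show a * x * e = e * (a * x)
    have h1 : x * e = f * x := by
      rw [hf]; group
    have h2 : a * f = e * a := by
      rw [← hafa]
      calc a * f = a * f * (a * a) := by rw [haa, mul_one]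
        _ = a * f * a * a := by group
    calc a * x * e = a * (x * e) := by group
      _ = a * (f * x) := by rw [h1]
      _ = (a * f) * x := by group
      _ = e * a * x := by rw [h2]
      _ = e * (a * x) := by group
  have hcf : Commute (a * x) f := by
    show a * x * f = f * (a * x)
    have h1 : x * f = e * x := by
      rw [← hxfx]; group
    have h2 : a * e = f * a := by
      rw [← haea]
      calc a * e = a * e * (a * a) := by rw [haa, mul_one]
        _ = a * e * a * a := by group
    calc a * x * f = a * (x * f) := by group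
      _ = a * (e * x) := by rw [h1]
      _ = (a * e) * x := by group
      _ = f * a * x := by rw [h2]
      _ = f * (a * x) := by group
  have hca : Commute (a * x) a := by
    have h1 : Commute (a * x) r := by rw [hr]; exact hce.mul_right hcf
    have h2 : Commute (a * x) (e * r ^ (j + 1)) := hce.mul_right (h1.pow_right _)
    rw [← ha] at h2
    exact h2
  have hax : Commute a x := by
    show a * x = x * a
    have h := hca.eq
    -- a x a = a a x = x
    have : a * x * a = x := by rw [h, ← mul_assoc, haa, one_mul]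
    calc a * x = a * x * (a * a) := by rw [haa, mul_one]
      _ = (a * x * a) * a := by group
      _ = x * a := by rw [this]
  refine ⟨a, ⟨haD, hax, hce.symm⟩, ?_⟩
  rintro a' ⟨ha'D, ha'x, hce'⟩
  have ha'a' := hsq a' ha'D
  have ha'i := hinv a' ha'D
  obtain ⟨t, ht⟩ : ∃ t, t = a' * a := ⟨_, rfl⟩
  -- t commutes with e
  have hte : Commute t e := by
    have : t = (a' * x) * (a * x)⁻¹ := by
      rw [ht, mul_inv_rev, hxi, hai]
      calc a' * a = a' * (x * x) * a := by rw [hxx, mul_one]
        _ = a' * x * (x * a) := by group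
    rw [this]
    exact hce'.symm.mul_left hce.inv_left
  -- a inverts t
  have hat : a * t * a⁻¹ = t⁻¹ := by
    rw [ht, mul_inv_rev, hai, ha'i]
    calc a * (a' * a) * a = a * a' * (a * a) := by group
      _ = a * a' := by rw [haa, mul_one]
  obtain ⟨s, hs⟩ : ∃ s, s = e * a := ⟨_, rfl⟩
  have hst : s * t * s⁻¹ = t⁻¹ := by
    rw [hs, mul_inv_rev]
    calc e * a * t * (a⁻¹ * e⁻¹) = e * (a * t * a⁻¹) * e⁻¹ := by group
      _ = e * t⁻¹ * e⁻¹ := by rw [hat]
      _ = t⁻¹ := by
        have := hte.inv_left.eq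
        rw [← this]; group
  obtain ⟨i, hi⟩ := hodd e he a haD
  rw [← hs] at hi
  have hs1 : s ^ (2 * i + 1) = 1 := by rw [← hi]; exact pow_orderOf_eq_one s
  have hs2t : Commute (s ^ 2) t := by
    show s ^ 2 * t = t * s ^ 2
    have hst' : s * t = t⁻¹ * s := by
      have := congrArg (· * s) hst
      simpa [mul_assoc] using this
    have hst'' : s * t⁻¹ = t * s := by
      have h1 : s * t⁻¹ * s⁻¹ = t := by
        have := congrArg (·⁻¹) hst
        simp only [mul_inv_rev, inv_inv] at this
        rw [← mul_assoc] at this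
        exact this
      have := congrArg (· * s) h1
      simpa [mul_assoc] using this
    calc s ^ 2 * t = s * (s * t) := by rw [pow_two, mul_assoc]
      _ = s * (t⁻¹ * s) := by rw [hst']
      _ = (s * t⁻¹) * s := by group
      _ = t * s * s := by rw [hst'']
      _ = t * s ^ 2 := by rw [pow_two, mul_assoc]
  have hsct : Commute s t := by
    have h1 : Commute ((s ^ 2) ^ i) t := hs2t.pow_left i
    have h2 : s = ((s ^ 2) ^ i)⁻¹ := by
      rw [← pow_mul]
      apply eq_inv_of_mul_eq_one_left
      rw [← pow_succ']; exact hs1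
    rw [h2]; exact h1.inv_left
  have htt : t = t⁻¹ := by
    rw [← hst, hsct.eq]; group
  have ht2 : t ^ 2 = 1 := by
    rw [pow_two]
    nth_rewrite 2 [htt]
    exact mul_inv_cancel t
  have htodd : Odd (orderOf t) := ht ▸ hodd a' ha'D a haD
  have ht1 : t = 1 := by
    have h1 : orderOf t ∣ 2 := orderOf_dvd_of_pow_eq_one ht2
    have hcop : Nat.Coprime (orderOf t) 2 := Nat.Coprime.symm (Nat.coprime_two_left.mpr htodd)
    have : orderOf t ∣ 1 := by
      have := Nat.dvd_gcd (dvd_refl _) h1
      rwa [hcop] at this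
    exact orderOf_eq_one_iff.mp (Nat.dvd_one.mp this)
  rw [ht] at ht1
  have := eq_inv_of_mul_eq_one_left ht1
  rw [hai] at this
  exact this

end Cfsg.Agent.S5562
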