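import Mathlib
import Cfsg.Statements.S5596
import Cfsg.Agent.S5595
import Cfsg.Agent.S5598
import Cfsg.Agent.S5597

set_option autoImplicit false
set_option maxHeartbeats 800000

open Cfsg
open Cfsg.Agent.S5595

namespace Cfsg.Agent.S5596

variable {G : Type*} [Group G]

theorem comm_of_exp2 {U : Subgroup G} (hU2 : ∀ u ∈ U, u * u = 1) {a b : G} (ha : a ∈ U)
    (hb : b ∈ U) : a * b = b * a := by
  have hai : a⁻¹ = a := inv_eq_of_mul_eq_one_right (hU2 a ha)
  have hbi : b⁻¹ = b := inv_eq_of_mul_eq_one_right (hU2 b hb)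
  have habi : (a * b)⁻¹ = a * b := inv_eq_of_mul_eq_one_right (hU2 _ (U.mul_mem ha hb))
  calc a * b = (a * b)⁻¹ := habi.symm
    _ = b⁻¹ * a⁻¹ := mul_inv_rev a b
    _ = b * a := by rw [hai, hbi]

/-- In an elementary abelian 2-group, `⟨S, t⟩ = ⟨S⟩ ∪ ⟨S⟩ t`. -/
theorem mem_closure_insert {U : Subgroup G} (hU2 : ∀ u ∈ U, u * u = 1) (S : Set G)
    (hS : S ⊆ (U : Set G)) {t : G} (ht : t ∈ U) {y : G}
    (hy : y ∈ Subgroup.closure (S ∪ {t})) :
    y ∈ U ∧ (y ∈ Subgroup.closure S ∨ y * t ∈ Subgroup.closure S) := by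
  have hWU : Subgroup.closure S ≤ U := (Subgroup.closure_le U).mpr hS
  induction hy using Subgroup.closure_induction with
  | mem y hy =>
    rcases hy with hy | hy
    · exact ⟨hS hy, Or.inl (Subgroup.subset_closure hy)⟩
    · rw [Set.mem_singleton_iff] at hy
      rw [hy]
      exact ⟨ht, Or.inr (by rw [hU2 t ht]; exact Subgroup.one_mem _)⟩
  | one => exact ⟨U.one_mem, Or.inl (Subgroup.one_mem _)⟩
  | mul a b _ _ iha ihb =>
    obtain ⟨haU, ha⟩ := iha
    obtain ⟨hbU, hb⟩ := ihb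
    refine ⟨U.mul_mem haU hbU, ?_⟩
    rcases ha with ha | ha <;> rcases hb with hb | hb
    · exact Or.inl (Subgroup.mul_mem _ ha hb)
    · right
      rw [mul_assoc]; exact Subgroup.mul_mem _ ha hb
    · right
      have : a * b * t = (a * t) * b := by
        rw [mul_assoc, comm_of_exp2 hU2 hbU ht, ← mul_assoc]
      rw [this]; exact Subgroup.mul_mem _ ha hb
    · left
      have : a * b = (a * t) * (b * t) := by
        rw [mul_assoc a t, ← mul_assoc t b t, comm_of_exp2 hU2 ht hbU, mul_assoc b t t,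
          hU2 t ht, mul_one]
      rw [this]; exact Subgroup.mul_mem _ ha hb
  | inv a _ iha =>
    obtain ⟨haU, ha⟩ := iha
    have hai : a⁻¹ = a := inv_eq_of_mul_eq_one_right (hU2 a haU)
    rw [hai]
    exact ⟨haU, ha⟩

theorem main5596 [Finite G] (z : G) (hz : orderOf z = 2)
    (hE : Cfsg.IsExtraspecial 2 ↥(Qf z))
    (hC : Subgroup.centralizer ((Qf z : Subgroup G) : Set G) ≤ Qf z)
    (U : Subgroup G) (hU2 : ∀ u ∈ U, u * u = 1)
    (hS : ∀ u ∈ U, u ≠ 1 → ∃ g : G, g * z * g⁻¹ = u)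
    (hO : ∀ u ∈ U, ∀ v ∈ U, u ≠ 1 → v ≠ 1 → v ∈ Qf u)
    (QU LU : Subgroup G) (hQU : QU = ⨅ u ∈ ((U : Set G) \ {1}), Qf u)
    (hLU : LU = ⨆ u ∈ ((U : Set G) \ {1}), Qf u)
    (n : ℕ) (hn : 2 ≤ n) (hcard : Nat.card ↥U = 2 ^ n) :
    U ≤ QU ∧ QU ≤ LU ∧ LU ≤ Subgroup.normalizer (U : Set G) ∧
      ∀ φ : ↥U ≃* ↥U, ∃ g ∈ LU, ∀ u : ↥U, g * (u : G) * g⁻¹ = ((φ u : ↥U) : G) := by
  have hQz := ES_of_hyp z hz hE hC
  have hES : ∀ u ∈ U, u ≠ 1 → ES (Qf u) u := by
    intro u hu hu1
    obtain ⟨g, rfl⟩ := hS u hu hu1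
    exact Cfsg.Agent.S5598.ES_conj hQz g
  have hmemS : ∀ u ∈ U, u ≠ 1 → u ∈ ((U : Set G) \ {1}) := fun u hu hu1 =>
    ⟨hu, fun h => hu1 (by rw [Set.mem_singleton_iff] at h; exact h)⟩
  have hUQ : ∀ u ∈ U, u ≠ 1 → U ≤ Qf u := by
    intro u hu hu1 v hv
    by_cases hv1 : v = 1
    · rw [hv1]; exact Subgroup.one_mem _
    · exact hO u hu v hv hu1 hv1
  have hQUle : ∀ u ∈ U, u ≠ 1 → QU ≤ Qf u := by
    intro u hu hu1
    rw [hQU]
    exact iInf₂_le u (hmemS u hu hu1)
  have hleLU : ∀ u ∈ U, u ≠ 1 → Qf u ≤ LU := by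
    intro u hu hu1
    rw [hLU]
    exact le_iSup₂ (f := fun u (_ : u ∈ ((U : Set G) \ {1})) => Qf u) u (hmemS u hu hu1)
  -- a nonidentity element
  obtain ⟨u₀, hu₀U, hu₀1⟩ : ∃ u ∈ U, u ≠ 1 := by
    by_contra hcon
    push Not at hcon
    have : U = ⊥ := by
      rw [Subgroup.eq_bot_iff_forall]
      exact hcon
    rw [this, Subgroup.card_bot] at hcard
    have : 2 ^ n ≥ 2 ^ 2 := Nat.pow_le_pow_right (by norm_num) hn
    omega
  have hconjU : ∀ u ∈ U, u ≠ 1 → ∀ g ∈ Qf u, ∀ v ∈ U, g * v * g⁻¹ ∈ U := by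
    intro u hu hu1 g hg v hv
    have hvQ := hUQ u hu hu1 hv
    have e : g * v * g⁻¹ = (g * v * g⁻¹ * v⁻¹) * v := by group
    rw [e]
    rcases (hES u hu hu1).comm g hg v hvQ with h | h
    · rw [h, one_mul]; exact hv
    · rw [h]; exact U.mul_mem hu hv
  have hnorm : LU ≤ Subgroup.normalizer (U : Set G) := by
    rw [hLU]
    apply iSup₂_le
    rintro u ⟨huU, hu1⟩
    have hu1' : u ≠ 1 := fun h => hu1 (by rw [h]; rfl)
    intro g hg
    rw [Subgroup.mem_set_normalizer_iff]
    intro v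
    constructor
    · intro hv
      exact hconjU u huU hu1' g hg v hv
    · intro hv
      have := hconjU u huU hu1' g⁻¹ ((Qf u).inv_mem hg) _ hv
      rw [inv_inv] at this
      have e : g⁻¹ * (g * v * g⁻¹) * g = v := by group
      rw [e] at this
      exact this
  refine ⟨?_, ?_, hnorm, ?_⟩
  · rw [hQU]
    apply le_iInf₂
    rintro u ⟨huU, hu1⟩
    exact hUQ u huU (fun h => hu1 (by rw [h]; rfl))
  · exact le_trans (hQUle u₀ hu₀U hu₀1) (hleLU u₀ hu₀U hu₀1)
  · -- all automorphisms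
    intro φ
    classical
    have key : ∀ S : Finset G, (∀ s ∈ S, s ∈ U) →
        ∃ g ∈ LU, ∀ s (_ : s ∈ S) (hsU : s ∈ U), g * s * g⁻¹ = ((φ ⟨s, hsU⟩ : ↥U) : G) := by
      intro S
      induction S using Finset.induction_on with
      | empty =>
        intro _
        exact ⟨1, LU.one_mem, fun s hs => absurd hs (Finset.notMem_empty s)⟩
      | insert v S hvS ih =>
        intro hSU
        have hvU : v ∈ U := hSU v (Finset.mem_insert_self v S)
        have hSU' : ∀ s ∈ S, s ∈ U := fun s hs => hSU s (Finset.mem_insert_of_mem hs)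
        obtain ⟨g₀, hg₀, hg₀S⟩ := ih hSU'
        have hWU : Subgroup.closure (S : Set G) ≤ U :=
          (Subgroup.closure_le U).mpr (fun s hs => hSU' s (Finset.mem_coe.mp hs))
        -- agreement on the closure
        have hagree : ∀ w (_ : w ∈ Subgroup.closure (S : Set G)) (hwU : w ∈ U),
            g₀ * w * g₀⁻¹ = ((φ ⟨w, hwU⟩ : ↥U) : G) := by
          intro w hw
          induction hw using Subgroup.closure_induction with
          | mem s hs => exact fun hsU => hg₀S s (Finset.mem_coe.mp hs) hsU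
          | one =>
            intro h1
            have : (⟨1, h1⟩ : ↥U) = 1 := rfl
            rw [this, map_one]; simp
          | mul a b ha hb iha ihb =>
            intro habU
            have haU := hWU ha
            have hbU := hWU hb
            have : (⟨a * b, habU⟩ : ↥U) = ⟨a, haU⟩ * ⟨b, hbU⟩ := rfl
            rw [this, map_mul, Subgroup.coe_mul, ← iha haU, ← ihb hbU]
            group
          | inv a ha iha =>
            intro haiU
            have haU := hWU ha
            have : (⟨a⁻¹, haiU⟩ : ↥U) = (⟨a, haU⟩ : ↥U)⁻¹ := rfl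
            rw [this, map_inv, Subgroup.coe_inv, ← iha haU]
            group
        have hg₀N := hnorm hg₀
        rw [Subgroup.mem_set_normalizer_iff] at hg₀N
        -- w' = g₀⁻¹ φ(v) g₀
        obtain ⟨w', hw'⟩ : ∃ w', w' = g₀⁻¹ * ((φ ⟨v, hvU⟩ : ↥U) : G) * g₀ := ⟨_, rfl⟩
        have hw'U : w' ∈ U := by
          apply (hg₀N w').mpr
          have e : g₀ * w' * g₀⁻¹ = ((φ ⟨v, hvU⟩ : ↥U) : G) := by rw [hw']; group
          rw [e]; exact (φ ⟨v, hvU⟩).2
        have hg₀w' : g₀ * w' * g₀⁻¹ = ((φ ⟨v, hvU⟩ : ↥U) : G) := by rw [hw']; group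
        by_cases hvW : v ∈ Subgroup.closure (S : Set G)
        · refine ⟨g₀, hg₀, ?_⟩
          intro s hs hsU
          rcases Finset.mem_insert.mp hs with rfl | hs
          · exact hagree s hvW hsU
          · exact hg₀S s hs hsU
        by_cases hw'v : w' = v
        · refine ⟨g₀, hg₀, ?_⟩
          intro s hs hsU
          rcases Finset.mem_insert.mp hs with rfl | hs
          · have h := hg₀w'
            rw [hw'v] at h
            exact h
          · exact hg₀S s hs hsU
        -- w' ∉ closure S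
        have hw'W : w' ∉ Subgroup.closure (S : Set G) := by
          intro h
          have h1 := hagree w' h hw'U
          rw [hg₀w'] at h1
          have h2 : (φ ⟨v, hvU⟩ : ↥U) = φ ⟨w', hw'U⟩ := Subtype.ext h1
          have h3 := φ.injective h2
          have h4 : v = w' := congrArg Subtype.val h3
          exact hw'v h4.symm
        -- t = v * w'
        have htU : v * w' ∈ U := U.mul_mem hvU hw'U
        have ht1 : v * w' ≠ 1 := by
          intro h
          apply hw'v
          have hvi : v⁻¹ = v := inv_eq_of_mul_eq_one_right (hU2 v hvU)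
          have : w' = v⁻¹ := eq_inv_of_mul_eq_one_right h
          rw [this, hvi]
        have hEt := hES _ htU ht1
        have hvnot : v ∉ Subgroup.closure ((S : Set G) ∪ {v * w'}) := by
          intro h
          obtain ⟨-, h1 | h1⟩ := mem_closure_insert hU2 (S : Set G)
            (fun s hs => hSU' s (Finset.mem_coe.mp hs)) htU h
          · exact hvW h1
          · apply hw'W
            have : v * (v * w') = w' := by rw [← mul_assoc, hU2 v hvU, one_mul]
            rwa [this] at h1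
        obtain ⟨g₁, hg₁E, hg₁S, hg₁v⟩ := Cfsg.Agent.S5597.exists_sep hEt S
          (fun s hs => hUQ _ htU ht1 (hSU' s hs)) v (hUQ _ htU ht1 hvU) hvnot
        have hg₁v' : g₁ * v * g₁⁻¹ = w' := by
          have e := Cfsg.Agent.S5597.conj_of_ne hEt hg₁E (hUQ _ htU ht1 hvU) hg₁v
          calc g₁ * v * g₁⁻¹ = (g₁ * v) * g₁⁻¹ := by group
            _ = (v * w') * v * g₁ * g₁⁻¹ := by rw [e]
            _ = v * (w' * v) := by group
            _ = v * (v * w') := by rw [comm_of_exp2 hU2 hw'U hvU]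
            _ = w' := by rw [← mul_assoc, hU2 v hvU, one_mul]
        refine ⟨g₀ * g₁, LU.mul_mem hg₀ (hleLU _ htU ht1 hg₁E), ?_⟩
        intro s hs hsU
        rcases Finset.mem_insert.mp hs with rfl | hs
        · calc g₀ * g₁ * s * (g₀ * g₁)⁻¹ = g₀ * (g₁ * s * g₁⁻¹) * g₀⁻¹ := by group
            _ = g₀ * w' * g₀⁻¹ := by rw [hg₁v']
            _ = ((φ ⟨s, hsU⟩ : ↥U) : G) := hg₀w'
        · have hc := hg₁S s hs
          calc g₀ * g₁ * s * (g₀ * g₁)⁻¹ = g₀ * ((g₁ * s) * g₁⁻¹) * g₀⁻¹ := by group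
            _ = g₀ * ((s * g₁) * g₁⁻¹) * g₀⁻¹ := by rw [hc]
            _ = g₀ * s * g₀⁻¹ := by group
            _ = ((φ ⟨s, hsU⟩ : ↥U) : G) := hg₀S s hs hsU
    have hfin : (U : Set G).Finite := Set.toFinite _
    obtain ⟨g, hg, hgS⟩ := key hfin.toFinset (fun s hs => (Set.Finite.mem_toFinset hfin).mp hs)
    refine ⟨g, hg, ?_⟩
    intro u
    exact hgS u.1 ((Set.Finite.mem_toFinset hfin).mpr u.2) u.2

/-- Setting: `z` is an involution of the finite group `G`; for each element `x`, `Q x` is the largest normal 2-subgroup of the centralizer of `x`; `Q z` is extraspecial and contains its own centralizer in `G`. A subgroup `U` is singular when it is elementary abelian, every non-identity element of `U` is conjugate to `z`, and any two non-identity elements `u`, `v` of `U` are orthogonal (`v ∈ Q u`). Write `QU` for the intersection of the `Q u` and `LU` for the join of the `Q u` over the non-identity `u` in `U`. If `U` is singular of order `2 ^ n` with `n ≥ 2`,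 then `U ≤ QU ≤ LU`, `LU` normalizes `U`, and `LU` induces on `U` its full automorphism group (the general linear group of dimension `n` over the field with two elements): every automorphism of `U` is conjugation by some element of `LU`. -/
theorem result {G : Type*} [Group G] [Finite G]
    (Q : G → Subgroup G)
    (hQ : ∀ x : G, Q x = (Cfsg.pCore 2 ↥(Subgroup.centralizer ({x} : Set G))).map (Subgroup.centralizer ({x} : Set G)).subtype)
    (z : G) (hz : orderOf z = 2) (hE : Cfsg.IsExtraspecial 2 ↥(Q z))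
    (hC : Subgroup.centralizer ((Q z : Subgroup G) : Set G) ≤ Q z)
    (U : Subgroup G) (hU2 : ∀ u ∈ U, u * u = 1)
    (hS : ∀ u ∈ U, u ≠ 1 → ∃ g : G, g * z * g⁻¹ = u)
    (hO : ∀ u ∈ U, ∀ v ∈ U, u ≠ 1 → v ≠ 1 → v ∈ Q u)
    (QU LU : Subgroup G) (hQU : QU = ⨅ u ∈ ((U : Set G) \ {1}), Q u) (hLU : LU = ⨆ u ∈ ((U : Set G) \ {1}), Q u)
    (n : ℕ) (hn : 2 ≤ n) (hcard : Nat.card ↥U = 2 ^ n) :
    U ≤ QU ∧ QU ≤ LU ∧ LU ≤ Subgroup.normalizer (U : Set G) ∧
      ∀ φ : ↥U ≃* ↥U, ∃ g ∈ LU, ∀ u : ↥U, g * (u : G) * g⁻¹ = ((φ u : ↥U) : G) := by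
  have hQf : Q = Cfsg.Agent.S5595.Qf := funext (fun x => hQ x)
  subst hQf
  exact main5596 z hz hE hC U hU2 hS hO QU LU hQU hLU n hn hcard

end Cfsg.Agent.S5596
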