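import Cfsg.Statements.S5599
import Cfsg.Agent.Lib.Helper9.M24Tools
-- import your own Cfsg.Agent.* helpers here

set_option autoImplicit false
open scoped Pointwise
open Cfsg

namespace Cfsg.Agent.S5599

open Cfsg.Agent.Lib.Helper9 Cfsg.Agent.Lib.Helper1

/-- In the automorphism group of the length-24 code, the two-point Mathieu group (permutations of the code's group fixing the extra point and the residue 0) has index 2 in the setwise stabiliser of that pair of points, and an element of the code's group interchanging the two points normalises the two-point group and induces on it, by conjugation, an automorphism that is not inner. -/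
theorem result (g : Equiv.Perm Cfsg.GolayPt) (hg : g ∈ Cfsg.M24) (h₁ : g none = some 0) (h₂ : g (some 0) = none) : Cfsg.Spor.M22.relIndex (Cfsg.M24 ⊓ MulAction.stabilizer (Equiv.Perm Cfsg.GolayPt) ({none, some 0} : Finset Cfsg.GolayPt)) = 2 ∧ (∀ x ∈ Cfsg.Spor.M22, g * x * g⁻¹ ∈ Cfsg.Spor.M22) ∧ ¬ ∃ h ∈ Cfsg.Spor.M22, ∀ x ∈ Cfsg.Spor.M22, g * x * g⁻¹ = h * x * h⁻¹ := by
  have hginv1 : g⁻¹ none = some 0 := by rw [Equiv.Perm.inv_eq_iff_eq]; exact h₂.symm
  have hginv2 : g⁻¹ (some 0) = none := by rw [Equiv.Perm.inv_eq_iff_eq]; exact h₁.symm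
  refine ⟨?_, ?_, ?_⟩
  · have hgP : g ∈ M24 ⊓ MulAction.stabilizer (Equiv.Perm GolayPt)
        ({none, some 0} : Finset GolayPt) :=
      ⟨hg, MulAction.mem_stabilizer_iff.mpr (M24Tools.smul_pair (Or.inr ⟨h₁, h₂⟩))⟩
    unfold Subgroup.relIndex
    rw [Subgroup.index_eq_two_iff]
    refine ⟨⟨g, hgP⟩, fun b => ?_⟩
    obtain ⟨b, hbM, hbS⟩ := b
    rw [Subgroup.mem_subgroupOf, Subgroup.mem_subgroupOf]
    show Xor (b * g ∈ Spor.M22) (b ∈ Spor.M22)
    rcases M24Tools.pair_cases (MulAction.mem_stabilizer_iff.mp hbS) with ⟨h1, h2⟩ | ⟨h1, h2⟩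
    · right
      refine ⟨M24Tools.mem_M22.mpr ⟨hbM, h1, h2⟩, fun h => ?_⟩
      have := (M24Tools.mem_M22.mp h).2.1
      rw [Equiv.Perm.mul_apply, h₁, h2] at this
      exact absurd this (by simp)
    · left
      refine ⟨M24Tools.mem_M22.mpr ⟨mul_mem hbM hg, ?_, ?_⟩, fun h => ?_⟩
      · rw [Equiv.Perm.mul_apply, h₁, h2]
      · rw [Equiv.Perm.mul_apply, h₂, h1]
      · have := (M24Tools.mem_M22.mp h).2.1
        rw [h1] at this
        exact absurd this (by simp)
  · intro x hx
    obtain ⟨hxM, hx1, hx2⟩ := M24Tools.mem_M22.mp hx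
    refine M24Tools.mem_M22.mpr ⟨mul_mem (mul_mem hg hxM) (inv_mem hg), ?_, ?_⟩
    · simp only [Equiv.Perm.mul_apply]
      rw [hginv1, hx2, h₂]
    · simp only [Equiv.Perm.mul_apply]
      rw [hginv2, hx1, h₁]
  · rintro ⟨h, hh, hconj⟩
    obtain ⟨hhM, hh1, hh2⟩ := M24Tools.mem_M22.mp hh
    have hhinv1 : h⁻¹ none = none := by rw [Equiv.Perm.inv_eq_iff_eq]; exact hh1.symm
    have hhinv2 : h⁻¹ (some 0) = some 0 := by rw [Equiv.Perm.inv_eq_iff_eq]; exact hh2.symm
    have hcM : h⁻¹ * g ∈ M24 := mul_mem (inv_mem hhM) hg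
    have hc1 : (h⁻¹ * g) none = some 0 := by rw [Equiv.Perm.mul_apply, h₁, hhinv2]
    have hc2 : (h⁻¹ * g) (some 0) = none := by rw [Equiv.Perm.mul_apply, h₂, hhinv1]
    have hcomm : ∀ x ∈ Spor.M22, (h⁻¹ * g) * x = x * (h⁻¹ * g) := by
      intro x hx
      have h3 := hconj x hx
      have h4 : g * x = h * x * h⁻¹ * g := by rw [← h3]; group
      calc h⁻¹ * g * x = h⁻¹ * (g * x) := by group
        _ = h⁻¹ * (h * x * h⁻¹ * g) := by rw [← h4]
        _ = x * (h⁻¹ * g) := by group
    generalize h⁻¹ * g = c at hcM hc1 hc2 hcomm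
    have hfix : ∀ p : GolayPt, p ≠ none → p ≠ some 0 → c p = p := by
      intro p hp1 hp2
      by_contra hne
      have hq1 : c p ≠ none := fun h => hp2 (c.injective (h.trans hc2.symm))
      have hq2 : c p ≠ some 0 := fun h => hp1 (c.injective (h.trans hc1.symm))
      obtain ⟨r, -, hr⟩ := Finset.exists_mem_notMem_of_card_lt_card
        (s := ({none, some 0, p, c p} : Finset GolayPt)) (t := Finset.univ) (by
          have h4 : ({none, some 0, p, c p} : Finset GolayPt).card ≤ 4 :=
            Finset.card_le_four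
          rw [Finset.card_univ, Fintype.card_option, ZMod.card]
          omega)
      simp only [Finset.mem_insert, Finset.mem_singleton, not_or] at hr
      obtain ⟨hr1, hr2, hr3, hr4⟩ := hr
      have hns : (none : GolayPt) ≠ some 0 := by simp
      obtain ⟨x, hxM, hx⟩ := M24Tools.M24_map5
        (M24Tools.emb5 none (some 0) p (c p) r hns (Ne.symm hp1) (Ne.symm hq1) (Ne.symm hr1)
          (Ne.symm hp2) (Ne.symm hq2) (Ne.symm hr2) (Ne.symm hne) (Ne.symm hr3) (Ne.symm hr4))
        (M24Tools.emb5 none (some 0) p r (c p) hns (Ne.symm hp1) (Ne.symm hr1) (Ne.symm hq1)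
          (Ne.symm hp2) (Ne.symm hr2) (Ne.symm hq2) (Ne.symm hr3) (Ne.symm hne) hr4)
      have e0 : x none = none := hx 0
      have e1 : x (some 0) = some 0 := hx 1
      have e2 : x p = p := hx 2
      have e3 : x (c p) = r := hx 3
      have hxM22 : x ∈ Spor.M22 := M24Tools.mem_M22.mpr ⟨hxM, e0, e1⟩
      have h5 := congrArg (fun f : Equiv.Perm GolayPt => f p) (hcomm x hxM22)
      simp only [Equiv.Perm.mul_apply] at h5
      rw [e2, e3] at h5
      exact hr4 h5.symm
    obtain ⟨k, hkM, hk⟩ := M24Tools.M24_map5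
      ⟨fun j => gpt (![23, 0, 1, 2, 3] j), gpt_bij.injective.comp (by decide)⟩
      ⟨fun j => gpt (![6, 7, 8, 9, 10] j), gpt_bij.injective.comp (by decide)⟩
    have k0 : k none = gpt 6 := hk 0
    have k1 : k (some 0) = gpt 7 := hk 1
    have hc'M : k * c * k⁻¹ ∈ M24 := mul_mem (mul_mem hkM hcM) (inv_mem hkM)
    have hc'1 : k * c * k⁻¹ = 1 := by
      apply M24Tools.eq_one_of_fix_base hc'M
      intro i hi
      have hfx : c (k⁻¹ (gpt i)) = k⁻¹ (gpt i) := by
        apply hfix
        · intro h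
          rw [Equiv.Perm.inv_eq_iff_eq, k0] at h
          have := gpt_bij.injective h
          rw [this] at hi
          revert hi
          decide
        · intro h
          rw [Equiv.Perm.inv_eq_iff_eq, k1] at h
          have := gpt_bij.injective h
          rw [this] at hi
          revert hi
          decide
      simp only [Equiv.Perm.mul_apply]
      rw [hfx]
      exact k.apply_symm_apply _
    have hc1' : c = 1 := by
      have : c = k⁻¹ * (k * c * k⁻¹) * k := by group
      rw [this, hc'1]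
      group
    rw [hc1', Equiv.Perm.one_apply] at hc1
    exact absurd hc1 (by simp)

end Cfsg.Agent.S5599
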