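import Cfsg.Statements.S5602
import Cfsg.Agent.Lib.Helper9.FixRepS0
-- import your own Cfsg.Agent.* helpers here

set_option autoImplicit false
open scoped Pointwise
open Cfsg

namespace Cfsg.Agent.S5602

open Cfsg.Agent.Lib.Helper9

/-- An element of order 3 of the group of the length-24 code having exactly 6 fixed points maps to themselves exactly 21 octads, exactly 15 trios, exactly 16 sextets and exactly 20 dodecads. -/
theorem result (g : Equiv.Perm Cfsg.GolayPt) (hg : g ∈ Cfsg.M24) (h₃ : orderOf g = 3) (h₆ : (Finset.univ.filter fun p => g p = p).card = 6) : {o : Finset Cfsg.GolayPt | o ∈ Cfsg.octads ∧ g • o = o}.ncard = 21 ∧ {T : Finset (Finset Cfsg.GolayPt) | T ∈ Cfsg.trios ∧ g • T = T}.ncard = 15 ∧ {S : Finset (Finset Cfsg.GolayPt) | S ∈ Cfsg.sextets ∧ g • S = S}.ncard = 16 ∧ {d : Finset Cfsg.GolayPt | d ∈ Cfsg.dodecads ∧ g • d = d}.ncard = 20 := by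
  obtain ⟨hggg, hne⟩ := FixReps.of_order3 h₃
  rcases M24Ord3.ord3_class hg hggg hne with ⟨k, hk, hks⟩ | ⟨k, hk, hkr⟩
  · exact ⟨by rw [FixCount.conj_octads hk hks]; exact FixReps.s0_octads,
      by rw [FixCount.conj_trios hk hks]; exact FixReps.s0_trios,
      by rw [FixCount.conj_sextets hk hks]; exact FixReps.s0_sextets,
      by rw [FixCount.conj_dodecads hk hks]; exact FixReps.s0_dodecads⟩
  · exfalso
    have h0 : (Finset.univ.filter fun p => g p = p) = ∅ := by
      rw [Finset.filter_eq_empty_iff]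
      intro p _ hp
      apply M24Ord3.r0_fpf (k p)
      rw [← hkr, M11Elusive.conj_apply, hp]
    rw [h0] at h₆
    simp at h₆

end Cfsg.Agent.S5602
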