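import Cfsg.Statements.S5603
import Cfsg.Agent.Lib.Helper9.FixRepR0
-- import your own Cfsg.Agent.* helpers here

set_option autoImplicit false
open scoped Pointwise
open Cfsg

namespace Cfsg.Agent.S5603

open Cfsg.Agent.Lib.Helper9

/-- A fixed-point-free element of order 3 of the group of the length-24 code maps to themselves exactly 7 sextets and exactly 15 trios. -/
theorem result (g : Equiv.Perm Cfsg.GolayPt) (hg : g ∈ Cfsg.M24) (h₃ : orderOf g = 3) (h₀ : ∀ p, g p ≠ p) : {S : Finset (Finset Cfsg.GolayPt) | S ∈ Cfsg.sextets ∧ g • S = S}.ncard = 7 ∧ {T : Finset (Finset Cfsg.GolayPt) | T ∈ Cfsg.trios ∧ g • T = T}.ncard = 15 := by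
  obtain ⟨hggg, hne⟩ := FixReps.of_order3 h₃
  rcases M24Ord3.ord3_class hg hggg hne with ⟨k, hk, hks⟩ | ⟨k, hk, hkr⟩
  · exfalso
    have h6 := M24Ord3.ncard_of_conj_s0 hks
    have h0' : {p | g p = p} = (∅ : Set GolayPt) := by
      ext p
      simp only [Set.mem_setOf_eq, Set.mem_empty_iff_false, iff_false]
      exact h₀ p
    rw [h0', Set.ncard_empty] at h6
    omega
  · exact ⟨by rw [FixCount.conj_sextets hk hkr]; exact FixReps.r0_sextets,
      by rw [FixCount.conj_trios hk hkr]; exact FixReps.r0_trios⟩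

end Cfsg.Agent.S5603
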