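import Cfsg.Statements.S5605
import Cfsg.Agent.Lib.Helper9.FixRepZ0
-- import your own Cfsg.Agent.* helpers here

set_option autoImplicit false
open scoped Pointwise
open Cfsg

namespace Cfsg.Agent.S5605

open Cfsg.Agent.Lib.Helper9

/-- An involution of the group of the length-24 code with exactly 8 fixed points maps to themselves exactly 71 octads, exactly 99 trios and exactly 91 sextets. -/
theorem result (g : Equiv.Perm Cfsg.GolayPt) (hg : g ∈ Cfsg.M24) (h₂ : orderOf g = 2) (h₈ : (Finset.univ.filter fun p => g p = p).card = 8) : {o : Finset Cfsg.GolayPt | o ∈ Cfsg.octads ∧ g • o = o}.ncard = 71 ∧ {T : Finset (Finset Cfsg.GolayPt) | T ∈ Cfsg.trios ∧ g • T = T}.ncard = 99 ∧ {S : Finset (Finset Cfsg.GolayPt) | S ∈ Cfsg.sextets ∧ g • S = S}.ncard = 91 := by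
  obtain ⟨hgg, hne⟩ := M24Invol.of_order2 h₂
  rcases M24Invol.inv_class hg hgg hne with ⟨k, hk, hkz⟩ | ⟨k, hk, hkt⟩
  · exact ⟨by rw [FixCount.conj_octads hk hkz]; exact FixReps.z0_octads,
      by rw [FixCount.conj_trios hk hkz]; exact FixReps.z0_trios,
      by rw [FixCount.conj_sextets hk hkz]; exact FixReps.z0_sextets⟩
  · exfalso
    have h0 : (Finset.univ.filter fun p => g p = p) = ∅ := by
      rw [Finset.filter_eq_empty_iff]
      intro p _
      exact M24Invol.fpf_of_conj_t0 hkt p
    rw [h0] at h₈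
    simp at h₈

end Cfsg.Agent.S5605
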