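import Cfsg.Statements.S5612
import Mathlib
import Cfsg.Agent.Lib.Helper1.M24Trios
import Cfsg.Agent.Lib.Helper1.M24Order
import Cfsg.Agent.S1557
import Cfsg.Agent.Lib.Helper1.M24OctObj
import Cfsg.Agent.Lib.Helper1.M24Orbits
import Cfsg.Agent.Lib.Helper1.M24Sextets
import Cfsg.Agent.S0360
import Cfsg.Agent.S1550

set_option autoImplicit false
open scoped Pointwise
open Cfsg

namespace Cfsg.Agent.S5612


open Cfsg.Agent.Lib.Helper1

def ws : List (List ℕ) := [[1, 3, 3, 1, 3, 0, 0, 4, 2, 1], [4, 4, 0, 0, 3, 1, 1, 2, 0, 0]]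

def tl : List (Fin 24 → Fin 24) := [![14, 23, 13, 9, 4, 15, 10, 12, 2, 16, 21, 17, 22, 5, 20, 0, 6, 11, 7, 18, 3, 8, 1, 19], ![19, 14, 22, 20, 8, 7, 4, 10, 17, 18, 2, 0, 15, 5, 6, 9, 21, 1, 3, 16, 12, 23, 13, 11]]

def wl : List ℕ := [512015, 514162]

theorem tl_ok : ∀ l < tl.length, ∀ i : Fin 24, tl.getD l id i = evalT (ws.getD l []) i := by
  decide +kernel

theorem tl_fix : ∀ l < tl.length, chkT (tl.getD l id) 61565 61565 (wl.getD l 0) = true := by
  decide +kernel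

theorem good : GoodTabs (stabX objT 61565) (tabOf tl) :=
  goodTabs_stabX soundT 61565 ws tl wl tl_ok tl_fix

theorem T0_ok : popc (combo (61565 / 4096)) = 8 ∧
    popc (combo (61565 % 4096)) = 8 ∧ combo (61565 / 4096) &&& combo (61565 % 4096) = 0 := by
  decide +kernel

theorem T0_mem : objT 61565 ∈ trios := objT_mem T0_ok.1 T0_ok.2.1 T0_ok.2.2

theorem orbit_T0 : MulAction.orbit ↥M24 (objT 61565) = trios := by
  ext y
  constructor
  · rintro ⟨g, rfl⟩
    exact smul_mem_trios g.2 T0_mem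
  · intro hy
    obtain ⟨g, hg, h⟩ := M24_trans_trios T0_mem hy
    exact ⟨⟨g, hg⟩, h⟩

theorem card_stab : Nat.card ↥(MulAction.stabilizer ↥M24 (objT 61565)) = 64512 := by
  have h1 := Subgroup.card_mul_index (MulAction.stabilizer ↥M24 (objT 61565))
  rw [MulAction.index_stabilizer, orbit_T0, Cfsg.Agent.S1557.count_trios, card_M24] at h1
  have h2 : Nat.card ↥(MulAction.stabilizer ↥M24 (objT 61565)) * 3795 = 64512 * 3795 := by
    rw [h1]
  exact Nat.eq_of_mul_eq_mul_right (by norm_num) h2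

theorem mem_stab_iff (g : ↥M24) :
    g ∈ MulAction.stabilizer ↥M24 (objT 61565) ↔ (g : Equiv.Perm GolayPt) ∈ stabX objT 61565 := by
  rw [MulAction.mem_stabilizer_iff, mem_stabX]
  exact ⟨fun h => ⟨g.2, h⟩, fun h => h.2⟩

def oc_c0_0 : List (ℕ × ℕ × ℕ × ℕ) :=
  [(125, 0, 0, 0), (2162, 0, 1, 0)]

def oc_c0_L_0 : List ℕ := [15]

theorem oc_c0_reach_0 : ∀ c ∈ oc_c0_L_0, ReachX objO (stabX objT 61565) 15 c := by
  intro c hc
  rw [List.mem_singleton.1 hc]
  exact ReachX.refl _ _ _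

def oc_c0_cert_0 : List (ℕ × ℕ × ℕ × ℕ) :=
  oc_c0_0

def oc_c0_L_1 : List ℕ := (oc_c0_cert_0.map (fun e => e.1)).reverse ++ oc_c0_L_0

theorem oc_c0_fold_0 : oc_c0_cert_0.foldl (stepX chkO (tabOf tl)) (some oc_c0_L_0) = some oc_c0_L_1 := by
  decide +kernel

theorem oc_c0_reach_1 : ∀ c ∈ oc_c0_L_1, ReachX objO (stabX objT 61565) 15 c :=
  certX_sound soundO (stabX_le _ _) good 15 oc_c0_cert_0 oc_c0_L_0 oc_c0_L_1 oc_c0_reach_0 oc_c0_fold_0

def oc_c0_list : List ℕ := oc_c0_L_1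

theorem oc_c0_reach : ∀ c ∈ oc_c0_list, ReachX objO (stabX objT 61565) 15 c := oc_c0_reach_1

def oc_c1_0 : List (ℕ × ℕ × ℕ × ℕ) :=
  [(840, 0, 0, 0), (1500, 1, 1, 0), (1507, 1, 0, 0), (3275, 2, 1, 0), (1430, 2, 0, 0),
    (3979, 3, 1, 0), (1179, 3, 0, 0), (850, 4, 1, 0), (2041, 4, 0, 0), (1246, 5, 1, 0),
    (2327, 5, 0, 0), (2003, 6, 1, 0), (3993, 6, 0, 0), (1254, 7, 1, 0), (2012, 7, 0, 0),
    (3836, 8, 1, 0), (327, 8, 0, 0), (1713, 9, 1, 0), (2027, 9, 0, 0), (1257, 10, 1, 0),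
    (2848, 10, 0, 0), (1753, 11, 1, 0), (623, 11, 0, 0), (2901, 12, 1, 0), (575, 12, 0, 0),
    (567, 13, 1, 0), (1726, 13, 0, 0), (1678, 13, 1, 0), (578, 13, 0, 0), (586, 14, 1, 0),
    (3235, 14, 0, 0), (2357, 15, 1, 0), (375, 15, 1, 0), (3788, 14, 0, 0), (608, 15, 1, 0),
    (1966, 15, 0, 0), (1779, 16, 1, 0), (266, 15, 0, 0), (1942, 16, 1, 0), (826, 16, 1, 0),
    (1209, 16, 0, 0), (280, 16, 1, 0), (2906, 16, 0, 0), (3563, 17, 1, 0), (1441, 17, 0, 0),
    (1438, 18, 1, 0), (1233, 18, 0, 0), (2362, 19, 1, 0), (1750, 19, 0, 0), (2410, 20, 1, 0),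
    (1433, 20, 1, 0), (815, 20, 0, 0), (1707, 21, 1, 0), (2616, 21, 0, 0), (376, 22, 1, 0),
    (3539, 22, 1, 0), (1425, 22, 1, 0), (3713, 22, 0, 0), (839, 23, 1, 0), (560, 23, 0, 0),
    (2629, 24, 1, 0), (328, 24, 1, 0), (821, 24, 0, 0), (3779, 24, 0, 0), (2578, 25, 1, 0),
    (1220, 25, 1, 0), (808, 24, 1, 0), (1953, 23, 1, 0), (1172, 22, 0, 0), (2909, 22, 0, 0),
    (1700, 23, 1, 0), (807, 21, 1, 0), (3502, 17, 1, 0), (2038, 17, 1, 0), (3244, 16, 0, 0),
    (3254, 16, 1, 0), (357, 16, 1, 0), (3556, 16, 1, 0), (1516, 15, 0, 0), (3972, 13, 0, 0),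
    (589, 13, 1, 0), (4068, 10, 1, 0), (2589, 5, 0, 0)]

def oc_c1_L_0 : List ℕ := [261]

theorem oc_c1_reach_0 : ∀ c ∈ oc_c1_L_0, ReachX objO (stabX objT 61565) 261 c := by
  intro c hc
  rw [List.mem_singleton.1 hc]
  exact ReachX.refl _ _ _

def oc_c1_cert_0 : List (ℕ × ℕ × ℕ × ℕ) :=
  oc_c1_0

def oc_c1_L_1 : List ℕ := (oc_c1_cert_0.map (fun e => e.1)).reverse ++ oc_c1_L_0

theorem oc_c1_fold_0 : oc_c1_cert_0.foldl (stepX chkO (tabOf tl)) (some oc_c1_L_0) = some oc_c1_L_1 := by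
  decide +kernel

theorem oc_c1_reach_1 : ∀ c ∈ oc_c1_L_1, ReachX objO (stabX objT 61565) 261 c :=
  certX_sound soundO (stabX_le _ _) good 261 oc_c1_cert_0 oc_c1_L_0 oc_c1_L_1 oc_c1_reach_0 oc_c1_fold_0

def oc_c1_list : List ℕ := oc_c1_L_1

theorem oc_c1_reach : ∀ c ∈ oc_c1_list, ReachX objO (stabX objT 61565) 261 c := oc_c1_reach_1

def oc_c2_0 : List (ℕ × ℕ × ℕ × ℕ) :=
  [(3210, 0, 0, 0), (1501, 1, 1, 0), (3087, 1, 0, 0), (570, 2, 1, 0), (59, 2, 0, 0),
    (3295, 3, 1, 0), (53, 3, 0, 0), (709, 4, 1, 0), (1150, 4, 0, 0), (3213, 5, 1, 0),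
    (1543, 5, 0, 0), (536, 6, 1, 0), (1677, 6, 0, 0), (3469, 7, 1, 0), (983, 7, 0, 0),
    (305, 8, 1, 0), (1461, 8, 0, 0), (2190, 9, 1, 0), (691, 9, 0, 0), (133, 10, 1, 0),
    (497, 10, 0, 0), (3764, 11, 1, 0), (610, 11, 0, 0), (3063, 12, 1, 0), (3113, 12, 0, 0),
    (1696, 13, 1, 0), (3621, 13, 0, 0), (2933, 14, 1, 0), (30, 14, 0, 0), (1789, 15, 1, 0),
    (3453, 15, 0, 0), (1614, 16, 1, 0), (1330, 16, 0, 0), (1977, 17, 1, 0), (1261, 17, 0, 0),
    (3754, 18, 1, 0), (845, 18, 0, 0), (1603, 19, 1, 0), (717, 19, 0, 0), (3648, 20, 1, 0),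
    (3130, 20, 0, 0), (255, 21, 1, 0), (1524, 21, 0, 0), (3939, 22, 1, 0), (3963, 22, 0, 0),
    (118, 23, 1, 0), (472, 23, 0, 0), (604, 24, 1, 0), (627, 24, 0, 0), (1400, 25, 1, 0),
    (3944, 25, 0, 0), (1577, 26, 1, 0), (1551, 26, 0, 0), (293, 27, 1, 0), (565, 27, 0, 0),
    (2522, 28, 1, 0), (951, 28, 0, 0), (2313, 29, 1, 0), (942, 29, 0, 0), (1211, 30, 1, 0),
    (270, 30, 0, 0), (609, 31, 1, 0), (424, 31, 0, 0), (643, 32, 1, 0), (1047, 32, 0, 0),
    (480, 33, 1, 0), (1934, 33, 0, 0), (3918, 34, 1, 0), (2480, 34, 0, 0), (345, 35, 1, 0),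
    (164, 35, 0, 0), (2098, 36, 1, 0), (3285, 36, 0, 0), (1229, 37, 1, 0), (1860, 37, 0, 0),
    (350, 38, 1, 0), (2867, 38, 0, 0), (134, 39, 1, 0), (2102, 39, 0, 0), (1149, 40, 1, 0),
    (2503, 40, 0, 0), (2761, 41, 1, 0), (994, 41, 0, 0), (1012, 42, 1, 0), (459, 42, 0, 0),
    (1027, 43, 1, 0), (3867, 43, 0, 0), (2126, 44, 1, 0), (1490, 44, 0, 0), (3065, 45, 1, 0),
    (3631, 45, 0, 0), (152, 46, 1, 0), (1912, 46, 0, 0), (1742, 47, 1, 0), (2772, 47, 0, 0),
    (3058, 48, 1, 0)]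

def oc_c2_1 : List (ℕ × ℕ × ℕ × ℕ) :=
  [(3537, 48, 1, 0), (523, 48, 0, 0), (1690, 49, 1, 0), (2831, 49, 0, 0), (1814, 50, 1, 0),
    (677, 50, 0, 0), (1349, 51, 1, 0), (188, 51, 0, 0), (1000, 52, 1, 0), (4065, 52, 0, 0),
    (1796, 53, 1, 0), (1094, 53, 0, 0), (3818, 54, 1, 0), (3312, 54, 1, 0), (745, 54, 1, 0),
    (1064, 54, 0, 0), (2248, 55, 1, 0), (449, 55, 0, 0), (4078, 56, 1, 0), (2680, 56, 0, 0),
    (253, 57, 1, 0), (210, 57, 0, 0), (1482, 58, 1, 0), (1087, 58, 0, 0), (2912, 59, 1, 0),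
    (2860, 59, 0, 0), (1535, 59, 0, 0), (742, 60, 1, 0), (957, 60, 0, 0), (740, 61, 1, 0),
    (968, 61, 0, 0), (420, 62, 1, 0), (1575, 62, 0, 0), (2981, 63, 1, 0), (1342, 63, 0, 0),
    (371, 64, 1, 0), (3576, 64, 0, 0), (425, 65, 1, 0), (1538, 65, 0, 0), (391, 66, 1, 0),
    (484, 66, 0, 0), (1484, 67, 1, 0), (3737, 67, 0, 0), (2205, 68, 1, 0), (1471, 68, 1, 0),
    (1111, 68, 0, 0), (101, 69, 1, 0), (1962, 69, 0, 0), (772, 70, 1, 0), (1826, 70, 0, 0),
    (1089, 71, 1, 0), (3098, 71, 0, 0), (2370, 72, 1, 0), (867, 72, 1, 0), (688, 72, 1, 0),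
    (291, 72, 0, 0), (2942, 73, 1, 0), (2119, 73, 0, 0), (714, 74, 1, 0), (1239, 74, 0, 0),
    (1053, 75, 1, 0), (1852, 75, 0, 0), (700, 76, 1, 0), (1919, 76, 1, 0), (135, 76, 0, 0),
    (3895, 77, 1, 0), (1630, 77, 0, 0), (2295, 77, 1, 0), (1914, 77, 0, 0), (3614, 78, 1, 0),
    (907, 78, 0, 0), (70, 78, 0, 0), (3234, 79, 1, 0), (1955, 79, 0, 0), (1617, 80, 1, 0),
    (239, 80, 0, 0), (1074, 81, 1, 0), (1376, 81, 0, 0), (1547, 82, 1, 0), (3291, 82, 0, 0),
    (2775, 83, 1, 0), (2698, 83, 0, 0), (3686, 83, 0, 0), (1096, 84, 1, 0), (212, 84, 0, 0),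
    (2285, 85, 1, 0), (690, 85, 0, 0), (1773, 86, 1, 0), (163, 86, 0, 0), (893, 87, 1, 0),
    (1445, 87, 0, 0), (105, 88, 1, 0), (3654, 88, 0, 0), (3573, 89, 1, 0), (94, 89, 0, 0),
    (3296, 89, 0, 0)]

def oc_c2_2 : List (ℕ × ℕ × ℕ × ℕ) :=
  [(1544, 90, 1, 0), (1371, 90, 0, 0), (1380, 90, 0, 0), (1020, 91, 1, 0), (3184, 91, 0, 0),
    (2711, 92, 1, 0), (1046, 92, 0, 0), (1928, 93, 1, 0), (2425, 93, 0, 0), (654, 92, 0, 0),
    (381, 93, 1, 0), (510, 93, 0, 0), (1734, 94, 1, 0), (394, 94, 1, 0), (1156, 92, 0, 0),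
    (967, 93, 1, 0), (1131, 93, 0, 0), (2037, 94, 1, 0), (3452, 94, 0, 0), (38, 95, 1, 0),
    (3730, 95, 0, 0), (1304, 96, 1, 0), (2529, 96, 0, 0), (3667, 97, 1, 0), (3003, 97, 0, 0),
    (1987, 98, 1, 0), (2373, 98, 0, 0), (1633, 99, 1, 0), (1902, 99, 0, 0), (782, 100, 1, 0),
    (956, 100, 0, 0), (1164, 101, 1, 0), (2156, 101, 0, 0), (1778, 102, 1, 0), (2127, 102, 0, 0),
    (503, 103, 1, 0), (1312, 103, 1, 0), (236, 103, 1, 0), (417, 103, 1, 0), (3958, 103, 0, 0),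
    (1388, 103, 0, 0), (193, 104, 1, 0), (1295, 104, 0, 0), (1601, 105, 1, 0), (3335, 105, 0, 0),
    (1072, 105, 0, 0), (786, 106, 1, 0), (3474, 106, 0, 0), (636, 107, 1, 0), (82, 107, 0, 0),
    (434, 108, 1, 0), (197, 108, 0, 0), (1634, 109, 1, 0), (652, 109, 0, 0), (2477, 110, 1, 0),
    (301, 110, 0, 0), (2073, 110, 1, 0), (1873, 110, 0, 0), (2598, 111, 1, 0), (4039, 111, 0, 0),
    (926, 112, 1, 0), (1591, 112, 0, 0), (834, 113, 1, 0), (3475, 113, 0, 0), (1044, 114, 1, 0),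
    (787, 114, 1, 0), (1338, 114, 0, 0), (2889, 114, 1, 0), (1572, 114, 0, 0), (1309, 115, 1, 0),
    (958, 115, 0, 0), (3164, 116, 1, 0), (1260, 116, 0, 0), (2242, 117, 1, 0), (1250, 117, 1, 0),
    (1434, 117, 0, 0), (2369, 118, 1, 0), (2105, 118, 0, 0), (3093, 118, 0, 0), (304, 119, 1, 0),
    (1216, 119, 0, 0), (1973, 120, 1, 0), (318, 120, 1, 0), (1480, 120, 0, 0), (2291, 121, 1, 0),
    (2430, 121, 1, 0), (274, 121, 0, 0), (3148, 122, 1, 0), (1418, 122, 0, 0), (422, 123, 1, 0),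
    (3645, 123, 1, 0), (1625, 123, 1, 0), (2813, 122, 0, 0), (1818, 123, 1, 0), (617, 123, 0, 0),
    (1650, 124, 1, 0)]

def oc_c2_3 : List (ℕ × ℕ × ℕ × ℕ) :=
  [(240, 124, 1, 0), (898, 124, 0, 0), (3020, 125, 1, 0), (3010, 125, 1, 0), (4049, 125, 0, 0),
    (2666, 125, 1, 0), (1666, 125, 0, 0), (3348, 125, 0, 0), (2851, 126, 1, 0), (532, 126, 0, 0),
    (913, 126, 1, 0), (1799, 126, 1, 0), (242, 126, 0, 0), (3191, 127, 1, 0), (2283, 127, 0, 0),
    (2501, 128, 1, 0), (844, 128, 1, 0), (1170, 128, 0, 0), (915, 128, 0, 0), (1347, 129, 1, 0),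
    (2960, 128, 0, 0), (1019, 129, 1, 0), (393, 129, 1, 0), (1888, 128, 0, 0), (1904, 128, 0, 0),
    (1523, 129, 1, 0), (871, 129, 0, 0), (1043, 130, 1, 0), (1588, 130, 0, 0), (3578, 131, 1, 0),
    (659, 131, 0, 0), (2360, 132, 1, 0), (379, 132, 0, 0), (289, 133, 1, 0), (404, 133, 0, 0),
    (1299, 134, 1, 0), (694, 134, 0, 0), (794, 135, 1, 0), (267, 135, 1, 0), (1920, 135, 0, 0),
    (340, 136, 1, 0), (543, 136, 0, 0), (2954, 137, 1, 0), (1781, 137, 0, 0), (3695, 138, 1, 0),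
    (2040, 138, 0, 0), (3332, 138, 0, 0), (964, 139, 1, 0), (2988, 139, 1, 0), (1637, 138, 0, 0),
    (752, 139, 1, 0), (3437, 139, 0, 0), (3753, 140, 1, 0), (1786, 140, 1, 0), (3225, 140, 0, 0),
    (1417, 139, 0, 0), (3870, 140, 1, 0), (1801, 140, 0, 0), (121, 141, 1, 0), (3496, 141, 0, 0),
    (2251, 142, 1, 0), (479, 142, 0, 0), (2323, 143, 1, 0), (2819, 143, 0, 0), (476, 144, 1, 0),
    (1642, 144, 0, 0), (2690, 145, 1, 0), (3426, 145, 0, 0), (1755, 146, 1, 0), (1029, 146, 0, 0),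
    (471, 147, 1, 0), (3933, 147, 0, 0), (1178, 147, 1, 0), (602, 147, 0, 0), (2448, 148, 1, 0),
    (241, 148, 1, 0), (1357, 148, 0, 0), (3860, 149, 1, 0), (1697, 149, 0, 0), (762, 150, 1, 0),
    (868, 148, 0, 0), (2731, 149, 1, 0), (758, 149, 0, 0), (671, 150, 1, 0), (1003, 150, 0, 0),
    (863, 150, 0, 0), (1652, 151, 1, 0), (1504, 151, 1, 0), (3036, 151, 0, 0), (1204, 152, 1, 0),
    (540, 152, 1, 0), (1574, 152, 0, 0), (3533, 153, 1, 0), (3495, 153, 0, 0), (185, 154, 1, 0),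
    (3393, 153, 0, 0)]

def oc_c2_4 : List (ℕ × ℕ × ℕ × ℕ) :=
  [(478, 154, 1, 0), (2683, 152, 0, 0), (3653, 153, 1, 0), (1387, 153, 0, 0), (2958, 154, 1, 0),
    (1130, 153, 0, 0), (413, 154, 1, 0), (3161, 154, 0, 0), (1663, 155, 1, 0), (1564, 155, 1, 0),
    (3868, 155, 0, 0), (769, 156, 1, 0), (1565, 156, 0, 0), (630, 156, 0, 0), (1767, 157, 1, 0),
    (1916, 157, 0, 0), (825, 158, 1, 0), (347, 158, 0, 0), (2204, 159, 1, 0), (1359, 159, 1, 0),
    (2276, 159, 1, 0), (960, 159, 0, 0), (665, 160, 1, 0), (3928, 160, 0, 0), (1907, 161, 1, 0),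
    (537, 161, 1, 0), (1616, 161, 0, 0), (137, 160, 0, 0), (2891, 160, 0, 0), (2824, 160, 0, 0),
    (1875, 160, 1, 0), (1849, 160, 0, 0), (944, 160, 0, 0), (582, 161, 1, 0), (2364, 161, 0, 0),
    (2737, 161, 0, 0), (85, 162, 1, 0), (2573, 162, 0, 0), (1951, 162, 1, 0), (3992, 162, 0, 0),
    (3078, 161, 0, 0), (1903, 162, 1, 0), (680, 162, 1, 0), (1289, 162, 0, 0), (2918, 163, 1, 0),
    (217, 162, 0, 0), (1505, 162, 1, 0), (1709, 162, 1, 0), (1169, 161, 0, 0), (2239, 162, 1, 0),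
    (159, 162, 0, 0), (875, 161, 1, 0), (1988, 161, 1, 0), (1752, 161, 1, 0), (3633, 161, 1, 0),
    (788, 161, 0, 0), (2676, 162, 1, 0), (3776, 162, 1, 0), (47, 160, 0, 0), (463, 161, 1, 0),
    (2504, 161, 0, 0), (699, 162, 1, 0), (3991, 162, 0, 0), (2812, 163, 1, 0), (326, 163, 0, 0),
    (1354, 163, 1, 0), (1711, 163, 0, 0), (438, 162, 0, 0), (2047, 162, 0, 0), (2553, 163, 1, 0),
    (1140, 163, 0, 0), (1097, 163, 1, 0), (1382, 163, 0, 0), (1115, 163, 0, 0), (3672, 163, 0, 0),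
    (211, 163, 0, 0), (930, 164, 1, 0), (961, 164, 0, 0), (1265, 165, 1, 0), (3108, 164, 1, 0),
    (909, 164, 0, 0), (3823, 164, 0, 0), (1381, 165, 1, 0), (669, 165, 0, 0), (1360, 165, 1, 0),
    (1286, 165, 1, 0), (522, 165, 1, 0), (4082, 165, 0, 0), (1068, 165, 0, 0), (3391, 166, 1, 0),
    (3336, 166, 0, 0), (1294, 167, 1, 0), (250, 166, 0, 0), (3914, 167, 1, 0), (1884, 167, 0, 0),
    (2692, 168, 1, 0)]

def oc_c2_5 : List (ℕ × ℕ × ℕ × ℕ) :=
  [(1830, 168, 0, 0), (344, 168, 0, 0), (741, 168, 0, 0), (656, 168, 0, 0), (1218, 168, 0, 0),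
    (3941, 169, 1, 0), (2534, 169, 0, 0), (1308, 170, 1, 0), (715, 170, 0, 0), (1475, 170, 0, 0),
    (1398, 171, 1, 0), (2483, 170, 0, 0), (43, 170, 1, 0), (3590, 170, 0, 0), (1325, 170, 0, 0),
    (1836, 171, 1, 0), (106, 171, 0, 0), (981, 172, 1, 0), (1688, 171, 0, 0), (238, 171, 0, 0),
    (1194, 171, 1, 0), (2606, 171, 1, 0), (3338, 171, 1, 0), (386, 170, 1, 0), (1981, 170, 1, 0),
    (3361, 168, 0, 0), (1134, 168, 0, 0), (2495, 168, 1, 0), (2006, 168, 0, 0), (1297, 169, 1, 0),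
    (1569, 169, 0, 0), (2023, 168, 1, 0), (60, 168, 1, 0), (1629, 167, 0, 0), (151, 168, 1, 0),
    (1797, 168, 0, 0), (1715, 169, 1, 0), (1463, 169, 0, 0), (4017, 169, 0, 0), (1834, 169, 0, 0),
    (1428, 169, 1, 0), (1231, 169, 0, 0), (3550, 169, 0, 0), (1331, 170, 1, 0), (3600, 169, 0, 0),
    (1963, 169, 0, 0), (2799, 168, 0, 0), (1837, 169, 1, 0), (2729, 169, 0, 0), (2959, 170, 1, 0),
    (370, 170, 0, 0), (625, 170, 0, 0), (3371, 170, 0, 0), (268, 170, 0, 0), (1051, 170, 0, 0),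
    (2264, 170, 0, 0), (3683, 170, 1, 0), (1208, 169, 0, 0), (2148, 169, 0, 0), (1487, 170, 1, 0),
    (1668, 167, 0, 0), (2007, 167, 1, 0), (172, 167, 1, 0), (285, 167, 1, 0), (175, 166, 0, 0),
    (2145, 166, 1, 0), (917, 166, 1, 0), (35, 165, 1, 0), (3689, 165, 1, 0), (2641, 165, 0, 0),
    (647, 165, 0, 0), (1925, 163, 0, 0), (971, 163, 1, 0), (2518, 163, 1, 0), (1576, 163, 0, 0),
    (67, 163, 0, 0), (3901, 164, 1, 0), (202, 164, 0, 0), (729, 164, 1, 0), (918, 163, 0, 0),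
    (1756, 164, 1, 0), (397, 164, 1, 0), (1450, 163, 0, 0), (2075, 164, 1, 0), (3025, 164, 0, 0),
    (1675, 164, 1, 0), (3773, 164, 0, 0), (1921, 163, 0, 0), (3410, 162, 1, 0), (1817, 162, 0, 0),
    (2206, 163, 1, 0), (2436, 161, 0, 0), (1815, 159, 0, 0), (952, 159, 0, 0), (3123, 158, 1, 0),
    (534, 156, 0, 0)]

def oc_c2_6 : List (ℕ × ℕ × ℕ × ℕ) :=
  [(3807, 157, 1, 0), (1883, 157, 1, 0), (4023, 157, 1, 0), (1191, 157, 1, 0), (315, 156, 1, 0),
    (3414, 153, 1, 0), (3284, 153, 1, 0), (3734, 153, 0, 0), (585, 153, 1, 0), (2347, 153, 0, 0),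
    (1936, 152, 0, 0), (2693, 152, 1, 0), (1458, 152, 1, 0), (833, 150, 0, 0), (1871, 150, 0, 0),
    (1882, 149, 0, 0), (1120, 147, 1, 0), (878, 146, 0, 0), (1259, 146, 0, 0), (547, 146, 1, 0),
    (1318, 146, 0, 0), (4024, 144, 0, 0), (119, 144, 0, 0), (2209, 142, 0, 0), (941, 143, 1, 0),
    (719, 140, 1, 0), (848, 140, 0, 0), (3155, 140, 0, 0), (76, 140, 0, 0), (1922, 140, 0, 0),
    (41, 140, 0, 0), (3304, 141, 1, 0), (597, 141, 0, 0), (482, 142, 1, 0), (1631, 142, 1, 0),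
    (500, 141, 0, 0), (170, 138, 0, 0), (876, 136, 0, 0), (2454, 137, 1, 0), (2802, 137, 0, 0),
    (3872, 137, 1, 0), (302, 136, 0, 0), (889, 133, 1, 0), (3457, 133, 0, 0), (1059, 134, 1, 0),
    (3199, 134, 1, 0), (2983, 133, 1, 0), (3318, 131, 0, 0), (4047, 130, 0, 0), (548, 127, 0, 0),
    (1877, 128, 1, 0), (1080, 123, 1, 0), (3770, 123, 0, 0), (506, 121, 1, 0), (4002, 121, 1, 0),
    (1093, 119, 0, 0), (1085, 118, 1, 0), (1654, 118, 1, 0), (1272, 117, 1, 0), (2996, 117, 0, 0),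
    (2542, 116, 1, 0), (1736, 116, 1, 0), (1680, 115, 1, 0), (2000, 113, 1, 0), (219, 110, 0, 0),
    (827, 105, 0, 0), (2332, 102, 0, 0), (2646, 103, 1, 0), (1234, 103, 1, 0), (1333, 103, 0, 0),
    (2229, 102, 0, 0), (1207, 97, 1, 0), (3109, 97, 1, 0), (1006, 96, 1, 0), (1199, 94, 0, 0),
    (2087, 94, 0, 0), (3374, 93, 1, 0), (2563, 92, 1, 0), (86, 92, 0, 0), (750, 92, 0, 0),
    (465, 85, 1, 0), (120, 85, 0, 0), (1109, 84, 0, 0), (2672, 80, 1, 0), (2024, 79, 0, 0),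
    (817, 78, 1, 0), (2651, 78, 1, 0), (1086, 70, 1, 0), (2750, 70, 0, 0), (725, 66, 0, 0),
    (140, 65, 0, 0), (1511, 53, 0, 0), (2399, 53, 0, 0), (439, 35, 1, 0), (1513, 27, 1, 0)]

def oc_c2_L_0 : List ℕ := [19]

theorem oc_c2_reach_0 : ∀ c ∈ oc_c2_L_0, ReachX objO (stabX objT 61565) 19 c := by
  intro c hc
  rw [List.mem_singleton.1 hc]
  exact ReachX.refl _ _ _

def oc_c2_cert_0 : List (ℕ × ℕ × ℕ × ℕ) :=
  oc_c2_0 ++ oc_c2_1 ++ oc_c2_2

def oc_c2_L_1 : List ℕ := (oc_c2_cert_0.map (fun e => e.1)).reverse ++ oc_c2_L_0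

theorem oc_c2_fold_0 : oc_c2_cert_0.foldl (stepX chkO (tabOf tl)) (some oc_c2_L_0) = some oc_c2_L_1 := by
  decide +kernel

theorem oc_c2_reach_1 : ∀ c ∈ oc_c2_L_1, ReachX objO (stabX objT 61565) 19 c :=
  certX_sound soundO (stabX_le _ _) good 19 oc_c2_cert_0 oc_c2_L_0 oc_c2_L_1 oc_c2_reach_0 oc_c2_fold_0

def oc_c2_cert_1 : List (ℕ × ℕ × ℕ × ℕ) :=
  oc_c2_3 ++ oc_c2_4 ++ oc_c2_5

def oc_c2_L_2 : List ℕ := (oc_c2_cert_1.map (fun e => e.1)).reverse ++ oc_c2_L_1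

theorem oc_c2_fold_1 : oc_c2_cert_1.foldl (stepX chkO (tabOf tl)) (some oc_c2_L_1) = some oc_c2_L_2 := by
  decide +kernel

theorem oc_c2_reach_2 : ∀ c ∈ oc_c2_L_2, ReachX objO (stabX objT 61565) 19 c :=
  certX_sound soundO (stabX_le _ _) good 19 oc_c2_cert_1 oc_c2_L_1 oc_c2_L_2 oc_c2_reach_1 oc_c2_fold_1

def oc_c2_cert_2 : List (ℕ × ℕ × ℕ × ℕ) :=
  oc_c2_6

def oc_c2_L_3 : List ℕ := (oc_c2_cert_2.map (fun e => e.1)).reverse ++ oc_c2_L_2

theorem oc_c2_fold_2 : oc_c2_cert_2.foldl (stepX chkO (tabOf tl)) (some oc_c2_L_2) = some oc_c2_L_3 := by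
  decide +kernel

theorem oc_c2_reach_3 : ∀ c ∈ oc_c2_L_3, ReachX objO (stabX objT 61565) 19 c :=
  certX_sound soundO (stabX_le _ _) good 19 oc_c2_cert_2 oc_c2_L_2 oc_c2_L_3 oc_c2_reach_2 oc_c2_fold_2

def oc_c2_list : List ℕ := oc_c2_L_3

theorem oc_c2_reach : ∀ c ∈ oc_c2_list, ReachX objO (stabX objT 61565) 19 c := oc_c2_reach_3

def oc_lists : ℕ → List ℕ
  | 0 => oc_c0_list
  | 1 => oc_c1_list
  | 2 => oc_c2_list
  | _ => []

def oc_roots : ℕ → ℕ
  | 0 => 15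
  | 1 => 261
  | 2 => 19
  | _ => 0

def oc_nF : ℕ → ℕ
  | 0 => 3
  | 1 => 84
  | 2 => 672
  | _ => 0

theorem oc_hreach : ∀ k < 3, ∀ c ∈ oc_lists k, ReachX objO (stabX objT 61565) (oc_roots k) c := by
  intro k hk c hc
  interval_cases k
  · exact oc_c0_reach c hc
  · exact oc_c1_reach c hc
  · exact oc_c2_reach c hc

def oc_allL : List ℕ := (List.range 3).flatMap oc_lists

theorem oc_nodupB : nodupB oc_allL = true := by decide +kernel

theorem oc_nodup : oc_allL.Nodup := nodup_of_nodupB oc_nodupB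

theorem oc_len : oc_allL.length = 759 := by decide +kernel

theorem oc_lens : ∀ k < 3, (oc_lists k).length = oc_nF k := by decide +kernel

theorem oc_root_mem : ∀ k < 3, oc_roots k ∈ oc_lists k := by decide +kernel

def sx_c0_0 : List (ℕ × ℕ × ℕ × ℕ) :=
  [(2228257, 0, 0, 261), (131649, 1, 1, 839), (2097221, 1, 1, 1179), (3146241, 1, 0, 1425), (1048673, 1, 0, 2003),
    (1179653, 0, 0, 560)]

def sx_c0_L_0 : List ℕ := [549]

theorem sx_c0_reach_0 : ∀ c ∈ sx_c0_L_0, ReachX objS (stabX objT 61565) 549 c := by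
  intro c hc
  rw [List.mem_singleton.1 hc]
  exact ReachX.refl _ _ _

def sx_c0_cert_0 : List (ℕ × ℕ × ℕ × ℕ) :=
  sx_c0_0

def sx_c0_L_1 : List ℕ := (sx_c0_cert_0.map (fun e => e.1)).reverse ++ sx_c0_L_0

theorem sx_c0_fold_0 : sx_c0_cert_0.foldl (stepX chkS (tabOf tl)) (some sx_c0_L_0) = some sx_c0_L_1 := by
  decide +kernel

theorem sx_c0_reach_1 : ∀ c ∈ sx_c0_L_1, ReachX objS (stabX objT 61565) 549 c :=
  certX_sound soundS (stabX_le _ _) good 549 sx_c0_cert_0 sx_c0_L_0 sx_c0_L_1 sx_c0_reach_0 sx_c0_fold_0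

def sx_c0_list : List ℕ := sx_c0_L_1

theorem sx_c0_reach : ∀ c ∈ sx_c0_list, ReachX objS (stabX objT 61565) 549 c := sx_c0_reach_1

def sx_c1_0 : List (ℕ × ℕ × ℕ × ℕ) :=
  [(8393217, 0, 0, 2959), (524295, 1, 1, 878), (1179713, 1, 0, 212), (66057, 2, 1, 1425), (131141, 2, 0, 2750),
    (134145, 3, 1, 0), (8388675, 3, 0, 3161), (2097283, 4, 1, 1663), (2164737, 4, 0, 1425), (1048645, 5, 1, 472),
    (393345, 5, 0, 543), (4456513, 6, 1, 1633), (9729, 6, 0, 839), (1049153, 7, 1, 4023), (131617, 7, 0, 67),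
    (66593, 8, 1, 376), (3276801, 8, 0, 202), (2114561, 9, 1, 376), (10305, 9, 0, 839), (131589, 10, 1, 3184),
    (6291473, 10, 0, 1360), (49157, 10, 1, 1700), (2228289, 10, 0, 868), (33057, 11, 1, 1700), (2097249, 11, 1, 1286),
    (4257, 11, 0, 918), (4849665, 12, 1, 1524), (8388741, 12, 0, 3773), (5242883, 13, 1, 1239), (1048721, 12, 0, 1925),
    (12582945, 13, 1, 3872), (33857, 13, 0, 0), (1048613, 14, 1, 1354), (1073153, 14, 0, 560), (3145733, 15, 1, 3093),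
    (4177, 15, 0, 960), (11010049, 16, 1, 2988), (2097697, 16, 0, 386), (2105601, 17, 1, 1179), (3145793, 17, 1, 570),
    (4198405, 17, 0, 630), (1576961, 18, 1, 1487), (131337, 18, 0, 261), (1049093, 19, 1, 714), (4194945, 19, 1, 1849),
    (1049121, 19, 0, 1675), (16457, 20, 1, 1966), (1179681, 20, 0, 3867), (2309, 21, 1, 0), (2097729, 21, 0, 1882),
    (212993, 22, 1, 376), (1049857, 22, 1, 589), (131169, 22, 0, 585), (65857, 22, 1, 1179), (524481, 21, 0, 503),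
    (581, 21, 1, 1501), (135171, 21, 0, 1169), (8233, 21, 1, 1966), (524337, 20, 1, 417), (786945, 19, 0, 175),
    (262165, 20, 1, 2007), (2228737, 19, 0, 2332), (1050633, 20, 1, 0), (3145761, 20, 1, 1250), (9699329, 20, 0, 3730),
    (262179, 21, 1, 1304), (17153, 21, 1, 1700), (531, 21, 0, 1046), (1146881, 21, 0, 0), (1180161, 22, 1, 497),
    (2363393, 22, 0, 140), (8519697, 21, 0, 2824), (35329, 21, 0, 0), (1037, 21, 0, 1254), (2097189, 19, 0, 3495),
    (18465, 20, 1, 0), (131109, 18, 1, 898), (609, 17, 0, 2542), (172033, 17, 1, 839), (73733, 16, 0, 560),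
    (2097669, 14, 0, 597), (2129929, 14, 0, 0), (2228229, 15, 1, 951)]

def sx_c1_L_0 : List ℕ := [101]

theorem sx_c1_reach_0 : ∀ c ∈ sx_c1_L_0, ReachX objS (stabX objT 61565) 101 c := by
  intro c hc
  rw [List.mem_singleton.1 hc]
  exact ReachX.refl _ _ _

def sx_c1_cert_0 : List (ℕ × ℕ × ℕ × ℕ) :=
  sx_c1_0

def sx_c1_L_1 : List ℕ := (sx_c1_cert_0.map (fun e => e.1)).reverse ++ sx_c1_L_0

theorem sx_c1_fold_0 : sx_c1_cert_0.foldl (stepX chkS (tabOf tl)) (some sx_c1_L_0) = some sx_c1_L_1 := by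
  decide +kernel

theorem sx_c1_reach_1 : ∀ c ∈ sx_c1_L_1, ReachX objS (stabX objT 61565) 101 c :=
  certX_sound soundS (stabX_le _ _) good 101 sx_c1_cert_0 sx_c1_L_0 sx_c1_L_1 sx_c1_reach_0 sx_c1_fold_0

def sx_c1_list : List ℕ := sx_c1_L_1

theorem sx_c1_reach : ∀ c ∈ sx_c1_list, ReachX objS (stabX objT 61565) 101 c := sx_c1_reach_1

def sx_c2_0 : List (ℕ × ℕ × ℕ × ℕ) :=
  [(2179073, 0, 0, 1360), (41473, 1, 1, 839), (34305, 1, 0, 0), (6553601, 2, 1, 404), (5242897, 2, 0, 1637),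
    (66565, 3, 1, 630), (8913409, 3, 0, 2542), (524803, 4, 1, 1569), (1056777, 4, 0, 1458), (9043969, 5, 1, 3184),
    (8912901, 5, 0, 3210), (4194819, 6, 1, 1501), (2359299, 6, 0, 1882), (65609, 7, 1, 394), (6295553, 7, 0, 2761),
    (2131969, 8, 1, 0), (2101251, 8, 0, 2761), (165889, 9, 1, 0), (204801, 9, 0, 560), (1052801, 10, 1, 548),
    (81985, 10, 0, 3161), (2099457, 11, 1, 0), (177, 11, 0, 3087), (2100225, 12, 1, 0), (10485763, 12, 0, 2761),
    (2097171, 13, 1, 951), (83, 13, 0, 677), (2099209, 13, 0, 1425), (8388769, 14, 1, 2251), (8650817, 14, 0, 2775),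
    (163, 15, 1, 1354), (524421, 15, 0, 1044), (2097297, 16, 1, 2534), (777, 16, 0, 1860), (4194385, 17, 1, 1019),
    (9441281, 17, 0, 3867), (262151, 18, 1, 2126), (16673, 18, 0, 1700), (149, 19, 1, 60), (4194311, 19, 0, 1272),
    (24641, 20, 1, 1966), (98817, 20, 0, 0), (9221, 21, 1, 878), (5505025, 21, 0, 202), (2101377, 22, 1, 2534),
    (1285, 22, 0, 1962), (1064969, 23, 1, 1966), (10753, 23, 0, 839), (2101265, 24, 1, 2534), (524369, 24, 0, 677),
    (17441, 25, 1, 376), (524355, 25, 0, 677), (2113793, 25, 0, 1360), (4229, 26, 1, 1544), (1057793, 26, 1, 3823),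
    (8389123, 26, 1, 3686), (269, 26, 0, 787), (4456453, 26, 1, 898), (3105, 26, 1, 0), (8453, 26, 0, 1962),
    (266753, 27, 1, 691), (68097, 27, 0, 1425), (12583425, 28, 1, 3667), (1310723, 28, 0, 267), (135297, 29, 1, 1544),
    (266273, 28, 0, 1149), (41025, 29, 1, 839), (2138113, 29, 0, 0), (262337, 30, 1, 1331), (8388629, 30, 1, 3734),
    (786465, 30, 0, 1149), (1048841, 31, 1, 589), (98309, 31, 0, 0), (4145, 32, 1, 185), (8912961, 32, 0, 2542),
    (643, 33, 1, 1569), (12713985, 33, 0, 2750), (8519683, 34, 1, 2087), (4194371, 34, 1, 1501), (8392769, 34, 0, 2775),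
    (135, 35, 1, 1354), (262659, 35, 0, 1882), (1097729, 36, 1, 1925), (33825, 36, 1, 1304), (262673, 36, 1, 3667),
    (1067009, 36, 0, 1925), (4325393, 37, 1, 1019), (132105, 37, 0, 2824), (18497, 38, 1, 0), (262225, 38, 1, 1331),
    (1572993, 38, 0, 2425), (149505, 39, 1, 0), (2130945, 39, 0, 0), (1793, 40, 1, 1131), (198657, 40, 0, 543),
    (4719105, 41, 1, 285)]

def sx_c2_1 : List (ℕ × ℕ × ℕ × ℕ) :=
  [(2098185, 41, 0, 1254), (1314817, 42, 1, 548), (10489857, 42, 0, 2761), (659457, 42, 1, 85), (4456481, 42, 0, 1149),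
    (2359425, 43, 1, 1475), (3585, 43, 0, 839), (32781, 44, 1, 3773), (2105353, 44, 1, 1325), (2359313, 44, 0, 699),
    (2162697, 45, 1, 1425), (266245, 45, 0, 1837), (2098433, 46, 1, 2988), (14680065, 46, 0, 2761), (131091, 47, 1, 951),
    (133129, 47, 0, 1524), (196865, 47, 0, 543), (16705, 47, 0, 503), (4117, 48, 1, 714), (10747905, 48, 0, 3495),
    (51, 49, 1, 185), (655489, 49, 0, 1044), (33797, 50, 1, 630), (17921, 50, 0, 175), (33029, 51, 1, 1700),
    (1052675, 51, 1, 570), (393219, 51, 0, 4017), (524323, 51, 0, 38), (81925, 52, 1, 2007), (18437, 52, 0, 1700),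
    (393233, 53, 1, 85), (4329473, 53, 0, 1987), (16425, 54, 1, 1966), (2115585, 54, 1, 0), (73793, 54, 0, 1564),
    (524929, 54, 0, 1569), (1057025, 54, 0, 1239), (4198913, 55, 1, 1450), (3077, 55, 0, 630), (4289, 56, 1, 1544),
    (2106369, 56, 0, 1538), (12582917, 57, 1, 3093), (528417, 57, 0, 1149), (9281, 57, 1, 839), (49185, 57, 0, 0),
    (4103, 57, 0, 370), (1313, 58, 1, 1003), (140289, 58, 1, 839), (180225, 58, 0, 0), (1572881, 59, 1, 2646),
    (329, 59, 0, 960), (2170881, 60, 1, 1179), (786437, 60, 0, 472), (229377, 61, 1, 543), (98369, 61, 1, 3161),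
    (10273, 61, 0, 417), (2621457, 62, 1, 926), (2089, 62, 1, 0), (1114369, 61, 0, 2003), (10485777, 62, 1, 2534),
    (17413, 62, 0, 1254), (1065985, 63, 1, 1925), (6291459, 62, 0, 2761), (34821, 63, 1, 0), (65825, 63, 0, 2003),
    (164097, 64, 1, 543), (8513, 64, 0, 503), (2195457, 65, 1, 1425), (33289, 65, 1, 1425), (8205, 65, 0, 3773),
    (1050881, 66, 1, 0), (1049609, 66, 0, 1458), (1052689, 67, 1, 714), (82433, 67, 0, 175), (266305, 68, 1, 691),
    (1048707, 68, 0, 212), (66625, 68, 0, 2003), (655377, 69, 1, 85), (2621443, 69, 1, 404), (8388615, 68, 0, 3374),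
    (4718625, 68, 1, 285), (16397, 68, 0, 1254), (147713, 68, 0, 1169), (8651265, 68, 0, 3667), (8392737, 68, 0, 3867),
    (1114121, 68, 0, 1425), (4194437, 69, 1, 60), (4198433, 69, 1, 185), (8388643, 69, 0, 3087), (1081353, 69, 1, 1425),
    (4194833, 68, 0, 3667), (2337, 69, 1, 0), (1115137, 69, 0, 2003), (8481, 70, 1, 1003), (32841, 70, 0, 0),
    (528897, 71, 1, 1569)]

def sx_c2_2 : List (ℕ × ℕ × ℕ × ℕ) :=
  [(139273, 71, 0, 261), (917505, 72, 1, 85), (147465, 71, 0, 1524), (141313, 71, 1, 0), (33537, 71, 0, 0),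
    (24581, 72, 1, 878), (4325505, 72, 1, 2087), (73761, 72, 0, 417), (9437313, 73, 1, 4023), (1089537, 72, 0, 0),
    (209, 73, 1, 1331), (164865, 73, 0, 0), (49217, 74, 1, 3161), (163849, 74, 1, 1524), (1065217, 74, 0, 3730),
    (34849, 75, 1, 0), (1097, 75, 0, 1254), (81953, 75, 0, 918), (786497, 76, 1, 472), (4325379, 76, 1, 2087),
    (133377, 76, 0, 543), (8265, 77, 1, 1966), (2113545, 77, 0, 1254), (25089, 78, 1, 1849), (148481, 78, 0, 1169),
    (262785, 79, 1, 1475), (2061, 79, 0, 3773), (1058817, 80, 1, 0), (657, 80, 0, 1778), (74241, 81, 1, 1849),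
    (40993, 81, 0, 0), (196617, 82, 1, 1260), (1545, 82, 0, 1860), (9437201, 82, 0, 3550), (262211, 83, 1, 1331),
    (1835009, 83, 0, 472), (524309, 84, 1, 60), (8650757, 84, 1, 2126), (528389, 84, 0, 3210), (2121, 85, 1, 0),
    (2569, 85, 0, 1425), (65549, 86, 1, 2007), (9437187, 86, 0, 3374), (16645, 85, 0, 1700), (1130497, 86, 1, 1487),
    (528449, 85, 1, 3393), (67649, 85, 1, 0), (8519809, 84, 0, 2332), (4718657, 84, 0, 677), (33089, 84, 0, 0),
    (67589, 83, 0, 630), (16905, 83, 1, 3058), (4718597, 83, 0, 597), (98337, 84, 1, 417), (4194497, 84, 0, 1286),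
    (8650785, 84, 0, 3495), (4131, 85, 1, 185), (4194325, 84, 0, 1637), (2121729, 85, 1, 140), (8389249, 84, 0, 2332),
    (1572867, 85, 1, 2646), (5246977, 85, 1, 548), (1051649, 85, 0, 1925), (24609, 86, 1, 1966), (4737, 86, 1, 1569),
    (13631489, 86, 0, 2425), (4456961, 84, 0, 3667), (2369, 85, 1, 0), (66305, 83, 0, 2959), (10245, 84, 1, 0),
    (1081601, 84, 0, 0), (32809, 85, 1, 1304), (67073, 85, 1, 1131), (65797, 85, 0, 787), (2163713, 85, 0, 1538),
    (4198465, 85, 0, 769), (8961, 86, 1, 210), (8388689, 86, 1, 3734), (4625, 86, 1, 714), (5243009, 85, 1, 548),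
    (297, 84, 0, 261), (1345, 82, 0, 2003), (1083393, 82, 1, 0), (17473, 82, 1, 1633), (2817, 82, 1, 0),
    (8392709, 82, 1, 2126), (65577, 82, 1, 3872), (139521, 82, 0, 261), (49665, 81, 1, 1700), (6815745, 81, 0, 597),
    (1310849, 80, 1, 548), (6291585, 79, 0, 1286), (9249, 80, 1, 1003), (4194353, 80, 1, 185), (8523777, 80, 0, 3867),
    (2146305, 80, 0, 0)]

def sx_c2_3 : List (ℕ × ℕ × ℕ × ℕ) :=
  [(9961473, 81, 1, 2646), (2097417, 81, 0, 261), (8912929, 81, 1, 2251), (18945, 80, 1, 0), (155649, 79, 1, 2933),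
    (1082369, 78, 0, 0), (34881, 77, 0, 0), (524817, 76, 0, 1333), (1122305, 77, 1, 3823), (2621569, 76, 0, 699),
    (397313, 76, 0, 1837), (4163, 76, 0, 370), (8713, 76, 1, 210), (131203, 76, 0, 212), (8781825, 76, 1, 2105),
    (3137, 74, 1, 0), (262277, 74, 1, 1475), (524449, 73, 1, 2251), (195, 73, 0, 212), (135185, 73, 1, 85),
    (2130177, 72, 0, 0), (5767169, 71, 0, 2425), (4194339, 71, 0, 67), (262305, 72, 1, 2251), (1065, 72, 0, 1304),
    (1310737, 73, 1, 1250), (12582977, 68, 1, 3393), (1048595, 68, 0, 267), (8388657, 66, 1, 3734), (2883585, 66, 1, 404),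
    (132353, 64, 1, 589), (262193, 64, 0, 585), (40965, 65, 1, 3773), (1116161, 60, 0, 1425), (4611, 57, 1, 1569),
    (2107393, 51, 0, 140), (2625537, 52, 1, 1786), (131217, 42, 1, 876), (8388801, 42, 0, 2775), (2162945, 41, 1, 1179),
    (4587521, 38, 0, 202), (197633, 33, 0, 2824), (67617, 32, 1, 0), (8389137, 30, 1, 3667), (655363, 26, 0, 4017),
    (10485889, 24, 1, 2534), (4194465, 15, 0, 1286)]

def sx_c2_L_0 : List ℕ := [23]

theorem sx_c2_reach_0 : ∀ c ∈ sx_c2_L_0, ReachX objS (stabX objT 61565) 23 c := by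
  intro c hc
  rw [List.mem_singleton.1 hc]
  exact ReachX.refl _ _ _

def sx_c2_cert_0 : List (ℕ × ℕ × ℕ × ℕ) :=
  sx_c2_0 ++ sx_c2_1 ++ sx_c2_2

def sx_c2_L_1 : List ℕ := (sx_c2_cert_0.map (fun e => e.1)).reverse ++ sx_c2_L_0

theorem sx_c2_fold_0 : sx_c2_cert_0.foldl (stepX chkS (tabOf tl)) (some sx_c2_L_0) = some sx_c2_L_1 := by
  decide +kernel

theorem sx_c2_reach_1 : ∀ c ∈ sx_c2_L_1, ReachX objS (stabX objT 61565) 23 c :=
  certX_sound soundS (stabX_le _ _) good 23 sx_c2_cert_0 sx_c2_L_0 sx_c2_L_1 sx_c2_reach_0 sx_c2_fold_0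

def sx_c2_cert_1 : List (ℕ × ℕ × ℕ × ℕ) :=
  sx_c2_3

def sx_c2_L_2 : List ℕ := (sx_c2_cert_1.map (fun e => e.1)).reverse ++ sx_c2_L_1

theorem sx_c2_fold_1 : sx_c2_cert_1.foldl (stepX chkS (tabOf tl)) (some sx_c2_L_1) = some sx_c2_L_2 := by
  decide +kernel

theorem sx_c2_reach_2 : ∀ c ∈ sx_c2_L_2, ReachX objS (stabX objT 61565) 23 c :=
  certX_sound soundS (stabX_le _ _) good 23 sx_c2_cert_1 sx_c2_L_1 sx_c2_L_2 sx_c2_reach_1 sx_c2_fold_1

def sx_c2_list : List ℕ := sx_c2_L_2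

theorem sx_c2_reach : ∀ c ∈ sx_c2_list, ReachX objS (stabX objT 61565) 23 c := sx_c2_reach_2

def sx_c3_0 : List (ℕ × ℕ × ℕ × ℕ) :=
  [(10243, 0, 0, 1239), (528401, 1, 1, 85), (8388929, 1, 0, 2750), (1155, 2, 1, 2087), (291, 2, 0, 3087),
    (1050689, 3, 1, 0), (9345, 3, 0, 1538), (524865, 4, 1, 926), (73737, 4, 0, 1564), (537, 5, 1, 876),
    (524805, 5, 0, 597), (8405249, 6, 1, 2933), (1056773, 6, 0, 560), (5633, 7, 1, 3058), (1574913, 7, 0, 472),
    (2129985, 8, 1, 1286), (132113, 8, 0, 2824), (51201, 9, 1, 0), (8389635, 9, 0, 3374), (2162691, 10, 1, 404),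
    (4194341, 10, 0, 1637), (1572869, 11, 1, 472), (1327105, 11, 0, 3730), (35841, 12, 1, 0), (2129923, 12, 0, 0),
    (163845, 13, 1, 951), (2593, 13, 0, 1700), (2105361, 14, 1, 1325), (1179651, 14, 0, 212), (17425, 15, 1, 1925),
    (2097793, 15, 0, 2332), (8390665, 16, 1, 0), (1048897, 16, 0, 2003), (1573121, 17, 1, 1487), (4361, 17, 0, 960),
    (9437697, 18, 1, 4023), (163873, 18, 0, 0), (262405, 19, 1, 2126), (525329, 19, 0, 677), (1581057, 20, 1, 1884),
    (393, 20, 0, 1860), (8389125, 21, 1, 3184), (8454657, 21, 0, 2959), (540675, 22, 1, 878), (1310729, 22, 0, 3730),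
    (3081, 23, 1, 0), (573441, 23, 0, 0), (4194373, 24, 1, 1501), (278545, 24, 0, 585), (2162705, 25, 1, 2534),
    (8413185, 25, 0, 3933), (8203, 26, 1, 1260), (16901, 26, 0, 1700), (8353, 27, 1, 1003), (2097441, 27, 0, 261),
    (141, 28, 1, 3773), (270593, 28, 0, 1962), (1179665, 29, 1, 1019), (655369, 29, 0, 1524), (1049605, 30, 1, 589),
    (32849, 30, 0, 0), (270353, 31, 1, 1331), (2083, 31, 0, 1304), (532497, 32, 1, 417), (201, 32, 0, 212),
    (131145, 33, 1, 2105), (4194577, 33, 0, 1360), (327685, 34, 1, 2007), (131713, 34, 0, 2332), (2073, 35, 1, 0),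
    (4357, 35, 0, 163), (8721, 35, 0, 1046), (1114625, 36, 1, 1425), (589841, 36, 0, 417), (1185, 37, 1, 1003),
    (8391681, 37, 0, 2988), (65795, 38, 1, 1131), (3153921, 38, 0, 3550), (2241, 39, 1, 0), (4196361, 39, 1, 0),
    (4326401, 39, 0, 202), (3145985, 40, 1, 1250), (589829, 40, 0, 787), (8913153, 41, 1, 2988), (24593, 41, 0, 1046),
    (8389889, 42, 1, 2988), (12615681, 42, 0, 0), (133123, 43, 1, 0), (2097187, 43, 0, 38), (532737, 44, 1, 210),
    (139, 44, 0, 212), (540705, 45, 1, 2251), (8421409, 45, 0, 0), (6147, 46, 1, 0), (8397313, 46, 0, 2959),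
    (532483, 47, 1, 878)]

def sx_c3_1 : List (ℕ × ℕ × ℕ × ℕ) :=
  [(557073, 47, 0, 0), (4194317, 48, 1, 1501), (2101281, 48, 0, 386), (1161, 49, 1, 394), (32775, 49, 0, 0),
    (851969, 50, 1, 404), (57, 50, 0, 1637), (8229, 51, 1, 898), (33033, 51, 0, 0), (262185, 52, 1, 1304),
    (1297, 52, 0, 1962), (393221, 53, 1, 898), (65667, 53, 0, 1538), (557089, 54, 1, 417), (8405001, 54, 0, 3730),
    (32779, 55, 1, 1304), (4203009, 55, 0, 597), (8683521, 56, 1, 3667), (1049729, 56, 0, 1925), (36881, 57, 1, 960),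
    (135201, 57, 0, 3867), (264449, 58, 1, 0), (532609, 58, 0, 503), (589889, 59, 1, 394), (534529, 59, 0, 417),
    (131205, 60, 1, 1544), (8409089, 60, 0, 3210), (4241, 60, 0, 1987), (16657, 61, 1, 2933), (544769, 61, 0, 3210),
    (4196417, 62, 1, 0), (4115, 62, 0, 267), (8913025, 63, 1, 2251), (2097673, 63, 0, 1425), (4195393, 64, 1, 1633),
    (1569, 64, 0, 386), (8389665, 65, 1, 3734), (5242913, 65, 1, 285), (1059, 65, 0, 1304), (525057, 65, 0, 1333),
    (2228233, 66, 1, 2105), (1052677, 66, 0, 163), (49281, 67, 1, 1925), (2097313, 67, 1, 1286), (8211, 67, 0, 1046),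
    (4341761, 68, 1, 1524), (4458497, 68, 0, 3667), (526401, 69, 1, 0), (4259849, 69, 0, 1564), (5377, 70, 1, 1003),
    (1048713, 70, 0, 212), (69649, 71, 1, 2534), (532485, 71, 0, 597), (267265, 72, 1, 85), (2097225, 72, 0, 1254),
    (8388897, 73, 1, 3872), (2433, 73, 0, 543), (786561, 74, 1, 2251), (8390689, 74, 0, 3867), (4355, 75, 1, 2126),
    (281, 75, 0, 960), (4718609, 76, 1, 60), (77, 76, 0, 1254), (278533, 77, 1, 2007), (77825, 77, 0, 2959),
    (527361, 78, 1, 0), (4198409, 78, 0, 2761), (2099217, 79, 1, 0), (32789, 79, 0, 0), (525, 80, 1, 1501),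
    (262913, 80, 0, 1882), (8458241, 81, 1, 2534), (8261, 81, 0, 370), (524329, 82, 1, 1786), (540681, 82, 0, 1524),
    (8405025, 82, 0, 3933), (4107, 83, 1, 1260), (327713, 83, 0, 3495), (4196369, 84, 1, 0), (2229249, 84, 0, 202),
    (4202501, 85, 1, 898), (8429569, 85, 0, 0), (4165, 85, 0, 370), (311297, 86, 1, 140), (12305, 86, 0, 1987),
    (36897, 87, 1, 3867), (590081, 87, 0, 787), (225, 88, 1, 1286), (131393, 88, 0, 2750), (4327425, 89, 1, 0),
    (387, 89, 0, 3087), (6209, 90, 1, 0), (2097285, 90, 0, 163), (8651777, 90, 1, 3823), (526341, 90, 0, 472),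
    (8929281, 91, 1, 2251)]

def sx_c3_2 : List (ℕ × ℕ × ℕ × ℕ) :=
  [(790529, 91, 0, 1149), (786449, 92, 1, 85), (105, 92, 0, 2542), (526849, 93, 1, 0), (10485825, 93, 0, 3550),
    (147, 94, 1, 1331), (263185, 94, 0, 1962), (2097177, 95, 1, 1325), (656385, 95, 1, 85), (5129, 95, 0, 1458),
    (524553, 96, 1, 210), (9445377, 96, 0, 3550), (270339, 97, 1, 1331), (10486785, 97, 0, 2988), (65555, 98, 1, 1131),
    (8390673, 98, 0, 3667), (323, 99, 1, 1677), (4211713, 99, 0, 3933), (14337, 100, 1, 0), (1081347, 100, 0, 0),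
    (4784129, 101, 1, 404), (29, 101, 0, 1637), (393729, 101, 0, 1837), (70657, 102, 1, 630), (3162113, 102, 0, 38),
    (4325633, 103, 1, 1450), (131121, 103, 0, 585), (131601, 104, 1, 876), (8388867, 104, 0, 3087), (2098179, 105, 1, 570),
    (8388621, 105, 0, 3773), (4227075, 106, 1, 1239), (69697, 106, 0, 868), (4489217, 107, 1, 3667), (2162721, 107, 0, 3495),
    (4196385, 108, 1, 0), (12545, 108, 0, 2959), (542721, 109, 1, 0), (4194625, 109, 0, 2750), (12584961, 110, 1, 0),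
    (196737, 110, 0, 543), (12417, 111, 1, 1003), (32899, 111, 0, 0), (5185, 112, 1, 570), (2621449, 112, 0, 699),
    (24585, 113, 1, 1966), (2129937, 113, 0, 0), (270465, 114, 1, 1331), (8421505, 114, 0, 0), (1050627, 115, 1, 0),
    (2621505, 115, 0, 868), (7340033, 116, 1, 3093), (143361, 116, 0, 1987), (4259857, 117, 1, 1019), (663553, 117, 0, 4017),
    (2099233, 118, 1, 0), (536577, 118, 0, 1458), (131457, 119, 1, 543), (2752513, 119, 0, 868), (135233, 120, 1, 1544),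
    (4521985, 120, 0, 1564), (4133, 120, 0, 370), (1703937, 121, 1, 1884), (2361345, 121, 0, 140), (327689, 121, 0, 1564),
    (3670017, 122, 1, 1884), (4198403, 122, 0, 2761), (34833, 123, 1, 0), (16529, 123, 0, 1925), (163969, 124, 1, 543),
    (532545, 124, 0, 503), (131333, 125, 1, 589), (294945, 125, 0, 0), (4210705, 126, 1, 185), (277, 126, 0, 1962),
    (1048617, 126, 0, 1637), (1114129, 127, 1, 1019), (38913, 127, 0, 0), (8654849, 128, 1, 2126), (2162753, 128, 0, 868),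
    (720897, 129, 1, 3184), (1049, 129, 0, 2824), (8407041, 130, 1, 0), (4210753, 130, 0, 769), (1081409, 131, 1, 472),
    (50177, 131, 1, 1925), (8388873, 131, 0, 3730), (33795, 132, 1, 1304), (65605, 132, 0, 1778), (294917, 133, 1, 472),
    (4325441, 133, 0, 2750), (4197377, 134, 1, 0), (24833, 134, 0, 503), (353, 134, 0, 2003), (66689, 134, 0, 1538),
    (4195337, 135, 1, 1325)]

def sx_c3_3 : List (ℕ × ℕ × ℕ × ℕ) :=
  [(5243905, 135, 0, 202), (1093, 136, 1, 3734), (139267, 136, 0, 4017), (9175041, 136, 0, 4017), (547, 137, 1, 3686),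
    (2145, 137, 0, 1286), (4259905, 138, 1, 1019), (8396865, 138, 0, 3550), (8323, 139, 1, 1331), (540677, 139, 0, 3210),
    (2117, 140, 1, 0), (1121, 140, 0, 2003), (557313, 140, 0, 0), (65809, 141, 1, 1131), (65617, 141, 0, 1778),
    (4194565, 141, 0, 2750), (8390785, 142, 1, 0), (2097413, 142, 0, 163), (557121, 143, 1, 472), (8454153, 143, 0, 2824),
    (49155, 144, 1, 3161), (8388739, 144, 0, 3087), (3145731, 145, 1, 570), (8667137, 145, 0, 3730), (43, 146, 1, 1304),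
    (262289, 146, 0, 699), (12845057, 147, 1, 3667), (530433, 147, 0, 1569), (139393, 148, 1, 1884), (524299, 148, 0, 787),
    (262465, 149, 1, 1633), (2097233, 149, 0, 3550), (272385, 150, 1, 0), (9469953, 150, 0, 0), (264195, 151, 1, 0),
    (40963, 151, 0, 0), (8389153, 152, 1, 3686), (8978433, 152, 0, 2425), (16899, 153, 1, 497), (6291461, 153, 0, 597),
    (262409, 154, 1, 210), (4202625, 154, 0, 1987), (1073, 155, 1, 3734), (139777, 155, 0, 839), (425985, 156, 1, 543),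
    (3145857, 156, 0, 163), (102401, 157, 1, 630), (12353, 157, 0, 370), (131841, 158, 1, 1450), (395265, 158, 0, 543),
    (32913, 159, 1, 1925), (557185, 159, 1, 1569), (66113, 159, 0, 1778), (196625, 160, 1, 1019), (1311233, 160, 0, 1675),
    (533, 161, 1, 714), (147585, 161, 0, 2332), (526353, 162, 1, 0), (4194377, 162, 0, 1564), (1048649, 163, 1, 1966),
    (1049097, 163, 0, 1425), (8527873, 164, 1, 2933), (9437217, 164, 0, 3867), (266243, 165, 1, 2126), (1180673, 165, 0, 202),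
    (649, 166, 1, 876), (8213, 165, 0, 1962), (2244609, 166, 1, 376), (4195345, 166, 0, 677), (263173, 167, 1, 1475),
    (8421379, 166, 0, 0), (2099203, 167, 1, 0), (5308417, 167, 0, 2425), (1051137, 168, 1, 0), (20485, 168, 0, 3210),
    (2625, 169, 1, 0), (147461, 169, 0, 560), (2134017, 170, 1, 140), (66577, 170, 0, 2824), (8423425, 171, 1, 0),
    (2105473, 171, 0, 1538), (132129, 172, 1, 376), (8391169, 172, 0, 3667), (524547, 173, 1, 1677), (4195331, 173, 0, 677),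
    (9437441, 174, 1, 4023), (18561, 174, 0, 1925), (4641, 175, 1, 691), (81923, 175, 0, 3161), (131083, 175, 0, 212),
    (8273, 175, 0, 3550), (264209, 176, 1, 0), (4456577, 176, 0, 1272), (9233, 177, 1, 1325), (2105857, 177, 0, 597),
    (2101505, 178, 1, 1450)]

def sx_c3_4 : List (ℕ × ℕ × ℕ × ℕ) :=
  [(8392721, 178, 1, 2534), (8652801, 178, 0, 3667), (2099205, 178, 0, 951), (393225, 179, 1, 2105), (8397057, 179, 1, 2933),
    (36929, 179, 0, 0), (1114145, 180, 1, 1354), (525345, 180, 0, 1044), (2113541, 181, 1, 3093), (8397825, 181, 0, 3933),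
    (73731, 182, 1, 1260), (73985, 182, 0, 2959), (655873, 182, 0, 1333), (4210945, 183, 1, 1633), (16421, 183, 1, 1700),
    (65557, 183, 0, 1778), (2236417, 184, 1, 1884), (286721, 183, 0, 140), (4718721, 184, 1, 60), (589857, 184, 0, 417),
    (2162693, 185, 1, 1179), (4417, 185, 0, 960), (4121, 186, 1, 960), (8392713, 186, 0, 2761), (524307, 186, 0, 677),
    (295169, 187, 1, 543), (4204545, 187, 0, 1239), (645, 188, 1, 1475), (786689, 188, 0, 1149), (16577, 189, 1, 1544),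
    (85, 189, 0, 1778), (69889, 190, 1, 1487), (4456705, 190, 0, 1149), (1056785, 191, 1, 714), (133185, 191, 0, 839),
    (32817, 192, 1, 417), (4194449, 192, 0, 1987), (32905, 193, 1, 3773), (1052929, 193, 0, 163), (196673, 194, 1, 1019),
    (8552449, 194, 0, 0), (8390659, 195, 1, 0), (655425, 195, 0, 868), (17665, 195, 0, 1169), (5259265, 196, 1, 3093),
    (12582929, 196, 0, 3667), (131139, 197, 1, 1677), (4210691, 197, 0, 1272), (525825, 198, 1, 285), (528641, 198, 0, 1149),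
    (33809, 198, 1, 1925), (519, 198, 0, 3374), (329729, 199, 1, 0), (1081349, 199, 0, 0), (2686977, 200, 1, 404),
    (2101761, 200, 0, 386), (262689, 201, 1, 691), (1573889, 201, 1, 285), (524301, 201, 1, 1786), (526345, 201, 0, 1524),
    (2359361, 202, 1, 2105), (131097, 202, 0, 2824), (83969, 203, 1, 0), (131331, 203, 0, 1169), (8396809, 203, 0, 3773),
    (2098209, 203, 0, 386), (1343489, 204, 1, 472), (8329, 204, 0, 3773), (4196609, 205, 1, 0), (1311745, 205, 1, 3823),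
    (10249, 205, 0, 3773), (5244929, 206, 1, 0), (28673, 206, 0, 140), (3407873, 207, 1, 1250), (2621697, 207, 0, 2988),
    (67841, 208, 1, 0), (393473, 208, 0, 543), (593921, 209, 1, 1487), (2179, 209, 0, 1569), (8585217, 210, 1, 3184),
    (540737, 210, 0, 503), (8716289, 211, 1, 3823), (65603, 211, 0, 3161), (2313, 212, 1, 0), (165, 212, 0, 1044),
    (655365, 213, 1, 3184), (131345, 213, 0, 1333), (8457, 214, 1, 210), (4202529, 214, 0, 3933), (67593, 215, 1, 0),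
    (139281, 215, 0, 1987), (1289, 216, 1, 589), (278593, 216, 0, 585), (4726785, 217, 1, 3393), (294929, 217, 0, 0),
    (655617, 218, 1, 1677)]

def sx_c3_5 : List (ℕ × ℕ × ℕ × ℕ) :=
  [(1035, 218, 0, 1304), (2359329, 218, 0, 3495), (4212737, 219, 1, 0), (8913921, 219, 0, 2988), (66051, 220, 1, 1131),
    (67601, 220, 0, 417), (1048597, 221, 1, 714), (4194825, 221, 1, 1501), (4276225, 221, 0, 1360), (8388645, 222, 1, 3734),
    (196613, 222, 0, 560), (525317, 221, 0, 1044), (6657, 221, 0, 1569), (98313, 222, 1, 1425), (802817, 222, 0, 175),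
    (4456465, 222, 0, 3667), (526593, 223, 1, 0), (10493953, 223, 0, 3550), (163843, 223, 0, 0), (8737, 224, 1, 3686),
    (533505, 224, 1, 878), (4233, 224, 0, 918), (8390145, 225, 1, 3058), (32865, 225, 0, 0), (557569, 226, 1, 1569),
    (1048865, 226, 1, 1250), (2099329, 226, 0, 1286), (16453, 227, 1, 1544), (8400897, 227, 0, 2959), (8199, 228, 1, 878),
    (4460545, 228, 0, 1149), (4195333, 228, 0, 630), (33313, 229, 1, 1700), (40969, 229, 1, 3773), (2129925, 229, 0, 0),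
    (20513, 230, 1, 185), (8519937, 230, 1, 2933), (2097411, 230, 0, 1882), (4211201, 230, 0, 769), (2098689, 231, 1, 1475),
    (5243393, 231, 0, 769), (1049633, 231, 0, 2003), (1081361, 232, 1, 1925), (401409, 231, 0, 4017), (2099713, 232, 1, 0),
    (327745, 232, 0, 1564), (1601, 233, 1, 839), (1064965, 233, 0, 560), (9219, 233, 1, 878), (9437189, 233, 1, 3093),
    (16515, 233, 0, 1272), (270341, 234, 1, 898), (8421633, 234, 0, 0), (3075, 235, 1, 0), (264321, 235, 0, 543),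
    (4617, 236, 1, 3058), (4456457, 236, 0, 1564), (4260353, 237, 1, 1849), (6161, 237, 1, 0), (5153, 237, 0, 386),
    (2114049, 238, 1, 926), (197, 238, 0, 1778), (2097681, 239, 1, 926), (1048709, 239, 0, 163), (8388705, 240, 1, 3734),
    (8921089, 240, 0, 4017), (8707, 241, 1, 3686), (8914945, 241, 0, 2988), (771, 242, 1, 1131), (2359301, 242, 0, 3495),
    (22529, 243, 1, 0), (8389637, 243, 0, 3374), (4259843, 244, 1, 404), (4227105, 244, 0, 0), (16517, 244, 0, 1272),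
    (82945, 245, 1, 376), (8396833, 245, 0, 3933), (12291, 246, 1, 1260), (557059, 246, 0, 0), (2307, 246, 0, 1239),
    (2097289, 246, 0, 699), (331777, 247, 1, 691), (2689, 247, 0, 1569), (263297, 248, 1, 1475), (9439233, 248, 1, 0),
    (1572929, 248, 0, 472), (589953, 248, 0, 2425), (8519689, 247, 0, 2824), (524325, 246, 1, 1786), (18441, 246, 0, 1524),
    (1048601, 246, 0, 1637), (2097921, 247, 1, 1450), (16913, 247, 0, 1046), (282625, 248, 1, 140), (2623489, 248, 1, 0),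
    (4227081, 248, 0, 0)]

def sx_c3_6 : List (ℕ × ℕ × ℕ × ℕ) :=
  [(2097173, 249, 1, 951), (147459, 249, 0, 1169), (4231169, 250, 1, 630), (16419, 250, 0, 38), (131593, 250, 0, 1837),
    (11534337, 250, 0, 3550), (262163, 251, 1, 1331), (8396929, 251, 0, 3773), (1056771, 252, 1, 1239), (73745, 252, 0, 417),
    (6422529, 253, 1, 1450), (590337, 253, 0, 175), (12583169, 254, 1, 3872), (1318913, 254, 0, 1675), (82177, 255, 1, 1487),
    (593, 255, 0, 1778), (10485765, 256, 1, 3093), (4169, 256, 1, 960), (4210697, 256, 0, 1524), (1048769, 257, 1, 4023),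
    (147521, 257, 0, 585), (328193, 258, 1, 691), (6177, 258, 1, 0), (3147777, 258, 0, 1425), (4325385, 259, 1, 1524),
    (131107, 259, 1, 1677), (3211265, 259, 1, 1425), (296961, 258, 0, 0), (66569, 258, 0, 2824), (8390721, 259, 1, 0),
    (65561, 259, 1, 2007), (139269, 259, 0, 560), (8651009, 259, 0, 3730), (2228241, 259, 0, 951), (135681, 260, 1, 1450),
    (9502721, 259, 0, 2425), (278531, 260, 1, 497), (8454147, 260, 0, 3161), (2113539, 261, 1, 1663), (271361, 260, 0, 1962),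
    (278785, 261, 1, 1633), (1553, 261, 1, 1131), (151553, 261, 1, 1544), (24705, 261, 0, 503), (197121, 261, 0, 67),
    (4195073, 262, 1, 1450), (5242945, 261, 0, 769), (4720641, 261, 0, 1524), (8325, 262, 1, 3773), (33153, 262, 0, 0),
    (2101313, 263, 1, 570), (8389649, 263, 0, 2824), (35073, 263, 0, 0), (66065, 264, 1, 1131), (540929, 264, 1, 1487),
    (65669, 264, 0, 1778), (65681, 264, 1, 2534), (8465, 264, 0, 1962), (132609, 264, 0, 839), (525569, 264, 1, 2988),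
    (133137, 264, 1, 0), (1065473, 264, 0, 769), (20545, 265, 1, 1544), (1572897, 265, 0, 38), (4203521, 266, 1, 1325),
    (8390661, 265, 0, 3773), (4194563, 266, 1, 1239), (4227585, 266, 0, 0), (8451, 266, 0, 1239), (98433, 267, 1, 543),
    (705, 267, 0, 1778), (263425, 268, 1, 1633), (1049345, 268, 0, 1333), (1048961, 269, 1, 4023), (4194593, 269, 0, 1149),
    (49409, 270, 1, 1700), (66177, 270, 0, 1778), (2129953, 271, 1, 1286), (2113601, 271, 0, 1254), (5125, 272, 1, 630),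
    (5123, 271, 1, 570), (8658945, 271, 0, 4017), (8227, 272, 1, 3686), (20483, 272, 0, 1169), (262213, 272, 0, 472),
    (532489, 273, 1, 210), (9225, 273, 1, 1325), (20489, 273, 0, 918), (27, 273, 0, 1046), (3145745, 273, 0, 3550),
    (10369, 274, 1, 0), (34049, 274, 0, 0), (785, 275, 1, 1131), (12321, 275, 0, 370), (2629633, 275, 0, 597),
    (49161, 276, 1, 1524)]

def sx_c3_7 : List (ℕ × ℕ × ℕ × ℕ) :=
  [(389, 276, 1, 60), (2260993, 275, 1, 951), (41217, 275, 0, 0), (65673, 275, 1, 394), (4263937, 275, 0, 630),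
    (8388649, 276, 1, 3872), (557061, 276, 0, 0), (1217, 276, 0, 2775), (2085, 277, 1, 0), (4194441, 276, 0, 1860),
    (33921, 276, 1, 1925), (19457, 276, 0, 1925), (305, 276, 1, 1250), (264705, 276, 0, 3667), (1064963, 276, 0, 38),
    (262665, 276, 0, 1837), (9453569, 276, 0, 3730), (262155, 277, 1, 1304), (3329, 277, 0, 2988), (2577, 278, 1, 0),
    (360449, 278, 0, 0), (4198417, 279, 1, 185), (6307841, 279, 0, 1360), (8536065, 279, 0, 2332), (8388619, 280, 1, 2646),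
    (1060865, 280, 1, 714), (8916993, 280, 0, 3210), (262529, 280, 0, 543), (591873, 280, 0, 417), (13107201, 281, 1, 3393),
    (1114115, 281, 0, 267), (8833, 281, 0, 1675), (8520193, 281, 0, 2332), (8912899, 282, 1, 2646), (3145737, 282, 0, 1425),
    (1118209, 283, 1, 1487), (263177, 283, 0, 1304), (4325889, 284, 1, 1450), (66081, 284, 0, 67), (262217, 285, 1, 2105),
    (16451, 285, 0, 3161), (18689, 286, 1, 0), (270401, 286, 1, 1331), (53249, 286, 0, 0), (4194881, 287, 1, 1501),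
    (1376257, 287, 0, 267), (8396817, 287, 1, 2933), (524833, 286, 0, 2542), (34945, 287, 1, 0), (147969, 287, 0, 2332),
    (1050641, 288, 1, 0), (409601, 288, 0, 585), (1665, 288, 0, 1860), (8769, 289, 1, 839), (1048849, 289, 0, 1333),
    (2565, 289, 0, 1700), (8405505, 290, 1, 3058), (1048583, 290, 0, 3374), (1053697, 289, 0, 1458), (132161, 290, 1, 839),
    (67587, 290, 0, 3161), (2185, 291, 1, 0), (278537, 291, 0, 3730), (265217, 292, 1, 0), (279041, 291, 0, 175),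
    (17537, 291, 0, 1925), (164353, 291, 0, 0), (589827, 290, 1, 404), (133633, 290, 0, 839), (8406017, 290, 1, 3058),
    (8577, 288, 0, 503), (90113, 288, 0, 560), (33297, 289, 1, 3667), (1283, 289, 0, 1169), (41089, 290, 1, 3773),
    (32901, 290, 0, 0), (3178497, 290, 1, 1425), (8405121, 289, 0, 2332), (1048587, 290, 1, 2646), (66563, 290, 1, 1131),
    (3146753, 289, 0, 202), (1085441, 290, 1, 3867), (528513, 290, 0, 1569), (8422401, 291, 1, 2988), (8486913, 291, 0, 0),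
    (18435, 292, 1, 0), (6273, 292, 0, 1569), (16465, 293, 1, 926), (4457473, 292, 0, 202), (1045, 292, 0, 1962),
    (4481, 293, 1, 1003), (2622465, 293, 0, 2988), (131079, 293, 0, 951), (36873, 294, 1, 960), (8421889, 294, 1, 3667),
    (99, 294, 0, 370)]

def sx_c3_8 : List (ℕ × ℕ × ℕ × ℕ) :=
  [(393249, 295, 1, 898), (524561, 295, 0, 1333), (16545, 296, 1, 2251), (2228227, 296, 0, 951), (279553, 297, 1, 1633),
    (8259, 297, 1, 1331), (622593, 297, 0, 0), (1441793, 298, 1, 497), (540689, 298, 0, 3210), (4196357, 299, 1, 0),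
    (75777, 299, 0, 417), (2321, 299, 1, 0), (20993, 299, 0, 769), (98561, 300, 1, 543), (1052681, 300, 0, 1458),
    (4210817, 301, 1, 1849), (167937, 301, 0, 0), (266497, 302, 1, 2126), (1409, 301, 0, 1860), (4206593, 301, 1, 3393),
    (6356993, 301, 0, 1360), (37377, 300, 0, 0), (25601, 301, 1, 878), (4194329, 301, 1, 1325), (10518529, 301, 1, 2988),
    (4325381, 301, 0, 2750), (3201, 302, 1, 0), (1048643, 302, 0, 212), (8945665, 301, 0, 0), (2563, 302, 1, 0),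
    (8404997, 302, 0, 3210), (4194315, 303, 1, 1501), (17025, 303, 0, 2332), (786435, 303, 1, 404), (2097345, 303, 0, 1286),
    (6291969, 304, 1, 1450), (1048835, 304, 1, 1239), (4196481, 304, 1, 0), (2097425, 304, 1, 1250), (1179777, 304, 0, 212),
    (4194401, 305, 1, 1286), (2392065, 305, 1, 140), (268289, 304, 0, 140), (6292481, 305, 1, 1325), (4194569, 305, 1, 3872),
    (4472833, 304, 0, 1272), (8519745, 304, 0, 2750), (2359809, 303, 1, 1475), (2228481, 303, 0, 261), (2375681, 304, 1, 140),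
    (1114177, 303, 0, 2003), (4227077, 304, 1, 630), (4227329, 304, 1, 1239), (131093, 304, 0, 951), (1310753, 305, 1, 1250),
    (65697, 302, 0, 918), (524673, 302, 0, 503), (8421381, 303, 1, 3773), (393281, 303, 0, 585), (33041, 304, 1, 960),
    (1310785, 304, 0, 472), (2232321, 305, 1, 1450), (8454161, 305, 0, 2824), (4464641, 304, 0, 1564), (1049617, 305, 1, 1925),
    (136193, 303, 0, 1169), (4202513, 304, 1, 1325), (524609, 304, 1, 1677), (65547, 304, 0, 787), (1589249, 304, 0, 38),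
    (8454273, 305, 1, 2534), (8388869, 305, 0, 2750), (8396803, 305, 0, 4017), (2105347, 306, 1, 3686), (524357, 306, 1, 472),
    (2098305, 306, 1, 1475), (897, 305, 1, 4023), (33801, 304, 0, 0), (8405057, 305, 1, 3161), (133249, 305, 0, 543),
    (2293761, 306, 1, 376), (8404995, 306, 1, 3161), (9437193, 306, 0, 3730), (294915, 307, 1, 1304), (299009, 307, 1, 140),
    (1050113, 307, 0, 3374), (6293505, 308, 1, 0), (1048625, 308, 0, 1637), (794625, 308, 0, 4017), (10487809, 309, 1, 0),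
    (8392707, 309, 0, 2761), (2097159, 310, 1, 951), (275, 310, 1, 1131), (524313, 310, 1, 2646), (262661, 310, 1, 1475),
    (1065025, 310, 0, 769)]

def sx_c3_9 : List (ℕ × ℕ × ℕ × ℕ) :=
  [(71, 310, 0, 370), (1049105, 311, 1, 714), (294921, 311, 1, 1304), (33345, 311, 0, 0), (4193, 311, 0, 370),
    (137217, 310, 1, 0), (4673, 309, 1, 691), (4195361, 309, 1, 285), (4613, 309, 0, 1837), (1183745, 310, 1, 3867),
    (1050629, 310, 0, 472), (2115, 309, 0, 3161), (526369, 309, 1, 0), (4202753, 309, 0, 1239), (70145, 309, 0, 2959),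
    (11265, 310, 1, 0), (1212417, 310, 0, 0), (10616833, 310, 1, 2105), (532513, 310, 1, 417), (32793, 310, 0, 0),
    (8470529, 311, 1, 3161), (8456193, 310, 1, 0), (8521729, 310, 0, 3867), (524425, 310, 1, 394), (4229121, 310, 0, 0),
    (524385, 311, 1, 1677), (81929, 311, 0, 918), (4235265, 311, 0, 0), (69641, 312, 1, 1260), (2163201, 312, 0, 1425),
    (135425, 312, 0, 1169), (1081857, 313, 1, 1425), (1091, 313, 0, 677), (41985, 314, 1, 839), (32961, 314, 1, 1286),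
    (262275, 314, 0, 1272), (65729, 314, 0, 1778), (4259845, 314, 0, 630), (2105409, 315, 1, 1179), (559105, 315, 1, 0),
    (12582921, 315, 0, 2761), (2130433, 314, 0, 0), (8520705, 314, 0, 2824), (147489, 314, 1, 376), (131587, 314, 1, 497),
    (8392961, 314, 1, 2126), (1056833, 314, 1, 1966), (100353, 314, 0, 0), (4227, 314, 1, 1569), (328705, 314, 1, 3823),
    (8519713, 313, 0, 3867), (8405009, 313, 1, 2933), (1157, 312, 0, 1044), (17417, 313, 1, 3058), (4214785, 313, 0, 769),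
    (4194849, 313, 0, 67), (5242885, 314, 1, 3093), (16929, 313, 0, 1700), (1064993, 313, 0, 38), (1065089, 313, 0, 1925),
    (2105349, 314, 1, 1179), (8396805, 314, 0, 3773), (4202499, 315, 1, 1239), (8217, 315, 0, 1046), (4751361, 315, 0, 0),
    (196641, 315, 0, 67), (1056897, 316, 1, 1884), (4228097, 316, 0, 0), (12297, 317, 1, 1260), (1312769, 317, 0, 472),
    (2654209, 317, 0, 0), (66817, 318, 1, 1131), (6401, 318, 0, 960), (6291489, 319, 1, 1286), (20497, 318, 1, 185),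
    (12582915, 317, 0, 2761), (169, 317, 0, 918), (327697, 318, 1, 2007), (1050657, 318, 0, 3867), (1573377, 318, 1, 285),
    (8454149, 318, 0, 3495), (4719617, 317, 0, 677), (2162817, 317, 1, 2534), (24579, 317, 0, 1046), (1310725, 318, 1, 472),
    (2067, 318, 1, 0), (2097219, 318, 0, 1882), (1245185, 317, 1, 1019), (4369, 317, 0, 960), (458753, 318, 1, 543),
    (2193, 318, 1, 0), (1049217, 318, 1, 4023), (263201, 318, 1, 1304), (21505, 315, 0, 1169), (82049, 314, 0, 918),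
    (4260865, 315, 1, 630)]

def sx_c3_10 : List (ℕ × ℕ × ℕ × ℕ) :=
  [(532993, 315, 0, 597), (2097165, 315, 1, 1786), (4202561, 315, 0, 1564), (773, 316, 1, 1700), (200705, 316, 0, 868),
    (131113, 317, 1, 876), (280577, 315, 0, 140), (1053185, 316, 1, 714), (4210721, 316, 1, 185), (135173, 316, 0, 1837),
    (12599297, 316, 0, 3933), (99329, 316, 0, 0), (8421441, 317, 1, 3161), (548865, 317, 0, 503), (49169, 318, 1, 1925),
    (65801, 317, 0, 787), (2621953, 317, 0, 597), (262181, 318, 1, 898), (4227201, 318, 0, 0), (1539, 317, 0, 3374),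
    (788481, 317, 0, 472), (1081473, 317, 0, 0), (45, 317, 0, 1637), (10485769, 318, 1, 2105), (1050753, 318, 0, 1925),
    (525441, 319, 1, 394), (10551297, 318, 1, 2534), (33027, 317, 1, 1239), (1049091, 317, 0, 3374), (4261889, 318, 1, 0),
    (1081377, 318, 0, 0), (579, 318, 0, 1882), (8388677, 319, 1, 3734), (526339, 316, 0, 1569), (294977, 317, 1, 472),
    (7169, 316, 1, 0), (4202505, 316, 0, 1564), (2097193, 316, 0, 261), (4333569, 316, 1, 898), (147473, 316, 0, 585),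
    (9473, 317, 1, 1003), (163905, 317, 0, 0), (9437249, 317, 0, 3550), (4243457, 316, 0, 0), (13313, 316, 0, 1458),
    (16769, 316, 1, 1663), (2166785, 315, 1, 2534), (8455169, 315, 0, 2824), (8388681, 315, 0, 2542), (819201, 315, 1, 472),
    (37889, 315, 0, 0), (1048737, 316, 1, 1354), (34819, 316, 0, 0), (16521, 317, 1, 1663), (10497, 317, 0, 1239),
    (4456451, 317, 0, 1272), (266369, 318, 1, 548), (153, 317, 0, 699), (131209, 318, 1, 876), (2113665, 318, 0, 2332),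
    (6291465, 318, 0, 2761), (1052737, 318, 0, 769), (2101257, 316, 0, 2761), (2230273, 317, 1, 0), (16405, 317, 1, 2007),
    (8388627, 317, 1, 2646), (264197, 317, 0, 472), (2098181, 318, 1, 1475), (337, 318, 0, 960), (16403, 318, 0, 1046),
    (65585, 319, 1, 417), (12583041, 319, 0, 2425), (4292609, 319, 0, 0), (1572873, 319, 1, 2646), (267, 319, 0, 787),
    (73857, 320, 1, 1849), (32929, 320, 0, 0), (2098241, 321, 1, 570), (801, 321, 1, 1700), (2181, 319, 0, 3773),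
    (43009, 320, 1, 0), (34825, 319, 0, 0), (5251073, 320, 1, 1239), (262241, 320, 0, 585), (2490369, 321, 1, 2105),
    (4268033, 320, 0, 1564), (6291521, 321, 1, 1286), (4260097, 320, 0, 1360), (37121, 321, 1, 960), (2105377, 321, 0, 261),
    (1048837, 320, 1, 589), (2097163, 319, 1, 1663), (65571, 319, 0, 67), (66053, 320, 1, 3184), (540801, 320, 1, 2251),
    (1605633, 320, 0, 0)]

def sx_c3_11 : List (ℕ × ℕ × ℕ × ℕ) :=
  [(1196033, 321, 1, 497), (557065, 320, 0, 0), (1114117, 320, 1, 1354), (263171, 320, 0, 1304), (89, 321, 1, 960),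
    (657409, 321, 1, 0), (4734977, 321, 0, 1524), (32835, 321, 0, 0), (16649, 322, 1, 1663), (8454177, 322, 0, 3495),
    (33285, 322, 0, 0), (2424833, 323, 1, 404), (2209, 322, 0, 1286), (553, 323, 1, 876), (4722689, 322, 0, 1149),
    (12591105, 322, 0, 3933), (1069057, 320, 0, 769), (525377, 320, 1, 394), (12293, 318, 0, 370), (4390913, 318, 0, 67),
    (4358145, 318, 0, 0), (4195457, 319, 1, 2087), (98321, 318, 0, 0), (2360321, 318, 1, 1475), (6153, 318, 0, 960),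
    (589833, 319, 1, 394), (2359553, 319, 1, 1250), (67713, 319, 1, 0), (1048589, 319, 1, 589), (270849, 319, 0, 1675),
    (8388881, 318, 1, 2933), (786441, 318, 1, 210), (2129, 318, 1, 0), (303105, 318, 0, 0), (10486273, 319, 1, 3686),
    (69637, 319, 0, 630), (295041, 320, 1, 543), (561153, 320, 1, 1569), (524361, 319, 0, 2542), (8421393, 318, 0, 0),
    (17411, 318, 0, 1169), (113, 319, 1, 3734), (266249, 319, 0, 1837), (2055, 319, 0, 951), (1061, 320, 1, 3734),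
    (5137, 319, 0, 386), (394241, 320, 1, 85), (3089, 320, 0, 1925), (4198529, 321, 1, 548), (1114241, 321, 1, 1354),
    (606209, 321, 1, 1487), (262169, 321, 0, 699), (10502145, 320, 1, 3093), (2097201, 320, 0, 386), (86017, 320, 0, 918),
    (32837, 320, 0, 0), (327683, 320, 0, 267), (264201, 320, 0, 1304), (8388753, 321, 1, 2534), (1179657, 321, 1, 589),
    (16433, 321, 0, 585), (401, 320, 0, 3087), (2103297, 321, 1, 0), (1052705, 321, 1, 3867), (16961, 320, 0, 769),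
    (541185, 318, 0, 175), (4199425, 318, 1, 630), (673, 318, 1, 876), (1105, 318, 1, 3734), (5373953, 318, 1, 1019),
    (2109441, 318, 0, 140), (12648449, 319, 1, 3872), (8389377, 319, 0, 2959), (525315, 320, 1, 878), (449, 319, 1, 4023),
    (8650881, 319, 0, 2775), (1048611, 320, 1, 1354), (558081, 315, 0, 0), (787457, 315, 0, 175), (4980737, 315, 0, 1149),
    (1057281, 315, 1, 714), (65573, 312, 0, 3495), (2097, 313, 1, 0), (8241, 312, 0, 417), (32805, 313, 1, 1700),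
    (263681, 312, 0, 175), (8393729, 313, 1, 3058), (1064977, 313, 0, 1925), (75, 312, 1, 1501), (590849, 312, 1, 394),
    (8389185, 312, 1, 4023), (523, 312, 1, 1501), (18449, 312, 1, 0), (8437761, 311, 0, 0), (2059, 312, 1, 0),
    (2097473, 312, 0, 1882)]

def sx_c3_12 : List (ℕ × ℕ × ℕ × ℕ) :=
  [(4109, 313, 1, 1786), (262721, 313, 0, 1882), (278657, 313, 0, 1272), (4865, 314, 1, 1450), (71681, 314, 0, 630),
    (1048657, 315, 1, 1019), (12801, 315, 0, 2959), (8392833, 315, 0, 2775), (524433, 315, 0, 699), (598017, 316, 1, 417),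
    (5242889, 316, 1, 548), (98307, 316, 0, 0), (65921, 316, 0, 543), (139329, 316, 0, 839), (2621473, 315, 0, 38),
    (6291713, 315, 1, 1450), (132101, 315, 0, 1044), (16643, 314, 0, 1169), (4196865, 313, 1, 0), (20737, 313, 0, 1169),
    (2113569, 312, 1, 376), (264257, 311, 1, 0), (65543, 311, 0, 787), (114689, 311, 0, 0), (2097537, 312, 1, 1663),
    (2113553, 312, 0, 1360), (65633, 311, 1, 691), (20609, 311, 0, 918), (2367489, 312, 1, 140), (327937, 311, 0, 543),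
    (1169, 311, 1, 1925), (39, 311, 0, 370), (8421385, 312, 1, 3773), (4195841, 312, 0, 1860), (8398849, 309, 1, 0),
    (4195585, 308, 0, 1860), (132099, 308, 1, 2087), (33283, 304, 0, 0), (4259873, 304, 0, 67), (264225, 303, 1, 0),
    (262403, 303, 1, 2126), (26625, 303, 1, 0), (270369, 301, 0, 1675), (4194689, 301, 0, 1860), (69761, 300, 0, 918),
    (270345, 300, 0, 1564), (4194323, 299, 1, 185), (4385, 299, 0, 1149), (541697, 299, 0, 175), (8462337, 299, 0, 2959),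
    (4200449, 299, 0, 630), (1054721, 299, 0, 3867), (8394753, 300, 1, 0), (16395, 298, 1, 1663), (5275649, 298, 1, 1239),
    (671745, 298, 0, 1524), (327809, 299, 1, 543), (74753, 299, 0, 1538), (262433, 300, 1, 1250), (1187841, 300, 0, 560),
    (688129, 301, 1, 1524), (16391, 300, 0, 1272), (8425473, 301, 1, 3867), (36867, 301, 1, 1569), (5243137, 301, 0, 1239),
    (32787, 301, 0, 0), (2097667, 301, 0, 1882), (36993, 300, 0, 0), (8388745, 300, 1, 3773), (1179905, 300, 1, 589),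
    (57345, 299, 0, 0), (295937, 299, 1, 1304), (36869, 299, 1, 630), (68609, 298, 0, 630), (4194345, 298, 0, 1637),
    (1181697, 298, 0, 3867), (6149, 299, 1, 0), (4194435, 298, 0, 1272), (8454401, 299, 1, 3872), (4218881, 296, 0, 3933),
    (2102273, 293, 1, 570), (1310977, 289, 0, 3730), (40977, 287, 1, 417), (8389761, 287, 1, 2087), (8385, 287, 0, 503),
    (2359305, 287, 1, 2105), (293, 286, 0, 1700), (16481, 284, 0, 585), (295425, 281, 0, 0), (139297, 277, 0, 261),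
    (528387, 277, 0, 1569), (524809, 277, 1, 210), (69665, 276, 0, 918), (45057, 276, 0, 0), (131085, 276, 1, 589),
    (163857, 276, 1, 951)]

def sx_c3_13 : List (ℕ × ℕ × ℕ × ℕ) :=
  [(8912905, 276, 0, 2542), (4196355, 275, 1, 0), (4718849, 271, 0, 1149), (335873, 271, 0, 1564), (131153, 270, 0, 585),
    (2621445, 271, 1, 1786), (4718595, 270, 1, 404), (5249, 269, 0, 2775), (262157, 266, 0, 1837), (12583937, 266, 0, 3933),
    (196611, 267, 1, 1260), (4718601, 267, 1, 1524), (325, 266, 0, 2750), (10257, 266, 0, 417), (8389641, 267, 1, 3058),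
    (833, 267, 1, 4023), (528393, 266, 0, 1458), (9438209, 267, 1, 3823), (655393, 266, 1, 1677), (524549, 266, 1, 60),
    (1638401, 266, 1, 1487), (266257, 260, 0, 267), (585, 260, 0, 2542), (69635, 253, 0, 267), (16409, 251, 1, 2007),
    (4137, 251, 0, 918), (8289, 252, 1, 1966), (3149825, 250, 1, 570), (8650761, 250, 1, 2105), (4227089, 247, 0, 0),
    (524577, 248, 1, 1677), (12587009, 248, 1, 3393), (2098193, 247, 0, 386), (529409, 246, 1, 85), (135177, 246, 0, 1837),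
    (131361, 244, 0, 261), (263, 242, 1, 2126), (8912913, 242, 0, 3210), (4259969, 242, 1, 1849), (10486017, 242, 0, 2988),
    (1043, 243, 1, 1131), (8709, 240, 1, 714), (262417, 240, 0, 1962), (6299649, 240, 1, 1325), (8390913, 230, 1, 0),
    (344065, 225, 0, 175), (8519685, 226, 1, 3184), (2117633, 225, 1, 140), (263233, 225, 0, 2775), (524419, 221, 0, 1569),
    (9568257, 221, 0, 3867), (8650755, 222, 1, 2126), (1031, 218, 0, 3374), (32803, 216, 1, 1304), (8650769, 216, 1, 3667),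
    (133125, 216, 0, 951), (132225, 214, 0, 1044), (4198657, 212, 0, 1149), (8388993, 210, 0, 3087), (1049603, 211, 1, 570),
    (4227137, 211, 0, 0), (278561, 205, 0, 585), (8389697, 205, 0, 2775), (2101253, 205, 1, 1786), (33409, 201, 0, 0),
    (8388633, 202, 1, 2646), (1049665, 202, 0, 2003), (8389129, 203, 1, 3058), (8454209, 195, 1, 3161), (526465, 189, 0, 1569),
    (417, 177, 1, 1003), (4194821, 175, 1, 1501), (274433, 173, 1, 140), (53, 173, 0, 1637), (1056801, 164, 1, 1966),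
    (4210693, 163, 0, 1272), (81937, 161, 1, 2007), (106497, 160, 1, 417), (561, 158, 0, 386), (6324225, 157, 0, 0),
    (2130049, 156, 0, 0), (565249, 152, 1, 417), (131233, 149, 0, 1044), (2637825, 146, 0, 38), (2099265, 116, 0, 1286),
    (525321, 106, 0, 1458), (4325409, 107, 1, 898), (10485793, 98, 0, 3495), (2228353, 91, 1, 1884), (262281, 91, 1, 548),
    (1541, 89, 0, 3374), (8337, 89, 0, 1987), (2069, 89, 1, 0), (133153, 81, 0, 3867), (131265, 33, 1, 1544)]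

def sx_c3_L_0 : List ℕ := [15]

theorem sx_c3_reach_0 : ∀ c ∈ sx_c3_L_0, ReachX objS (stabX objT 61565) 15 c := by
  intro c hc
  rw [List.mem_singleton.1 hc]
  exact ReachX.refl _ _ _

def sx_c3_cert_0 : List (ℕ × ℕ × ℕ × ℕ) :=
  sx_c3_0 ++ sx_c3_1 ++ sx_c3_2

def sx_c3_L_1 : List ℕ := (sx_c3_cert_0.map (fun e => e.1)).reverse ++ sx_c3_L_0

theorem sx_c3_fold_0 : sx_c3_cert_0.foldl (stepX chkS (tabOf tl)) (some sx_c3_L_0) = some sx_c3_L_1 := by
  decide +kernel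

theorem sx_c3_reach_1 : ∀ c ∈ sx_c3_L_1, ReachX objS (stabX objT 61565) 15 c :=
  certX_sound soundS (stabX_le _ _) good 15 sx_c3_cert_0 sx_c3_L_0 sx_c3_L_1 sx_c3_reach_0 sx_c3_fold_0

def sx_c3_cert_1 : List (ℕ × ℕ × ℕ × ℕ) :=
  sx_c3_3 ++ sx_c3_4 ++ sx_c3_5

def sx_c3_L_2 : List ℕ := (sx_c3_cert_1.map (fun e => e.1)).reverse ++ sx_c3_L_1

theorem sx_c3_fold_1 : sx_c3_cert_1.foldl (stepX chkS (tabOf tl)) (some sx_c3_L_1) = some sx_c3_L_2 := by
  decide +kernel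

theorem sx_c3_reach_2 : ∀ c ∈ sx_c3_L_2, ReachX objS (stabX objT 61565) 15 c :=
  certX_sound soundS (stabX_le _ _) good 15 sx_c3_cert_1 sx_c3_L_1 sx_c3_L_2 sx_c3_reach_1 sx_c3_fold_1

def sx_c3_cert_2 : List (ℕ × ℕ × ℕ × ℕ) :=
  sx_c3_6 ++ sx_c3_7 ++ sx_c3_8

def sx_c3_L_3 : List ℕ := (sx_c3_cert_2.map (fun e => e.1)).reverse ++ sx_c3_L_2

theorem sx_c3_fold_2 : sx_c3_cert_2.foldl (stepX chkS (tabOf tl)) (some sx_c3_L_2) = some sx_c3_L_3 := by
  decide +kernel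

theorem sx_c3_reach_3 : ∀ c ∈ sx_c3_L_3, ReachX objS (stabX objT 61565) 15 c :=
  certX_sound soundS (stabX_le _ _) good 15 sx_c3_cert_2 sx_c3_L_2 sx_c3_L_3 sx_c3_reach_2 sx_c3_fold_2

def sx_c3_cert_3 : List (ℕ × ℕ × ℕ × ℕ) :=
  sx_c3_9 ++ sx_c3_10 ++ sx_c3_11

def sx_c3_L_4 : List ℕ := (sx_c3_cert_3.map (fun e => e.1)).reverse ++ sx_c3_L_3

theorem sx_c3_fold_3 : sx_c3_cert_3.foldl (stepX chkS (tabOf tl)) (some sx_c3_L_3) = some sx_c3_L_4 := by
  decide +kernel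

theorem sx_c3_reach_4 : ∀ c ∈ sx_c3_L_4, ReachX objS (stabX objT 61565) 15 c :=
  certX_sound soundS (stabX_le _ _) good 15 sx_c3_cert_3 sx_c3_L_3 sx_c3_L_4 sx_c3_reach_3 sx_c3_fold_3

def sx_c3_cert_4 : List (ℕ × ℕ × ℕ × ℕ) :=
  sx_c3_12 ++ sx_c3_13

def sx_c3_L_5 : List ℕ := (sx_c3_cert_4.map (fun e => e.1)).reverse ++ sx_c3_L_4

theorem sx_c3_fold_4 : sx_c3_cert_4.foldl (stepX chkS (tabOf tl)) (some sx_c3_L_4) = some sx_c3_L_5 := by
  decide +kernel

theorem sx_c3_reach_5 : ∀ c ∈ sx_c3_L_5, ReachX objS (stabX objT 61565) 15 c :=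
  certX_sound soundS (stabX_le _ _) good 15 sx_c3_cert_4 sx_c3_L_4 sx_c3_L_5 sx_c3_reach_4 sx_c3_fold_4

def sx_c3_list : List ℕ := sx_c3_L_5

theorem sx_c3_reach : ∀ c ∈ sx_c3_list, ReachX objS (stabX objT 61565) 15 c := sx_c3_reach_5

def sx_lists : ℕ → List ℕ
  | 0 => sx_c0_list
  | 1 => sx_c1_list
  | 2 => sx_c2_list
  | 3 => sx_c3_list
  | _ => []

def sx_roots : ℕ → ℕ
  | 0 => 549
  | 1 => 101
  | 2 => 23
  | 3 => 15
  | _ => 0

def sx_nF : ℕ → ℕ
  | 0 => 7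
  | 1 => 84
  | 2 => 336
  | 3 => 1344
  | _ => 0

theorem sx_hreach : ∀ k < 4, ∀ c ∈ sx_lists k, ReachX objS (stabX objT 61565) (sx_roots k) c := by
  intro k hk c hc
  interval_cases k
  · exact sx_c0_reach c hc
  · exact sx_c1_reach c hc
  · exact sx_c2_reach c hc
  · exact sx_c3_reach c hc

def sx_allL : List ℕ := (List.range 4).flatMap sx_lists

theorem sx_nodupB : nodupB sx_allL = true := by decide +kernel

theorem sx_nodup : sx_allL.Nodup := nodup_of_nodupB sx_nodupB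

theorem sx_len : sx_allL.length = 1771 := by decide +kernel

theorem sx_lens : ∀ k < 4, (sx_lists k).length = sx_nF k := by decide +kernel

theorem sx_root_mem : ∀ k < 4, sx_roots k ∈ sx_lists k := by decide +kernel

theorem oc_ok : ∀ m ∈ oc_allL, m < 4096 ∧ popc (combo m) = 8 := by decide +kernel

theorem oc_hinj : ∀ m ∈ oc_allL, ∀ m' ∈ oc_allL, objO m = objO m' → m = m' :=
  fun m hm m' hm' h => objO_injOn (oc_ok m hm).1 (oc_ok m' hm').1 h

theorem oc_hmem : ∀ m ∈ oc_allL, objO m ∈ octads := fun m hm => objO_mem_octads (oc_ok m hm).2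

theorem oc_hcover : ∀ y ∈ octads, ∃ m ∈ oc_allL, objO m = y :=
  cover_of_card objO octads oc_allL (Set.toFinite _) oc_nodup oc_hinj oc_hmem
    (by rw [Cfsg.Agent.S0360.result, oc_len])

theorem oc_arith : ∀ k < 3, ∀ J ∈ (Finset.range 3).powerset, k ∈ J →
    (∑ j ∈ J, oc_nF j) ∣ 64512 → J = {k} := by
  decide

theorem oc_main : (∀ k < 3, objO (oc_roots k) ∈ octads ∧
    (MulAction.orbit ↥(MulAction.stabilizer ↥M24 (objT 61565)) (objO (oc_roots k))).ncard = oc_nF k) ∧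
    (∀ y ∈ octads, ∃ k < 3,
      y ∈ MulAction.orbit ↥(MulAction.stabilizer ↥M24 (objT 61565)) (objO (oc_roots k))) :=
  orbits_from_certs (MulAction.stabilizer ↥M24 (objT 61565)) (stabX objT 61565)
  mem_stab_iff (stabX_le _ _) octads (Set.toFinite _) smul_mem_octads' objO 3 oc_lists oc_roots
  oc_nF oc_nodup oc_hinj oc_hcover oc_hmem oc_hreach oc_lens oc_root_mem 64512 card_stab oc_arith

theorem sx_ok : ∀ m ∈ sx_allL, m < 2 ^ 24 ∧ popc m = 4 ∧ m.testBit 0 = true := by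
  decide +kernel

theorem sx_hinj : ∀ m ∈ sx_allL, ∀ m' ∈ sx_allL, objS m = objS m' → m = m' := by
  intro m hm m' hm' h
  obtain ⟨h1, h2, h3⟩ := sx_ok m hm
  obtain ⟨h1', h2', h3'⟩ := sx_ok m' hm'
  exact objS_injOn h1 h1' h2 h2' h3 h3' h

theorem sx_hmem : ∀ m ∈ sx_allL, objS m ∈ sextets := fun m hm => objS_mem (sx_ok m hm).2.1

theorem sx_hcover : ∀ y ∈ sextets, ∃ m ∈ sx_allL, objS m = y :=
  cover_of_card objS sextets sx_allL (Set.toFinite _) sx_nodup sx_hinj sx_hmem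
    (by rw [Cfsg.Agent.S1550.count_sextets, sx_len])

theorem sx_arith : ∀ k < 4, ∀ J ∈ (Finset.range 4).powerset, k ∈ J →
    (∑ j ∈ J, sx_nF j) ∣ 64512 → J = {k} := by
  decide

theorem sx_main : (∀ k < 4, objS (sx_roots k) ∈ sextets ∧
    (MulAction.orbit ↥(MulAction.stabilizer ↥M24 (objT 61565)) (objS (sx_roots k))).ncard = sx_nF k) ∧
    (∀ y ∈ sextets, ∃ k < 4,
      y ∈ MulAction.orbit ↥(MulAction.stabilizer ↥M24 (objT 61565)) (objS (sx_roots k))) :=
  orbits_from_certs (MulAction.stabilizer ↥M24 (objT 61565)) (stabX objT 61565)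
  mem_stab_iff (stabX_le _ _) sextets (Set.toFinite _) (fun g hg y hy => smul_mem_sextets hg hy)
  objS 4 sx_lists sx_roots sx_nF sx_nodup sx_hinj sx_hcover sx_hmem sx_hreach sx_lens
  sx_root_mem 64512 card_stab sx_arith


/-- The stabiliser of a trio in the group of the length-24 code has exactly three orbits on the 759 octads, of sizes 3, 84 and 672, and exactly four orbits on the 1771 sextets, of sizes 7, 84, 336 and 1344. -/
theorem result (T : Finset (Finset Cfsg.GolayPt)) (hT : T ∈ Cfsg.trios) : (∃ X₁ ∈ Cfsg.octads, ∃ X₂ ∈ Cfsg.octads, ∃ X₃ ∈ Cfsg.octads, (MulAction.orbit ↥(MulAction.stabilizer Cfsg.M24 T) X₁).ncard = 3 ∧ (MulAction.orbit ↥(MulAction.stabilizer Cfsg.M24 T) X₂).ncard = 84 ∧ (MulAction.orbit ↥(MulAction.stabilizer Cfsg.M24 T) X₃).ncard = 672 ∧ Cfsg.octads = MulAction.orbit ↥(MulAction.stabilizer Cfsg.M24 T) X₁ ∪ MulAction.orbit ↥(MulAction.stabilizer Cfsg.M24 T) X₂ ∪ MulAction.orbit ↥(MulAction.stabilizer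 Cfsg.M24 T) X₃) ∧ (∃ Y₁ ∈ Cfsg.sextets, ∃ Y₂ ∈ Cfsg.sextets, ∃ Y₃ ∈ Cfsg.sextets, ∃ Y₄ ∈ Cfsg.sextets, (MulAction.orbit ↥(MulAction.stabilizer Cfsg.M24 T) Y₁).ncard = 7 ∧ (MulAction.orbit ↥(MulAction.stabilizer Cfsg.M24 T) Y₂).ncard = 84 ∧ (MulAction.orbit ↥(MulAction.stabilizer Cfsg.M24 T) Y₃).ncard = 336 ∧ (MulAction.orbit ↥(MulAction.stabilizer Cfsg.M24 T) Y₄).ncard = 1344 ∧ Cfsg.sextets = MulAction.orbit ↥(MulAction.stabilizer Cfsg.M24 T) Y₁ ∪ MulAction.orbit ↥(MulAction.stabilizer Cfsg.M24 T) Y₂ ∪ MulAction.orbit ↥(MulAction.stabilizer Cfsg.M24 T) Y₃ ∪ MulAction.orbit ↥(MulAction.stabilizer Cfsg.M24 T) Y₄) := by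
  obtain ⟨g, hg, hgT⟩ := M24_trans_trios T0_mem hT
  have hT' : T = (⟨g, hg⟩ : ↥M24) • objT 61565 := hgT.symm
  rw [hT']
  have hoinv : ∀ h : ↥M24, ∀ y ∈ octads, h • y ∈ octads := fun h y hy => smul_mem_octads h.2 hy
  have hsinv : ∀ h : ↥M24, ∀ y ∈ sextets, h • y ∈ sextets := fun h y hy => smul_mem_sextets h.2 hy
  obtain ⟨ho1, ho2⟩ := oc_main
  obtain ⟨hs1, hs2⟩ := sx_main
  constructor
  · refine ⟨(⟨g, hg⟩ : ↥M24) • objO (oc_roots 0), hoinv _ _ (ho1 0 (by norm_num)).1,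
      (⟨g, hg⟩ : ↥M24) • objO (oc_roots 1), hoinv _ _ (ho1 1 (by norm_num)).1,
      (⟨g, hg⟩ : ↥M24) • objO (oc_roots 2), hoinv _ _ (ho1 2 (by norm_num)).1, ?_, ?_, ?_, ?_⟩
    · rw [ncard_orbit_stabilizer_smul']; exact (ho1 0 (by norm_num)).2
    · rw [ncard_orbit_stabilizer_smul']; exact (ho1 1 (by norm_num)).2
    · rw [ncard_orbit_stabilizer_smul']; exact (ho1 2 (by norm_num)).2
    · exact eq_union3 octads (fun k => MulAction.orbit
        ↥(MulAction.stabilizer ↥M24 ((⟨g, hg⟩ : ↥M24) • objT 61565))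
        ((⟨g, hg⟩ : ↥M24) • objO (oc_roots k)))
        (fun k hk => orbit_subgroup_subset _ octads hoinv (hoinv _ _ (ho1 k hk).1))
        (cover_transport (⟨g, hg⟩ : ↥M24) (objT 61565) octads hoinv 3 (fun k => objO (oc_roots k)) ho2)
  · refine ⟨(⟨g, hg⟩ : ↥M24) • objS (sx_roots 0), hsinv _ _ (hs1 0 (by norm_num)).1,
      (⟨g, hg⟩ : ↥M24) • objS (sx_roots 1), hsinv _ _ (hs1 1 (by norm_num)).1,
      (⟨g, hg⟩ : ↥M24) • objS (sx_roots 2), hsinv _ _ (hs1 2 (by norm_num)).1,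
      (⟨g, hg⟩ : ↥M24) • objS (sx_roots 3), hsinv _ _ (hs1 3 (by norm_num)).1, ?_, ?_, ?_, ?_, ?_⟩
    · rw [ncard_orbit_stabilizer_smul']; exact (hs1 0 (by norm_num)).2
    · rw [ncard_orbit_stabilizer_smul']; exact (hs1 1 (by norm_num)).2
    · rw [ncard_orbit_stabilizer_smul']; exact (hs1 2 (by norm_num)).2
    · rw [ncard_orbit_stabilizer_smul']; exact (hs1 3 (by norm_num)).2
    · exact eq_union4 sextets (fun k => MulAction.orbit
        ↥(MulAction.stabilizer ↥M24 ((⟨g, hg⟩ : ↥M24) • objT 61565))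
        ((⟨g, hg⟩ : ↥M24) • objS (sx_roots k)))
        (fun k hk => orbit_subgroup_subset _ sextets hsinv (hsinv _ _ (hs1 k hk).1))
        (cover_transport (⟨g, hg⟩ : ↥M24) (objT 61565) sextets hsinv 4 (fun k => objS (sx_roots k)) hs2)

end Cfsg.Agent.S5612
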