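import Cfsg.Statements.S5615
import Mathlib
import Cfsg.Agent.Lib.Helper1.M24OctObj
import Cfsg.Agent.Lib.Helper1.M24OctStab
import Cfsg.Agent.Lib.Helper1.M24OctFix
import Cfsg.Agent.Lib.Helper1.M24Trios
import Cfsg.Agent.Lib.Helper1.M24Classes
import Cfsg.Agent.S1557

set_option autoImplicit false
open scoped Pointwise
open Cfsg

namespace Cfsg.Agent.S5615


open Cfsg.Agent.Lib.Helper1
open Cfsg.Agent.S1557 (trioOf trio_eq trioOf_mem support₂_add_add_one)

/-- every octad is a codeword support -/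
theorem exists_supp_of_octad {o : Finset GolayPt} (ho : o ∈ octads) :
    ∃ k < 4096, popc (combo k) = 8 ∧ supp k = o := by
  obtain ⟨⟨w, hw, rfl⟩, h8⟩ := ho
  obtain ⟨k, hk, hmk⟩ := exists_combo_of_mem hw
  have hwk : w = wordOf k := mask_injective (by rw [hmk, mask_wordOf])
  refine ⟨k, hk, ?_, by rw [hwk]; rfl⟩
  have h8' : (support₂ w).card = 8 := h8
  rw [card_support₂, hmk] at h8'
  exact h8'

theorem trioOf_supp (a b : ℕ) (hd : Disjoint (supp a) (supp b)) :
    trioOf ⟨supp a, supp b⟩ = ({a, b, a ^^^ b ^^^ 2048} : Finset ℕ).image supp := by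
  rw [image_supp_triple]
  unfold trioOf
  have h3 : supp (a ^^^ b ^^^ 2048) = (supp a ∪ supp b)ᶜ := by
    unfold supp
    rw [wordOf_xor, wordOf_xor, wordOf_2048]
    exact support₂_add_add_one _ _ hd
  rw [h3]

theorem objT_eq_image (n : ℕ) : objT n =
    ({n / 4096, n % 4096, (n / 4096) ^^^ (n % 4096) ^^^ 2048} : Finset ℕ).image supp := by
  rw [image_supp_triple]
  rfl

def wsK : List (List ℕ) := [[2, 3, 3, 0, 2, 0, 3, 3, 2], [2, 1, 3, 2, 0, 0, 3]]

def tlK : List (Fin 24 → Fin 24) := [![17, 3, 0, 1, 20, 14, 19, 7, 16, 21, 6, 10, 15, 22, 5, 11, 13, 2, 4, 12, 18, 8, 9, 23], ![14, 3, 5, 2, 16, 0, 18, 20, 10, 15, 8, 13, 21, 9, 23, 22, 11, 17, 12, 7, 6, 4, 19, 1]]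

theorem tlK_ok : ∀ l < tlK.length, ∀ i : Fin 24, tlK.getD l id i = evalT (wsK.getD l []) i := by
  decide +kernel

theorem tlK_fix : ∀ l < tlK.length, chkO (tlK.getD l id) 2503 2503 (([] : List ℕ).getD l 0) = true := by
  decide +kernel

theorem goodK : GoodTabs (stabX objO 2503) (tabOf tlK) :=
  goodTabs_stabX soundO 2503 wsK tlK [] tlK_ok tlK_fix

/-- the pair of the base octad and a trio -/
def objP (n : ℕ) : Finset GolayPt × Finset (Finset GolayPt) := (objO 2503, objT n)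

def chkP (T : Fin 24 → Fin 24) (pn n w : ℕ) : Bool := chkO T 2503 2503 0 && chkT T pn n w

theorem soundP : SoundChk objP chkP := by
  intro g hg T hT pn n w h
  unfold chkP at h
  rw [Bool.and_eq_true] at h
  unfold objP
  rw [Prod.smul_mk, soundO g hg T hT _ _ _ h.1, soundT g hg T hT _ _ _ h.2]

def wsK1 : List (List ℕ) := [[0, 3, 1, 4, 4, 4, 1, 3], [3, 0, 4, 1, 1, 2, 3, 0, 4, 1, 2]]

def tlK1 : List (Fin 24 → Fin 24) := [![14, 5, 0, 1, 4, 2, 15, 22, 18, 21, 12, 19, 11, 9, 17, 8, 16, 3, 7, 13, 6, 10, 20, 23], ![1, 14, 3, 23, 8, 2, 15, 4, 6, 10, 16, 19, 12, 11, 5, 20, 21, 17, 18, 9, 22, 13, 7, 0]]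

def wlK1 : List ℕ := [143844, 143844]

theorem tlK1_ok : ∀ l < tlK1.length, ∀ i : Fin 24, tlK1.getD l id i = evalT (wsK1.getD l []) i := by
  decide +kernel

theorem tlK1_fix : ∀ l < tlK1.length, chkP (tlK1.getD l id) 143844 143844 (wlK1.getD l 0) = true := by
  decide +kernel

theorem goodK1 : GoodTabs (stabX objP 143844) (tabOf tlK1) :=
  goodTabs_stabX soundP 143844 wsK1 tlK1 wlK1 tlK1_ok tlK1_fix

theorem mem_K1 {g : Equiv.Perm GolayPt} :
    g ∈ stabX objP 143844 ↔ g ∈ M24 ∧ g • oct0 = oct0 ∧ g • objT 143844 = objT 143844 := by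
  rw [mem_stabX]
  unfold objP
  rw [Prod.smul_mk, Prod.mk.injEq]
  rfl

def A_c0_0 : List (ℕ × ℕ × ℕ × ℕ) :=
  [(7137033, 0, 0, 7137033), (4306396, 1, 1, 6145051), (7264042, 1, 0, 7264042), (770427, 2, 1, 770427), (4736323, 2, 0, 4736323),
    (3105585, 3, 1, 3105585), (4879712, 3, 1, 5637287), (2528174, 3, 1, 2528174), (6625174, 3, 0, 7956049), (651608, 2, 0, 1409183),
    (6760373, 2, 0, 8083058), (4425215, 2, 0, 6288440), (2970386, 2, 0, 3220181), (2401165, 1, 0, 2401165)]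

def A_c0_L_0 : List ℕ := [143844]

theorem A_c0_reach_0 : ∀ c ∈ A_c0_L_0, ReachX objT (stabX objO 2503) 143844 c := by
  intro c hc
  rw [List.mem_singleton.1 hc]
  exact ReachX.refl _ _ _

def A_c0_cert_0 : List (ℕ × ℕ × ℕ × ℕ) :=
  A_c0_0

def A_c0_L_1 : List ℕ := (A_c0_cert_0.map (fun e => e.1)).reverse ++ A_c0_L_0

theorem A_c0_fold_0 : A_c0_cert_0.foldl (stepX chkT (tabOf tlK)) (some A_c0_L_0) = some A_c0_L_1 := by
  decide +kernel

theorem A_c0_reach_1 : ∀ c ∈ A_c0_L_1, ReachX objT (stabX objO 2503) 143844 c :=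
  certX_sound soundT (stabX_le _ _) goodK 143844 A_c0_cert_0 A_c0_L_0 A_c0_L_1 A_c0_reach_0 A_c0_fold_0

def A_c0_list : List ℕ := A_c0_L_1

theorem A_c0_reach : ∀ c ∈ A_c0_list, ReachX objT (stabX objO 2503) 143844 c := A_c0_reach_1

def A_lists : ℕ → List ℕ
  | 0 => A_c0_list
  | _ => []

def A_roots : ℕ → ℕ
  | 0 => 143844
  | _ => 0

def A_nF : ℕ → ℕ
  | 0 => 15
  | _ => 0

theorem A_hreach : ∀ k < 1, ∀ c ∈ A_lists k, ReachX objT (stabX objO 2503) (A_roots k) c := by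
  intro k hk c hc
  interval_cases k
  · exact A_c0_reach c hc

def A_allL : List ℕ := (List.range 1).flatMap A_lists

theorem A_nodupB : nodupB A_allL = true := by decide +kernel

theorem A_nodup : A_allL.Nodup := nodup_of_nodupB A_nodupB

theorem A_len : A_allL.length = 15 := by decide +kernel

theorem A_lens : ∀ k < 1, (A_lists k).length = A_nF k := by decide +kernel

theorem A_root_mem : ∀ k < 1, A_roots k ∈ A_lists k := by decide +kernel

def B_c0_0 : List (ℕ × ℕ × ℕ × ℕ) :=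
  [(4736323, 0, 0, 4736323), (4425215, 1, 1, 4425215), (7137033, 1, 0, 7378638), (3105585, 2, 1, 3105585), (2528174, 2, 0, 3859049),
    (7264042, 3, 1, 7264042), (6760373, 3, 1, 6760373), (6625174, 3, 0, 7956049), (2970386, 3, 0, 3220181), (4879712, 4, 1, 4879712),
    (4306396, 4, 0, 4306396), (770427, 3, 0, 770427), (2401165, 4, 1, 2401165)]

def B_c0_L_0 : List ℕ := [651608]

theorem B_c0_reach_0 : ∀ c ∈ B_c0_L_0, ReachX objT (stabX objP 143844) 651608 c := by
  intro c hc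
  rw [List.mem_singleton.1 hc]
  exact ReachX.refl _ _ _

def B_c0_cert_0 : List (ℕ × ℕ × ℕ × ℕ) :=
  B_c0_0

def B_c0_L_1 : List ℕ := (B_c0_cert_0.map (fun e => e.1)).reverse ++ B_c0_L_0

theorem B_c0_fold_0 : B_c0_cert_0.foldl (stepX chkT (tabOf tlK1)) (some B_c0_L_0) = some B_c0_L_1 := by
  decide +kernel

theorem B_c0_reach_1 : ∀ c ∈ B_c0_L_1, ReachX objT (stabX objP 143844) 651608 c :=
  certX_sound soundT (stabX_le _ _) goodK1 651608 B_c0_cert_0 B_c0_L_0 B_c0_L_1 B_c0_reach_0 B_c0_fold_0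

def B_c0_list : List ℕ := B_c0_L_1

theorem B_c0_reach : ∀ c ∈ B_c0_list, ReachX objT (stabX objP 143844) 651608 c := B_c0_reach_1

def B_lists : ℕ → List ℕ
  | 0 => B_c0_list
  | _ => []

def B_roots : ℕ → ℕ
  | 0 => 651608
  | _ => 0

def B_nF : ℕ → ℕ
  | 0 => 14
  | _ => 0

theorem B_hreach : ∀ k < 1, ∀ c ∈ B_lists k, ReachX objT (stabX objP 143844) (B_roots k) c := by
  intro k hk c hc
  interval_cases k
  · exact B_c0_reach c hc

def B_allL : List ℕ := (List.range 1).flatMap B_lists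

theorem B_nodupB : nodupB B_allL = true := by decide +kernel

theorem B_nodup : B_allL.Nodup := nodup_of_nodupB B_nodupB

theorem B_len : B_allL.length = 14 := by decide +kernel

theorem B_lens : ∀ k < 1, (B_lists k).length = B_nF k := by decide +kernel

theorem B_root_mem : ∀ k < 1, B_roots k ∈ B_lists k := by decide +kernel

def listA : List ℕ := A_c0_list

def listB : List ℕ := B_c0_list

theorem listA_nodup : listA.Nodup := by decide +kernel

theorem listA_length : listA.length = 15 := by decide +kernel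

theorem listA_ok : ∀ n ∈ listA, canonT n ∧ popc (combo (n / 4096)) = 8 ∧
    popc (combo (n % 4096)) = 8 ∧ combo (n / 4096) &&& combo (n % 4096) = 0 ∧
    2503 ∈ ({n / 4096, n % 4096, (n / 4096) ^^^ (n % 4096) ^^^ 2048} : Finset ℕ) := by
  decide +kernel

theorem listA_cover' : ∀ a < 64, ∀ b < 64, popc (combo (64 * a + b)) = 8 →
    popc (combo 2503 &&& combo (64 * a + b)) = 0 →
    ∃ n ∈ listA, ({n / 4096, n % 4096, (n / 4096) ^^^ (n % 4096) ^^^ 2048} : Finset ℕ) =
      {2503, 64 * a + b, 2503 ^^^ (64 * a + b) ^^^ 2048} := by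
  decide +kernel

theorem listA_cover (k : ℕ) (hk : k < 4096) (h8 : popc (combo k) = 8)
    (h0 : popc (combo 2503 &&& combo k) = 0) :
    ∃ n ∈ listA, ({n / 4096, n % 4096, (n / 4096) ^^^ (n % 4096) ^^^ 2048} : Finset ℕ) =
      {2503, k, 2503 ^^^ k ^^^ 2048} := by
  have h := listA_cover' (k / 64) (by omega) (k % 64) (by omega)
  rw [Nat.div_add_mod] at h
  exact h h8 h0

theorem listB_spec : ∀ m ∈ listA, m ≠ 143844 → m ∈ listB := by decide +kernel

theorem RA_mem : 143844 ∈ listA := by decide +kernel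

theorem MOVED_mem : 2401165 ∈ listA := by decide +kernel

theorem listA_mem {n : ℕ} (hn : n ∈ listA) : objT n ∈ trios ∧ oct0 ∈ objT n := by
  obtain ⟨_, h2, h3, h4, h5⟩ := listA_ok n hn
  refine ⟨objT_mem h2 h3 h4, ?_⟩
  rw [objT_eq_image]
  exact Finset.mem_image_of_mem supp h5

theorem cover {T : Finset (Finset GolayPt)} (hT : T ∈ trios) (ho : oct0 ∈ T) :
    ∃ n ∈ listA, objT n = T := by
  obtain ⟨o', ho', hne⟩ := Finset.exists_mem_ne (by rw [hT.1]; norm_num : 1 < T.card) oct0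
  have hoct := hT.2.1 o' ho'
  have hdis : Disjoint oct0 o' := hT.2.2 oct0 ho o' ho' hne.symm
  obtain ⟨k, hk, hk8, rfl⟩ := exists_supp_of_octad hoct
  have hpop : popc (combo 2503 &&& combo k) = 0 := by
    rw [← card_inter_supp', Finset.card_eq_zero, ← Finset.disjoint_iff_inter_eq_empty]
    exact hdis
  obtain ⟨n, hn, hset⟩ := listA_cover k hk hk8 hpop
  refine ⟨n, hn, ?_⟩
  rw [objT_eq_image, hset, ← trioOf_supp 2503 k hdis]
  exact trio_eq T hT oct0 (supp k) ho ho' hne.symm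

theorem base_A : {T : Finset (Finset GolayPt) | T ∈ trios ∧ oct0 ∈ T}.ncard = 15 := by
  have h1 : {T : Finset (Finset GolayPt) | T ∈ trios ∧ oct0 ∈ T} =
      objT '' ((listA.toFinset : Finset ℕ) : Set ℕ) := by
    ext T
    constructor
    · rintro ⟨hT, ho⟩
      obtain ⟨n, hn, rfl⟩ := cover hT ho
      exact ⟨n, by simpa using hn, rfl⟩
    · rintro ⟨n, hn, rfl⟩
      exact listA_mem (by simpa using hn)
  rw [h1, Set.InjOn.ncard_image, Set.ncard_coe_finset, List.toFinset_card_of_nodup listA_nodup,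
    listA_length]
  intro a ha b hb h
  have ha' : a ∈ listA := by simpa using ha
  have hb' : b ∈ listA := by simpa using hb
  exact objT_injOn (listA_ok a ha').1 (listA_ok b hb').1 h

theorem base_B (T₁ T₂ T₁' T₂' : Finset (Finset GolayPt)) (h1 : T₁ ∈ trios) (h2 : T₂ ∈ trios)
    (h1' : T₁' ∈ trios) (h2' : T₂' ∈ trios) (o1 : oct0 ∈ T₁) (o2 : oct0 ∈ T₂) (o1' : oct0 ∈ T₁')
    (o2' : oct0 ∈ T₂') (hne : T₁ ≠ T₂) (hne' : T₁' ≠ T₂') :
    ∃ g ∈ M24, g • oct0 = oct0 ∧ g • T₁ = T₁' ∧ g • T₂ = T₂' := by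
  have key : ∀ T1 T2 : Finset (Finset GolayPt), T1 ∈ trios → T2 ∈ trios → oct0 ∈ T1 → oct0 ∈ T2 →
      T1 ≠ T2 → ∃ h ∈ M24, h • oct0 = oct0 ∧ ∃ m ∈ listB, h • objT 143844 = T1 ∧ h • objT m = T2 := by
    intro T1 T2 hT1 hT2 ho1 ho2 hne12
    obtain ⟨n1, hn1, rfl⟩ := cover hT1 ho1
    obtain ⟨h, hh, hh1⟩ := A_hreach 0 (by norm_num) n1 hn1
    have hhM : h ∈ M24 := (mem_stabX.1 hh).1
    have hho : h • oct0 = oct0 := (mem_stabX.1 hh).2
    have hT2' : h⁻¹ • T2 ∈ trios := smul_mem_trios (inv_mem hhM) hT2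
    have ho2' : oct0 ∈ h⁻¹ • T2 := by
      rw [Finset.mem_inv_smul_finset_iff, hho]
      exact ho2
    obtain ⟨m, hm, hmT⟩ := cover hT2' ho2'
    have hh1' : h • objT 143844 = objT n1 := hh1
    have hmne : m ≠ 143844 := by
      rintro rfl
      apply hne12
      rw [← hh1', hmT, smul_inv_smul]
    exact ⟨h, hhM, hho, m, listB_spec m hm hmne, hh1', by rw [hmT, smul_inv_smul]⟩
  obtain ⟨h, hhM, hho, m, hm, e1, e2⟩ := key T₁ T₂ h1 h2 o1 o2 hne
  obtain ⟨h', hhM', hho', m', hm', e1', e2'⟩ := key T₁' T₂' h1' h2' o1' o2' hne'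
  obtain ⟨k, hk, hkm⟩ := ReachX.conj (B_hreach 0 (by norm_num) m hm) (B_hreach 0 (by norm_num) m' hm')
  obtain ⟨hkM, hko, hkA⟩ := mem_K1.1 hk
  have hho2 : h⁻¹ • oct0 = oct0 := inv_smul_eq_iff.2 hho.symm
  refine ⟨h' * k * h⁻¹, mul_mem (mul_mem hhM' hkM) (inv_mem hhM), ?_, ?_, ?_⟩
  · rw [mul_smul, mul_smul, hho2, hko, hho']
  · rw [← e1, mul_smul, mul_smul, inv_smul_smul, hkA, e1']
  · rw [← e2, mul_smul, mul_smul, inv_smul_smul, hkm, e2']

def wits : List (List ℕ) := [[2401165, 2970386, 4425215, 6760373, 651608, 6625174, 2528174, 4879712, 3105585, 4736323, 770427, 7264042, 4306396, 7137033, 143844], [2401165, 2970386, 6288440, 8083058, 651608, 6625174, 3859049, 5637287, 3347190, 4736323, 1552572, 7513837, 4306396, 7137033, 1982499], [3723850, 3220181, 4425215, 8083058, 651608, 6625174, 2528174, 4879712, 3105585, 5518468, 1552572, 7513837, 6145051, 7137033, 1982499], [3723850, 3220181, 6288440, 6760373, 651608, 7956049, 2528174, 5637287,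 3105585, 4736323, 1552572, 7264042, 4306396, 7378638, 1982499], [3723850, 2970386, 6288440, 6760373, 1409183, 6625174, 3859049, 4879712, 3105585, 4736323, 1552572, 7513837, 6145051, 7378638, 143844], [3723850, 3220181, 6288440, 6760373, 651608, 6625174, 3859049, 5637287, 3347190, 5518468, 770427, 7264042, 6145051, 7137033, 143844], [3723850, 3220181, 4425215, 8083058, 651608, 7956049, 3859049, 4879712, 3347190, 4736323, 770427, 7513837, 4306396, 7378638, 143844], [2401165, 3220181, 6288440, 8083058, 1409183, 7956049, 2528174, 4879712, 3347190, 4736323, 1552572, 7264042, 6145051, 7137033, 143844], [2401165, 2970386, 6288440, 8083058, 651608, 7956049, 2528174, 5637287, 3105585, 5518468, 770427, 7513837, 6145051, 7378638, 143844], [2401165, 3220181, 4425215, 6760373, 1409183, 6625174, 2528174, 5637287, 3347190, 5518468, 1552572, 7513837, 4306396, 7378638, 143844], [3723850, 2970386, 4425215, 8083058, 1409183, 7956049, 3859049, 5637287, 3105585,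 5518468, 1552572, 7264042, 4306396, 7137033, 143844], [2401165, 3220181, 6288440, 8083058, 1409183, 6625174, 3859049, 4879712, 3105585, 5518468, 770427, 7264042, 4306396, 7378638, 1982499], [3723850, 2970386, 6288440, 6760373, 1409183, 7956049, 2528174, 4879712, 3347190, 5518468, 770427, 7513837, 4306396, 7137033, 1982499], [3723850, 2970386, 4425215, 8083058, 1409183, 6625174, 2528174, 5637287, 3347190, 4736323, 770427, 7264042, 6145051, 7378638, 1982499], [2401165, 3220181, 4425215, 6760373, 1409183, 7956049, 3859049, 5637287, 3105585, 4736323, 770427, 7513837, 6145051, 7137033, 1982499], [2401165, 2970386, 4425215, 6760373, 651608, 7956049, 3859049, 4879712, 3347190, 5518468, 1552572, 7264042, 6145051, 7378638, 1982499]]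

theorem fix_trios : ∀ i < 16, ∀ j < 15, chkT (evalT (fixWords.getD i [])) (listA.getD j 0)
    (listA.getD j 0) ((wits.getD i []).getD j 0) = true := by
  decide +kernel

theorem evalW_fix {w : List ℕ} (hw : w ∈ fixWords) {n : ℕ} (hn : n ∈ listA) :
    evalW w • objT n = objT n := by
  have hsq := evalW_sq hw
  obtain ⟨i, hi, rfl⟩ := List.mem_iff_getElem.1 hw
  obtain ⟨j, hj, rfl⟩ := List.mem_iff_getElem.1 hn
  have hi16 : i < 16 := hi
  have hj15 : j < 15 := by rw [← listA_length]; exact hj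
  have hchk := fix_trios i hi16 j hj15
  rw [List.getD_eq_getElem _ _ hi, List.getD_eq_getElem _ _ hj] at hchk
  have hinv : (evalW fixWords[i])⁻¹ = evalW fixWords[i] := inv_eq_of_mul_eq_one_left hsq
  have hT : HasTable (evalW fixWords[i])⁻¹ (evalT fixWords[i]) := by
    rw [hinv]
    exact evalW_table _
  exact soundT _ (H0_le_M24 (evalW_mem _)) _ hT _ _ _ hchk

theorem base_C1 {g : Equiv.Perm GolayPt} (hg : g ∈ M24) (hfix : ∀ p ∈ oct0, g p = p)
    {T : Finset (Finset GolayPt)} (hT : T ∈ trios) (ho : oct0 ∈ T) : g • T = T := by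
  obtain ⟨w, hw, rfl⟩ := exists_word_of_mem_octFix (mem_octFix.2 ⟨hg, hfix⟩)
  obtain ⟨n, hn, rfl⟩ := cover hT ho
  exact evalW_fix hw hn

/-- the elements of the octad stabilizer fixing every trio through the octad -/
def NN : Subgroup ↥(stabO oct0) where
  carrier := {k | ∀ T ∈ trios, oct0 ∈ T → (k : Equiv.Perm GolayPt) • T = T}
  one_mem' := fun T _ _ => one_smul _ T
  mul_mem' := by
    intro a b ha hb T hT ho
    show ((a : Equiv.Perm GolayPt) * (b : Equiv.Perm GolayPt)) • T = T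
    rw [mul_smul, hb T hT ho, ha T hT ho]
  inv_mem' := by
    intro a ha T hT ho
    show ((a : Equiv.Perm GolayPt))⁻¹ • T = T
    rw [inv_smul_eq_iff, ha T hT ho]

theorem NN_normal : NN.Normal := by
  constructor
  intro n hn k T hT ho
  show ((k : Equiv.Perm GolayPt) * (n : Equiv.Perm GolayPt) * (k : Equiv.Perm GolayPt)⁻¹) • T = T
  have hk := mem_stabO.1 k.2
  have hT' : (k : Equiv.Perm GolayPt)⁻¹ • T ∈ trios := smul_mem_trios (inv_mem hk.1) hT
  have ho' : oct0 ∈ (k : Equiv.Perm GolayPt)⁻¹ • T := by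
    rw [Finset.mem_inv_smul_finset_iff, hk.2]
    exact ho
  rw [mul_smul, mul_smul, hn _ hT' ho', smul_inv_smul]

theorem base_C2 {g : Equiv.Perm GolayPt} (hg : g ∈ M24) (hgo : g • oct0 = oct0)
    (hfix : ∀ T ∈ trios, oct0 ∈ T → g • T = T) : ∀ p ∈ oct0, g p = p := by
  have hcard : 5 ≤ Nat.card ↥oct0 := by
    rw [Nat.card_eq_fintype_card, Fintype.card_coe, oct0_mem.2]
    norm_num
  haveI hsimple : IsSimpleGroup ↥(octRho oct0).range := by
    rw [range_octRho oct0 oct0_mem]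
    exact alternatingGroup.isSimpleGroup hcard
  have hsurj : Function.Surjective (octRho oct0).rangeRestrict :=
    (octRho oct0).rangeRestrict_surjective
  have hnorm : (NN.map (octRho oct0).rangeRestrict).Normal :=
    Subgroup.Normal.map NN_normal _ hsurj
  have gK : g ∈ stabO oct0 := mem_stabO.2 ⟨hg, hgo⟩
  have gN : (⟨g, gK⟩ : ↥(stabO oct0)) ∈ NN := hfix
  rcases hnorm.eq_bot_or_eq_top with hbot | htop
  · have h1 : (octRho oct0).rangeRestrict ⟨g, gK⟩ ∈ NN.map (octRho oct0).rangeRestrict :=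
      Subgroup.mem_map_of_mem _ gN
    rw [hbot, Subgroup.mem_bot] at h1
    have h2 : octRho oct0 ⟨g, gK⟩ = 1 := congrArg Subtype.val h1
    intro p hp
    exact congrArg (fun e : Equiv.Perm ↥oct0 => ((e ⟨p, hp⟩ : ↥oct0) : GolayPt)) h2
  · exfalso
    obtain ⟨k0, hk0, hk0m⟩ := A_hreach 0 (by norm_num) 2401165 MOVED_mem
    have k0K : k0 ∈ stabO oct0 := hk0
    have h1 : (octRho oct0).rangeRestrict ⟨k0, k0K⟩ ∈ NN.map (octRho oct0).rangeRestrict := by
      rw [htop]
      exact Subgroup.mem_top _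
    obtain ⟨n, hn, hfn⟩ := Subgroup.mem_map.1 h1
    have h2 : octRho oct0 (n⁻¹ * ⟨k0, k0K⟩) = 1 := by
      have h3 : (octRho oct0).rangeRestrict (n⁻¹ * ⟨k0, k0K⟩) = 1 := by
        rw [map_mul, map_inv, hfn, inv_mul_cancel]
      exact congrArg Subtype.val h3
    have h3 : ∀ p ∈ oct0, ((n⁻¹ * ⟨k0, k0K⟩ : ↥(stabO oct0)) : Equiv.Perm GolayPt) p = p := by
      intro p hp
      exact congrArg (fun e : Equiv.Perm ↥oct0 => ((e ⟨p, hp⟩ : ↥oct0) : GolayPt)) h2
    have hRA := listA_mem RA_mem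
    have h4 := base_C1 (mem_stabO.1 (n⁻¹ * ⟨k0, k0K⟩ : ↥(stabO oct0)).2).1 h3 hRA.1 hRA.2
    have h5 : (n : Equiv.Perm GolayPt) • objT 143844 = objT 143844 := hn _ hRA.1 hRA.2
    have h6 : k0 • objT 143844 = objT 143844 := by
      have h7 : ((n : Equiv.Perm GolayPt)⁻¹ * k0) • objT 143844 = objT 143844 := h4
      rw [mul_smul, inv_smul_eq_iff, h5] at h7
      exact h7
    have hk0m' : k0 • objT 143844 = objT 2401165 := hk0m
    rw [h6] at hk0m'
    have h8 := objT_injOn (listA_ok 143844 RA_mem).1 (listA_ok 2401165 MOVED_mem).1 hk0m'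
    exact absurd h8 (by decide)


/-- An octad of the length-24 code lies in exactly 15 trios; the stabiliser of the octad in the code's group acts doubly transitively on these 15 trios, and the kernel of this action is the pointwise stabiliser of the octad. -/
theorem result (o : Finset Cfsg.GolayPt) (ho : o ∈ Cfsg.octads) : {T : Finset (Finset Cfsg.GolayPt) | T ∈ Cfsg.trios ∧ o ∈ T}.ncard = 15 ∧ (∀ T₁ T₂ T₁' T₂' : Finset (Finset Cfsg.GolayPt), T₁ ∈ Cfsg.trios → T₂ ∈ Cfsg.trios → T₁' ∈ Cfsg.trios → T₂' ∈ Cfsg.trios → o ∈ T₁ → o ∈ T₂ → o ∈ T₁' → o ∈ T₂' → T₁ ≠ T₂ → T₁' ≠ T₂' → ∃ g ∈ Cfsg.M24, g • o = o ∧ g • T₁ = T₁' ∧ g • T₂ = T₂') ∧ ∀ g ∈ Cfsg.M24, g • o = o → ((∀ T ∈ Cfsg.trios, o ∈ T → g • T = T) ↔ ∀ p ∈ o, g p = p) := by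
  obtain ⟨g0, hg0, rfl⟩ := exists_smul_oct0 ho
  have hinvM := inv_mem hg0
  refine ⟨?_, ?_, ?_⟩
  · have h1 : {T : Finset (Finset GolayPt) | T ∈ trios ∧ g0 • oct0 ∈ T} =
        (fun T : Finset (Finset GolayPt) => g0 • T) '' {T | T ∈ trios ∧ oct0 ∈ T} := by
      ext T
      constructor
      · rintro ⟨hT, h⟩
        refine ⟨g0⁻¹ • T, ⟨smul_mem_trios hinvM hT, ?_⟩, smul_inv_smul g0 T⟩
        rw [Finset.mem_inv_smul_finset_iff]
        exact h
      · rintro ⟨T', ⟨hT', h⟩, rfl⟩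
        exact ⟨smul_mem_trios hg0 hT', Finset.smul_mem_smul_finset h⟩
    rw [h1, Set.ncard_image_of_injective _ (MulAction.injective g0)]
    exact base_A
  · intro T₁ T₂ T₁' T₂' h1 h2 h1' h2' o1 o2 o1' o2' hne hne'
    have hmem : ∀ T : Finset (Finset GolayPt), g0 • oct0 ∈ T → oct0 ∈ g0⁻¹ • T := by
      intro T h
      rw [Finset.mem_inv_smul_finset_iff]
      exact h
    obtain ⟨g, hg, hgo, e1, e2⟩ := base_B (g0⁻¹ • T₁) (g0⁻¹ • T₂) (g0⁻¹ • T₁') (g0⁻¹ • T₂')
      (smul_mem_trios hinvM h1) (smul_mem_trios hinvM h2) (smul_mem_trios hinvM h1')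
      (smul_mem_trios hinvM h2') (hmem _ o1) (hmem _ o2) (hmem _ o1') (hmem _ o2')
      (fun h => hne (MulAction.injective g0⁻¹ h)) (fun h => hne' (MulAction.injective g0⁻¹ h))
    refine ⟨g0 * g * g0⁻¹, mul_mem (mul_mem hg0 hg) hinvM, ?_, ?_, ?_⟩
    · rw [mul_smul, mul_smul, inv_smul_smul, hgo]
    · rw [mul_smul, mul_smul, e1, smul_inv_smul]
    · rw [mul_smul, mul_smul, e2, smul_inv_smul]
  · intro g hg hgo
    have hg' : g0⁻¹ * g * g0 ∈ M24 := mul_mem (mul_mem hinvM hg) hg0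
    have hg'o : (g0⁻¹ * g * g0) • oct0 = oct0 := by
      rw [mul_smul, mul_smul, hgo, inv_smul_smul]
    constructor
    · intro hfix p hp
      obtain ⟨p', hp', rfl⟩ := Finset.mem_smul_finset.1 hp
      have hfix' : ∀ T ∈ trios, oct0 ∈ T → (g0⁻¹ * g * g0) • T = T := by
        intro T hT hoT
        rw [mul_smul, mul_smul, hfix (g0 • T) (smul_mem_trios hg0 hT)
          (Finset.smul_mem_smul_finset hoT), inv_smul_smul]
      have h2 : g0⁻¹ (g (g0 p')) = p' := base_C2 hg' hg'o hfix' p' hp'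
      show g (g0 p') = g0 p'
      rw [Equiv.Perm.inv_def, Equiv.symm_apply_eq] at h2
      exact h2
    · intro hfix T hT hoT
      have hfix' : ∀ p' ∈ oct0, (g0⁻¹ * g * g0) p' = p' := by
        intro p' hp'
        show g0⁻¹ (g (g0 p')) = p'
        have h3 : g (g0 p') = g0 p' := hfix (g0 p') (Finset.smul_mem_smul_finset hp')
        rw [h3, Equiv.Perm.inv_def, Equiv.symm_apply_apply]
      have h4 := base_C1 hg' hfix' (smul_mem_trios hinvM hT)
        (by rw [Finset.mem_inv_smul_finset_iff]; exact hoT)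
      rw [mul_smul, mul_smul, smul_inv_smul] at h4
      exact MulAction.injective g0⁻¹ h4

end Cfsg.Agent.S5615
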