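import Mathlib
import Cfsg.Statements.S5627
import Cfsg.Agent.Lib.Lead.Steiner
import Cfsg.Agent.S0427

set_option autoImplicit false

open Cfsg

namespace Cfsg.Agent.S5627

open Finset Cfsg.Agent.Lib.Lead.Steiner

section plane

variable {α : Type*} [Fintype α] [DecidableEq α] (hα : Fintype.card α = 21)
  {L : Set (Finset α)} (hL : Cfsg.IsSteinerSystem 2 5 L)

include hα hL

lemma card_lines : (blocks L).card = 21 := by
  have h := card_blocks_superset hL ∅ (by simp)
  simp only [Finset.card_empty, Nat.sub_zero, Finset.empty_subset, Finset.filter_true, hα] at h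
  norm_num [Nat.choose] at h
  omega

lemma lines_through (p : α) : ((blocks L).filter (fun l => p ∈ l)).card = 5 := by
  have h := card_blocks_superset hL {p} (by simp)
  simp only [Finset.card_singleton, Finset.singleton_subset_iff, hα] at h
  norm_num [Nat.choose] at h
  omega

lemma lines_through_pair {p q : α} (hpq : p ≠ q) :
    ((blocks L).filter (fun l => p ∈ l ∧ q ∈ l)).card = 1 := by
  have h := card_blocks_superset hL {p, q} (by rw [Finset.card_pair hpq])
  simp only [Finset.card_pair hpq, Finset.insert_subset_iff, Finset.singleton_subset_iff, hα] at h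
  norm_num [Nat.choose] at h
  exact h

lemma inter_card_one {l m : Finset α} (hl : l ∈ L) (hm : m ∈ L) (hlm : l ≠ m) :
    (l ∩ m).card = 1 := by
  have e0 := inter_equations hL hl 0 (by norm_num)
  have e1 := inter_equations hL hl 1 (by norm_num)
  rw [hα] at e0 e1
  simp only [Finset.sum_range_succ, Finset.sum_range_zero] at e0 e1
  norm_num [Nat.choose] at e0 e1
  have hlt := card_inter_lt hL hl hm hlm
  have h0 : interCount L l 0 = 0 := by omega
  have n0 := card_inter_ne_of_interCount_eq_zero h0 hm hlm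
  omega

lemma T2 (X Y : Finset α) :
    ∑ l ∈ blocks L, (X ∩ l).card * (Y ∩ l).card = 4 * (X ∩ Y).card + X.card * Y.card := by
  rw [Cfsg.Agent.S0427.sum_inter_mul]
  have h1 : ∀ p ∈ X, ∀ q ∈ Y, ((blocks L).filter (fun d => p ∈ d ∧ q ∈ d)).card =
      1 + (if p = q then 4 else 0) := by
    intro p _ q _
    by_cases hpq : p = q
    · subst hpq
      simp only [and_self, if_true]
      exact lines_through hα hL p
    · rw [if_neg hpq, lines_through_pair hα hL hpq]
  rw [Finset.sum_congr rfl (fun p hp => Finset.sum_congr rfl (fun q hq => h1 p hp q hq))]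
  simp only [Finset.sum_add_distrib, Finset.sum_const, smul_eq_mul, Finset.sum_ite_eq]
  rw [← Finset.sum_filter, Finset.sum_const, Finset.filter_mem_eq_inter, smul_eq_mul]
  ring

lemma T1 (X : Finset α) : ∑ l ∈ blocks L, (X ∩ l).card = 5 * X.card := by
  have h1 : ∀ l : Finset α, (X ∩ l).card = ∑ p ∈ X, if p ∈ l then 1 else 0 := by
    intro l
    rw [← Finset.filter_mem_eq_inter, Finset.card_filter]
  simp_rw [h1]
  rw [Finset.sum_comm]
  have h2 : ∀ p ∈ X, ∑ l ∈ blocks L, (if p ∈ l then 1 else 0) = 5 := by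
    intro p _
    rw [← Finset.card_filter]
    exact lines_through hα hL p
  rw [Finset.sum_congr rfl h2, Finset.sum_const, smul_eq_mul, mul_comm]

end plane

section incidence

variable {α : Type*} [Fintype α] [DecidableEq α]

/-- first and second moments of the number of lines of a family through a point -/
lemma moment1 (M : Finset (Finset α)) :
    ∑ x : α, (M.filter (fun l => x ∈ l)).card = ∑ l ∈ M, l.card := by
  simp_rw [Finset.card_filter]
  rw [Finset.sum_comm]
  apply Finset.sum_congr rfl
  intro l _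
  rw [← Finset.card_filter]
  congr 1
  ext x; simp

lemma moment2 (M : Finset (Finset α)) :
    ∑ x : α, (M.filter (fun l => x ∈ l)).card * (M.filter (fun l => x ∈ l)).card =
      ∑ l ∈ M, ∑ m ∈ M, (l ∩ m).card := by
  simp_rw [Finset.card_filter, Finset.sum_mul_sum]
  rw [Finset.sum_comm]
  apply Finset.sum_congr rfl
  intro l _
  rw [Finset.sum_comm]
  apply Finset.sum_congr rfl
  intro m _
  have h3 : ∀ x : α, ((if x ∈ l then 1 else 0) * (if x ∈ m then 1 else 0) : ℕ) =
      if x ∈ l ∩ m then 1 else 0 := by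
    intro x
    by_cases h1 : x ∈ l <;> by_cases h2 : x ∈ m <;> simp [h1, h2]
  simp_rw [h3]
  rw [← Finset.card_filter]
  congr 1
  ext x; simp

end incidence


section arc

variable {α : Type*} [Fintype α] [DecidableEq α]

/-- the secants of a set of points -/
noncomputable def Sec (L : Set (Finset α)) (S : Finset α) : Finset (Finset α) :=
  (blocks L).filter (fun l => (S ∩ l).card = 2)

/-- the number of secants through a point -/
noncomputable def nsec (L : Set (Finset α)) (S : Finset α) (x : α) : ℕ :=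
  ((Sec L S).filter (fun l => x ∈ l)).card

variable (hα : Fintype.card α = 21) {L : Set (Finset α)} (hL : Cfsg.IsSteinerSystem 2 5 L)
  {S : Finset α} (hS4 : S.card = 4) (hS : ∀ l ∈ L, (S ∩ l).card ≤ 2)

include hα hL hS4 hS

lemma sec_card : (Sec L S).card = 6 := by
  have h1 := T1 hα hL S
  have h2 := T2 hα hL S S
  rw [Finset.inter_self, hS4] at h2
  rw [hS4] at h1
  have hpt : ∀ l ∈ blocks L, (S ∩ l).card * (S ∩ l).card =
      (S ∩ l).card + 2 * (if (S ∩ l).card = 2 then 1 else 0) := by
    intro l hl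
    have := hS l (mem_blocks.mp hl)
    interval_cases (S ∩ l).card <;> simp
  rw [Finset.sum_congr rfl hpt, Finset.sum_add_distrib, ← Finset.mul_sum, ← Finset.card_filter,
    h1] at h2
  unfold Sec
  omega

lemma sec_through {a : α} (ha : a ∈ S) : nsec L S a = 3 := by
  have h2 := T2 hα hL {a} S
  rw [Finset.singleton_inter_of_mem ha, Finset.card_singleton, hS4] at h2
  have h3 : ∀ l ∈ blocks L, ({a} ∩ l).card * (S ∩ l).card =
      if a ∈ l then (S ∩ l).card else 0 := by
    intro l _
    by_cases hal : a ∈ l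
    · rw [if_pos hal, Finset.singleton_inter_of_mem hal, Finset.card_singleton, one_mul]
    · rw [if_neg hal, Finset.singleton_inter_of_notMem hal, Finset.card_empty, zero_mul]
  rw [Finset.sum_congr rfl h3, ← Finset.sum_filter] at h2
  have hpt : ∀ l ∈ (blocks L).filter (fun l => a ∈ l), (S ∩ l).card =
      1 + (if (S ∩ l).card = 2 then 1 else 0) := by
    intro l hl
    rw [Finset.mem_filter] at hl
    have h1 := hS l (mem_blocks.mp hl.1)
    have h0 : 0 < (S ∩ l).card := Finset.card_pos.mpr ⟨a, Finset.mem_inter.mpr ⟨ha, hl.2⟩⟩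
    interval_cases (S ∩ l).card <;> simp
  rw [Finset.sum_congr rfl hpt, Finset.sum_add_distrib, Finset.sum_const, smul_eq_mul, mul_one,
    lines_through hα hL a, ← Finset.card_filter, Finset.filter_filter] at h2
  unfold nsec Sec
  rw [Finset.filter_filter]
  have : (blocks L).filter (fun l => (S ∩ l).card = 2 ∧ a ∈ l) =
      (blocks L).filter (fun l => a ∈ l ∧ (S ∩ l).card = 2) := by
    ext l; simp only [Finset.mem_filter]; tauto
  rw [this]
  omega

lemma nsec_le {x : α} (hx : x ∉ S) : nsec L S x ≤ 2 := by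
  have h2 := T2 hα hL {x} S
  rw [Finset.singleton_inter_of_notMem hx, Finset.card_empty, Finset.card_singleton, hS4] at h2
  have h3 : ∀ l ∈ blocks L, ({x} ∩ l).card * (S ∩ l).card =
      if x ∈ l then (S ∩ l).card else 0 := by
    intro l _
    by_cases hal : x ∈ l
    · rw [if_pos hal, Finset.singleton_inter_of_mem hal, Finset.card_singleton, one_mul]
    · rw [if_neg hal, Finset.singleton_inter_of_notMem hal, Finset.card_empty, zero_mul]
  rw [Finset.sum_congr rfl h3, ← Finset.sum_filter] at h2
  have hsub : ((blocks L).filter (fun l => x ∈ l)).filter (fun l => (S ∩ l).card = 2) ⊆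
      (blocks L).filter (fun l => x ∈ l) := Finset.filter_subset _ _
  have h4 := Finset.sum_le_sum_of_subset (f := fun l => (S ∩ l).card) hsub
  have h5 : ∀ l ∈ ((blocks L).filter (fun l => x ∈ l)).filter (fun l => (S ∩ l).card = 2),
      (S ∩ l).card = 2 := fun l hl => (Finset.mem_filter.mp hl).2
  rw [Finset.sum_congr rfl h5, Finset.sum_const, smul_eq_mul, Finset.filter_filter] at h4
  unfold nsec Sec
  rw [Finset.filter_filter]
  have : (blocks L).filter (fun l => (S ∩ l).card = 2 ∧ x ∈ l) =
      (blocks L).filter (fun l => x ∈ l ∧ (S ∩ l).card = 2) := by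
    ext l; simp only [Finset.mem_filter]; tauto
  rw [this]
  omega

lemma sec_mem {l : Finset α} (hl : l ∈ Sec L S) : l ∈ L ∧ (S ∩ l).card = 2 := by
  unfold Sec at hl
  rw [Finset.mem_filter, mem_blocks] at hl
  exact hl

lemma sum_nsec_compl : ∑ x ∈ Sᶜ, nsec L S x = 18 := by
  have h := moment1 (Sec L S)
  have h1 : ∀ l ∈ Sec L S, l.card = 5 := fun l hl => hL.1 l (sec_mem hα hL hS4 hS hl).1
  rw [Finset.sum_congr rfl h1, Finset.sum_const, sec_card hα hL hS4 hS, smul_eq_mul,
    ← Finset.sum_add_sum_compl S] at h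
  have h2 : ∀ a ∈ S, ((Sec L S).filter (fun l => a ∈ l)).card = 3 :=
    fun a ha => sec_through hα hL hS4 hS ha
  rw [Finset.sum_congr rfl h2, Finset.sum_const, hS4, smul_eq_mul] at h
  unfold nsec
  omega

lemma sum_nsec_sq_compl : ∑ x ∈ Sᶜ, nsec L S x * nsec L S x = 24 := by
  have h := moment2 (Sec L S)
  have h1 : ∀ l ∈ Sec L S, ∑ m ∈ Sec L S, (l ∩ m).card = 10 := by
    intro l hl
    rw [← Finset.add_sum_erase _ _ hl, Finset.inter_self, hL.1 l (sec_mem hα hL hS4 hS hl).1]
    have h2 : ∀ m ∈ (Sec L S).erase l, (l ∩ m).card = 1 := by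
      intro m hm
      rw [Finset.mem_erase] at hm
      exact inter_card_one hα hL (sec_mem hα hL hS4 hS hl).1 (sec_mem hα hL hS4 hS hm.2).1
        (Ne.symm hm.1)
    rw [Finset.sum_congr rfl h2, Finset.sum_const, Finset.card_erase_of_mem hl,
      sec_card hα hL hS4 hS]
    rfl
  rw [Finset.sum_congr rfl h1, Finset.sum_const, sec_card hα hL hS4 hS, smul_eq_mul,
    ← Finset.sum_add_sum_compl S] at h
  have h2 : ∀ a ∈ S, ((Sec L S).filter (fun l => a ∈ l)).card *
      ((Sec L S).filter (fun l => a ∈ l)).card = 9 := by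
    intro a ha
    have := sec_through hα hL hS4 hS ha
    unfold nsec at this
    rw [this]
  rw [Finset.sum_congr rfl h2, Finset.sum_const, hS4, smul_eq_mul] at h
  unfold nsec
  omega

/-- the points on no secant -/
noncomputable def freePts (L : Set (Finset α)) (S : Finset α) : Finset α :=
  Sᶜ.filter (fun x => nsec L S x = 0)

lemma freePts_card : (freePts L S).card = 2 := by
  have hpt : ∀ x ∈ Sᶜ, 2 * (if nsec L S x = 0 then 1 else 0) + 3 * nsec L S x =
      2 + nsec L S x * nsec L S x := by
    intro x hx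
    have := nsec_le hα hL hS4 hS (Finset.mem_compl.mp hx)
    interval_cases nsec L S x <;> simp
  have hsum := Finset.sum_congr (rfl : Sᶜ = Sᶜ) hpt
  rw [Finset.sum_add_distrib, Finset.sum_add_distrib, ← Finset.mul_sum, ← Finset.mul_sum,
    ← Finset.card_filter, sum_nsec_compl hα hL hS4 hS, sum_nsec_sq_compl hα hL hS4 hS,
    Finset.sum_const, Finset.card_compl, hα, hS4, smul_eq_mul] at hsum
  unfold freePts
  omega


omit hα hL hS4 hS in
lemma free_not_on_sec {x : α} (hx : x ∈ freePts L S) {l : Finset α} (hl : l ∈ Sec L S) : x ∉ l := by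
  intro hxl
  unfold freePts at hx
  rw [Finset.mem_filter] at hx
  have h0 := hx.2
  unfold nsec at h0
  rw [Finset.card_eq_zero] at h0
  have : l ∈ (Sec L S).filter (fun l => x ∈ l) := Finset.mem_filter.mpr ⟨hl, hxl⟩
  rw [h0] at this
  exact absurd this (Finset.notMem_empty _)

omit hα hL hS4 hS in
lemma free_not_mem {x : α} (hx : x ∈ freePts L S) : x ∉ S := by
  unfold freePts at hx
  rw [Finset.mem_filter, Finset.mem_compl] at hx
  exact hx.1

omit [Fintype α] hα hL hS4 hS in
lemma count_restrict (M : Finset (Finset α)) (R : Finset α) :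
    ∑ y ∈ R, (M.filter (fun l => y ∈ l)).card = ∑ m ∈ M, (R ∩ m).card := by
  simp_rw [Finset.card_filter]
  rw [Finset.sum_comm]
  apply Finset.sum_congr rfl
  intro m _
  rw [← Finset.card_filter, Finset.filter_mem_eq_inter]

lemma tangent_free_le {l : Finset α} (hl : l ∈ L) (hl1 : (S ∩ l).card = 1) :
    (freePts L S ∩ l).card ≤ 1 := by
  by_contra hcon
  rw [not_le] at hcon
  have hU2 := freePts_card hα hL hS4 hS
  have hUl : freePts L S ∩ l = freePts L S := by
    apply Finset.eq_of_subset_of_card_le Finset.inter_subset_left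
    omega
  obtain ⟨a, ha⟩ := Finset.card_eq_one.mp hl1
  have haS : a ∈ S := (Finset.mem_inter.mp (ha ▸ Finset.mem_singleton_self a)).1
  have hal : a ∈ l := (Finset.mem_inter.mp (ha ▸ Finset.mem_singleton_self a)).2
  -- secants missing a
  have hSec' : ((Sec L S).filter (fun m => ¬ a ∈ m)).card = 3 := by
    have h1 := Finset.card_filter_add_card_filter_not (s := Sec L S) (fun m => a ∈ m)
    have h2 := sec_through hα hL hS4 hS haS
    unfold nsec at h2
    rw [h2, sec_card hα hL hS4 hS] at h1
    omega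
  -- the remaining points of l
  have hdisj : Disjoint (S ∩ l) (freePts L S ∩ l) := by
    rw [Finset.disjoint_left]
    intro x hx1 hx2
    exact free_not_mem (Finset.mem_inter.mp hx2).1 (Finset.mem_inter.mp hx1).1
  have hR : (l \ (S ∪ freePts L S)).card = 2 := by
    have h1 := Finset.card_sdiff_add_card_inter l (S ∪ freePts L S)
    have h2 : l ∩ (S ∪ freePts L S) = (S ∩ l) ∪ (freePts L S ∩ l) := by
      rw [Finset.inter_union_distrib_left, Finset.inter_comm l S, Finset.inter_comm l (freePts L S)]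
    rw [h2, Finset.card_union_of_disjoint hdisj, hl1, hUl, hU2, hL.1 l hl] at h1
    omega
  -- each secant missing a meets l in a point of R
  have hmeet : ∀ m ∈ (Sec L S).filter (fun m => ¬ a ∈ m),
      ((l \ (S ∪ freePts L S)) ∩ m).card = 1 := by
    intro m hm
    rw [Finset.mem_filter] at hm
    have hmS := sec_mem hα hL hS4 hS hm.1
    have hne : l ≠ m := by
      intro h
      rw [h] at hl1
      omega
    have h1 := inter_card_one hα hL hl hmS.1 hne
    obtain ⟨y, hy⟩ := Finset.card_eq_one.mp h1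
    have hyl : y ∈ l := (Finset.mem_inter.mp (hy ▸ Finset.mem_singleton_self y)).1
    have hym : y ∈ m := (Finset.mem_inter.mp (hy ▸ Finset.mem_singleton_self y)).2
    have hyS : y ∉ S := by
      intro hyS
      have : y ∈ S ∩ l := Finset.mem_inter.mpr ⟨hyS, hyl⟩
      rw [ha, Finset.mem_singleton] at this
      exact hm.2 (this ▸ hym)
    have hyU : y ∉ freePts L S := fun h => free_not_on_sec h hm.1 hym
    have : (l \ (S ∪ freePts L S)) ∩ m = {y} := by
      ext z
      rw [Finset.mem_inter, Finset.mem_sdiff, Finset.mem_union, Finset.mem_singleton]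
      constructor
      · rintro ⟨⟨hzl, _⟩, hzm⟩
        have : z ∈ l ∩ m := Finset.mem_inter.mpr ⟨hzl, hzm⟩
        rw [hy, Finset.mem_singleton] at this
        exact this
      · rintro rfl
        exact ⟨⟨hyl, fun h => h.elim hyS hyU⟩, hym⟩
    rw [this, Finset.card_singleton]
  have hcount := count_restrict ((Sec L S).filter (fun m => ¬ a ∈ m)) (l \ (S ∪ freePts L S))
  rw [Finset.sum_congr rfl hmeet, Finset.sum_const, hSec', smul_eq_mul, mul_one] at hcount
  -- some point of R lies on two such secants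
  have hex : ∃ y ∈ l \ (S ∪ freePts L S),
      1 < (((Sec L S).filter (fun m => ¬ a ∈ m)).filter (fun m => y ∈ m)).card := by
    by_contra hno
    have hall : ∀ y ∈ l \ (S ∪ freePts L S),
        (((Sec L S).filter (fun m => ¬ a ∈ m)).filter (fun m => y ∈ m)).card ≤ 1 := by
      intro y hy
      by_contra h
      exact hno ⟨y, hy, not_le.mp h⟩
    have := Finset.sum_le_sum hall
    rw [hcount, Finset.sum_const, hR] at this
    simp at this
  obtain ⟨y, hyR, hy2⟩ := hex
  obtain ⟨m1, hm1, m2, hm2, hne⟩ := Finset.one_lt_card.mp hy2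
  rw [Finset.mem_filter, Finset.mem_filter] at hm1 hm2
  have hm1S := sec_mem hα hL hS4 hS hm1.1.1
  have hm2S := sec_mem hα hL hS4 hS hm2.1.1
  have h12 := inter_card_one hα hL hm1S.1 hm2S.1 hne
  -- the two secants share a point of S
  have hsub : (S ∩ m1) ∪ (S ∩ m2) ⊆ S.erase a := by
    intro z hz
    rw [Finset.mem_erase]
    rcases Finset.mem_union.mp hz with h | h
    · exact ⟨fun h' => hm1.1.2 (h' ▸ (Finset.mem_inter.mp h).2), (Finset.mem_inter.mp h).1⟩
    · exact ⟨fun h' => hm2.1.2 (h' ▸ (Finset.mem_inter.mp h).2), (Finset.mem_inter.mp h).1⟩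
  have hle := Finset.card_le_card hsub
  rw [Finset.card_erase_of_mem haS, hS4] at hle
  have hui := Finset.card_union_add_card_inter (S ∩ m1) (S ∩ m2)
  rw [hm1S.2, hm2S.2] at hui
  have hpos : 0 < ((S ∩ m1) ∩ (S ∩ m2)).card := by omega
  obtain ⟨b, hb⟩ := Finset.card_pos.mp hpos
  have hbS : b ∈ S := (Finset.mem_inter.mp (Finset.mem_inter.mp hb).1).1
  have hb1 : b ∈ m1 := (Finset.mem_inter.mp (Finset.mem_inter.mp hb).1).2
  have hb2 : b ∈ m2 := (Finset.mem_inter.mp (Finset.mem_inter.mp hb).2).2
  obtain ⟨w, hw⟩ := Finset.card_eq_one.mp h12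
  have hbw : b = w := by
    have : b ∈ m1 ∩ m2 := Finset.mem_inter.mpr ⟨hb1, hb2⟩
    rw [hw, Finset.mem_singleton] at this
    exact this
  have hyw : y = w := by
    have : y ∈ m1 ∩ m2 := Finset.mem_inter.mpr ⟨hm1.2, hm2.2⟩
    rw [hw, Finset.mem_singleton] at this
    exact this
  have hyS : y ∉ S := by
    rw [Finset.mem_sdiff, Finset.mem_union] at hyR
    exact fun h => hyR.2 (Or.inl h)
  exact hyS (hyw.trans hbw.symm ▸ hbS)

lemma hyper_arc {l : Finset α} (hl : l ∈ L) : ((S ∪ freePts L S) ∩ l).card ≤ 2 := by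
  have hdisj : Disjoint (S ∩ l) (freePts L S ∩ l) := by
    rw [Finset.disjoint_left]
    intro x hx1 hx2
    exact free_not_mem (Finset.mem_inter.mp hx2).1 (Finset.mem_inter.mp hx1).1
  rw [Finset.union_inter_distrib_right, Finset.card_union_of_disjoint hdisj]
  have h2 := hS l hl
  have hU2 := freePts_card hα hL hS4 hS
  have hUle : (freePts L S ∩ l).card ≤ 2 := by
    have := Finset.card_le_card (Finset.inter_subset_left : freePts L S ∩ l ⊆ freePts L S)
    omega
  rcases Nat.lt_or_ge (S ∩ l).card 1 with h0 | h1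
  · omega
  · rcases Nat.lt_or_ge (S ∩ l).card 2 with h1' | h2'
    · have := tangent_free_le hα hL hS4 hS hl (by omega)
      omega
    · have hsec : l ∈ Sec L S := by
        unfold Sec
        rw [Finset.mem_filter, mem_blocks]
        exact ⟨hl, by omega⟩
      have : freePts L S ∩ l = ∅ := by
        rw [Finset.eq_empty_iff_forall_notMem]
        intro x hx
        exact free_not_on_sec (Finset.mem_inter.mp hx).1 hsec (Finset.mem_inter.mp hx).2
      rw [this, Finset.card_empty]
      omega

lemma hyper_card : (S ∪ freePts L S).card = 6 := by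
  have hdisj : Disjoint S (freePts L S) := by
    rw [Finset.disjoint_left]
    intro x hx1 hx2
    exact free_not_mem hx2 hx1
  rw [Finset.card_union_of_disjoint hdisj, hS4, freePts_card hα hL hS4 hS]

lemma hyper_unique {H : Finset α} (hH6 : H.card = 6) (hH : ∀ l ∈ L, (H ∩ l).card ≤ 2)
    (hSH : S ⊆ H) : H = S ∪ freePts L S := by
  have hsub : H \ S ⊆ freePts L S := by
    intro x hx
    rw [Finset.mem_sdiff] at hx
    unfold freePts
    rw [Finset.mem_filter, Finset.mem_compl]
    refine ⟨hx.2, ?_⟩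
    unfold nsec
    rw [Finset.card_eq_zero, Finset.eq_empty_iff_forall_notMem]
    intro l hl
    rw [Finset.mem_filter] at hl
    have hlS := sec_mem hα hL hS4 hS hl.1
    have h1 : insert x (S ∩ l) ⊆ H ∩ l := by
      intro z hz
      rw [Finset.mem_insert] at hz
      rcases hz with rfl | hz
      · exact Finset.mem_inter.mpr ⟨hx.1, hl.2⟩
      · exact Finset.mem_inter.mpr ⟨hSH (Finset.mem_inter.mp hz).1, (Finset.mem_inter.mp hz).2⟩
    have h2 := Finset.card_le_card h1
    rw [Finset.card_insert_of_notMem (fun h => hx.2 (Finset.mem_inter.mp h).1), hlS.2] at h2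
    have := hH l hlS.1
    omega
  have hcard : (H \ S).card = 2 := by
    rw [Finset.card_sdiff_of_subset hSH, hH6, hS4]
  have heq : H \ S = freePts L S := by
    apply Finset.eq_of_subset_of_card_le hsub
    rw [freePts_card hα hL hS4 hS, hcard]
  rw [← heq, Finset.union_sdiff_of_subset hSH]

end arc


section counting

variable {α : Type*} [Fintype α] [DecidableEq α]

/-- the `k`-arcs -/
noncomputable def arcs (L : Set (Finset α)) (k : ℕ) : Finset (Finset α) :=
  (powersetCard k (univ : Finset α)).filter (fun S => ∀ l ∈ blocks L, (S ∩ l).card ≤ 2)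

lemma mem_arcs {L : Set (Finset α)} {k : ℕ} {S : Finset α} :
    S ∈ arcs L k ↔ S.card = k ∧ ∀ l ∈ L, (S ∩ l).card ≤ 2 := by
  unfold arcs
  rw [Finset.mem_filter, Finset.mem_powersetCard]
  constructor
  · rintro ⟨⟨_, h1⟩, h2⟩
    exact ⟨h1, fun l hl => h2 l (mem_blocks.mpr hl)⟩
  · rintro ⟨h1, h2⟩
    exact ⟨⟨Finset.subset_univ _, h1⟩, fun l hl => h2 l (mem_blocks.mp hl)⟩

lemma sum_choose_inter (l : Finset α) (j k : ℕ) (hj : j ≤ k) :
    ∑ S ∈ powersetCard k (univ : Finset α), Nat.choose (S ∩ l).card j =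
      Nat.choose l.card j * Nat.choose (Fintype.card α - j) (k - j) := by
  have h1 := Finset.sum_card_bipartiteAbove_eq_sum_card_bipartiteBelow
    (s := powersetCard k (univ : Finset α)) (t := powersetCard j l)
    (fun (S : Finset α) (A : Finset α) => A ⊆ S)
  have hl : ∀ S ∈ powersetCard k (univ : Finset α),
      ((powersetCard j l).bipartiteAbove (fun (S : Finset α) (A : Finset α) => A ⊆ S) S).card =
        Nat.choose (S ∩ l).card j := by
    intro S _
    have : (powersetCard j l).bipartiteAbove (fun (S : Finset α) (A : Finset α) => A ⊆ S) S =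
        powersetCard j (S ∩ l) := by
      ext A
      simp only [Finset.bipartiteAbove, Finset.mem_filter, Finset.mem_powersetCard,
        Finset.subset_inter_iff]
      tauto
    rw [this, Finset.card_powersetCard]
  have hr : ∀ A ∈ powersetCard j l,
      ((powersetCard k (univ : Finset α)).bipartiteBelow
        (fun (S : Finset α) (A : Finset α) => A ⊆ S) A).card =
        Nat.choose (Fintype.card α - j) (k - j) := by
    intro A hA
    rw [Finset.mem_powersetCard] at hA
    have := Finset.card_filter_powersetCard_subset A (univ : Finset α) k (Finset.subset_univ _)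
      (by rw [hA.2]; exact hj)
    rw [hA.2, Finset.card_univ] at this
    exact this
  rw [Finset.sum_congr rfl hl, Finset.sum_congr rfl hr, Finset.sum_const, Finset.card_powersetCard,
    smul_eq_mul] at h1
  exact h1

variable (hα : Fintype.card α = 21) {L : Set (Finset α)} (hL : Cfsg.IsSteinerSystem 2 5 L)

include hα hL

lemma bad_pointwise {S : Finset α} (hS4 : S.card = 4) :
    (if (∀ l ∈ blocks L, (S ∩ l).card ≤ 2) then 0 else 1) +
      3 * ∑ l ∈ blocks L, Nat.choose (S ∩ l).card 4 =
      ∑ l ∈ blocks L, Nat.choose (S ∩ l).card 3 := by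
  split_ifs with harc
  · have h3 : ∀ l ∈ blocks L, Nat.choose (S ∩ l).card 3 = 0 := by
      intro l hl
      exact Nat.choose_eq_zero_of_lt (by have := harc l hl; omega)
    have h4 : ∀ l ∈ blocks L, Nat.choose (S ∩ l).card 4 = 0 := by
      intro l hl
      exact Nat.choose_eq_zero_of_lt (by have := harc l hl; omega)
    rw [Finset.sum_congr rfl h3, Finset.sum_congr rfl h4]
    simp
  · have hex : ∃ l0 ∈ blocks L, 3 ≤ (S ∩ l0).card := by
      by_contra hno
      apply harc
      intro l hl
      by_contra h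
      exact hno ⟨l, hl, by omega⟩
    obtain ⟨l0, hl0, hc0⟩ := hex
    have hother : ∀ l ∈ blocks L, l ≠ l0 → (S ∩ l).card ≤ 2 := by
      intro l hl hne
      by_contra h
      have h1 := inter_card_one hα hL (mem_blocks.mp hl) (mem_blocks.mp hl0) hne
      have h2 := Finset.card_union_add_card_inter (S ∩ l) (S ∩ l0)
      have h3 : (S ∩ l) ∩ (S ∩ l0) ⊆ l ∩ l0 := by
        intro z hz
        rw [Finset.mem_inter, Finset.mem_inter, Finset.mem_inter] at hz
        exact Finset.mem_inter.mpr ⟨hz.1.2, hz.2.2⟩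
      have h4 := Finset.card_le_card h3
      have h5 : (S ∩ l) ∪ (S ∩ l0) ⊆ S :=
        Finset.union_subset Finset.inter_subset_left Finset.inter_subset_left
      have h6 := Finset.card_le_card h5
      omega
    have h3 : ∑ l ∈ blocks L, Nat.choose (S ∩ l).card 3 = Nat.choose (S ∩ l0).card 3 := by
      apply Finset.sum_eq_single_of_mem l0 hl0
      intro l hl hne
      exact Nat.choose_eq_zero_of_lt (by have := hother l hl hne; omega)
    have h4 : ∑ l ∈ blocks L, Nat.choose (S ∩ l).card 4 = Nat.choose (S ∩ l0).card 4 := by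
      apply Finset.sum_eq_single_of_mem l0 hl0
      intro l hl hne
      exact Nat.choose_eq_zero_of_lt (by have := hother l hl hne; omega)
    rw [h3, h4]
    have hle : (S ∩ l0).card ≤ 4 := by
      have := Finset.card_le_card (Finset.inter_subset_left : S ∩ l0 ⊆ S)
      omega
    interval_cases (S ∩ l0).card <;> simp [Nat.choose]

lemma card_arcs4 : (arcs L 4).card = 2520 := by
  have hsum := Finset.sum_congr (rfl : powersetCard 4 (univ : Finset α) = _)
    (fun S hS => bad_pointwise hα hL (S := S) (Finset.mem_powersetCard.mp hS).2)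
  have hc3 : ∑ S ∈ powersetCard 4 (univ : Finset α), ∑ l ∈ blocks L, Nat.choose (S ∩ l).card 3 =
      ∑ l ∈ blocks L, ∑ S ∈ powersetCard 4 (univ : Finset α), Nat.choose (S ∩ l).card 3 :=
    Finset.sum_comm
  have hc4 : ∑ S ∈ powersetCard 4 (univ : Finset α), ∑ l ∈ blocks L, Nat.choose (S ∩ l).card 4 =
      ∑ l ∈ blocks L, ∑ S ∈ powersetCard 4 (univ : Finset α), Nat.choose (S ∩ l).card 4 :=
    Finset.sum_comm
  rw [Finset.sum_add_distrib, ← Finset.mul_sum, hc3, hc4] at hsum
  have h4 : ∀ l ∈ blocks L, ∑ S ∈ powersetCard 4 (univ : Finset α), Nat.choose (S ∩ l).card 4 = 5 := by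
    intro l hl
    rw [sum_choose_inter l 4 4 le_rfl, hL.1 l (mem_blocks.mp hl)]
    simp [Nat.choose]
  have h3 : ∀ l ∈ blocks L, ∑ S ∈ powersetCard 4 (univ : Finset α), Nat.choose (S ∩ l).card 3 = 180 := by
    intro l hl
    rw [sum_choose_inter l 3 4 (by norm_num), hL.1 l (mem_blocks.mp hl), hα]
    simp [Nat.choose]
  rw [Finset.sum_congr rfl h4, Finset.sum_congr rfl h3, Finset.sum_const, Finset.sum_const,
    card_lines hα hL, Finset.sum_ite, Finset.sum_const_zero, Finset.sum_const, zero_add,
    smul_eq_mul, smul_eq_mul, smul_eq_mul, mul_one] at hsum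
  have htot := Finset.card_filter_add_card_filter_not (s := powersetCard 4 (univ : Finset α))
    (fun S => ∀ l ∈ blocks L, (S ∩ l).card ≤ 2)
  rw [Finset.card_powersetCard, Finset.card_univ, hα] at htot
  have hch : Nat.choose 21 4 = 5985 := by decide
  rw [hch] at htot
  unfold arcs
  omega

lemma card_arcs6 : (arcs L 6).card = 168 := by
  have h1 := Finset.sum_card_bipartiteAbove_eq_sum_card_bipartiteBelow
    (s := arcs L 4) (t := arcs L 6) (fun (S : Finset α) (H : Finset α) => S ⊆ H)
  have hl : ∀ S ∈ arcs L 4,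
      ((arcs L 6).bipartiteAbove (fun (S : Finset α) (H : Finset α) => S ⊆ H) S).card = 1 := by
    intro S hS
    rw [mem_arcs] at hS
    rw [Finset.card_eq_one]
    refine ⟨S ∪ freePts L S, ?_⟩
    ext H
    simp only [Finset.bipartiteAbove, Finset.mem_filter, Finset.mem_singleton, mem_arcs]
    constructor
    · rintro ⟨⟨h6, hH⟩, hSH⟩
      exact hyper_unique hα hL hS.1 hS.2 h6 hH hSH
    · rintro rfl
      exact ⟨⟨hyper_card hα hL hS.1 hS.2, fun l hl => hyper_arc hα hL hS.1 hS.2 hl⟩,
        Finset.subset_union_left⟩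
  have hr : ∀ H ∈ arcs L 6,
      ((arcs L 4).bipartiteBelow (fun (S : Finset α) (H : Finset α) => S ⊆ H) H).card = 15 := by
    intro H hH
    rw [mem_arcs] at hH
    have : (arcs L 4).bipartiteBelow (fun (S : Finset α) (H : Finset α) => S ⊆ H) H =
        powersetCard 4 H := by
      ext S
      simp only [Finset.bipartiteBelow, Finset.mem_filter, Finset.mem_powersetCard, mem_arcs]
      constructor
      · rintro ⟨⟨h4, _⟩, hSH⟩
        exact ⟨hSH, h4⟩
      · rintro ⟨hSH, h4⟩
        refine ⟨⟨h4, fun l hl => ?_⟩, hSH⟩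
        exact le_trans (Finset.card_le_card (Finset.inter_subset_inter_right hSH)) (hH.2 l hl)
    rw [this, Finset.card_powersetCard, hH.1]
    decide
  rw [Finset.sum_congr rfl hl, Finset.sum_congr rfl hr, Finset.sum_const, Finset.sum_const,
    card_arcs4 hα hL, smul_eq_mul, smul_eq_mul] at h1
  omega

end counting

theorem result {α : Type*} [Fintype α] [DecidableEq α] (hα : Fintype.card α = 21) (L : Set (Finset α)) (hL : Cfsg.IsSteinerSystem 2 5 L) : {S : Finset α | (S.card = 4 ∧ ∀ l ∈ L, (l ∩ S).card ≤ 2)}.ncard = 2520 ∧ {H : Finset α | (H.card = 6 ∧ ∀ l ∈ L, (l ∩ H).card ≤ 2)}.ncard = 168 ∧ ∀ S : Finset α, (S.card = 4 ∧ ∀ l ∈ L, (l ∩ S).card ≤ 2) → ∃! H : Finset α, (H.card = 6 ∧ ∀ l ∈ L, (l ∩ H).card ≤ 2) ∧ S ⊆ H := by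
  have hset : ∀ k : ℕ, {S : Finset α | (S.card = k ∧ ∀ l ∈ L, (l ∩ S).card ≤ 2)} = ↑(arcs L k) := by
    intro k
    ext S
    rw [Finset.mem_coe, mem_arcs]
    simp only [Set.mem_ofPred_eq, Finset.inter_comm]
  refine ⟨?_, ?_, ?_⟩
  · rw [hset 4, Set.ncard_coe_finset]
    exact card_arcs4 hα hL
  · rw [hset 6, Set.ncard_coe_finset]
    exact card_arcs6 hα hL
  · rintro S ⟨hS4, hS⟩
    have hS' : ∀ l ∈ L, (S ∩ l).card ≤ 2 := fun l hl => by
      rw [Finset.inter_comm]; exact hS l hl
    refine ⟨S ∪ freePts L S, ⟨⟨hyper_card hα hL hS4 hS', fun l hl => ?_⟩,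
      Finset.subset_union_left⟩, ?_⟩
    · rw [Finset.inter_comm]
      exact hyper_arc hα hL hS4 hS' hl
    · rintro H ⟨⟨h6, hH⟩, hSH⟩
      exact hyper_unique hα hL hS4 hS' h6 (fun l hl => by rw [Finset.inter_comm]; exact hH l hl) hSH

end Cfsg.Agent.S5627
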