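import Cfsg.Statements.S5632
import Mathlib
import Cfsg.Agent.Lib.Helper2.StabMax

set_option autoImplicit false
open Cfsg

namespace Cfsg.Agent.S5632

open Matrix Cfsg.Agent.Lib.Helper2.StabMax
/-- For a finite field F and subspaces 0 < W < U of F^n with dim W + dim U = n, the elements of SL_n(F) stabilising both W and U form a subgroup that is not maximal in SL_n(F): some subgroup lies strictly between it and SL_n(F). -/
theorem result {F : Type*} [Field F] [Fintype F] (n : ℕ) (W U : Submodule F (Fin n → F)) (hW0 : W ≠ ⊥) (hWU : W < U) (hdim : Module.finrank F W + Module.finrank F U = n) : ∃ K : Subgroup (Matrix.GeneralLinearGroup (Fin n) F), Cfsg.Geo.subspaceStabilizer W ⊓ Cfsg.Geo.subspaceStabilizer U ⊓ Cfsg.Geo.specialLinear (Fin n) F < K ∧ K < Cfsg.Geo.specialLinear (Fin n) F := by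
  classical
  have hW1 : W ≠ ⊤ := by
    intro h
    rw [h] at hWU
    exact not_top_lt hWU
  have hU1 : U ≠ ⊤ := by
    intro h
    rw [h, finrank_top, Module.finrank_fintype_fun_eq_card, Fintype.card_fin] at hdim
    have h0 : Module.finrank F W = 0 := by omega
    exact hW0 (Submodule.finrank_eq_zero.1 h0)
  refine ⟨Cfsg.Geo.subspaceStabilizer W ⊓ Cfsg.Geo.specialLinear (Fin n) F, ?_,
    (isMaximalIn_SL W hW0 hW1).1⟩
  refine lt_of_le_of_ne ?_ ?_
  · intro g hg
    exact ⟨hg.1.1, hg.2⟩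
  · intro heq
    obtain ⟨u, huU, huW⟩ := SetLike.exists_of_lt hWU
    obtain ⟨a, haU⟩ : ∃ a : Fin n → F, a ∉ U := by
      by_contra h
      push Not at h
      exact hU1 (Submodule.eq_top_iff'.2 h)
    have hu : u ∉ W ⊔ Submodule.span F {a} := by
      intro hmem
      obtain ⟨w, hw, z, hz, hwz⟩ := Submodule.mem_sup.1 hmem
      obtain ⟨μ, rfl⟩ := Submodule.mem_span_singleton.1 hz
      by_cases hμ : μ = 0
      · rw [hμ, zero_smul, add_zero] at hwz
        rw [← hwz] at huW
        exact huW hw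
      · apply haU
        have : a = μ⁻¹ • (u - w) := by
          rw [← hwz, add_sub_cancel_left, smul_smul, inv_mul_cancel₀ hμ, one_smul]
        rw [this]
        exact U.smul_mem _ (U.sub_mem huU (hWU.le hw))
    obtain ⟨φ, hφ0, hφu⟩ := exists_sep _ u hu
    have hφa : φ ⬝ᵥ a = 0 :=
      hφ0 a (Submodule.mem_sup_right (Submodule.mem_span_singleton_self a))
    have hφW : ∀ w ∈ W, φ ⬝ᵥ w = 0 := fun w hw => hφ0 w (Submodule.mem_sup_left hw)
    have hmem : tvGL a φ hφa ∈ Cfsg.Geo.subspaceStabilizer W ⊓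
        Cfsg.Geo.specialLinear (Fin n) F :=
      ⟨tvGL_mem_stab_of_vanish W a φ hφa hφW, tvGL_mem_SL a φ hφa⟩
    rw [← heq] at hmem
    have hU' : tvGL a φ hφa ∈ Cfsg.Geo.subspaceStabilizer U := hmem.1.2
    rw [mem_stab_iff] at hU'
    have h1 := (hU' u).1 huU
    rw [tvGL_val, T_mulVec, hφu, one_smul] at h1
    apply haU
    have h2 := U.sub_mem h1 huU
    rwa [add_sub_cancel_left] at h2

end Cfsg.Agent.S5632
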