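import Cfsg.Statements.S5633
import Mathlib
import Cfsg.Agent.Lib.Helper2.StabMax

set_option autoImplicit false
open Cfsg

namespace Cfsg.Agent.S5633

open Matrix Cfsg.Agent.Lib.Helper2.StabMax
/-- For a finite field F and complementary non-zero subspaces W ⊕ U = F^n with dim W < dim U, the elements of SL_n(F) stabilising both W and U form a subgroup that is not maximal in SL_n(F): some subgroup lies strictly between it and SL_n(F). -/
theorem result {F : Type*} [Field F] [Fintype F] (n : ℕ) (W U : Submodule F (Fin n → F)) (hW0 : W ≠ ⊥) (hWU : W ⊓ U = ⊥) (hWU' : W ⊔ U = ⊤) (hdim : Module.finrank F W < Module.finrank F U) : ∃ K : Subgroup (Matrix.GeneralLinearGroup (Fin n) F), Cfsg.Geo.subspaceStabilizer W ⊓ Cfsg.Geo.subspaceStabilizer U ⊓ Cfsg.Geo.specialLinear (Fin n) F < K ∧ K < Cfsg.Geo.specialLinear (Fin n) F := by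
  classical
  have hU0 : U ≠ ⊥ := by
    intro h
    rw [h, finrank_bot] at hdim
    omega
  have hW1 : W ≠ ⊤ := by
    intro h
    rw [h, top_inf_eq] at hWU
    exact hU0 hWU
  refine ⟨Cfsg.Geo.subspaceStabilizer W ⊓ Cfsg.Geo.specialLinear (Fin n) F, ?_,
    (isMaximalIn_SL W hW0 hW1).1⟩
  refine lt_of_le_of_ne ?_ ?_
  · intro g hg
    exact ⟨hg.1.1, hg.2⟩
  · intro heq
    obtain ⟨a, haW, ha0⟩ := (Submodule.ne_bot_iff W).1 hW0
    obtain ⟨u, huU, hu0⟩ := (Submodule.ne_bot_iff U).1 hU0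
    have hu : u ∉ Submodule.span F {a} := by
      intro hmem
      have h1 : u ∈ W ⊓ U :=
        ⟨(Submodule.span_singleton_le_iff_mem a W).2 haW hmem, huU⟩
      rw [hWU, Submodule.mem_bot] at h1
      exact hu0 h1
    obtain ⟨φ, hφ0, hφu⟩ := exists_sep _ u hu
    have hφa : φ ⬝ᵥ a = 0 := hφ0 a (Submodule.mem_span_singleton_self a)
    have hmem : tvGL a φ hφa ∈ Cfsg.Geo.subspaceStabilizer W ⊓
        Cfsg.Geo.specialLinear (Fin n) F :=
      ⟨tvGL_mem_stab_of_mem W a φ hφa haW, tvGL_mem_SL a φ hφa⟩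
    rw [← heq] at hmem
    have hU' : tvGL a φ hφa ∈ Cfsg.Geo.subspaceStabilizer U := hmem.1.2
    rw [mem_stab_iff] at hU'
    have h1 := (hU' u).1 huU
    rw [tvGL_val, T_mulVec, hφu, one_smul] at h1
    have h2 := U.sub_mem h1 huU
    rw [add_sub_cancel_left] at h2
    have h3 : a ∈ W ⊓ U := ⟨haW, h2⟩
    rw [hWU, Submodule.mem_bot] at h3
    exact ha0 h3

end Cfsg.Agent.S5633
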