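import Cfsg.Statements.S5726

set_option autoImplicit false
open Cfsg

namespace Cfsg.Agent.S5726

/-- If a finite group acts faithfully and transitively on a set with p^k elements, p a prime and k ≥ 1, then some element of order p fixes no point. -/
theorem result {G Ω : Type*} [Group G] [Finite G] [MulAction G Ω] [FaithfulSMul G Ω] [Fintype Ω] (htr : MulAction.IsPretransitive G Ω)
    (p k : ℕ) (hp : p.Prime) (hk : 1 ≤ k) (hΩ : Fintype.card Ω = p ^ k) :
    ∃ g : G, orderOf g = p ∧ ∀ ω : Ω, g • ω ≠ ω := by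
  classical
  have : Fact p.Prime := ⟨hp⟩
  have hΩpos : 0 < Fintype.card Ω := by rw [hΩ]; exact pow_pos hp.pos k
  obtain ⟨ω₀⟩ := Fintype.card_pos_iff.mp hΩpos
  let P : Sylow p G := default
  set a := (Nat.card G).factorization p with ha
  have hPcard : Nat.card P = p ^ a := P.card_eq_multiplicity
  -- orbit stabilizer in G
  have hG1 : (MulAction.stabilizer G ω₀).index = Nat.card Ω :=
    MulAction.index_stabilizer_of_transitive G ω₀
  have hG2 : p ^ k * Nat.card (MulAction.stabilizer G ω₀) = Nat.card G := by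
    rw [← hΩ, ← Nat.card_eq_fintype_card, ← hG1]
    exact Subgroup.index_mul_card _
  -- stabilizer in P
  have hP1 : (MulAction.stabilizer P ω₀).index = (MulAction.orbit P ω₀).ncard :=
    MulAction.index_stabilizer P ω₀
  have hP2 : (MulAction.stabilizer P ω₀).index * Nat.card (MulAction.stabilizer P ω₀) = p ^ a := by
    rw [Subgroup.index_mul_card, hPcard]
  obtain ⟨m, hm⟩ : ∃ m, Nat.card (MulAction.stabilizer P ω₀) = p ^ m :=
    IsPGroup.iff_card.mp (P.isPGroup'.to_subgroup (MulAction.stabilizer P ω₀))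
  have hdvd : Nat.card (MulAction.stabilizer P ω₀) ∣ Nat.card (MulAction.stabilizer G ω₀) := by
    have hle : (MulAction.stabilizer P ω₀).map (P : Subgroup G).subtype ≤ MulAction.stabilizer G ω₀ := by
      rintro x ⟨y, hy, rfl⟩
      exact hy
    have := Subgroup.card_dvd_of_le hle
    rwa [Subgroup.card_map_of_injective (P : Subgroup G).subtype_injective] at this
  have hkm : k + m ≤ a := by
    have h1 : p ^ (k + m) ∣ Nat.card G := by
      rw [pow_add, ← hG2, ← hm]
      exact Nat.mul_dvd_mul_left _ hdvd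
    exact (hp.pow_dvd_iff_le_factorization Nat.card_pos.ne').mp h1
  have hidx : (MulAction.stabilizer P ω₀).index = p ^ (a - m) := by
    rw [hm] at hP2
    have hpm : 0 < p ^ m := pow_pos hp.pos m
    have : p ^ a = p ^ (a - m) * p ^ m := by rw [← pow_add]; congr 1; omega
    rw [this] at hP2
    exact Nat.eq_of_mul_eq_mul_right hpm hP2
  have horb : MulAction.orbit P ω₀ = Set.univ := by
    apply Set.eq_of_subset_of_ncard_le (Set.subset_univ _)
    rw [Set.ncard_univ, ← hP1, hidx, Nat.card_eq_fintype_card, hΩ]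
    exact Nat.pow_le_pow_right hp.pos (by omega)
  -- a central element of order p in P
  have hPnt : Nontrivial P := by
    rw [← Finite.one_lt_card_iff_nontrivial, hPcard]
    exact Nat.one_lt_pow (by omega) hp.one_lt
  have hcn : Nontrivial (Subgroup.center P) := P.isPGroup'.center_nontrivial
  have hpc : p ∣ Nat.card (Subgroup.center P) := by
    obtain ⟨n, hn⟩ := IsPGroup.iff_card.mp (P.isPGroup'.to_subgroup (Subgroup.center P))
    rw [hn]
    have : n ≠ 0 := by
      rintro rfl
      rw [pow_zero] at hn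
      have := Finite.one_lt_card_iff_nontrivial.mpr hcn
      omega
    exact dvd_pow_self p this
  obtain ⟨z, hz⟩ := exists_prime_orderOf_dvd_card' p hpc
  refine ⟨((z : P) : G), ?_, ?_⟩
  · rw [Subgroup.orderOf_coe, Subgroup.orderOf_coe]; exact hz
  · intro ω hω
    have hfix : ∀ ω' : Ω, ((z : P) : G) • ω' = ω' := by
      intro ω'
      have h1 : ω ∈ MulAction.orbit P ω₀ := horb ▸ Set.mem_univ ω
      have h2 : ω' ∈ MulAction.orbit P ω₀ := horb ▸ Set.mem_univ ω'
      obtain ⟨q₁, hq₁⟩ := h1
      obtain ⟨q₂, hq₂⟩ := h2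
      have hq : ω' = (q₂ * q₁⁻¹) • ω := by
        rw [← hq₁, ← hq₂]; simp [mul_smul]
      have hcomm : (z : P) * (q₂ * q₁⁻¹) = (q₂ * q₁⁻¹) * (z : P) :=
        (Subgroup.mem_center_iff.mp z.2 (q₂ * q₁⁻¹)).symm
      have hz' : (z : P) • ω = ω := hω
      calc ((z : P) : G) • ω' = (z : P) • ω' := rfl
        _ = (z : P) • ((q₂ * q₁⁻¹) • ω) := by rw [hq]
        _ = ((z : P) * (q₂ * q₁⁻¹)) • ω := (mul_smul _ _ _).symm
        _ = ((q₂ * q₁⁻¹) * (z : P)) • ω := by rw [hcomm]
        _ = (q₂ * q₁⁻¹) • ((z : P) • ω) := mul_smul _ _ _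
        _ = ω' := by rw [hz', hq]
    have hone : ((z : P) : G) = 1 := by
      apply eq_of_smul_eq_smul (α := Ω)
      intro ω'
      rw [hfix ω', one_smul]
    have : orderOf (((z : P) : G)) = p := by
      rw [Subgroup.orderOf_coe, Subgroup.orderOf_coe]; exact hz
    rw [hone, orderOf_one] at this
    exact hp.one_lt.ne this

end Cfsg.Agent.S5726
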