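import Cfsg.Statements.S5727
import Mathlib

set_option autoImplicit false
open Cfsg

namespace Cfsg.Agent.S5727


theorem fpf_of_orbits_card_p_h6 {P Ω : Type*} [Group P] [Finite P] [MulAction P Ω] [Finite Ω]
    {p m : ℕ} [hp : Fact p.Prime] (hP : IsPGroup p P)
    (hfaith : ∀ g : P, (∀ ω : Ω, g • ω = ω) → g = 1)
    (horb : ∀ ω : Ω, Nat.card (MulAction.orbit P ω) = p)
    (hm : 1 ≤ m) (hmp : m ≤ p) (hΩ : Nat.card Ω = m * p) :
    ∃ g : P, orderOf g = p ∧ ∀ ω : Ω, g • ω ≠ ω := by
  classical
  haveI : Fintype P := Fintype.ofFinite P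
  haveI : Fintype Ω := Fintype.ofFinite Ω
  have hpp := hp.out
  have hΩne : Nonempty Ω := by
    rw [← Finite.card_pos_iff (α := Ω), hΩ]
    exact Nat.mul_pos hm hpp.pos
  have hidx : ∀ ω : Ω, (MulAction.stabilizer P ω).index = p := by
    intro ω
    rw [MulAction.index_stabilizer, ← Nat.card_coe_set_eq]
    exact horb ω
  obtain ⟨k, hk⟩ := IsPGroup.iff_card.1 hP
  have hk0 : k ≠ 0 := by
    rintro rfl
    obtain ⟨ω⟩ := hΩne
    have h1 := (MulAction.stabilizer P ω).index_dvd_card
    rw [hidx, hk, pow_zero] at h1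
    exact hpp.one_lt.ne' (Nat.dvd_one.1 h1)
  have hnorm : ∀ ω : Ω, (MulAction.stabilizer P ω).Normal := by
    intro ω
    apply Subgroup.normal_of_index_eq_minFac_card
    rw [hidx, hk, Nat.Prime.pow_minFac hpp hk0]
  have hstabcard : ∀ ω : Ω, Nat.card (MulAction.stabilizer P ω) * p = p ^ k := by
    intro ω
    have := (MulAction.stabilizer P ω).card_mul_index
    rwa [hidx, hk] at this
  have hconst : ∀ (ω : Ω) (g : P), MulAction.stabilizer P (g • ω) = MulAction.stabilizer P ω := by
    intro ω g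
    haveI := hnorm ω
    ext x
    rw [MulAction.mem_stabilizer_iff, MulAction.mem_stabilizer_iff]
    constructor
    · intro h
      have h1 : (g⁻¹ * x * g) ∈ MulAction.stabilizer P ω := by
        rw [MulAction.mem_stabilizer_iff, mul_smul, mul_smul, h, inv_smul_smul]
      have h2 := (hnorm ω).conj_mem _ h1 g
      have e : g * (g⁻¹ * x * g) * g⁻¹ = x := by group
      rw [e] at h2
      exact h2
    · intro h
      have h1 : x ∈ MulAction.stabilizer P ω := h
      have h2 := (hnorm ω).conj_mem _ h1 g⁻¹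
      rw [MulAction.mem_stabilizer_iff, inv_inv] at h2
      have : x • g • ω = g • ((g⁻¹ * x * g) • ω) := by
        rw [← mul_smul, ← mul_smul]; congr 1; group
      rw [this, h2]
  -- number of orbits
  have hQ : Nat.card (MulAction.orbitRel.Quotient P Ω) = m := by
    have h1 := Nat.card_congr (MulAction.selfEquivSigmaOrbits P Ω)
    rw [Nat.card_sigma] at h1
    have h2 : ∀ q : MulAction.orbitRel.Quotient P Ω, Nat.card (MulAction.orbit P q.out) = p :=
      fun q => horb _
    simp only [h2, Finset.sum_const, Finset.card_univ, smul_eq_mul] at h1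
    rw [hΩ, ← Nat.card_eq_fintype_card] at h1
    exact (Nat.eq_of_mul_eq_mul_right hpp.pos h1).symm
  by_contra hcon
  push Not at hcon
  have hall : ∀ g : P, ∃ ω : Ω, g • ω = ω := by
    intro g
    by_contra hg
    push Not at hg
    have hgp : g ^ p = 1 := by
      apply hfaith
      intro ω
      haveI := hnorm ω
      have := (MulAction.stabilizer P ω).pow_index_mem g
      rw [hidx] at this
      exact this
    have hg1 : g ≠ 1 := by
      rintro rfl
      obtain ⟨ω⟩ := hΩne
      exact hg ω (one_smul _ _)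
    obtain ⟨ω, hω⟩ := hcon g (orderOf_eq_prime hgp hg1)
    exact hg ω hω
  -- counting
  haveI : Fintype (MulAction.orbitRel.Quotient P Ω) := Fintype.ofFinite _
  have hsub : (Finset.univ.erase (1 : P)) ⊆ Finset.univ.biUnion
      (fun q : MulAction.orbitRel.Quotient P Ω =>
        (Finset.univ.filter (fun g => g ∈ MulAction.stabilizer P q.out)).erase 1) := by
    intro g hg
    obtain ⟨ω, hω⟩ := hall g
    rw [Finset.mem_biUnion]
    refine ⟨Quotient.mk'' ω, Finset.mem_univ _, ?_⟩
    rw [Finset.mem_erase]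
    refine ⟨(Finset.mem_erase.1 hg).1, ?_⟩
    rw [Finset.mem_filter]
    refine ⟨Finset.mem_univ _, ?_⟩
    have h1 : (Quotient.mk'' ω : MulAction.orbitRel.Quotient P Ω).out ∈ MulAction.orbit P ω := by
      rw [← MulAction.orbitRel_apply]
      exact Quotient.exact' (Quotient.out_eq' _)
    obtain ⟨h, hh⟩ := h1
    rw [← hh]
    simp only
    rw [hconst]
    exact hω
  have hcard := (Finset.card_le_card hsub).trans Finset.card_biUnion_le
  have hterm : ∀ q : MulAction.orbitRel.Quotient P Ω,
      ((Finset.univ.filter (fun g => g ∈ MulAction.stabilizer P q.out)).erase 1).card = p ^ (k - 1) - 1 := by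
    intro q
    rw [Finset.card_erase_of_mem (by simp)]
    congr 1
    have h1 := hstabcard q.out
    have h2 : (Finset.univ.filter (fun g => g ∈ MulAction.stabilizer P q.out)).card
        = Nat.card (MulAction.stabilizer P q.out) := by
      rw [Nat.card_eq_fintype_card, Fintype.card_subtype]
    rw [h2]
    obtain ⟨k', rfl⟩ := Nat.exists_eq_succ_of_ne_zero hk0
    rw [Nat.succ_eq_add_one, pow_succ] at h1
    have h3 : k' + 1 - 1 = k' := by omega
    rw [Nat.succ_eq_add_one, h3]
    exact Nat.eq_of_mul_eq_mul_right hpp.pos h1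
  simp only [hterm, Finset.sum_const, Finset.card_univ, smul_eq_mul] at hcard
  rw [Finset.card_erase_of_mem (Finset.mem_univ _), Finset.card_univ, ← Nat.card_eq_fintype_card,
    ← Nat.card_eq_fintype_card, hk, hQ] at hcard
  obtain ⟨k', rfl⟩ := Nat.exists_eq_succ_of_ne_zero hk0
  simp only [Nat.succ_eq_add_one, Nat.add_sub_cancel] at hcard
  have h1 : 1 ≤ p ^ k' := Nat.one_le_pow _ _ hpp.pos
  have h2 : m * (p ^ k' - 1) ≤ p * (p ^ k' - 1) := Nat.mul_le_mul_right _ hmp
  have h3 : p * (p ^ k' - 1) = p ^ (k' + 1) - p := by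
    rw [Nat.mul_sub, mul_one, pow_succ, mul_comm]
  have h4 : p ≤ p ^ (k' + 1) := by
    calc p = p ^ 1 := (pow_one p).symm
      _ ≤ p ^ (k' + 1) := Nat.pow_le_pow_right hpp.pos (by omega)
  have := hpp.two_le
  omega


/-- If a finite group acts faithfully and transitively on a set with m·p elements, where p is a prime and 1 ≤ m ≤ p, then some element of order p fixes no point. -/
theorem result {G Ω : Type*} [Group G] [Finite G] [MulAction G Ω] [FaithfulSMul G Ω] [Fintype Ω] (htr : MulAction.IsPretransitive G Ω)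
    (p m : ℕ) (hp : p.Prime) (hm : 1 ≤ m) (hmp : m ≤ p) (hΩ : Fintype.card Ω = m * p) :
    ∃ g : G, orderOf g = p ∧ ∀ ω : Ω, g • ω ≠ ω := by
  classical
  haveI : Fact p.Prime := ⟨hp⟩
  obtain ⟨P⟩ : Nonempty (Sylow p G) := inferInstance
  have hΩ' : Nat.card Ω = m * p := by rw [Nat.card_eq_fintype_card]; exact hΩ
  have hfaith : ∀ g : (P : Subgroup G), (∀ ω : Ω, g • ω = ω) → g = 1 := by
    intro g hg
    apply Subtype.ext
    apply FaithfulSMul.eq_of_smul_eq_smul (α := Ω)
    intro ω
    rw [Subgroup.coe_one, one_smul]; exact hg ω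
  have horb_ge : ∀ ω : Ω, ∃ k, 1 ≤ k ∧ Nat.card (MulAction.orbit (P : Subgroup G) ω) = p ^ k := by
    intro ω
    obtain ⟨k, hk⟩ := P.isPGroup'.card_orbit ω
    refine ⟨k, ?_, hk⟩
    by_contra h0
    have hk0 : k = 0 := by omega
    subst hk0
    rw [pow_zero, Nat.card_eq_one_iff_unique] at hk
    obtain ⟨hsub, -⟩ := hk
    have hfix : ∀ g ∈ (P : Subgroup G), g • ω = ω := by
      intro g hg
      have h1 : (⟨(⟨g, hg⟩ : (P : Subgroup G)) • ω, MulAction.mem_orbit _ _⟩ : MulAction.orbit (P : Subgroup G) ω)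
          = ⟨ω, MulAction.mem_orbit_self _⟩ := Subsingleton.elim _ _
      exact congrArg Subtype.val h1
    have hle : (P : Subgroup G) ≤ MulAction.stabilizer G ω := fun g hg => hfix g hg
    have h1 := Subgroup.index_dvd_of_le hle
    rw [MulAction.index_stabilizer_of_transitive, hΩ'] at h1
    exact P.not_dvd_index (dvd_trans (dvd_mul_left p m) h1)
  by_cases hbig : ∃ ω : Ω, p ^ 2 ≤ Nat.card (MulAction.orbit (P : Subgroup G) ω)
  · obtain ⟨ω0, hω0⟩ := hbig
    have hle : Nat.card (MulAction.orbit (P : Subgroup G) ω0) ≤ Nat.card Ω :=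
      Nat.card_le_card_of_injective Subtype.val Subtype.val_injective
    have hmp2 : m * p ≤ p * p := Nat.mul_le_mul_right p hmp
    have hcardeq : Nat.card (MulAction.orbit (P : Subgroup G) ω0) = Nat.card Ω := by
      rw [hΩ'] at hle ⊢
      rw [pow_two] at hω0
      omega
    have huniv : MulAction.orbit (P : Subgroup G) ω0 = Set.univ := by
      rw [Set.eq_univ_iff_ncard, ← Nat.card_coe_set_eq]
      exact hcardeq
    have htrans : ∀ x y : Ω, ∃ h : (P : Subgroup G), h • x = y := by
      intro x y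
      have hx : x ∈ MulAction.orbit (P : Subgroup G) ω0 := by rw [huniv]; trivial
      have hy : y ∈ MulAction.orbit (P : Subgroup G) ω0 := by rw [huniv]; trivial
      obtain ⟨a, rfl⟩ := hx
      obtain ⟨b, rfl⟩ := hy
      exact ⟨b * a⁻¹, by rw [mul_smul, inv_smul_smul]⟩
    haveI : Nontrivial (P : Subgroup G) := by
      rw [← Finite.one_lt_card_iff_nontrivial]
      have h1 : p ^ 2 ≤ Nat.card (P : Subgroup G) := by
        refine le_trans hω0 ?_
        exact Nat.card_le_card_of_surjective (fun g : (P : Subgroup G) => (⟨g • ω0, MulAction.mem_orbit _ _⟩ : MulAction.orbit (P : Subgroup G) ω0))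
          (by rintro ⟨_, g, rfl⟩; exact ⟨g, rfl⟩)
      have := hp.two_le
      nlinarith
    haveI := P.isPGroup'.center_nontrivial
    have hpc : p ∣ Nat.card (Subgroup.center (P : Subgroup G)) := by
      have hcz : IsPGroup p (Subgroup.center (P : Subgroup G)) := P.isPGroup'.to_subgroup _
      obtain ⟨k, hk⟩ := IsPGroup.iff_card.1 hcz
      rw [hk]
      have hk0 : k ≠ 0 := by
        rintro rfl
        rw [pow_zero] at hk
        have := Finite.one_lt_card_iff_nontrivial.2 (inferInstance : Nontrivial (Subgroup.center (P : Subgroup G)))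
        omega
      exact dvd_pow_self p hk0
    obtain ⟨z, hz⟩ := exists_prime_orderOf_dvd_card' p hpc
    refine ⟨(((z : (P : Subgroup G)) : G)), by rw [Subgroup.orderOf_coe, Subgroup.orderOf_coe]; exact hz, ?_⟩
    intro ω hω
    have hz1 : (z : (P : Subgroup G)) = 1 := by
      apply hfaith
      intro ω'
      obtain ⟨h, rfl⟩ := htrans ω ω'
      have hc : h * (z : (P : Subgroup G)) = (z : (P : Subgroup G)) * h := Subgroup.mem_center_iff.1 z.2 h
      rw [← mul_smul, ← hc, mul_smul]
      congr 1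
    have : z = 1 := Subtype.ext hz1
    rw [this, orderOf_one] at hz
    exact hp.one_lt.ne hz
  · push Not at hbig
    have horb : ∀ ω : Ω, Nat.card (MulAction.orbit (P : Subgroup G) ω) = p := by
      intro ω
      obtain ⟨k, hk1, hk⟩ := horb_ge ω
      have h1 := hbig ω
      rw [hk] at h1 ⊢
      have h2 : k < 2 := (Nat.pow_lt_pow_iff_right hp.one_lt).1 h1
      have h3 : k = 1 := by omega
      rw [h3, pow_one]
    obtain ⟨g, hg, hfpf⟩ := fpf_of_orbits_card_p_h6 P.isPGroup' hfaith horb hm hmp hΩ'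
    exact ⟨(g : G), by rw [Subgroup.orderOf_coe]; exact hg, fun ω => hfpf ω⟩

end Cfsg.Agent.S5727
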