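import Cfsg.Statements.S5728
import Mathlib

set_option autoImplicit false
open Cfsg

namespace Cfsg.Agent.S5728

theorem pow_apply {F : Type*} [Field F] (σ : Equiv.Perm F) (a : F) (h : ∀ y, σ y = a * y) :
    ∀ n : ℕ, ∀ y, (σ ^ n) y = a ^ n * y := by
  intro n
  induction n with
  | zero => intro y; simp
  | succ n ih =>
    intro y
    rw [pow_succ, Equiv.Perm.coe_mul, Function.comp_apply, h, ih, pow_succ]
    ring

theorem prime_field_mem (p s : ℕ) [Fact p.Prime] (hs : p = 2 ^ s - 1)
    (a : (GaloisField p 2)ˣ) (r : ℕ) (hr : r.Prime) (har : a ^ r = 1) (ha1 : a ≠ 1) :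
    ∃ a' : ZMod p, a' ≠ 0 ∧ algebraMap (ZMod p) (GaloisField p 2) a' = (a : GaloisField p 2) := by
  have hp : p.Prime := Fact.out
  have hord : orderOf a = r := by
    have h1 : orderOf a ∣ r := orderOf_dvd_of_pow_eq_one har
    rcases (Nat.dvd_prime hr).1 h1 with h | h
    · exact absurd (orderOf_eq_one_iff.1 h) ha1
    · exact h
  have hcard : Nat.card (GaloisField p 2)ˣ = p ^ 2 - 1 := by
    rw [Nat.card_units, GaloisField.card p 2 (by norm_num)]
  have hdvd : r ∣ p ^ 2 - 1 := by
    rw [← hord, ← hcard]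
    exact orderOf_dvd_natCard a
  have hs1 : 1 ≤ 2 ^ s := Nat.one_le_two_pow
  have hfac : p ^ 2 - 1 = (p - 1) * 2 ^ s := by
    have h1 : p + 1 = 2 ^ s := by omega
    have h2 : 1 ≤ p := hp.one_lt.le
    rw [← h1]
    zify [h2, Nat.one_le_pow 2 p h2]
    ring
  rw [hfac] at hdvd
  rcases (Nat.Prime.dvd_mul hr).1 hdvd with h | h
  · -- r ∣ p - 1
    have h1 : a ^ (p - 1) = 1 := by
      rw [← hord] at h
      exact orderOf_dvd_iff_pow_eq_one.1 h
    have h2 : (a : GaloisField p 2) ^ p = a := by
      have : (a : GaloisField p 2) ^ (p - 1) = 1 := by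
        rw [← Units.val_pow_eq_pow_val, h1, Units.val_one]
      calc (a : GaloisField p 2) ^ p = (a : GaloisField p 2) ^ (p - 1 + 1) := by
            rw [Nat.sub_add_cancel hp.one_lt.le]
        _ = a := by rw [pow_succ, this, one_mul]
    have h3 := (Subfield.mem_bot_iff_pow_eq_self (GaloisField p 2) p).2 h2
    rw [mem_bot_iff_intCast p] at h3
    obtain ⟨n, hn⟩ := h3
    refine ⟨(n : ZMod p), ?_, ?_⟩
    · intro h0
      have : (a : GaloisField p 2) = 0 := by
        rw [← hn, ← map_intCast (algebraMap (ZMod p) (GaloisField p 2)) n, h0, map_zero]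
      exact a.ne_zero this
    · rw [map_intCast, hn]
  · -- r = 2
    have hr2 : r = 2 := (Nat.prime_dvd_prime_iff_eq hr Nat.prime_two).1 (hr.dvd_of_dvd_pow h)
    rw [hr2] at har
    have h1 : (a : GaloisField p 2) ^ 2 = 1 := by
      rw [← Units.val_pow_eq_pow_val, har, Units.val_one]
    have h2 : ((a : GaloisField p 2) - 1) * ((a : GaloisField p 2) + 1) = 0 := by
      have : ((a : GaloisField p 2) - 1) * ((a : GaloisField p 2) + 1) = (a : GaloisField p 2) ^ 2 - 1 := by ring
      rw [this, h1, sub_self]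
    rcases mul_eq_zero.1 h2 with h3 | h3
    · exfalso
      apply ha1
      apply Units.ext
      rw [Units.val_one]
      exact sub_eq_zero.1 h3
    · refine ⟨-1, neg_ne_zero.2 one_ne_zero, ?_⟩
      rw [map_neg, map_one]
      exact (eq_neg_of_add_eq_zero_left h3).symm


theorem main5728 (p s : ℕ) [Fact p.Prime] (hs : p = 2 ^ s - 1)
    (g : Equiv.Perm (GaloisField p 2)) (hg : g ∈ Cfsg.affineGroup (GaloisField p 2)) (hord : (orderOf g).Prime) :
    ∃ x ∈ Cfsg.affineGroup (GaloisField p 2), ∃ a b : ZMod p, a ≠ 0 ∧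
      ∀ y : GaloisField p 2, (x * g * x⁻¹) y = algebraMap (ZMod p) (GaloisField p 2) a * y + algebraMap (ZMod p) (GaloisField p 2) b := by
  obtain ⟨a, b, hab⟩ := hg
  by_cases ha : a = 1
  · -- translation
    have hb : b ≠ 0 := by
      intro hb0
      have : g = 1 := by
        ext y
        rw [hab, ha, hb0]
        simp
      rw [this, orderOf_one] at hord
      exact Nat.not_prime_one hord
    obtain ⟨x, hx⟩ : ∃ x : Equiv.Perm (GaloisField p 2), x = Equiv.mulLeft₀ b⁻¹ (inv_ne_zero hb) :=
      ⟨_, rfl⟩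
    have hxy : ∀ y, x y = b⁻¹ * y := by intro y; rw [hx]; rfl
    have hxinv : ∀ y, x⁻¹ y = b * y := by
      intro y
      rw [Equiv.Perm.inv_def]
      apply x.injective
      rw [Equiv.apply_symm_apply, hxy, ← mul_assoc, inv_mul_cancel₀ hb, one_mul]
    refine ⟨x, ⟨Units.mk0 b⁻¹ (inv_ne_zero hb), 0, fun y => by rw [hxy, add_zero]; rfl⟩,
      1, 1, one_ne_zero, fun y => ?_⟩
    rw [Equiv.Perm.coe_mul, Function.comp_apply, Equiv.Perm.coe_mul, Function.comp_apply, hxinv,
      hab, ha, hxy, map_one, Units.val_one, one_mul, one_mul, mul_add, ← mul_assoc,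
      inv_mul_cancel₀ hb, one_mul]
  · -- a ≠ 1
    have ha' : (1 : GaloisField p 2) - a ≠ 0 := by
      intro h
      apply ha
      apply Units.ext
      rw [Units.val_one]
      exact (sub_eq_zero.1 h).symm
    obtain ⟨c, hc⟩ : ∃ c : GaloisField p 2, c = b / (1 - a) := ⟨_, rfl⟩
    have hc' : (a : GaloisField p 2) * c + b - c = 0 := by
      rw [hc]
      field_simp
      ring
    obtain ⟨x, hx⟩ : ∃ x : Equiv.Perm (GaloisField p 2), x = Equiv.addRight (-c) := ⟨_, rfl⟩
    have hxy : ∀ y, x y = y + -c := by intro y; rw [hx]; rfl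
    have hxinv : ∀ y, x⁻¹ y = y + c := by
      intro y
      rw [Equiv.Perm.inv_def]
      apply x.injective
      rw [Equiv.apply_symm_apply, hxy, add_neg_cancel_right]
    have hconj : ∀ y, (x * g * x⁻¹) y = (a : GaloisField p 2) * y := by
      intro y
      rw [Equiv.Perm.coe_mul, Function.comp_apply, Equiv.Perm.coe_mul, Function.comp_apply, hxinv,
        hab, hxy]
      have : (a : GaloisField p 2) * (y + c) + b + -c = a * y + (a * c + b - c) := by ring
      rw [this, hc', add_zero]
    have hpow := pow_apply (x * g * x⁻¹) a hconj (orderOf g) 1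
    have h1 : (x * g * x⁻¹) ^ orderOf g = 1 := by
      rw [conj_pow, pow_orderOf_eq_one, mul_one, mul_inv_cancel]
    rw [h1, Equiv.Perm.coe_one, id_eq, mul_one] at hpow
    have har : a ^ orderOf g = 1 := by
      apply Units.ext
      rw [Units.val_pow_eq_pow_val, Units.val_one]
      exact hpow.symm
    obtain ⟨a', ha'0, ha'a⟩ := prime_field_mem p s hs a (orderOf g) hord har ha
    refine ⟨x, ⟨1, -c, fun y => by rw [hxy, Units.val_one, one_mul]⟩, a', 0, ha'0, fun y => ?_⟩
    rw [hconj, ha'a, map_zero, add_zero]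


/-- An elusive transitive action. Let p = 2^s − 1 be a prime and let F be the field with p² elements. Inside the group of affine maps x ↦ a·x + b of F (a ≠ 0), consider the subgroup of maps with both coefficients in the prime field. Then every element of prime order of the affine group is conjugate, within the affine group, to an element of that subgroup; equivalently, in the transitive action of the affine group on the cosets of that subgroup (of degree p(p + 1)) every element of prime order fixes a point. -/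
theorem result (p s : ℕ) [Fact p.Prime] (hs : p = 2 ^ s - 1)
    (g : Equiv.Perm (GaloisField p 2)) (hg : g ∈ Cfsg.affineGroup (GaloisField p 2)) (hord : (orderOf g).Prime) :
    ∃ x ∈ Cfsg.affineGroup (GaloisField p 2), ∃ a b : ZMod p, a ≠ 0 ∧
      ∀ y : GaloisField p 2, (x * g * x⁻¹) y = algebraMap (ZMod p) (GaloisField p 2) a * y + algebraMap (ZMod p) (GaloisField p 2) b := by
  exact main5728 p s hs g hg hord

end Cfsg.Agent.S5728
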