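import Cfsg.Statements.S5729
import Mathlib

set_option autoImplicit false
open Cfsg

namespace Cfsg.Agent.S5729

theorem core {G Ω : Type*} [Group G] [Fintype G] [MulAction G Ω] [Fintype Ω] [DecidableEq Ω]
    (htr : MulAction.IsPretransitive G Ω) (hn : 2 ≤ Fintype.card Ω) :
    (∑ g : G, Fintype.card (MulAction.fixedBy Ω g) = Fintype.card G) ∧
    ∃ r, 2 ≤ r ∧ ∑ g : G, (Fintype.card (MulAction.fixedBy Ω g)) ^ 2 = r * Fintype.card G := by
  classical
  constructor
  · have h := MulAction.sum_card_fixedBy_eq_card_orbits_mul_card_group G Ω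
    have hsub : Subsingleton (Quotient (MulAction.orbitRel G Ω)) :=
      (MulAction.pretransitive_iff_subsingleton_quotient G Ω).mp htr
    have hne : Nonempty Ω := Fintype.card_pos_iff.mp (by omega)
    have hne' : Nonempty (Quotient (MulAction.orbitRel G Ω)) := hne.map (Quotient.mk _)
    have h1 : Fintype.card (Quotient (MulAction.orbitRel G Ω)) = 1 := by
      apply le_antisymm
      · exact Fintype.card_le_one_iff_subsingleton.mpr hsub
      · exact Fintype.card_pos_iff.mpr hne'
    rw [h1, one_mul] at h
    exact h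
  · refine ⟨Fintype.card (Quotient (MulAction.orbitRel G (Ω × Ω))), ?_, ?_⟩
    · obtain ⟨a, b, hab⟩ := Fintype.one_lt_card_iff.mp (by omega : 1 < Fintype.card Ω)
      have : 1 < Fintype.card (Quotient (MulAction.orbitRel G (Ω × Ω))) := by
        rw [Fintype.one_lt_card_iff]
        refine ⟨Quotient.mk _ (a, a), Quotient.mk _ (a, b), ?_⟩
        intro h
        have h' := Quotient.exact h
        change (a, a) ∈ MulAction.orbit G (a, b) at h'
        obtain ⟨g, hg⟩ := h'
        have h1 : g • a = a := congrArg Prod.fst hg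
        have h2 : g • b = a := congrArg Prod.snd hg
        exact hab (smul_left_cancel g (h1.trans h2.symm))
      omega
    · have h := MulAction.sum_card_fixedBy_eq_card_orbits_mul_card_group G (Ω × Ω)
      rw [← h]
      apply Finset.sum_congr rfl
      intro g _
      rw [sq, ← Fintype.card_prod]
      apply Fintype.card_congr
      exact
        { toFun := fun x => ⟨(x.1.1, x.2.1), by
            have h1 := x.1.2
            have h2 := x.2.2
            rw [MulAction.mem_fixedBy] at h1 h2 ⊢
            exact Prod.ext h1 h2⟩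
          invFun := fun y => (⟨y.1.1, by
            have := y.2
            rw [MulAction.mem_fixedBy] at this ⊢
            exact congrArg Prod.fst this⟩, ⟨y.1.2, by
            have := y.2
            rw [MulAction.mem_fixedBy] at this ⊢
            exact congrArg Prod.snd this⟩)
          left_inv := fun x => rfl
          right_inv := fun y => rfl }

/-- Let a finite group G act faithfully and transitively on a set with n ≥ 3 points. Then either G is a Frobenius permutation group (Frobenius as a permutation group: transitive, some non-identity element fixes a point, and no non-identity element fixes two points) of order n(n − 1) and exactly |G|/n of its elements are derangements (fix no point), or the number of derangements is greater than |G|/n. -/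
theorem result {G Ω : Type*} [Group G] [Finite G] [MulAction G Ω] [FaithfulSMul G Ω] [Fintype Ω] (htr : MulAction.IsPretransitive G Ω) (hn : 3 ≤ Fintype.card Ω) :
    ((MulAction.IsPretransitive G Ω ∧ (∃ g : G, g ≠ 1 ∧ ∃ ω : Ω, g • ω = ω) ∧ ∀ g : G, g ≠ 1 → Nat.card (MulAction.fixedBy Ω g) ≤ 1) ∧ Nat.card G = Fintype.card Ω * (Fintype.card Ω - 1) ∧ Fintype.card Ω * Nat.card {g : G // ∀ ω : Ω, g • ω ≠ ω} = Nat.card G) ∨
    Nat.card G < Fintype.card Ω * Nat.card {g : G // ∀ ω : Ω, g • ω ≠ ω} := by
  classical
  have : Fintype G := Fintype.ofFinite G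
  obtain ⟨hB1, r, hr, hB2⟩ := core htr (by omega)
  set n := Fintype.card Ω with hndef
  set F : G → ℕ := fun g => Fintype.card (MulAction.fixedBy Ω g) with hF
  set D : Finset G := Finset.univ.filter (fun g => ∀ ω : Ω, g • ω ≠ ω) with hD
  set c := Fintype.card G with hc
  have hcpos : 0 < c := Fintype.card_pos
  have hDcard : Nat.card {g : G // ∀ ω : Ω, g • ω ≠ ω} = D.card := by
    rw [Nat.card_eq_fintype_card, Fintype.card_subtype]
  have hGcard : Nat.card G = c := Nat.card_eq_fintype_card
  have hFle : ∀ g, F g ≤ n := fun g => Fintype.card_subtype_le _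
  have hFD : ∀ g, g ∈ D ↔ F g = 0 := by
    intro g
    simp only [hD, hF, Finset.mem_filter, Finset.mem_univ, true_and, Fintype.card_eq_zero_iff]
    constructor
    · intro h
      exact ⟨fun x => h x.1 x.2⟩
    · intro h ω hω
      exact h.false ⟨ω, hω⟩
  have hFlt : ∀ g : G, g ≠ 1 → F g < n := by
    intro g hg
    have : ∃ ω : Ω, g • ω ≠ ω := by
      by_contra hcon
      push Not at hcon
      apply hg
      apply FaithfulSMul.eq_of_smul_eq_smul (α := Ω)
      intro a
      rw [hcon a, one_smul]
    obtain ⟨ω, hω⟩ := this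
    exact Fintype.card_subtype_lt (p := fun x => x ∈ MulAction.fixedBy Ω g) hω
  have hF1 : F 1 = n := by
    apply le_antisymm (hFle 1)
    exact Fintype.card_le_of_injective
      (fun ω : Ω => (⟨ω, by simp [MulAction.mem_fixedBy]⟩ : MulAction.fixedBy Ω (1 : G)))
      (by intro a b h; exact congrArg Subtype.val h)
  have hterm : ∀ g : G, F g ^ 2 + n ≤ (n + 1) * F g + (if g ∈ D then n else 0) := by
    intro g
    by_cases hg : g ∈ D
    · have := (hFD g).mp hg
      simp [hg, this]
    · have h0 : F g ≠ 0 := fun h => hg ((hFD g).mpr h)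
      have h1 : 1 ≤ F g := Nat.one_le_iff_ne_zero.mpr h0
      have h2 := hFle g
      simp only [hg, if_false, add_zero]
      nlinarith
  have hsum : ∑ g : G, (F g ^ 2 + n) ≤ ∑ g : G, ((n + 1) * F g + (if g ∈ D then n else 0)) :=
    Finset.sum_le_sum (fun g _ => hterm g)
  have e1 : ∑ g : G, (F g ^ 2 + n) = r * c + n * c := by
    rw [Finset.sum_add_distrib, hB2, Finset.sum_const, Finset.card_univ, smul_eq_mul, mul_comm c n]
  have e2 : ∑ g : G, ((n + 1) * F g + (if g ∈ D then n else 0)) = (n + 1) * c + n * D.card := by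
    rw [Finset.sum_add_distrib, ← Finset.mul_sum, hB1, Finset.sum_ite_mem, Finset.univ_inter,
      Finset.sum_const, smul_eq_mul, mul_comm D.card n]
  rw [e1, e2] at hsum
  have hineq : c ≤ n * D.card := by nlinarith
  rcases hineq.lt_or_eq with hlt | heq
  · right
    rw [hGcard, hDcard]
    exact hlt
  · left
    have hr2 : r = 2 := by
      have : r * c ≤ 2 * c := by nlinarith
      have := Nat.le_of_mul_le_mul_right this hcpos
      omega
    subst hr2
    have hsumeq : ∑ g : G, (F g ^ 2 + n) = ∑ g : G, ((n + 1) * F g + (if g ∈ D then n else 0)) := by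
      rw [e1, e2, ← heq]; ring
    have htermeq := (Finset.sum_eq_sum_iff_of_le (fun g _ => hterm g)).mp hsumeq
    have hF01 : ∀ g : G, g ≠ 1 → F g ≤ 1 := by
      intro g hg
      by_cases hgD : g ∈ D
      · rw [(hFD g).mp hgD]; omega
      · have h0 : F g ≠ 0 := fun h => hgD ((hFD g).mpr h)
        have h3 := htermeq g (Finset.mem_univ g)
        simp only [hgD, if_false, add_zero] at h3
        have h4 := hFlt g hg
        obtain ⟨k, hk⟩ : ∃ k, F g = k + 1 := ⟨F g - 1, by omega⟩
        obtain ⟨m, hm⟩ : ∃ m, n = F g + 1 + m := ⟨n - F g - 1, by omega⟩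
        rw [hk] at h3 hm ⊢
        rw [hm] at h3
        have h5 : k * (m + 1) = 0 := by nlinarith
        rcases mul_eq_zero.mp h5 with h6 | h6
        · omega
        · omega
    -- sums over g ≠ 1
    have hs1 : F 1 + ∑ g ∈ (Finset.univ : Finset G).erase 1, F g = c := by
      rw [Finset.add_sum_erase _ _ (Finset.mem_univ 1), hB1]
    have hs2 : F 1 ^ 2 + ∑ g ∈ (Finset.univ : Finset G).erase 1, F g ^ 2 = 2 * c := by
      rw [Finset.add_sum_erase _ (fun g => F g ^ 2) (Finset.mem_univ 1), hB2]
    have hs3 : ∑ g ∈ (Finset.univ : Finset G).erase 1, F g ^ 2 =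
        ∑ g ∈ (Finset.univ : Finset G).erase 1, F g := by
      apply Finset.sum_congr rfl
      intro g hg
      have hg1 : g ≠ 1 := Finset.ne_of_mem_erase hg
      have := hF01 g hg1
      interval_cases (F g) <;> rfl
    rw [hs3, hF1] at hs2
    rw [hF1] at hs1
    have hcn : c = n * (n - 1) := by
      obtain ⟨m, hm⟩ : ∃ m, n = m + 1 := ⟨n - 1, by omega⟩
      rw [hm, Nat.add_sub_cancel]
      rw [hm] at hs1 hs2
      nlinarith
    refine ⟨⟨htr, ?_, ?_⟩, ?_, ?_⟩
    · have hpos : ∑ g ∈ (Finset.univ : Finset G).erase 1, F g ≠ 0 := by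
        obtain ⟨m, hm⟩ : ∃ m, n = m + 3 := ⟨n - 3, by omega⟩
        rw [hm] at hcn hs1
        have : (m + 3 - 1) = m + 2 := by omega
        rw [this] at hcn
        intro h0
        rw [h0, hcn] at hs1
        nlinarith
      obtain ⟨g, hg, hFg⟩ := Finset.exists_ne_zero_of_sum_ne_zero hpos
      refine ⟨g, Finset.ne_of_mem_erase hg, ?_⟩
      have : 0 < Fintype.card (MulAction.fixedBy Ω g) := Nat.pos_of_ne_zero hFg
      obtain ⟨⟨ω, hω⟩⟩ := Fintype.card_pos_iff.mp this
      exact ⟨ω, hω⟩
    · intro g hg
      rw [Nat.card_eq_fintype_card]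
      exact hF01 g hg
    · rw [hGcard]; exact hcn
    · rw [hGcard, hDcard]; exact heq.symm

end Cfsg.Agent.S5729
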