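import Cfsg.Statements.S5738
import Mathlib

set_option autoImplicit false
open Cfsg

namespace Cfsg.Agent.S5738


variable {F K : Type*} [Field F] [Field K] [Algebra F K]

theorem lm_apply (a b : K) : Algebra.lmul F K a b = a * b := by simp

theorem lm_inj {a b : K} (h : Algebra.lmul F K a = Algebra.lmul F K b) : a = b := by
  have := congrArg (fun f => f 1) h
  simpa using this

/-- a field automorphism as an invertible linear map -/
def U (τ : K ≃ₐ[F] K) : (Module.End F K)ˣ :=
  ⟨τ.toLinearMap, τ.symm.toLinearMap, by ext x; simp, by ext x; simp⟩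

theorem U_apply (τ : K ≃ₐ[F] K) (x : K) : ((U τ : (Module.End F K)ˣ) : Module.End F K) x = τ x := rfl

/-- multiplication followed by a field automorphism -/
def w (a : Kˣ) (τ : K ≃ₐ[F] K) : (Module.End F K)ˣ :=
  Units.map ((Algebra.lmul F K : K →ₐ[F] Module.End F K) : K →* Module.End F K) a * U τ

theorem w_apply (a : Kˣ) (τ : K ≃ₐ[F] K) (x : K) :
    ((w a τ : (Module.End F K)ˣ) : Module.End F K) x = (a : K) * τ x := by
  simp only [w, Units.val_mul, Module.End.mul_apply, U_apply]
  exact lm_apply _ _

theorem w_comm (a : Kˣ) (τ : K ≃ₐ[F] K) (b : Kˣ) :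
    w a τ * Units.map ((Algebra.lmul F K : K →ₐ[F] Module.End F K) : K →* Module.End F K) b =
    Units.map ((Algebra.lmul F K : K →ₐ[F] Module.End F K) : K →* Module.End F K)
      (Units.map (τ : K →* K) b) * w a τ := by
  apply Units.ext
  apply LinearMap.ext
  intro x
  simp only [Units.val_mul, Module.End.mul_apply, w_apply]
  have e1 : ((Units.map ((Algebra.lmul F K : K →ₐ[F] Module.End F K) : K →* Module.End F K) b :
      (Module.End F K)ˣ) : Module.End F K) x = (b : K) * x := lm_apply _ _
  have e2 : ((Units.map ((Algebra.lmul F K : K →ₐ[F] Module.End F K) : K →* Module.End F K)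
      (Units.map (τ : K →* K) b) : (Module.End F K)ˣ) : Module.End F K) ((a : K) * τ x) =
      τ (b : K) * ((a : K) * τ x) := lm_apply _ _
  rw [e1, e2, map_mul]
  ring

/-- Let F ⊆ K be finite fields with |F| = q and [K : F] = n ≥ 2, so |K| = q^n. Regard K as an n-dimensional F-vector space; the multiplications by non-zero elements of K form a cyclic subgroup of GL_F(K) of order q^n − 1 acting regularly on the non-zero vectors (a Singer group). Its normaliser in GL_F(K) has order n·(q^n − 1). -/
theorem result {F K : Type*} [Field F] [Fintype F] [Field K] [Fintype K] [Algebra F K] (n : ℕ) (hn : 2 ≤ n) (hdim : Module.finrank F K = n) :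
    Nat.card (Subgroup.normalizer (((Units.map ((Algebra.lmul F K : K →ₐ[F] Module.End F K) : K →* Module.End F K)).range : Subgroup (Module.End F K)ˣ) : Set (Module.End F K)ˣ)) = n * (Fintype.card K - 1) := by
  classical
  have hfin : Finite (Module.End F K) :=
    Finite.of_injective (fun f : Module.End F K => (f : K → K)) DFunLike.coe_injective
  set M : Subgroup (Module.End F K)ˣ :=
    (Units.map ((Algebra.lmul F K : K →ₐ[F] Module.End F K) : K →* Module.End F K)).range with hM
  have memM : ∀ u : (Module.End F K)ˣ, u ∈ M ↔ ∃ a : Kˣ,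
      u = Units.map ((Algebra.lmul F K : K →ₐ[F] Module.End F K) : K →* Module.End F K) a := by
    intro u
    rw [hM, MonoidHom.mem_range]
    constructor
    · rintro ⟨a, rfl⟩
      exact ⟨a, rfl⟩
    · rintro ⟨a, ha⟩
      exact ⟨a, ha.symm⟩
  have hwN : ∀ (a : Kˣ) (τ : K ≃ₐ[F] K), w a τ ∈ Subgroup.normalizer (M : Set (Module.End F K)ˣ) := by
    intro a τ
    rw [Subgroup.mem_normalizer_iff]
    intro h
    constructor
    · intro hh
      obtain ⟨b, rfl⟩ := (memM h).1 hh
      rw [w_comm, mul_assoc, mul_inv_cancel, mul_one]
      exact (memM _).2 ⟨_, rfl⟩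
    · intro hh
      obtain ⟨c, hc⟩ := (memM _).1 hh
      have hc' : h = (w a τ)⁻¹ *
          Units.map ((Algebra.lmul F K : K →ₐ[F] Module.End F K) : K →* Module.End F K) c * w a τ := by
        rw [← hc]; group
      have e := w_comm a τ (Units.map (τ.symm : K →* K) c)
      have e' : Units.map (τ : K →* K) (Units.map (τ.symm : K →* K) c) = c := by
        apply Units.ext
        simp
      rw [e'] at e
      rw [hc', mul_assoc, ← e, ← mul_assoc, inv_mul_cancel, one_mul]
      exact (memM _).2 ⟨_, rfl⟩
  let Φ : Kˣ × (K ≃ₐ[F] K) → ↥(Subgroup.normalizer (M : Set (Module.End F K)ˣ)) :=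
    fun x => ⟨w x.1 x.2, hwN x.1 x.2⟩
  have hΦ : Function.Bijective Φ := by
    constructor
    · rintro ⟨a, τ⟩ ⟨a', τ'⟩ h
      have h1 : w a τ = w a' τ' := congrArg Subtype.val h
      have h2 : ∀ x : K, (a : K) * τ x = (a' : K) * τ' x := by
        intro x
        rw [← w_apply (F := F), ← w_apply (F := F), h1]
      have haa : a = a' := by
        apply Units.ext
        have := h2 1
        simpa using this
      subst haa
      have hττ : τ = τ' := by
        apply AlgEquiv.ext
        intro x
        exact mul_left_cancel₀ a.ne_zero (h2 x)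
      rw [hττ]
    · rintro ⟨g, hgN⟩
      rw [Subgroup.mem_normalizer_iff] at hgN
      -- the value at one
      set a : K := (g : Module.End F K) 1 with ha
      have hginj : Function.Injective (g : Module.End F K) := by
        intro x y hxy
        have := congrArg ((g⁻¹ : (Module.End F K)ˣ) : Module.End F K) hxy
        rwa [← Module.End.mul_apply, ← Module.End.mul_apply, Units.inv_mul] at this
      have ha0 : a ≠ 0 := by
        intro h0
        have : (g : Module.End F K) 1 = (g : Module.End F K) 0 := by rw [map_zero]; exact h0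
        exact one_ne_zero (hginj this)
      have hcomm : ∀ b : K, ∃ c : K, ∀ x : K, (g : Module.End F K) (b * x) =
          c * (g : Module.End F K) x := by
        intro b
        by_cases hb : b = 0
        · exact ⟨0, fun x => by rw [hb]; simp⟩
        · have h1 := (hgN (Units.map ((Algebra.lmul F K : K →ₐ[F] Module.End F K) :
            K →* Module.End F K) (Units.mk0 b hb))).1 ((memM _).2 ⟨_, rfl⟩)
          obtain ⟨c, hc⟩ := (memM _).1 h1
          refine ⟨(c : K), fun x => ?_⟩
          have h2 : g * Units.map ((Algebra.lmul F K : K →ₐ[F] Module.End F K) :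
            K →* Module.End F K) (Units.mk0 b hb) =
            Units.map ((Algebra.lmul F K : K →ₐ[F] Module.End F K) : K →* Module.End F K) c * g := by
            rw [← hc]; group
          have h3 := congrArg (fun u : (Module.End F K)ˣ => (u : Module.End F K) x) h2
          simp only [Units.val_mul, Module.End.mul_apply] at h3
          have e1 : ((Units.map ((Algebra.lmul F K : K →ₐ[F] Module.End F K) :
            K →* Module.End F K) (Units.mk0 b hb) : (Module.End F K)ˣ) : Module.End F K) x
              = b * x := lm_apply _ _
          have e2 : ((Units.map ((Algebra.lmul F K : K →ₐ[F] Module.End F K) :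
            K →* Module.End F K) c : (Module.End F K)ˣ) : Module.End F K)
              ((g : Module.End F K) x) = (c : K) * (g : Module.End F K) x := lm_apply _ _
          rw [e1, e2] at h3
          exact h3
      have hcomm' : ∀ b x : K, (g : Module.End F K) (b * x) =
          (a⁻¹ * (g : Module.End F K) b) * (g : Module.End F K) x := by
        intro b x
        obtain ⟨c, hc⟩ := hcomm b
        have h1 := hc 1
        rw [mul_one] at h1
        have hc' : c = a⁻¹ * (g : Module.End F K) b := by
          rw [h1, ← ha]
          field_simp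
        rw [hc x, hc']
      let φ : K →ₗ[F] K := (Algebra.lmul F K a⁻¹ : Module.End F K) ∘ₗ (g : Module.End F K)
      have φ_apply : ∀ x, φ x = a⁻¹ * (g : Module.End F K) x := fun x => lm_apply (F := F) _ _
      let τ₀ : K →ₐ[F] K := AlgHom.ofLinearMap φ
        (by rw [φ_apply, ← ha, inv_mul_cancel₀ ha0])
        (by
          intro x y
          rw [φ_apply, φ_apply, φ_apply, hcomm' x y]
          ring)
      have τ₀_apply : ∀ x, τ₀ x = a⁻¹ * (g : Module.End F K) x := φ_apply
      have hbij : Function.Bijective τ₀ := by
        have hinj : Function.Injective τ₀ := (τ₀ : K →+* K).injective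
        exact ⟨hinj, Finite.injective_iff_surjective.1 hinj⟩
      refine ⟨(Units.mk0 a ha0, AlgEquiv.ofBijective τ₀ hbij), ?_⟩
      apply Subtype.ext
      apply Units.ext
      apply LinearMap.ext
      intro x
      change ((w (Units.mk0 a ha0) (AlgEquiv.ofBijective τ₀ hbij) : (Module.End F K)ˣ) :
        Module.End F K) x = (g : Module.End F K) x
      rw [w_apply]
      change a * τ₀ x = _
      rw [τ₀_apply, ← mul_assoc, mul_inv_cancel₀ ha0, one_mul]
  rw [← Nat.card_eq_of_bijective Φ hΦ, Nat.card_prod, Nat.card_units, Nat.card_eq_fintype_card,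
    IsGalois.card_aut_eq_finrank, hdim, mul_comm]


end Cfsg.Agent.S5738
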