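import Cfsg.Statements.S5739
import Mathlib

set_option autoImplicit false
open Cfsg

namespace Cfsg.Agent.S5739


variable {F K : Type*} [Field F] [Field K] [Algebra F K]

theorem lm_apply (a b : K) : Algebra.lmul F K a b = a * b := by simp

theorem lm_inj {a b : K} (h : Algebra.lmul F K a = Algebra.lmul F K b) : a = b := by
  have := congrArg (fun f => f 1) h
  simpa using this

/-- the elements `a` of `K` whose multiplication is a conjugate of a multiplication -/
def Asub (g : (Module.End F K)ˣ) : Subalgebra F K where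
  carrier := {a | ∃ b : K, (g : Module.End F K) * Algebra.lmul F K b *
      ((g⁻¹ : (Module.End F K)ˣ) : Module.End F K) = Algebra.lmul F K a}
  mul_mem' := by
    rintro a a' ⟨b, hb⟩ ⟨b', hb'⟩
    refine ⟨b * b', ?_⟩
    rw [map_mul, map_mul, ← hb, ← hb']
    have h1 : ((g⁻¹ : (Module.End F K)ˣ) : Module.End F K) * (g : Module.End F K) = 1 := by
      simp
    calc (g : Module.End F K) * (Algebra.lmul F K b * Algebra.lmul F K b') *
          ((g⁻¹ : (Module.End F K)ˣ) : Module.End F K)
        = (g : Module.End F K) * Algebra.lmul F K b * 1 * Algebra.lmul F K b' *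
          ((g⁻¹ : (Module.End F K)ˣ) : Module.End F K) := by simp [mul_assoc]
      _ = _ := by rw [← h1]; simp only [mul_assoc]
  one_mem' := ⟨1, by rw [map_one, mul_one, Units.mul_inv]⟩
  add_mem' := by
    rintro a a' ⟨b, hb⟩ ⟨b', hb'⟩
    exact ⟨b + b', by rw [map_add, map_add, mul_add, add_mul, hb, hb']⟩
  zero_mem' := ⟨0, by simp⟩
  algebraMap_mem' := by
    intro c
    refine ⟨algebraMap F K c, ?_⟩
    rw [AlgHom.commutes]
    rw [← Algebra.commutes c (g : Module.End F K), mul_assoc]
    simp

theorem mem_Asub {g : (Module.End F K)ˣ} {a : K} : a ∈ Asub g ↔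
    ∃ b : K, (g : Module.End F K) * Algebra.lmul F K b *
      ((g⁻¹ : (Module.End F K)ˣ) : Module.End F K) = Algebra.lmul F K a := Iff.rfl

theorem witness_ne_zero {g : (Module.End F K)ˣ} {a b : K} (ha : a ≠ 0)
    (hb : (g : Module.End F K) * Algebra.lmul F K b *
      ((g⁻¹ : (Module.End F K)ˣ) : Module.End F K) = Algebra.lmul F K a) : b ≠ 0 := by
  rintro rfl
  apply ha
  apply lm_inj (F := F)
  rw [← hb]
  simp

/-- the same set as an intermediate field -/
def Afld (g : (Module.End F K)ˣ) : IntermediateField F K :=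
  IntermediateField.mk (Asub g) (by
    rintro a ⟨b, hb⟩
    by_cases ha : a = 0
    · subst ha
      rw [inv_zero]
      exact (Asub g).zero_mem
    · have hb0 : b ≠ 0 := witness_ne_zero ha hb
      refine ⟨b⁻¹, ?_⟩
      have h1 : ((g⁻¹ : (Module.End F K)ˣ) : Module.End F K) * (g : Module.End F K) = 1 := by
        simp
      have h2 : (g : Module.End F K) * ((g⁻¹ : (Module.End F K)ˣ) : Module.End F K) = 1 := by
        simp
      have e1 : ((g : Module.End F K) * Algebra.lmul F K b⁻¹ *
          ((g⁻¹ : (Module.End F K)ˣ) : Module.End F K)) * Algebra.lmul F K a = 1 := by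
        rw [← hb]
        calc ((g : Module.End F K) * Algebra.lmul F K b⁻¹ *
            ((g⁻¹ : (Module.End F K)ˣ) : Module.End F K)) *
            ((g : Module.End F K) * Algebra.lmul F K b *
            ((g⁻¹ : (Module.End F K)ˣ) : Module.End F K))
            = (g : Module.End F K) * Algebra.lmul F K b⁻¹ *
              (((g⁻¹ : (Module.End F K)ˣ) : Module.End F K) * (g : Module.End F K)) *
              Algebra.lmul F K b * ((g⁻¹ : (Module.End F K)ˣ) : Module.End F K) := by
                simp only [mul_assoc]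
          _ = (g : Module.End F K) * (Algebra.lmul F K b⁻¹ * Algebra.lmul F K b) *
              ((g⁻¹ : (Module.End F K)ˣ) : Module.End F K) := by
                rw [h1]; simp only [mul_assoc, mul_one]
          _ = 1 := by
                rw [← map_mul, inv_mul_cancel₀ hb0, map_one, mul_one, h2]
      have e2 : Algebra.lmul F K a * Algebra.lmul F K a⁻¹ = 1 := by
        rw [← map_mul, mul_inv_cancel₀ ha, map_one]
      calc (g : Module.End F K) * Algebra.lmul F K b⁻¹ *
            ((g⁻¹ : (Module.End F K)ˣ) : Module.End F K)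
          = ((g : Module.End F K) * Algebra.lmul F K b⁻¹ *
            ((g⁻¹ : (Module.End F K)ˣ) : Module.End F K)) *
            (Algebra.lmul F K a * Algebra.lmul F K a⁻¹) := by rw [e2, mul_one]
        _ = Algebra.lmul F K a⁻¹ := by rw [← mul_assoc, e1, one_mul])

theorem mem_Afld {g : (Module.End F K)ˣ} {a : K} : a ∈ Afld g ↔
    ∃ b : K, (g : Module.End F K) * Algebra.lmul F K b *
      ((g⁻¹ : (Module.End F K)ˣ) : Module.End F K) = Algebra.lmul F K a := Iff.rfl

/-- Let F ⊆ K be finite fields with |F| = q and [K : F] = n ≥ 2, and let M ≤ GL_F(K) be the Singer group of multiplications by non-zero elements of K. If g ∈ GL_F(K) does not normalise M, then the order of M ∩ gMg⁻¹ divides q^r − 1 for some proper divisor r of n. In particular, when n is prime, that order divides q − 1. -/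
theorem result {F K : Type*} [Field F] [Fintype F] [Field K] [Fintype K] [Algebra F K] (n : ℕ) (hn : 2 ≤ n) (hdim : Module.finrank F K = n)
    (g : (Module.End F K)ˣ) (hg : ((Units.map ((Algebra.lmul F K : K →ₐ[F] Module.End F K) : K →* Module.End F K)).range).map (MulAut.conj g).toMonoidHom ≠ (Units.map ((Algebra.lmul F K : K →ₐ[F] Module.End F K) : K →* Module.End F K)).range) :
    ∃ r : ℕ, 1 ≤ r ∧ r ∣ n ∧ r < n ∧ Nat.card ↥(((Units.map ((Algebra.lmul F K : K →ₐ[F] Module.End F K) : K →* Module.End F K)).range).map (MulAut.conj g).toMonoidHom ⊓ (Units.map ((Algebra.lmul F K : K →ₐ[F] Module.End F K) : K →* Module.End F K)).range) ∣ Fintype.card F ^ r - 1 := by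
  classical
  have : Finite (Module.End F K) :=
    Finite.of_injective (fun f : Module.End F K => (f : K → K)) DFunLike.coe_injective
  set M : Subgroup (Module.End F K)ˣ :=
    (Units.map ((Algebra.lmul F K : K →ₐ[F] Module.End F K) : K →* Module.End F K)).range with hM
  have memM : ∀ u : (Module.End F K)ˣ, u ∈ M ↔ ∃ a : Kˣ,
      (u : Module.End F K) = Algebra.lmul F K (a : K) := by
    intro u
    rw [hM, MonoidHom.mem_range]
    constructor
    · rintro ⟨a, rfl⟩
      exact ⟨a, rfl⟩
    · rintro ⟨a, ha⟩
      exact ⟨a, Units.ext ha.symm⟩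
  -- if every element lies in the field, then `g` normalises `M`
  have key : (∀ a : K, a ∈ Afld g) → False := by
    intro hall
    apply hg
    symm
    apply Subgroup.eq_of_le_of_card_ge
    · intro u hu
      obtain ⟨a, ha⟩ := (memM u).1 hu
      obtain ⟨b, hb⟩ := mem_Afld.1 (hall (a : K))
      have hb0 : b ≠ 0 := witness_ne_zero a.ne_zero hb
      rw [Subgroup.mem_map]
      refine ⟨Units.map ((Algebra.lmul F K : K →ₐ[F] Module.End F K) : K →* Module.End F K)
        (Units.mk0 b hb0), ⟨_, rfl⟩, ?_⟩
      apply Units.ext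
      rw [ha, ← hb]
      simp [MulAut.conj_apply]
    · rw [Subgroup.card_map_of_injective (MulAut.conj g).injective]
  set r := Module.finrank F ↥(Afld g) with hr
  have hmul : r * Module.finrank ↥(Afld g) K = n := by
    rw [hr, Module.finrank_mul_finrank, hdim]
  have hrpos : 0 < r := Module.finrank_pos
  have hrdvd : r ∣ n := Dvd.intro _ hmul
  have hrle : r ≤ n := Nat.le_of_dvd (by omega) hrdvd
  have hrne : r ≠ n := by
    intro hrn
    apply key
    have htop : Subalgebra.toSubmodule (Afld g).toSubalgebra = ⊤ := by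
      apply Submodule.eq_top_of_finrank_eq
      rw [hdim, ← hrn]
      rfl
    intro a
    have : a ∈ Subalgebra.toSubmodule (Afld g).toSubalgebra := by rw [htop]; trivial
    exact this
  refine ⟨r, hrpos, hrdvd, lt_of_le_of_ne hrle hrne, ?_⟩
  -- the intersection lies in the image of the units of the field
  let ψ : (↥(Afld g))ˣ →* (Module.End F K)ˣ :=
    Units.map ((((Algebra.lmul F K : K →ₐ[F] Module.End F K) : K →* Module.End F K)).comp
      ((Afld g).val : ↥(Afld g) →* K))
  have hle : M.map (MulAut.conj g).toMonoidHom ⊓ M ≤ ψ.range := by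
    intro u hu
    obtain ⟨hu1, hu2⟩ := Subgroup.mem_inf.1 hu
    obtain ⟨a, ha⟩ := (memM u).1 hu2
    obtain ⟨w, hw, hwu⟩ := Subgroup.mem_map.1 hu1
    obtain ⟨b, hb⟩ := (memM w).1 hw
    have hmem : (a : K) ∈ Afld g := by
      rw [mem_Afld]
      refine ⟨(b : K), ?_⟩
      rw [← ha, ← hb, ← hwu]
      simp [MulAut.conj_apply]
    have hne0 : (⟨(a : K), hmem⟩ : ↥(Afld g)) ≠ 0 := by
      intro h0
      exact a.ne_zero (congrArg Subtype.val h0)
    refine ⟨Units.mk0 ⟨(a : K), hmem⟩ hne0, ?_⟩
    apply Units.ext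
    rw [ha]
    rfl
  have h1 : Nat.card ↥(M.map (MulAut.conj g).toMonoidHom ⊓ M) ∣ Nat.card ↥ψ.range :=
    Subgroup.card_dvd_of_le hle
  have h2 : Nat.card ↥ψ.range ∣ Nat.card (↥(Afld g))ˣ := Subgroup.card_range_dvd ψ
  have h3 : Nat.card (↥(Afld g))ˣ = Fintype.card F ^ r - 1 := by
    rw [Nat.card_units, Module.natCard_eq_pow_finrank (K := F) (V := ↥(Afld g)),
      Nat.card_eq_fintype_card]
  rw [← h3]
  exact h1.trans h2


end Cfsg.Agent.S5739
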