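import Cfsg.Statements.S5747
import Mathlib

set_option autoImplicit false
open Cfsg

namespace Cfsg.Agent.S5747

open List

variable {Ω : Type*}

/-- reversed irredundant sequence: the head is the latest point -/
def IrrR (G : Type*) [Group G] [MulAction G Ω] : List Ω → Prop
  | [] => True
  | x :: l => (∃ g : G, (∀ y ∈ l, g • y = y) ∧ g • x ≠ x) ∧ IrrR G l

def BaseL (G : Type*) [Group G] [MulAction G Ω] (l : List Ω) : Prop :=
  ∀ g : G, (∀ y ∈ l, g • y = y) → g = 1

open Classical in
/-- pruning relative to a suffix `q` -/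
noncomputable def pruneR (G : Type*) [Group G] [MulAction G Ω] (q : List Ω) : List Ω → List Ω
  | [] => []
  | x :: L => if (∃ g : G, (∀ y ∈ L ++ q, g • y = y) ∧ g • x ≠ x) then x :: pruneR G q L
      else pruneR G q L

variable {G : Type*} [Group G] [MulAction G Ω]

theorem pruneR_sublist (q : List Ω) : ∀ L : List Ω, (pruneR G q L).Sublist L
  | [] => by simp [pruneR]
  | x :: L => by
    unfold pruneR
    split_ifs with h
    · exact (pruneR_sublist q L).cons_cons x
    · exact (pruneR_sublist q L).cons x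

theorem pruneR_fix (q : List Ω) (g : G) : ∀ L : List Ω,
    (∀ y ∈ pruneR G q L ++ q, g • y = y) ↔ (∀ y ∈ L ++ q, g • y = y)
  | [] => by simp [pruneR]
  | x :: L => by
    unfold pruneR
    split_ifs with h
    · simp only [cons_append, mem_cons, forall_eq_or_imp]
      rw [pruneR_fix q g L]
    · rw [pruneR_fix q g L]
      simp only [cons_append, mem_cons, forall_eq_or_imp]
      constructor
      · intro hg
        refine ⟨?_, hg⟩
        by_contra hx
        exact h ⟨g, hg, hx⟩
      · intro hg; exact hg.2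

theorem pruneR_irr (q : List Ω) (hq : IrrR G q) : ∀ L : List Ω, IrrR G (pruneR G q L ++ q)
  | [] => by simpa [pruneR] using hq
  | x :: L => by
    unfold pruneR
    split_ifs with h
    · simp only [cons_append, IrrR]
      refine ⟨?_, pruneR_irr q hq L⟩
      obtain ⟨g, hg, hx⟩ := h
      exact ⟨g, (pruneR_fix q g L).2 hg, hx⟩
    · exact pruneR_irr q hq L

theorem irrR_suffix : ∀ (L q : List Ω), IrrR G (L ++ q) → IrrR G q
  | [], q, h => by simpa using h
  | x :: L, q, h => by
    simp only [cons_append, IrrR] at h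
    exact irrR_suffix L q h.2

theorem baseL_perm {l l' : List Ω} (h : l ~ l') (hb : BaseL G l) : BaseL G l' := by
  intro g hg
  apply hb
  intro y hy
  exact hg y (h.mem_iff.1 hy)

/-- (i) implies (ii) on lists -/
theorem reorder_of_length (hlen : ∀ L L' : List Ω, IrrR G L → BaseL G L → IrrR G L' → BaseL G L' →
    L.length = L'.length) (L L' : List Ω) (hp : L ~ L') (hI : IrrR G L) (hB : BaseL G L) :
    IrrR G L' := by
  have hB' : BaseL G L' := baseL_perm hp hB
  have h1 : IrrR G (pruneR G [] L' ++ []) := pruneR_irr [] (by simp [IrrR]) L'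
  have h2 : BaseL G (pruneR G [] L' ++ []) := by
    intro g hg
    apply hB'
    have := (pruneR_fix [] g L').1 hg
    simpa using this
  rw [append_nil] at h1 h2
  have h3 := hlen L (pruneR G [] L') hI hB h1 h2
  have h4 : pruneR G [] L' = L' := by
    apply (pruneR_sublist [] L').eq_of_length
    rw [← h3, hp.length_eq]
  rw [h4] at h1
  exact h1


/-- (ii) implies (i), relative version -/
theorem length_of_reorder (hre : ∀ L L' : List Ω, L ~ L' → IrrR G L → BaseL G L → IrrR G L') :
    ∀ (m : ℕ) (q A B : List Ω), A.length = m → IrrR G (A ++ q) → BaseL G (A ++ q) →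
      IrrR G (B ++ q) → BaseL G (B ++ q) → B.length = m := by
  intro m
  induction m with
  | zero =>
    intro q A B hA hIA hBA hIB hBB
    have hA0 : A = [] := List.length_eq_zero_iff.1 hA
    subst hA0
    rcases List.eq_nil_or_concat B with h | ⟨B₀, b, h⟩
    · simp [h]
    · exfalso
      rw [h, List.concat_eq_append, List.append_assoc] at hIB
      have := irrR_suffix B₀ _ hIB
      simp only [List.singleton_append, IrrR] at this
      obtain ⟨⟨g, hg, hb⟩, _⟩ := this
      have : g = 1 := hBA g (by simpa using hg)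
      rw [this, one_smul] at hb
      exact hb rfl
  | succ m ih =>
    intro q A B hA hIA hBA hIB hBB
    rcases List.eq_nil_or_concat A with h | ⟨A', a, h⟩
    · rw [h] at hA; simp at hA
    rw [h, List.concat_eq_append] at hA hIA hBA
    rw [List.append_assoc, List.singleton_append] at hIA hBA
    have hA' : A'.length = m := by simpa using hA
    have hq' : IrrR G (a :: q) := irrR_suffix A' _ hIA
    obtain ⟨C, hC⟩ : ∃ C, C = pruneR G (a :: q) B := ⟨_, rfl⟩
    have hIC : IrrR G (C ++ a :: q) := by rw [hC]; exact pruneR_irr _ hq' B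
    have hBC : BaseL G (C ++ a :: q) := by
      intro g hg
      rw [hC] at hg
      have := (pruneR_fix (a :: q) g B).1 hg
      apply hBB
      intro y hy
      apply this
      simp only [List.mem_append, List.mem_cons] at hy ⊢
      tauto
    have hClen : C.length = m := ih (a :: q) A' C hA' hIA hBA hIC hBC
    -- R1
    have hp1 : (C ++ a :: q) ~ (a :: (C ++ q)) := List.perm_middle
    have hI1 : IrrR G (a :: (C ++ q)) := hre _ _ hp1 hIC hBC
    have hB1 : BaseL G (a :: (C ++ q)) := baseL_perm hp1 hBC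
    obtain ⟨⟨g₀, hg₀, hg₀a⟩, _⟩ := hI1
    -- R2
    have hsub : C.Sublist B := by rw [hC]; exact pruneR_sublist _ B
    obtain ⟨D, hD⟩ := hsub.exists_perm_append
    have hp2 : (B ++ q) ~ (D ++ (C ++ q)) := by
      rw [← List.append_assoc]
      exact (hD.trans List.perm_append_comm).append_right q
    have hI2 : IrrR G (D ++ (C ++ q)) := hre _ _ hp2 hIB hBB
    have hB2 : BaseL G (D ++ (C ++ q)) := baseL_perm hp2 hBB
    have hBlen : B.length = C.length + D.length := by
      rw [hD.length_eq, List.length_append]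
    rcases List.eq_nil_or_concat D with hD0 | ⟨D', d₁, hD1⟩
    · exfalso
      rw [hD0, List.nil_append] at hB2
      have := hB2 g₀ hg₀
      rw [this, one_smul] at hg₀a
      exact hg₀a rfl
    rcases List.eq_nil_or_concat D' with hD0' | ⟨D'', d₂, hD2⟩
    · rw [hBlen, hD1, hD0', hClen]; simp
    exfalso
    rw [hD1, hD2, List.concat_eq_append, List.concat_eq_append, List.append_assoc, List.append_assoc,
      List.singleton_append, List.singleton_append] at hI2
    have hI3 := irrR_suffix D'' _ hI2
    obtain ⟨⟨g₂, hg₂, hg₂d⟩, hI4⟩ := hI3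
    have hI5 : IrrR G (a :: d₁ :: (C ++ q)) := by
      refine ⟨⟨g₂, hg₂, ?_⟩, hI4⟩
      intro hcon
      have : g₂ = 1 := by
        apply hB1
        intro y hy
        rcases List.mem_cons.1 hy with rfl | hy
        · exact hcon
        · exact hg₂ y (List.mem_cons_of_mem _ hy)
      rw [this, one_smul] at hg₂d
      exact hg₂d rfl
    have hB5 : BaseL G (a :: d₁ :: (C ++ q)) := by
      intro g hg
      apply hB1
      intro y hy
      apply hg
      simp only [List.mem_cons] at hy ⊢
      tauto
    have hI6 : IrrR G (d₁ :: a :: (C ++ q)) := hre _ _ (List.Perm.swap _ _ _) hI5 hB5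
    obtain ⟨⟨g₃, hg₃, hg₃d⟩, _⟩ := hI6
    have := hB1 g₃ hg₃
    rw [this, one_smul] at hg₃d
    exact hg₃d rfl


theorem irrR_nodup : ∀ L : List Ω, IrrR G L → L.Nodup
  | [], _ => List.nodup_nil
  | x :: L, h => by
    obtain ⟨⟨g, hg, hx⟩, h'⟩ := h
    rw [List.nodup_cons]
    exact ⟨fun hm => hx (hg x hm), irrR_nodup L h'⟩

theorem baseL_ofFn {t : ℕ} (f : Fin t → Ω) :
    (∀ g : G, (∀ i, g • f i = f i) → g = 1) ↔ BaseL G (List.ofFn f).reverse := by
  unfold BaseL
  simp only [List.mem_reverse, List.forall_mem_ofFn_iff]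

theorem irrR_ofFn : ∀ (t : ℕ) (f : Fin t → Ω),
    (∀ i : Fin t, ∃ g : G, (∀ j : Fin t, j < i → g • f j = f j) ∧ g • f i ≠ f i) ↔
      IrrR G (List.ofFn f).reverse := by
  intro t
  induction t with
  | zero =>
    intro f
    simp [IrrR]
  | succ t ih =>
    intro f
    rw [List.ofFn_succ', List.concat_eq_append, List.reverse_append, List.reverse_singleton,
      List.singleton_append]
    simp only [IrrR]
    rw [← ih (fun i => f (Fin.castSucc i)), Fin.forall_fin_succ']
    rw [and_comm]
    apply and_congr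
    · apply exists_congr
      intro g
      apply and_congr
      · simp only [List.mem_reverse, List.forall_mem_ofFn_iff]
        rw [Fin.forall_fin_succ']
        simp [Fin.castSucc_lt_last]
      · rfl
    · apply forall_congr'
      intro i
      apply exists_congr
      intro g
      apply and_congr
      · rw [Fin.forall_fin_succ']
        simp [Fin.castSucc_lt_castSucc_iff]
        intro _ h
        exact absurd h (not_lt.2 (Fin.le_last _))
      · rfl


theorem exists_perm_ofFn (M M' : List Ω) (hM : M.Nodup) (hp : M' ~ M) :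
    ∃ σ : Equiv.Perm (Fin M.length), List.ofFn (M.get ∘ σ) = M' := by
  have hlen : M'.length = M.length := hp.length_eq
  have hM' : M'.Nodup := hp.nodup_iff.2 hM
  have hex : ∀ i : Fin M.length, ∃ j : Fin M.length, M.get j = M'.get (i.cast hlen.symm) := by
    intro i
    have : M'.get (i.cast hlen.symm) ∈ M := hp.mem_iff.1 (List.get_mem _ _)
    obtain ⟨j, hj⟩ := List.get_of_mem this
    exact ⟨j, hj⟩
  choose τ hτ using hex
  have hinj : Function.Injective τ := by
    intro i i' h
    have h1 : M'.get (i.cast hlen.symm) = M'.get (i'.cast hlen.symm) := by rw [← hτ, ← hτ, h]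
    have := (List.Nodup.get_inj_iff hM').1 h1
    simpa using this
  have hbij := Finite.injective_iff_bijective.1 hinj
  refine ⟨Equiv.ofBijective τ hbij, ?_⟩
  apply List.ext_get
  · simp [hlen]
  · intro n h1 h2
    have hn : n < M.length := by rw [← hlen]; exact h2
    have := hτ ⟨n, hn⟩
    simp only [List.get_eq_getElem, Fin.val_cast] at this
    simp only [List.get_eq_getElem, List.getElem_ofFn, Function.comp_apply, Equiv.ofBijective_apply]
    exact this


theorem ofFn_get_reverse (L : List Ω) : (List.ofFn L.reverse.get).reverse = L := by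
  rw [List.ofFn_get, List.reverse_reverse]

theorem main5747 {G Ω : Type*} [Group G] [Finite G] [MulAction G Ω] [Fintype Ω] :
    (∀ (t t' : ℕ) (f : Fin t → Ω) (f' : Fin t' → Ω), ((∀ g : G, (∀ i : Fin t, g • f i = f i) → g = 1) ∧ ∀ i : Fin t, ∃ g : G, (∀ j : Fin t, j < i → g • f j = f j) ∧ g • f i ≠ f i) → ((∀ g : G, (∀ i : Fin t', g • f' i = f' i) → g = 1) ∧ ∀ i : Fin t', ∃ g : G, (∀ j : Fin t', j < i → g • f' j = f' j) ∧ g • f' i ≠ f' i) → t = t') ↔
    (∀ (t : ℕ) (f : Fin t → Ω) (σ : Equiv.Perm (Fin t)), ((∀ g : G, (∀ i : Fin t, g • f i = f i) → g = 1) ∧ ∀ i : Fin t, ∃ g : G, (∀ j : Fin t, j < i → g • f j = f j) ∧ g • f i ≠ f i) → ((∀ g : G, (∀ i : Fin t, g • (f ∘ σ) i = (f ∘ σ) i) → g = 1) ∧ ∀ i : Fin t, ∃ g : G, (∀ j : Fin t, j < i → g • (f ∘ σ) j = (f ∘ σ) j) ∧ g • (f ∘ σ) i ≠ (f ∘ σ) i)) := by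
  constructor
  · intro hi t f σ hf
    obtain ⟨hb, hirr⟩ := hf
    have hlen : ∀ L L' : List Ω, IrrR G L → BaseL G L → IrrR G L' → BaseL G L' →
        L.length = L'.length := by
      intro L L' h1 h2 h3 h4
      have := hi L.reverse.length L'.reverse.length L.reverse.get L'.reverse.get
        ⟨(baseL_ofFn _).2 (by rw [ofFn_get_reverse]; exact h2),
          (irrR_ofFn _ _).2 (by rw [ofFn_get_reverse]; exact h1)⟩
        ⟨(baseL_ofFn _).2 (by rw [ofFn_get_reverse]; exact h4),
          (irrR_ofFn _ _).2 (by rw [ofFn_get_reverse]; exact h3)⟩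
      simpa using this
    have hp : (List.ofFn f).reverse ~ (List.ofFn (f ∘ σ)).reverse :=
      ((List.reverse_perm _).trans (σ.ofFn_comp_perm f).symm).trans (List.reverse_perm _).symm
    have hI := reorder_of_length hlen _ _ hp ((irrR_ofFn _ _).1 hirr) ((baseL_ofFn _).1 hb)
    exact ⟨(baseL_ofFn _).2 (baseL_perm hp ((baseL_ofFn _).1 hb)), (irrR_ofFn _ _).2 hI⟩
  · intro hii t t' f f' hf hf'
    obtain ⟨hb, hirr⟩ := hf
    obtain ⟨hb', hirr'⟩ := hf'
    have hre : ∀ L L' : List Ω, L ~ L' → IrrR G L → BaseL G L → IrrR G L' := by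
      intro L L' hp hI hB
      obtain ⟨σ, hσ⟩ := exists_perm_ofFn L.reverse L'.reverse
        (List.nodup_reverse.2 (irrR_nodup L hI))
        (((List.reverse_perm _).trans hp.symm).trans (List.reverse_perm _).symm)
      have h1 := hii L.reverse.length L.reverse.get σ
        ⟨(baseL_ofFn _).2 (by rw [ofFn_get_reverse]; exact hB),
          (irrR_ofFn _ _).2 (by rw [ofFn_get_reverse]; exact hI)⟩
      have h2 := (irrR_ofFn _ _).1 h1.2
      rw [hσ, List.reverse_reverse] at h2
      exact h2
    have := length_of_reorder hre t [] (List.ofFn f).reverse (List.ofFn f').reverse (by simp)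
      (by rw [List.append_nil]; exact (irrR_ofFn _ _).1 hirr)
      (by rw [List.append_nil]; exact (baseL_ofFn _).1 hb)
      (by rw [List.append_nil]; exact (irrR_ofFn _ _).1 hirr')
      (by rw [List.append_nil]; exact (baseL_ofFn _).1 hb')
    simpa using this.symm



/-- Let a finite group G act on a finite set Ω. An irredundant base is a sequence of points ω₁, …, ω_t whose pointwise stabiliser is trivial and in which each ω_i is moved by some element fixing ω₁, …, ω_{i−1}. Then all irredundant bases have the same length if and only if every reordering of an irredundant base is again an irredundant base. -/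
theorem result {G Ω : Type*} [Group G] [Finite G] [MulAction G Ω] [Fintype Ω] :
    (∀ (t t' : ℕ) (f : Fin t → Ω) (f' : Fin t' → Ω), ((∀ g : G, (∀ i : Fin t, g • f i = f i) → g = 1) ∧ ∀ i : Fin t, ∃ g : G, (∀ j : Fin t, j < i → g • f j = f j) ∧ g • f i ≠ f i) → ((∀ g : G, (∀ i : Fin t', g • f' i = f' i) → g = 1) ∧ ∀ i : Fin t', ∃ g : G, (∀ j : Fin t', j < i → g • f' j = f' j) ∧ g • f' i ≠ f' i) → t = t') ↔
    (∀ (t : ℕ) (f : Fin t → Ω) (σ : Equiv.Perm (Fin t)), ((∀ g : G, (∀ i : Fin t, g • f i = f i) → g = 1) ∧ ∀ i : Fin t, ∃ g : G, (∀ j : Fin t, j < i → g • f j = f j) ∧ g • f i ≠ f i) → ((∀ g : G, (∀ i : Fin t, g • (f ∘ σ) i = (f ∘ σ) i) → g = 1) ∧ ∀ i : Fin t, ∃ g : G, (∀ j : Fin t, j < i → g • (f ∘ σ) j = (f ∘ σ) j) ∧ g • (f ∘ σ) i ≠ (f ∘ σ) i)) := by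
  exact main5747

end Cfsg.Agent.S5747
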