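import Mathlib
import Cfsg.Statements.S5894

set_option autoImplicit false

open Cfsg
open scoped Pointwise

namespace Cfsg.Agent.S5894

open Equiv MulAction

section abstract

variable {Ω : Type*} [DecidableEq Ω] [Finite Ω]

lemma swap_conj_mem (L : Subgroup (Perm Ω)) {g : Perm Ω} (hg : g ∈ L) {x y : Ω}
    (h : swap x y ∈ L) : swap (g x) (g y) ∈ L := by
  rw [Equiv.swap_apply_apply]
  exact L.mul_mem (L.mul_mem hg h) (L.inv_mem hg)

lemma cross_swaps (L : Subgroup (Perm Ω)) (S T : Set Ω)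
    (hS : ∀ x ∈ S, ∀ y ∈ S, swap x y ∈ L) (hT : ∀ x ∈ T, ∀ y ∈ T, swap x y ∈ L)
    {s0 t0 : Ω} (hs0 : s0 ∈ S) (ht0 : t0 ∈ T) (h0 : swap s0 t0 ∈ L) :
    ∀ x ∈ S ∪ T, ∀ y ∈ S ∪ T, swap x y ∈ L := by
  have key : ∀ x ∈ S ∪ T, swap x s0 ∈ L := by
    rintro x (hx | hx)
    · exact hS x hx s0 hs0
    · have h1 := hT x hx t0 ht0
      have h2 : swap t0 s0 ∈ L := by rw [swap_comm]; exact h0
      exact SubmonoidClass.swap_mem_trans L h1 h2
  intro x hx y hy
  have h1 := key x hx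
  have h2 : swap s0 y ∈ L := by rw [swap_comm]; exact key y hy
  exact SubmonoidClass.swap_mem_trans L h1 h2

/-- the stabilizer of the partition `{S, Sᶜ}` -/
def Kgrp (S : Set Ω) : Subgroup (Perm Ω) where
  carrier := {g | g • S = S ∨ g • S = Sᶜ}
  one_mem' := Or.inl (one_smul _ _)
  mul_mem' := by
    rintro g h (hg | hg) (hh | hh)
    · left; rw [mul_smul, hh, hg]
    · right; rw [mul_smul, hh, Set.smul_set_compl, hg]
    · right; rw [mul_smul, hh, hg]
    · left; rw [mul_smul, hh, Set.smul_set_compl, hg, compl_compl]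
  inv_mem' := by
    rintro g (hg | hg)
    · left; rw [inv_smul_eq_iff]; exact hg.symm
    · right; rw [inv_smul_eq_iff, Set.smul_set_compl, hg, compl_compl]

lemma mem_Kgrp (S : Set Ω) (g : Perm Ω) : g ∈ Kgrp S ↔ (g • S = S ∨ g • S = Sᶜ) := Iff.rfl

lemma stab_le_K (S : Set Ω) : stabilizer (Perm Ω) S ≤ Kgrp S :=
  fun _ hg => Or.inl (mem_stabilizer_iff.mp hg)

lemma swap_mem_of_compl (S : Set Ω) {x y : Ω} (hx : x ∉ S) (hy : y ∉ S) :
    swap x y ∈ stabilizer (Perm Ω) S := by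
  rw [← stabilizer_compl]
  exact Equiv.Perm.swap_mem_stabilizer (s := Sᶜ) hx hy

lemma exists_split (S : Set Ω) (g : Perm Ω) (h1 : g • S ≠ S) (h2 : ¬ (g • S ⊆ Sᶜ)) :
    ∃ x ∈ S, ∃ y ∈ S, g x ∈ S ∧ g y ∉ S := by
  have h3 : ¬ (g • S ⊆ S) := by
    intro h
    apply h1
    exact Set.eq_of_subset_of_ncard_le h (by rw [Set.ncard_smul_set]) (Set.toFinite _)
  rw [Set.not_subset] at h2 h3
  obtain ⟨z, ⟨x, hx, rfl⟩, hz⟩ := h2
  obtain ⟨w, ⟨y, hy, rfl⟩, hw⟩ := h3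
  exact ⟨x, hx, y, hy, by simpa using hz, hw⟩

theorem K_coatom (S : Set Ω) (hcard : Sᶜ.ncard ≤ S.ncard) {s0 s1 t0 : Ω} (hs0 : s0 ∈ S)
    (hs1 : s1 ∈ S) (h01 : s0 ≠ s1) (ht0 : t0 ∉ S) : IsCoatom (Kgrp S) := by
  constructor
  · intro h
    have hmem : swap s0 t0 ∈ Kgrp S := h ▸ Subgroup.mem_top _
    rcases hmem with h | h
    · have : t0 ∈ swap s0 t0 • S := ⟨s0, hs0, swap_apply_left _ _⟩
      rw [h] at this; exact ht0 this
    · have : s1 ∈ swap s0 t0 • S :=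
        ⟨s1, hs1, swap_apply_of_ne_of_ne h01.symm (by rintro rfl; exact ht0 hs1)⟩
      rw [h] at this; exact this hs1
  · intro L hL
    obtain ⟨g, hgL, hgK⟩ := SetLike.exists_of_lt hL
    have hgK' : ¬ (g • S = S ∨ g • S = Sᶜ) := hgK
    have h1 : g • S ≠ S := fun h => hgK' (Or.inl h)
    have h2 : ¬ (g • S ⊆ Sᶜ) := fun h => hgK' (Or.inr
      (Set.eq_of_subset_of_ncard_le h (by rw [Set.ncard_smul_set]; exact hcard) (Set.toFinite _)))
    obtain ⟨x, hx, y, hy, hgx, hgy⟩ := exists_split S g h1 h2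
    have hSL : ∀ x ∈ S, ∀ y ∈ S, swap x y ∈ L := fun x hx y hy =>
      hL.le (stab_le_K S (Equiv.Perm.swap_mem_stabilizer hx hy))
    have hTL : ∀ x ∈ Sᶜ, ∀ y ∈ Sᶜ, swap x y ∈ L := fun x hx y hy =>
      hL.le (stab_le_K S (swap_mem_of_compl S hx hy))
    have hcr : swap (g x) (g y) ∈ L := swap_conj_mem L hgL (hSL x hx y hy)
    have hall := cross_swaps L S Sᶜ hSL hTL hgx hgy hcr
    rw [eq_top_iff, ← Equiv.Perm.closure_isSwap, Subgroup.closure_le]
    rintro σ ⟨u, v, _, rfl⟩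
    exact hall u (by simp) v (by simp)

theorem H_max (S : Set Ω) (a : Ω) (ha : a ∉ S) (hcard : Sᶜ.ncard ≤ S.ncard)
    (L : Subgroup (Perm Ω))
    (hL : stabilizer (Perm Ω) a ⊓ stabilizer (Perm Ω) S < L)
    (hLM : L ≤ stabilizer (Perm Ω) a) : stabilizer (Perm Ω) a ≤ L := by
  obtain ⟨g, hgL, hgH⟩ := SetLike.exists_of_lt hL
  have hga : g a = a := mem_stabilizer_iff.mp (hLM hgL)
  have h1 : g • S ≠ S := fun h => hgH ⟨hLM hgL, mem_stabilizer_iff.mpr h⟩
  have hne : ∀ x ∈ S, g x ≠ a := by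
    intro x hx h
    have : x = a := g.injective (h.trans hga.symm)
    exact ha (this ▸ hx)
  have h2 : ¬ (g • S ⊆ Sᶜ) := by
    intro h
    have hsub : g • S ⊆ Sᶜ \ {a} := by
      intro z hz
      refine ⟨h hz, ?_⟩
      obtain ⟨x, hx, rfl⟩ := hz
      exact hne x hx
    have h4 := Set.ncard_le_ncard hsub (Set.toFinite _)
    rw [Set.ncard_smul_set] at h4
    have h3 := Set.ncard_diff_singleton_lt_of_mem (show a ∈ Sᶜ from ha) (Set.toFinite _)
    omega
  obtain ⟨x, hx, y, hy, hgx, hgy⟩ := exists_split S g h1 h2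
  have hfix : ∀ u v : Ω, u ≠ a → v ≠ a → swap u v ∈ stabilizer (Perm Ω) a := by
    intro u v hu hv
    rw [mem_stabilizer_iff]
    exact swap_apply_of_ne_of_ne (Ne.symm hu) (Ne.symm hv)
  have hSa : ∀ x ∈ S, x ≠ a := fun x hx h => ha (h ▸ hx)
  have hSL : ∀ x ∈ S, ∀ y ∈ S, swap x y ∈ L := fun x hx y hy =>
    hL.le ⟨hfix x y (hSa x hx) (hSa y hy), Equiv.Perm.swap_mem_stabilizer hx hy⟩
  have hTL : ∀ x ∈ Sᶜ \ {a}, ∀ y ∈ Sᶜ \ {a}, swap x y ∈ L := fun x hx y hy =>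
    hL.le ⟨hfix x y hx.2 hy.2, swap_mem_of_compl S hx.1 hy.1⟩
  have hgy' : g y ∈ Sᶜ \ {a} := ⟨hgy, hne y hy⟩
  have hall := cross_swaps L S (Sᶜ \ {a}) hSL hTL hgx hgy'
    (swap_conj_mem L hgL (hSL x hx y hy))
  intro σ hσ
  have hσa : σ a = a := mem_stabilizer_iff.mp hσ
  let Sw : Set (Perm Ω) := {τ | ∃ u v, u ≠ a ∧ v ≠ a ∧ u ≠ v ∧ τ = swap u v}
  have hSw : ∀ f ∈ Sw, f.IsSwap := by
    rintro f ⟨u, v, _, _, huv, rfl⟩
    exact ⟨u, v, huv, rfl⟩
  have hmemU : ∀ u, u ≠ a → u ∈ S ∪ (Sᶜ \ {a}) := by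
    intro u hu
    by_cases h : u ∈ S
    · exact Or.inl h
    · exact Or.inr ⟨h, hu⟩
  have hSwL : Subgroup.closure Sw ≤ L := by
    rw [Subgroup.closure_le]
    rintro f ⟨u, v, hu, hv, _, rfl⟩
    exact hall u (hmemU u hu) v (hmemU v hv)
  apply hSwL
  rw [mem_closure_isSwap hSw]
  refine ⟨Set.toFinite _, fun x => ?_⟩
  by_cases hx : x = a
  · subst hx; rw [hσa]; exact mem_orbit_self _
  · by_cases hx2 : σ x = x
    · rw [hx2]; exact mem_orbit_self _
    · have h5 : σ x ≠ a := fun h => hx (σ.injective (h.trans hσa.symm))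
      refine ⟨⟨swap x (σ x), Subgroup.subset_closure ⟨x, σ x, hx, h5, Ne.symm hx2, rfl⟩⟩, ?_⟩
      exact swap_apply_left _ _

lemma isCoatom_subgroupOf {G : Type*} [Group G] (H M : Subgroup G) (hHM : H ≤ M)
    (hne : ¬ M ≤ H) (hmax : ∀ L : Subgroup G, H < L → L ≤ M → M ≤ L) :
    IsCoatom (H.subgroupOf M) := by
  constructor
  · rw [Ne, Subgroup.subgroupOf_eq_top]; exact hne
  · intro L' hL'
    rw [eq_top_iff]
    intro x _
    have hlt : H < L'.map M.subtype := by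
      apply lt_of_le_of_ne
      · intro h hh
        exact ⟨⟨h, hHM hh⟩, hL'.le (Subgroup.mem_subgroupOf.mpr hh), rfl⟩
      · intro heq
        obtain ⟨y, hyL, hyH⟩ := SetLike.exists_of_lt hL'
        apply hyH
        rw [Subgroup.mem_subgroupOf, heq]
        exact ⟨y, hyL, rfl⟩
    have h6 := hmax _ hlt (Subgroup.map_subtype_le L')
    obtain ⟨y, hy, hyx⟩ := h6 x.2
    have : y = x := Subtype.ext hyx
    exact this ▸ hy

theorem not_coatom (S : Set Ω) (a t0 : Ω) (ha : a ∉ S) (ht0 : t0 ∉ S) (hat : t0 ≠ a)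
    (r : Perm Ω) (hr : r • S = Sᶜ) :
    ¬ IsCoatom ((stabilizer (Perm Ω) a ⊓ stabilizer (Perm Ω) S).subgroupOf (Kgrp S)) := by
  intro hco
  have hlt : (stabilizer (Perm Ω) a ⊓ stabilizer (Perm Ω) S).subgroupOf (Kgrp S) <
      (stabilizer (Perm Ω) S).subgroupOf (Kgrp S) := by
    apply lt_of_le_of_ne
    · intro x hx
      exact (Subgroup.mem_subgroupOf.mp hx).2
    · intro heq
      have hmem : (⟨swap a t0, stab_le_K S (swap_mem_of_compl S ha ht0)⟩ : Kgrp S) ∈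
          (stabilizer (Perm Ω) S).subgroupOf (Kgrp S) :=
        Subgroup.mem_subgroupOf.mpr (swap_mem_of_compl S ha ht0)
      rw [← heq] at hmem
      have h7 : swap a t0 ∈ stabilizer (Perm Ω) a := (Subgroup.mem_subgroupOf.mp hmem).1
      rw [mem_stabilizer_iff] at h7
      have h8 : swap a t0 a = t0 := swap_apply_left _ _
      exact hat (h8.symm.trans h7)
  have h := hco.2 _ hlt
  rw [Subgroup.subgroupOf_eq_top] at h
  have h9 : r ∈ Kgrp S := Or.inr hr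
  have h10 := mem_stabilizer_iff.mp (h h9)
  rw [hr] at h10
  have : a ∈ Sᶜ := ha
  rw [h10] at this
  exact ha this

end abstract

theorem result (m : ℕ) (hm : 2 ≤ m) :
    ∃ M H K : Subgroup (Equiv.Perm (Fin (2 * m))), IsCoatom M ∧ M.index = 2 * m ∧ H ≤ M ∧ IsCoatom (H.subgroupOf M) ∧
      IsCoatom K ∧ H ≤ K ∧ ¬ IsCoatom (H.subgroupOf K) := by
  have h2m : 0 < 2 * m := by omega
  let S : Set (Fin (2 * m)) := {x | x.val < m}
  let a : Fin (2 * m) := ⟨2 * m - 1, by omega⟩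
  let s0 : Fin (2 * m) := ⟨0, by omega⟩
  let s1 : Fin (2 * m) := ⟨1, by omega⟩
  let t0 : Fin (2 * m) := ⟨m, by omega⟩
  have ha : a ∉ S := by
    show ¬ (2 * m - 1 < m)
    omega
  have hs0 : s0 ∈ S := by
    show 0 < m
    omega
  have hs1 : s1 ∈ S := by
    show 1 < m
    omega
  have h01 : s0 ≠ s1 := by
    intro h
    have := congrArg Fin.val h
    simp [s0, s1] at this
  have ht0 : t0 ∉ S := by
    show ¬ (m < m)
    omega
  have hat : t0 ≠ a := by
    intro h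
    have := congrArg Fin.val h
    simp only [t0, a] at this
    omega
  have hr : (Fin.revPerm : Perm (Fin (2 * m))) • S = Sᶜ := by
    ext z
    rw [Set.mem_smul_set_iff_inv_smul_mem, Equiv.Perm.inv_def, Fin.revPerm_symm]
    show (Fin.rev z).val < m ↔ ¬ (z.val < m)
    rw [Fin.val_rev]
    have := z.2
    omega
  have hcard : Sᶜ.ncard ≤ S.ncard := by
    rw [← hr, Set.ncard_smul_set]
  refine ⟨stabilizer (Perm (Fin (2 * m))) a,
    stabilizer (Perm (Fin (2 * m))) a ⊓ stabilizer (Perm (Fin (2 * m))) S, Kgrp S, ?_, ?_, inf_le_left, ?_, ?_, ?_, ?_⟩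
  · haveI : Nontrivial (Fin (2 * m)) := ⟨⟨s0, s1, h01⟩⟩
    rw [isCoatom_stabilizer_iff_preprimitive]
    infer_instance
  · rw [index_stabilizer_of_transitive, Nat.card_eq_fintype_card, Fintype.card_fin]
  · apply isCoatom_subgroupOf _ _ inf_le_left
    · intro h
      have h1 : swap s0 t0 ∈ stabilizer (Perm (Fin (2 * m))) a := by
        rw [mem_stabilizer_iff]
        apply swap_apply_of_ne_of_ne
        · intro h; exact ha (h ▸ hs0)
        · exact Ne.symm hat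
      have h2 := mem_stabilizer_iff.mp (h h1).2
      have : t0 ∈ swap s0 t0 • S := ⟨s0, hs0, swap_apply_left _ _⟩
      rw [h2] at this
      exact ht0 this
    · exact H_max S a ha hcard
  · exact K_coatom S hcard hs0 hs1 h01 ht0
  · exact inf_le_right.trans (stab_le_K S)
  · exact not_coatom S a t0 ha ht0 hat Fin.revPerm hr

end Cfsg.Agent.S5894
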