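import Cfsg.Statements.S5895

set_option autoImplicit false
open Cfsg

namespace Cfsg.Agent.S5895


open SemidirectProduct

/-- scaling automorphism of the additive group of a field, written multiplicatively -/
def scaleAut (F : Type*) [Field F] (u : F) (hu : u ≠ 0) : Multiplicative F ≃* Multiplicative F where
  toFun x := Multiplicative.ofAdd (u * Multiplicative.toAdd x)
  invFun x := Multiplicative.ofAdd (u⁻¹ * Multiplicative.toAdd x)
  left_inv x := by
    show Multiplicative.ofAdd (u⁻¹ * (u * Multiplicative.toAdd x)) = x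
    rw [← mul_assoc, inv_mul_cancel₀ hu, one_mul]; rfl
  right_inv x := by
    show Multiplicative.ofAdd (u * (u⁻¹ * Multiplicative.toAdd x)) = x
    rw [← mul_assoc, mul_inv_cancel₀ hu, one_mul]; rfl
  map_mul' x y := by
    show Multiplicative.ofAdd (u * (Multiplicative.toAdd x + Multiplicative.toAdd y)) = _
    rw [mul_add]; rfl

def Irr {N : Type*} [Group N] (L : Subgroup (MulAut N)) : Prop :=
  ∀ W : Subgroup N, (∀ l ∈ L, ∀ w ∈ W, l w ∈ W) → W = ⊥ ∨ W = ⊤

theorem top_irr (F : Type*) [Field F] : Irr (⊤ : Subgroup (MulAut (Multiplicative F))) := by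
  intro W hW
  by_cases hb : W = ⊥
  · left; exact hb
  · right
    obtain ⟨w, hw1⟩ := (Subgroup.ne_bot_iff_exists_ne_one).1 hb
    have hw0 : Multiplicative.toAdd (w : Multiplicative F) ≠ 0 := by
      intro h
      apply hw1
      apply Subtype.ext
      have e : (w : Multiplicative F) =
          Multiplicative.ofAdd (Multiplicative.toAdd (w : Multiplicative F)) := rfl
      rw [e, h]; rfl
    rw [eq_top_iff]
    intro v _
    by_cases hv : v = 1
    · rw [hv]; exact W.one_mem
    · have hv0 : Multiplicative.toAdd v ≠ 0 := by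
        intro h
        apply hv
        have e : v = Multiplicative.ofAdd (Multiplicative.toAdd v) := rfl
        rw [e, h]; rfl
      have hu : Multiplicative.toAdd v / Multiplicative.toAdd (w : Multiplicative F) ≠ 0 :=
        div_ne_zero hv0 hw0
      have h1 := hW (scaleAut F _ hu) (Subgroup.mem_top _) w w.2
      have e : scaleAut F _ hu (w : Multiplicative F) = v := by
        show Multiplicative.ofAdd (Multiplicative.toAdd v /
          Multiplicative.toAdd (w : Multiplicative F) *
          Multiplicative.toAdd (w : Multiplicative F)) = v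
        rw [div_mul_cancel₀ _ hw0]; rfl
      rw [← e]; exact h1

theorem bot_not_irr {N : Type*} [Group N] [Finite N] (p d : ℕ) [Fact p.Prime] (hd : 2 ≤ d)
    (hc : Nat.card N = p ^ d) : ¬ Irr (⊥ : Subgroup (MulAut N)) := by
  intro h
  have hdvd : p ∣ Nat.card N := by rw [hc]; exact dvd_pow_self p (by omega)
  obtain ⟨x, hx⟩ := exists_prime_orderOf_dvd_card' p hdvd
  have hW := h (Subgroup.zpowers x) (by
    intro l hl w hw
    rw [Subgroup.mem_bot] at hl
    rw [hl]; simpa using hw)
  have hcz : Nat.card (Subgroup.zpowers x) = p := by rw [Nat.card_zpowers, hx]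
  rcases hW with h1 | h1
  · rw [h1, Subgroup.card_bot] at hcz
    exact (Fact.out : p.Prime).one_lt.ne hcz
  · rw [h1, Subgroup.card_top, hc] at hcz
    have h2 : p ^ d = p ^ 1 := by rw [hcz, pow_one]
    have := Nat.pow_right_injective (Fact.out : p.Prime).two_le h2
    omega

theorem inr_range_coatom {N K : Type*} [Group N] [Group K] (φ : K →* MulAut N) [Nontrivial N]
    (hirr : ∀ W : Subgroup N, (∀ k : K, ∀ w ∈ W, φ k w ∈ W) → W = ⊥ ∨ W = ⊤) :
    IsCoatom (inr : K →* N ⋊[φ] K).range := by
  constructor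
  · intro h
    obtain ⟨n, hn⟩ := exists_ne (1 : N)
    have hmem : (inl n : N ⋊[φ] K) ∈ (inr : K →* N ⋊[φ] K).range := by rw [h]; trivial
    obtain ⟨k, hk⟩ := hmem
    have := congrArg SemidirectProduct.left hk
    rw [left_inr, left_inl] at this
    exact hn this.symm
  · intro X hX
    obtain ⟨hle, x, hxX, hxM⟩ := SetLike.lt_iff_le_and_exists.1 hX
    have hinrX : ∀ k : K, (inr k : N ⋊[φ] K) ∈ X := fun k => hle ⟨k, rfl⟩
    have hWinv : ∀ k : K, ∀ w ∈ X.comap (inl : N →* N ⋊[φ] K), φ k w ∈ X.comap inl := by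
      intro k w hw
      show inl (φ k w) ∈ X
      rw [inl_aut]
      exact X.mul_mem (X.mul_mem (hinrX k) hw) (hinrX k⁻¹)
    have hWne : X.comap (inl : N →* N ⋊[φ] K) ≠ ⊥ := by
      intro hW
      have h1 : (inl x.left : N ⋊[φ] K) ∈ X := by
        have e : (inl x.left : N ⋊[φ] K) = x * (inr x.right)⁻¹ := by
          rw [eq_mul_inv_iff_mul_eq, inl_left_mul_inr_right]
        rw [e]; exact X.mul_mem hxX (X.inv_mem (hinrX x.right))
      have h2 : x.left ∈ X.comap (inl : N →* N ⋊[φ] K) := h1
      rw [hW, Subgroup.mem_bot] at h2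
      apply hxM
      refine ⟨x.right, ?_⟩
      have h3 := inl_left_mul_inr_right x
      rw [h2, map_one, one_mul] at h3
      exact h3
    have hWtop := (hirr _ hWinv).resolve_left hWne
    rw [eq_top_iff]
    intro g _
    have h3 := inl_left_mul_inr_right g
    rw [← h3]
    refine X.mul_mem ?_ (hinrX g.right)
    have h4 : g.left ∈ X.comap (inl : N →* N ⋊[φ] K) := by rw [hWtop]; trivial
    exact h4

theorem inr_range_index {N K : Type*} [Group N] [Group K] [Finite N] [Finite K]
    (φ : K →* MulAut N) : (inr : K →* N ⋊[φ] K).range.index = Nat.card N := by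
  haveI : Finite (N ⋊[φ] K) := Finite.of_equiv _ equivProd.symm
  have h1 := Subgroup.card_mul_index (inr : K →* N ⋊[φ] K).range
  have h2 : Nat.card (inr : K →* N ⋊[φ] K).range = Nat.card K :=
    Nat.card_congr (MonoidHom.ofInjective inr_injective).toEquiv.symm
  rw [h2, SemidirectProduct.card, mul_comm (Nat.card N)] at h1
  exact Nat.eq_of_mul_eq_mul_left Nat.card_pos h1

theorem comap_coatom {G K : Type*} [Group G] [Group K] (f : G →* K)
    (hf : Function.Surjective f) (H : Subgroup K) (hH : IsCoatom H) : IsCoatom (H.comap f) := by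
  constructor
  · intro h
    apply hH.1
    rw [eq_top_iff]
    intro k _
    obtain ⟨g, rfl⟩ := hf k
    have : g ∈ H.comap f := by rw [h]; trivial
    exact this
  · intro X hX
    have hker : f.ker ≤ X := by
      refine le_trans ?_ hX.le
      intro g hg
      show f g ∈ H
      rw [MonoidHom.mem_ker.1 hg]; exact H.one_mem
    have hXeq : (X.map f).comap f = X := by
      rw [Subgroup.comap_map_eq, sup_eq_left.2 hker]
    have hlt : H < X.map f := by
      refine lt_of_le_of_ne ?_ ?_
      · intro k hk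
        obtain ⟨g, rfl⟩ := hf k
        exact ⟨g, hX.le hk, rfl⟩
      · intro h
        rw [← h] at hXeq
        exact hX.ne hXeq
    have h2 := hH.2 _ hlt
    rw [← hXeq, h2, Subgroup.comap_top]

theorem coatom_subgroupOf {G : Type*} [Group G] {A B : Subgroup G} (hAB : A ≤ B) (hne : A ≠ B)
    (h : ∀ C : Subgroup G, A ≤ C → C ≤ B → C = A ∨ C = B) : IsCoatom (A.subgroupOf B) := by
  constructor
  · intro htop
    rw [Subgroup.subgroupOf_eq_top] at htop
    exact hne (le_antisymm hAB htop)
  · intro X hX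
    have h1 : A ≤ X.map B.subtype := by
      intro a ha
      exact ⟨⟨a, hAB ha⟩, hX.le (Subgroup.mem_subgroupOf.2 ha), rfl⟩
    have h2 : X.map B.subtype ≤ B := Subgroup.map_subtype_le X
    rcases h _ h1 h2 with h3 | h3
    · exfalso
      apply hX.ne
      apply le_antisymm hX.le
      intro x hx
      rw [Subgroup.mem_subgroupOf, ← h3]
      exact ⟨x, hx, rfl⟩
    · rw [eq_top_iff]
      intro x _
      have hx : (x : G) ∈ X.map B.subtype := by rw [h3]; exact x.2
      obtain ⟨y, hy, hyx⟩ := hx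
      have : y = x := Subtype.ext hyx
      rw [← this]; exact hy

theorem not_coatom_subgroupOf {G : Type*} [Group G] {A B C : Subgroup G} (hAC : A ≤ C)
    (hCB : C ≤ B) (hne1 : ∃ c ∈ C, c ∉ A) (hne2 : ∃ b ∈ B, b ∉ C) :
    ¬ IsCoatom (A.subgroupOf B) := by
  intro hco
  obtain ⟨c, hcC, hcA⟩ := hne1
  obtain ⟨b, hbB, hbC⟩ := hne2
  have hlt : A.subgroupOf B < C.subgroupOf B := by
    rw [SetLike.lt_iff_le_and_exists]
    refine ⟨fun x hx => Subgroup.mem_subgroupOf.2 (hAC (Subgroup.mem_subgroupOf.1 hx)),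
      ⟨c, hCB hcC⟩, Subgroup.mem_subgroupOf.2 hcC, fun h => hcA (Subgroup.mem_subgroupOf.1 h)⟩
  have h2 := hco.2 _ hlt
  have hb : (⟨b, hbB⟩ : ↥B) ∈ C.subgroupOf B := by rw [h2]; trivial
  exact hbC (Subgroup.mem_subgroupOf.1 hb)

theorem map_coatom_subgroupOf_range {K G : Type*} [Group K] [Group G] (f : K →* G)
    (hf : Function.Injective f) (H : Subgroup K) (hH : IsCoatom H) :
    IsCoatom ((H.map f).subgroupOf f.range) := by
  apply coatom_subgroupOf (Subgroup.map_le_range f H)
  · intro h
    apply hH.1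
    rw [eq_top_iff]
    intro k _
    have hk : f k ∈ H.map f := by rw [h]; exact ⟨k, rfl⟩
    obtain ⟨h', hh', he⟩ := hk
    rw [← hf he]; exact hh'
  · intro C hAC hCB
    by_cases hC : C.comap f = H
    · left
      apply le_antisymm _ hAC
      intro c hc
      obtain ⟨k, rfl⟩ := hCB hc
      have hk : k ∈ C.comap f := hc
      rw [hC] at hk
      exact ⟨k, hk, rfl⟩
    · right
      have hle : H ≤ C.comap f := fun h hh => hAC ⟨h, hh, rfl⟩
      have htop := hH.2 _ (lt_of_le_of_ne hle (Ne.symm hC))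
      apply le_antisymm hCB
      rintro _ ⟨k, rfl⟩
      have hk : k ∈ C.comap f := by rw [htop]; trivial
      exact hk

def midSubgroup {N K : Type*} [Group N] [Group K] (φ : K →* MulAut N) (W : Subgroup N)
    (H : Subgroup K) (hinv : ∀ k ∈ H, ∀ w ∈ W, φ k w ∈ W) : Subgroup (N ⋊[φ] K) where
  carrier := {g | g.left ∈ W ∧ g.right ∈ H}
  one_mem' := ⟨W.one_mem, H.one_mem⟩
  mul_mem' := by
    rintro a b ⟨ha1, ha2⟩ ⟨hb1, hb2⟩
    exact ⟨by rw [mul_left]; exact W.mul_mem ha1 (hinv _ ha2 _ hb1),
      by rw [mul_right]; exact H.mul_mem ha2 hb2⟩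
  inv_mem' := by
    rintro a ⟨ha1, ha2⟩
    exact ⟨by rw [inv_left]; exact hinv _ (H.inv_mem ha2) _ (W.inv_mem ha1),
      by rw [inv_right]; exact H.inv_mem ha2⟩

theorem mem_midSubgroup {N K : Type*} [Group N] [Group K] (φ : K →* MulAut N) (W : Subgroup N)
    (H : Subgroup K) (hinv : ∀ k ∈ H, ∀ w ∈ W, φ k w ∈ W) (g : N ⋊[φ] K) :
    g ∈ midSubgroup φ W H hinv ↔ g.left ∈ W ∧ g.right ∈ H := Iff.rfl

abbrev VV (p d : ℕ) [Fact p.Prime] := Multiplicative (GaloisField p d)

/-- For every prime p and every d ≥ 2 there is a finite group G with a maximal subgroup M of index p^d and a maximal subgroup H of M that is not second maximal in G: some maximal subgroup K of G contains H without H being maximal in K. (One may take G the affine group V ⋊ GL(V) of V = 𝔽_p^d, M = GL(V), H the stabiliser in M of a line W of V, and K = V ⋊ H, with H < W ⋊ H < K.) So the prime-index hypothesis in the second-maximality criterion cannot be relaxed to prime-power index. -/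
theorem result (p d : ℕ) (hp : p.Prime)
    (hd : 2 ≤ d) :
    ∃ (G : Type) (_ : Group G) (_ : Finite G) (M H K : Subgroup G), IsCoatom M ∧ M.index = p ^ d ∧ H ≤ M ∧
      IsCoatom (H.subgroupOf M) ∧ IsCoatom K ∧ H ≤ K ∧ ¬ IsCoatom (H.subgroupOf K) := by
  classical
  haveI : Fact p.Prime := ⟨hp⟩
  have hcardV : Nat.card (VV p d) = p ^ d := by
    rw [Nat.card_congr Multiplicative.toAdd]; exact GaloisField.card p d (by omega)
  haveI : Finite (VV p d) := Nat.finite_of_card_ne_zero (by rw [hcardV]; exact pow_ne_zero _ hp.ne_zero)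
  haveI : Nontrivial (VV p d) := by
    rw [← Finite.one_lt_card_iff_nontrivial, hcardV]
    exact Nat.one_lt_pow (by omega) hp.one_lt
  obtain ⟨L, hLirr, hLmin⟩ :=
    (Set.toFinite {L : Subgroup (MulAut (VV p d)) | Irr L}).exists_minimal ⟨⊤, top_irr _⟩
  have hLbot : L ≠ ⊥ := fun h => bot_not_irr p d hd hcardV (h ▸ hLirr)
  haveI : Nontrivial ↥L := (Subgroup.nontrivial_iff_ne_bot L).2 hLbot
  obtain ⟨H, hH⟩ : ∃ H : Subgroup ↥L, IsCoatom H := by
    rcases eq_top_or_exists_le_coatom (⊥ : Subgroup ↥L) with h | ⟨H, hH, _⟩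
    · exact absurd h bot_ne_top
    · exact ⟨H, hH⟩
  have hH0ne : H.map L.subtype ≠ L := by
    intro h
    apply hH.1
    rw [eq_top_iff]
    intro l _
    have hl : (l : MulAut (VV p d)) ∈ H.map L.subtype := by rw [h]; exact l.2
    obtain ⟨h', hh', he⟩ := hl
    have : h' = l := Subtype.ext he
    rw [← this]; exact hh'
  have hH0 : ¬ Irr (H.map L.subtype) := fun hirr =>
    hH0ne (le_antisymm (Subgroup.map_subtype_le H) (hLmin hirr (Subgroup.map_subtype_le H)))
  unfold Irr at hH0
  push Not at hH0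
  obtain ⟨W, hWinv, hWbot, hWtop⟩ := hH0
  have hinv' : ∀ k ∈ H, ∀ w ∈ W, L.subtype k w ∈ W :=
    fun k hk w hw => hWinv (k : MulAut (VV p d)) ⟨k, hk, rfl⟩ w hw
  refine ⟨VV p d ⋊[L.subtype] ↥L, inferInstance, Finite.of_equiv _ SemidirectProduct.equivProd.symm,
    (inr : ↥L →* VV p d ⋊[L.subtype] ↥L).range, H.map inr, H.comap rightHom, ?_, ?_, ?_, ?_, ?_, ?_, ?_⟩
  · exact inr_range_coatom L.subtype
      (fun W' hW' => hLirr W' (fun l hl w hw => hW' ⟨l, hl⟩ w hw))
  · rw [inr_range_index L.subtype, hcardV]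
  · exact Subgroup.map_le_range _ _
  · exact map_coatom_subgroupOf_range inr inr_injective H hH
  · exact comap_coatom rightHom rightHom_surjective H hH
  · rintro _ ⟨h, hh, rfl⟩
    show rightHom (inr h) ∈ H
    rw [rightHom_inr]; exact hh
  · apply not_coatom_subgroupOf (C := midSubgroup L.subtype W H hinv')
    · rintro _ ⟨h, hh, rfl⟩
      rw [mem_midSubgroup, left_inr, right_inr]
      exact ⟨W.one_mem, hh⟩
    · intro g hg
      exact ((mem_midSubgroup _ _ _ _ g).1 hg).2
    · obtain ⟨w, hw1⟩ := (Subgroup.ne_bot_iff_exists_ne_one).1 hWbot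
      refine ⟨inl (w : VV p d), ?_, ?_⟩
      · rw [mem_midSubgroup, left_inl, right_inl]
        exact ⟨w.2, H.one_mem⟩
      · rintro ⟨h, hh, he⟩
        have := congrArg SemidirectProduct.left he
        rw [left_inr, left_inl] at this
        exact hw1 (Subtype.ext this.symm)
    · have : ∃ v, v ∉ W := by
        by_contra hcon
        push Not at hcon
        exact hWtop (eq_top_iff.2 fun v _ => hcon v)
      obtain ⟨v, hv⟩ := this
      refine ⟨inl v, ?_, ?_⟩
      · show rightHom (inl v) ∈ H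
        rw [rightHom_inl]; exact H.one_mem
      · intro hmem
        rw [mem_midSubgroup, left_inl] at hmem
        exact hv hmem.1

end Cfsg.Agent.S5895
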