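import Cfsg.Statements.S5902
import Cfsg.Agent.S5901

set_option autoImplicit false
open Cfsg

namespace Cfsg.Agent.S5902

theorem part1 {G : Type*} [Group G] [Finite G] (X M : Subgroup G)
    (hK : ComplementedLattice (Subgroup X))
    (hM : IsCoatom M) (hXM : X ≤ M) (huniq : ∀ M' : Subgroup G, IsCoatom M' → X ≤ M' → M' = M)
    (H : Subgroup G) (hH : ¬ H ≤ M.normalCore) : ∃ C : Subgroup G, H ⊔ C = ⊤ ∧ H ⊓ C = ⊥ := by
  have hX : X ≠ ⊤ := by
    rintro rfl
    exact hM.1 (top_le_iff.mp hXM)
  obtain ⟨a, haH, haM⟩ := SetLike.not_le_iff_exists.mp hH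
  have haM' : ¬ ∀ b : G, b * a * b⁻¹ ∈ M := haM
  push Not at haM'
  obtain ⟨b, hb⟩ := haM'
  let φ : G ≃* G := MulAut.conj b
  have hint : ∀ Y : Subgroup G, ⊥ ≤ Y → Y ≤ X → ∃ C : Subgroup G, ⊥ ≤ C ∧ C ≤ X ∧ Y ⊔ C = X ∧ Y ⊓ C = ⊥ := by
    intro Y _ hYX
    obtain ⟨C', hC'⟩ := hK.exists_isCompl (Y.subgroupOf X)
    refine ⟨C'.map X.subtype, bot_le, Subgroup.map_subtype_le C', ?_, ?_⟩
    · have h1 : (Y.subgroupOf X ⊔ C').map X.subtype = X := by
        rw [codisjoint_iff.mp hC'.codisjoint, ← MonoidHom.range_eq_map, Subgroup.range_subtype]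
      rw [Subgroup.map_sup, Subgroup.map_subgroupOf_eq_of_le hYX] at h1
      exact h1
    · have h1 : (Y.subgroupOf X ⊓ C').map X.subtype = ⊥ := by
        rw [disjoint_iff.mp hC'.disjoint, Subgroup.map_bot]
      rw [Subgroup.map_inf _ _ _ X.subtype_injective, Subgroup.map_subgroupOf_eq_of_le hYX] at h1
      exact h1
  have hH' : ¬ H.map φ.toMonoidHom ≤ M := by
    intro hle
    apply hb
    have : φ a ∈ H.map φ.toMonoidHom := Subgroup.mem_map_of_mem _ haH
    exact hle this
  obtain ⟨C, hC1, hC2⟩ := Cfsg.Agent.S5901.result ⊥ X M bot_le hX hint hM hXM huniq (H.map φ.toMonoidHom) hH' (inf_bot_eq _)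
  refine ⟨C.map φ.symm.toMonoidHom, ?_, ?_⟩
  · have h := congrArg (Subgroup.map φ.symm.toMonoidHom) hC1
    rw [Subgroup.map_sup, Subgroup.map_map] at h
    have hid : φ.symm.toMonoidHom.comp φ.toMonoidHom = MonoidHom.id G := by
      ext x; simp
    rw [hid, Subgroup.map_id] at h
    rw [h]
    exact Subgroup.map_top_of_surjective _ φ.symm.surjective
  · have h := congrArg (Subgroup.map φ.symm.toMonoidHom) hC2
    rw [Subgroup.map_inf _ _ _ φ.symm.injective, Subgroup.map_map] at h
    have hid : φ.symm.toMonoidHom.comp φ.toMonoidHom = MonoidHom.id G := by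
      ext x; simp
    rw [hid, Subgroup.map_id, Subgroup.map_bot] at h
    exact h

/-- Let G be a finite group, X a subgroup whose own subgroup lattice is complemented, and suppose X lies in exactly one maximal subgroup M of G. Then every subgroup H of G not contained in the normal core of M has a complement in the subgroup lattice of G (some C with H ⊔ C = G and H ⊓ C = 1); in particular the subgroup lattice of G modulo the normal core of M is complemented. -/
theorem result {G : Type*} [Group G] [Finite G] (X M : Subgroup G)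
    (hK : ComplementedLattice (Subgroup X))
    (hM : IsCoatom M) (hXM : X ≤ M) (huniq : ∀ M' : Subgroup G, IsCoatom M' → X ≤ M' → M' = M) :
    (∀ H : Subgroup G, ¬ H ≤ M.normalCore → ∃ C : Subgroup G, H ⊔ C = ⊤ ∧ H ⊓ C = ⊥) ∧
    ComplementedLattice (Subgroup (G ⧸ M.normalCore)) := by
  refine ⟨fun H hH => part1 X M hK hM hXM huniq H hH, ⟨fun K => ?_⟩⟩
  set N := M.normalCore with hN
  by_cases hle : K.comap (QuotientGroup.mk' N) ≤ N
  · refine ⟨⊤, ?_⟩
    have : K = ⊥ := by
      rw [eq_bot_iff]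
      intro x hx
      obtain ⟨g, rfl⟩ := QuotientGroup.mk_surjective x
      have hg : g ∈ K.comap (QuotientGroup.mk' N) := hx
      have := hle hg
      rw [Subgroup.mem_bot]
      exact (QuotientGroup.eq_one_iff g).mpr this
    rw [this]
    exact isCompl_bot_top
  · obtain ⟨C, hC1, hC2⟩ := part1 X M hK hM hXM huniq _ hle
    refine ⟨C.map (QuotientGroup.mk' N), ?_⟩
    rw [isCompl_iff, disjoint_iff, codisjoint_iff]
    constructor
    · rw [eq_bot_iff]
      rintro x ⟨hxK, c, hc, rfl⟩
      have hcH : c ∈ K.comap (QuotientGroup.mk' N) := hxK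
      have : c ∈ K.comap (QuotientGroup.mk' N) ⊓ C := ⟨hcH, hc⟩
      rw [hC2, Subgroup.mem_bot] at this
      rw [this, map_one]
      exact Subgroup.one_mem _
    · have h := congrArg (Subgroup.map (QuotientGroup.mk' N)) hC1
      rw [Subgroup.map_sup, Subgroup.map_comap_eq_self_of_surjective (QuotientGroup.mk'_surjective N),
        Subgroup.map_top_of_surjective _ (QuotientGroup.mk'_surjective N)] at h
      exact h

end Cfsg.Agent.S5902
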