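import Cfsg.Statements.S5903
import Cfsg.Agent.S5901

set_option autoImplicit false
open Cfsg

namespace Cfsg.Agent.S5903

theorem interval_compl {G : Type*} [Group G] (X N : Subgroup G) (hNX : N ≤ X)
    [(N.subgroupOf X).Normal] (hK : ComplementedLattice (Subgroup (X ⧸ N.subgroupOf X)))
    (Y : Subgroup G) (hNY : N ≤ Y) (hYX : Y ≤ X) :
    ∃ C : Subgroup G, N ≤ C ∧ C ≤ X ∧ Y ⊔ C = X ∧ Y ⊓ C = N := by
  have hfs : Function.Surjective (QuotientGroup.mk' (N.subgroupOf X)) := QuotientGroup.mk'_surjective _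
  obtain ⟨C', hC'⟩ := hK.exists_isCompl ((Y.subgroupOf X).map (QuotientGroup.mk' (N.subgroupOf X)))
  have hNY' : N.subgroupOf X ≤ Y.subgroupOf X := Subgroup.subgroupOf_mono X hNY
  have hcomapY : ((Y.subgroupOf X).map (QuotientGroup.mk' (N.subgroupOf X))).comap
      (QuotientGroup.mk' (N.subgroupOf X)) = Y.subgroupOf X := by
    rw [QuotientGroup.comap_map_mk']
    exact sup_eq_right.mpr hNY'
  have hNC : N.subgroupOf X ≤ C'.comap (QuotientGroup.mk' (N.subgroupOf X)) :=
    QuotientGroup.le_comap_mk' _ C'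
  have hsup : Y.subgroupOf X ⊔ C'.comap (QuotientGroup.mk' (N.subgroupOf X)) = ⊤ := by
    rw [← hcomapY, Subgroup.comap_sup_eq _ _ _ hfs, codisjoint_iff.mp hC'.codisjoint, Subgroup.comap_top]
  have hinf : Y.subgroupOf X ⊓ C'.comap (QuotientGroup.mk' (N.subgroupOf X)) = N.subgroupOf X := by
    rw [← hcomapY, ← Subgroup.comap_inf, disjoint_iff.mp hC'.disjoint]
    exact QuotientGroup.ker_mk' _
  refine ⟨(C'.comap (QuotientGroup.mk' (N.subgroupOf X))).map X.subtype, ?_, Subgroup.map_subtype_le _, ?_, ?_⟩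
  · have := Subgroup.map_mono (f := X.subtype) hNC
    rwa [Subgroup.map_subgroupOf_eq_of_le hNX] at this
  · have h1 := congrArg (Subgroup.map X.subtype) hsup
    rw [Subgroup.map_sup, Subgroup.map_subgroupOf_eq_of_le hYX, ← MonoidHom.range_eq_map,
      Subgroup.range_subtype] at h1
    exact h1
  · have h1 := congrArg (Subgroup.map X.subtype) hinf
    rw [Subgroup.map_inf _ _ _ X.subtype_injective, Subgroup.map_subgroupOf_eq_of_le hYX,
      Subgroup.map_subgroupOf_eq_of_le hNX] at h1
    exact h1

theorem conj_back {G : Type*} [Group G] (b : G) (H C : Subgroup G)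
    (hC1 : H.map (MulAut.conj b).toMonoidHom ⊔ C = ⊤) (hC2 : H.map (MulAut.conj b).toMonoidHom ⊓ C = ⊥) :
    ∃ C : Subgroup G, H ⊔ C = ⊤ ∧ H ⊓ C = ⊥ := by
  set φ : G ≃* G := MulAut.conj b
  have hid : φ.symm.toMonoidHom.comp φ.toMonoidHom = MonoidHom.id G := by
    ext x; simp
  refine ⟨C.map φ.symm.toMonoidHom, ?_, ?_⟩
  · have h := congrArg (Subgroup.map φ.symm.toMonoidHom) hC1
    rw [Subgroup.map_sup, Subgroup.map_map, hid, Subgroup.map_id] at h
    rw [h]
    exact Subgroup.map_top_of_surjective _ φ.symm.surjective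
  · have h := congrArg (Subgroup.map φ.symm.toMonoidHom) hC2
    rw [Subgroup.map_inf _ _ _ φ.symm.injective, Subgroup.map_map, hid, Subgroup.map_id,
      Subgroup.map_bot] at h
    exact h

/-- Let G be a finite simple group, X a subgroup lying in exactly one maximal subgroup M of G, and N a subgroup of prime order with N ≤ X that is central in M. If the subgroup lattice of X/N is complemented, then the subgroup lattice of G is complemented. -/
theorem result {G : Type*} [Group G] [Finite G] [IsSimpleGroup G] (X M N : Subgroup G)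
    (hM : IsCoatom M) (hXM : X ≤ M) (huniq : ∀ M' : Subgroup G, IsCoatom M' → X ≤ M' → M' = M)
    (hNX : N ≤ X) (hN : (Nat.card N).Prime) (hcen : ∀ n ∈ N, ∀ m ∈ M, m * n = n * m)
    [(N.subgroupOf X).Normal] (hK : ComplementedLattice (Subgroup (X ⧸ N.subgroupOf X))) :
    ComplementedLattice (Subgroup G) := by
  refine ⟨fun H => ?_⟩
  by_cases hbot : H = ⊥
  · subst hbot; exact ⟨⊤, isCompl_bot_top⟩
  by_cases htop : H = ⊤
  · subst htop; exact ⟨⊥, isCompl_top_bot⟩
  have hX : X ≠ ⊤ := by
    rintro rfl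
    exact hM.1 (top_le_iff.mp hXM)
  have : Fact (Nat.card N).Prime := ⟨hN⟩
  have hNbot : N ≠ ⊥ := by
    intro h
    rw [h, Subgroup.card_bot] at hN
    exact Nat.not_prime_one hN
  -- find a conjugate of H good for S5901
  have key : ∃ b : G, ¬ H.map (MulAut.conj b).toMonoidHom ≤ M ∧ H.map (MulAut.conj b).toMonoidHom ⊓ N = ⊥ := by
    by_contra hcon
    push Not at hcon
    have hall : ∀ b : G, ∀ n ∈ N, b⁻¹ * n * b ∈ Subgroup.normalizer (H : Set G) := by
      intro b n hn
      by_cases hle : H.map (MulAut.conj b).toMonoidHom ≤ M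
      · -- b⁻¹ n b centralizes H
        have hc : b⁻¹ * n * b ∈ Subgroup.centralizer (H : Set G) := by
          rw [Subgroup.mem_centralizer_iff]
          intro h hh
          have hm : b * h * b⁻¹ ∈ M := hle (Subgroup.mem_map.mpr ⟨h, hh, by simp [MulAut.conj_apply]⟩)
          have := hcen n hn _ hm
          -- (b h b⁻¹) n = n (b h b⁻¹)
          have e1 : h * (b⁻¹ * n * b) = b⁻¹ * ((b * h * b⁻¹) * n) * b := by group
          have e2 : (b⁻¹ * n * b) * h = b⁻¹ * (n * (b * h * b⁻¹)) * b := by group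
          rw [e1, e2, this]
        exact Subgroup.centralizer_le_normalizer _ hc
      · have hne := hcon b hle
        -- N ≤ H^b
        have hNle : N ≤ H.map (MulAut.conj b).toMonoidHom := by
          have h2 : (H.map (MulAut.conj b).toMonoidHom).subgroupOf N = ⊥ ∨
              (H.map (MulAut.conj b).toMonoidHom).subgroupOf N = ⊤ :=
            Subgroup.eq_bot_or_eq_top_of_prime_card _
          rcases h2 with h2 | h2
          · exfalso
            apply hne
            rw [Subgroup.subgroupOf_eq_bot] at h2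
            exact disjoint_iff.mp h2
          · exact Subgroup.subgroupOf_eq_top.mp h2
        obtain ⟨h, hh, hhn⟩ := Subgroup.mem_map.mp (hNle hn)
        have : b⁻¹ * n * b = h := by
          rw [← hhn]; simp [MulAut.conj_apply]; group
        rw [this]
        exact Subgroup.le_normalizer hh
    have hncl : Subgroup.normalClosure (N : Set G) ≤ Subgroup.normalizer (H : Set G) := by
      rw [Subgroup.normalClosure, Subgroup.closure_le]
      intro x hx
      obtain ⟨n, hn, hconj⟩ := Group.mem_conjugatesOfSet_iff.mp hx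
      obtain ⟨c, rfl⟩ := isConj_iff.mp hconj
      have := hall c⁻¹ n hn
      simpa using this
    have hntop : Subgroup.normalClosure (N : Set G) = ⊤ := by
      rcases IsSimpleGroup.eq_bot_or_eq_top_of_normal (Subgroup.normalClosure (N : Set G))
        Subgroup.normalClosure_normal with h | h
      · exfalso
        apply hNbot
        exact le_bot_iff.mp (h ▸ Subgroup.le_normalClosure)
      · exact h
    rw [hntop, top_le_iff, Subgroup.normalizer_eq_top_iff] at hncl
    rcases IsSimpleGroup.eq_bot_or_eq_top_of_normal H hncl with h | h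
    · exact hbot h
    · exact htop h
  obtain ⟨b, hb1, hb2⟩ := key
  obtain ⟨C, hC1, hC2⟩ := Cfsg.Agent.S5901.result N X M hNX hX
    (fun Y hNY hYX => interval_compl X N hNX hK Y hNY hYX) hM hXM huniq _ hb1 hb2
  obtain ⟨C₂, h1, h2⟩ := conj_back b H C hC1 hC2
  exact ⟨C₂, isCompl_iff.mpr ⟨disjoint_iff.mpr h2, codisjoint_iff.mpr h1⟩⟩

end Cfsg.Agent.S5903
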