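import Cfsg.Statements.S5904

set_option autoImplicit false
open scoped Pointwise
open Cfsg

namespace Cfsg.Agent.S5904

open Pointwise in
/-- the subgroup of permutations preserving the partition `{O, Oᶜ}` -/
def pairStab {Ω : Type*} (O : Set Ω) : Subgroup (Equiv.Perm Ω) where
  carrier := {g | g • O = O ∨ g • O = Oᶜ}
  one_mem' := Or.inl (one_smul _ _)
  mul_mem' := by
    intro g h hg hh
    simp only [Set.mem_ofPred_eq] at *
    rw [mul_smul]
    rcases hh with hh | hh
    · rw [hh]; exact hg
    · rw [hh, Set.smul_set_compl]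
      rcases hg with hg | hg
      · right; rw [hg]
      · left; rw [hg, compl_compl]
  inv_mem' := by
    intro g hg
    simp only [Set.mem_ofPred_eq] at *
    rcases hg with hg | hg
    · left
      rw [inv_smul_eq_iff, hg]
    · right
      rw [inv_smul_eq_iff, Set.smul_set_compl, hg, compl_compl]

/-- Let Ω be a finite set with more than two elements and O ⊆ Ω a subset with exactly as many elements as its complement. Then the setwise stabilizer of O in the symmetric group on Ω is not a maximal subgroup (it is properly contained in the stabilizer of the partition {O, Ω ∖ O}, which is proper). -/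
theorem result {Ω : Type*} [Fintype Ω] [DecidableEq Ω] (hΩ : 2 < Fintype.card Ω)
    (O : Set Ω) (hO : Nat.card O = Nat.card ↥Oᶜ) :
    ¬ IsCoatom (MulAction.stabilizer (Equiv.Perm Ω) O) := by
  classical
  intro hco
  have hfin : Fintype.card Ω = Nat.card O + Nat.card ↥Oᶜ := by
    have h := Set.ncard_add_ncard_compl O
    rw [← Nat.card_coe_set_eq, ← Nat.card_coe_set_eq] at h
    rw [← Nat.card_eq_fintype_card]
    exact h.symm
  have hO2 : 2 ≤ Nat.card O := by omega
  -- two distinct points of O and a point outside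
  have hOne : 1 < Nat.card O := hO2
  rw [Nat.card_eq_fintype_card] at hOne
  obtain ⟨⟨a, ha⟩, ⟨a', ha'⟩, haa'⟩ := Fintype.one_lt_card_iff.mp hOne
  have hOc : 0 < Nat.card ↥Oᶜ := by omega
  rw [Nat.card_eq_fintype_card, Fintype.card_pos_iff] at hOc
  obtain ⟨⟨b, hb⟩⟩ := hOc
  -- a permutation swapping O and its complement
  have hcard : Fintype.card {x // x ∈ O} = Fintype.card {x // x ∈ Oᶜ} := by
    rw [← Nat.card_eq_fintype_card, ← Nat.card_eq_fintype_card]; exact hO
  obtain ⟨e⟩ := Fintype.card_eq.mp hcard
  set σ : Equiv.Perm Ω := e.extendSubtype with hσ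
  have hσO : σ • O = Oᶜ := by
    ext y
    constructor
    · rintro ⟨x, hx, rfl⟩
      exact e.extendSubtype_mem x hx
    · intro hy
      refine ⟨σ⁻¹ y, ?_, by simp⟩
      by_contra hx
      have := e.extendSubtype_not_mem (σ⁻¹ y) hx
      apply this
      have : e.extendSubtype (σ⁻¹ y) = y := by rw [← hσ]; simp
      rw [this]; exact hy
  have hle : MulAction.stabilizer (Equiv.Perm Ω) O ≤ pairStab O := fun g hg => Or.inl hg
  have hσK : σ ∈ pairStab O := Or.inr hσO
  have hσS : σ ∉ MulAction.stabilizer (Equiv.Perm Ω) O := by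
    intro h
    have h1 : σ • O = O := h
    rw [hσO] at h1
    have : a ∈ Oᶜ := by rw [h1]; exact ha
    exact this ha
  have hlt : MulAction.stabilizer (Equiv.Perm Ω) O < pairStab O :=
    lt_of_le_of_ne hle (fun h => hσS (h ▸ hσK))
  have htop := hco.2 _ hlt
  have hτ : Equiv.swap a b ∈ pairStab O := htop ▸ Subgroup.mem_top _
  have hab : a ≠ b := fun h => hb (h ▸ ha)
  have ha'b : a' ≠ b := fun h => hb (h ▸ ha')
  have haa'' : a' ≠ a := fun h => haa' (by simp [h])
  rcases hτ with h | h
  · -- b ∈ swap a b • O but b ∉ O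
    have : b ∈ Equiv.swap a b • O := ⟨a, ha, by simp⟩
    rw [h] at this
    exact hb this
  · have : a' ∈ Equiv.swap a b • O := ⟨a', ha', by
      show Equiv.swap a b a' = a'
      exact Equiv.swap_apply_of_ne_of_ne haa'' ha'b⟩
    rw [h] at this
    exact this ha'

end Cfsg.Agent.S5904
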