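import Mathlib
import Cfsg.Statements.S5905

set_option autoImplicit false
set_option maxHeartbeats 800000

open Cfsg

namespace Cfsg.Agent.S5905

theorem mem_closure_iff {Ω : Type*} [Fintype Ω] [DecidableEq Ω] {b : ℕ} (f : Ω → Fin b) (g : Equiv.Perm Ω) :
    g ∈ Subgroup.closure {g : Equiv.Perm Ω | ∀ x y : Ω, f x = f y ↔ f (g x) = f (g y)} ↔
      ∀ x y : Ω, f x = f y ↔ f (g x) = f (g y) := by
  constructor
  · intro hg
    induction hg using Subgroup.closure_induction with
    | mem g hg => exact hg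
    | one => intro x y; simp
    | mul g h _ _ ihg ihh =>
      intro x y
      rw [ihh x y, ihg (h x) (h y)]
      simp [Equiv.Perm.mul_apply]
    | inv g _ ih =>
      intro x y
      rw [ih (g⁻¹ x) (g⁻¹ y)]
      simp
  · intro h
    exact Subgroup.subset_closure h

theorem exists_fiber_swap {Ω : Type*} [Fintype Ω] [DecidableEq Ω] {b : ℕ} (f : Ω → Fin b) (a : ℕ)
    (hf : ∀ i : Fin b, Nat.card {x : Ω // f x = i} = a) (i j : Fin b) (hij : i ≠ j) :
    ∃ h : Equiv.Perm Ω, (∀ x, f (h x) = Equiv.swap i j (f x)) ∧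
      (∀ x, f x ≠ i → f x ≠ j → h x = x) := by
  have hcard : Nat.card {x : Ω // f x = i} = Nat.card {x : Ω // f x = j} := by rw [hf, hf]
  obtain ⟨e⟩ := (Finite.card_eq).mp hcard
  let g : Ω → Ω := fun x =>
    if hx : f x = i then (e ⟨x, hx⟩ : Ω) else
      if hx' : f x = j then (e.symm ⟨x, hx'⟩ : Ω) else x
  have g_i : ∀ x (hx : f x = i), g x = (e ⟨x, hx⟩ : Ω) := by
    intro x hx
    simp only [g, dif_pos hx]
  have g_j : ∀ x (hx : f x = j), g x = (e.symm ⟨x, hx⟩ : Ω) := by
    intro x hx
    have hxi : f x ≠ i := by rw [hx]; exact hij.symm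
    simp only [g, dif_neg hxi, dif_pos hx]
  have g_o : ∀ x, f x ≠ i → f x ≠ j → g x = x := by
    intro x h1 h2
    simp only [g, dif_neg h1, dif_neg h2]
  have hinv : Function.Involutive g := by
    intro x
    by_cases hx : f x = i
    · have h2 : f (g x) = j := by rw [g_i x hx]; exact (e ⟨x, hx⟩).2
      rw [g_j (g x) h2]
      have : (⟨g x, h2⟩ : {x : Ω // f x = j}) = e ⟨x, hx⟩ := Subtype.ext (g_i x hx)
      rw [this, Equiv.symm_apply_apply]
    · by_cases hx' : f x = j
      · have h2 : f (g x) = i := by rw [g_j x hx']; exact (e.symm ⟨x, hx'⟩).2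
        rw [g_i (g x) h2]
        have : (⟨g x, h2⟩ : {x : Ω // f x = i}) = e.symm ⟨x, hx'⟩ := Subtype.ext (g_j x hx')
        rw [this, Equiv.apply_symm_apply]
      · rw [g_o x hx hx', g_o x hx hx']
  refine ⟨hinv.toPerm g, ?_, ?_⟩
  · intro x
    show f (g x) = _
    by_cases hx : f x = i
    · rw [g_i x hx, hx, Equiv.swap_apply_left]; exact (e ⟨x, hx⟩).2
    · by_cases hx' : f x = j
      · rw [g_j x hx', hx', Equiv.swap_apply_right]; exact (e.symm ⟨x, hx'⟩).2
      · rw [g_o x hx hx', Equiv.swap_apply_of_ne_of_ne hx hx']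
  · intro x h1 h2
    show g x = x
    exact g_o x h1 h2

/-- Let Ω be a finite set and f : Ω → Fin b a map onto b ≥ 2 labels whose fibres all have the same size a ≥ 2 (a partition of Ω into b blocks of size a, so |Ω| = ab). Then the stabilizer of this partition in the symmetric group on Ω — the permutations g such that x and y lie in the same block exactly when g x and g y do, a group isomorphic to the imprimitive wreath product S_a ≀ S_b — is a maximal subgroup of the symmetric group. -/
theorem result {Ω : Type*} [Fintype Ω] [DecidableEq Ω] (a b : ℕ) (ha : 2 ≤ a) (hb : 2 ≤ b)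
    (f : Ω → Fin b) (hf : ∀ i : Fin b, Nat.card {x : Ω // f x = i} = a) :
    IsCoatom (Subgroup.closure {g : Equiv.Perm Ω | ∀ x y : Ω, f x = f y ↔ f (g x) = f (g y)}) := by
  set H := Subgroup.closure {g : Equiv.Perm Ω | ∀ x y : Ω, f x = f y ↔ f (g x) = f (g y)} with hH
  have hmem : ∀ g, g ∈ H ↔ ∀ x y, f x = f y ↔ f (g x) = f (g y) := mem_closure_iff f
  have hfib2 : ∀ i : Fin b, ∃ x y : Ω, x ≠ y ∧ f x = i ∧ f y = i := by
    intro i
    have h2 : 1 < Nat.card {x : Ω // f x = i} := by rw [hf i]; omega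
    rw [Finite.one_lt_card_iff_nontrivial] at h2
    obtain ⟨⟨x, hx⟩, ⟨y, hy⟩, hne⟩ := exists_pair_ne {x : Ω // f x = i}
    exact ⟨x, y, fun h => hne (Subtype.ext h), hx, hy⟩
  have hswapH : ∀ x y, f x = f y → Equiv.swap x y ∈ H := by
    intro x y hxy
    rw [hmem]
    have key : ∀ z, f (Equiv.swap x y z) = f z := by
      intro z
      by_cases hzx : z = x
      · subst hzx; rw [Equiv.swap_apply_left]; exact hxy.symm
      · by_cases hzy : z = y
        · subst hzy; rw [Equiv.swap_apply_right]; exact hxy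
        · rw [Equiv.swap_apply_of_ne_of_ne hzx hzy]
    intro u v; rw [key, key]
  constructor
  · intro htop
    obtain ⟨x, y, hxy, hx, hy⟩ := hfib2 ⟨0, by omega⟩
    obtain ⟨z, _, _, hz, _⟩ := hfib2 ⟨1, by omega⟩
    have h01 : (⟨0, by omega⟩ : Fin b) ≠ ⟨1, by omega⟩ := by
      intro h; simp [Fin.ext_iff] at h
    have hxz : x ≠ z := by
      intro h; rw [h, hz] at hx; exact h01 hx.symm
    have hmemT : Equiv.swap y z ∈ H := by rw [htop]; exact Subgroup.mem_top _
    rw [hmem] at hmemT
    have := (hmemT x y).mp (by rw [hx, hy])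
    rw [Equiv.swap_apply_of_ne_of_ne hxy hxz, Equiv.swap_apply_left, hx, hz] at this
    exact h01 this
  · intro K hHK
    obtain ⟨g, hgK, hgH⟩ := SetLike.exists_of_lt hHK
    have hHK' : H ≤ K := hHK.le
    have huv : ∃ u v : Ω, f u ≠ f v ∧ Equiv.swap u v ∈ K := by
      rw [hmem] at hgH
      push Not at hgH
      obtain ⟨x, y, hxy⟩ := hgH
      by_cases h1 : f x = f y
      · have h2 : f (g x) ≠ f (g y) := by
          intro h; rcases hxy with ⟨_, h3⟩ | ⟨h3, _⟩
          · exact h3 h
          · exact h3 h1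
        refine ⟨g x, g y, h2, ?_⟩
        rw [Equiv.swap_apply_apply]
        exact K.mul_mem (K.mul_mem hgK (hHK' (hswapH x y h1))) (K.inv_mem hgK)
      · have h2 : f (g x) = f (g y) := by
          rcases hxy with ⟨h3, _⟩ | ⟨_, h3⟩
          · exact absurd h3 h1
          · exact h3
        refine ⟨x, y, h1, ?_⟩
        have h3 : Equiv.swap (g x) (g y) ∈ K := hHK' (hswapH _ _ h2)
        rw [Equiv.swap_apply_apply] at h3
        have h4 := K.mul_mem (K.mul_mem (K.inv_mem hgK) h3) hgK
        have h5 : g⁻¹ * (g * Equiv.swap x y * g⁻¹) * g = Equiv.swap x y := by group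
        rw [h5] at h4
        exact h4
    obtain ⟨u, v, huv, hswK⟩ := huv
    -- the relation
    have Rsymm : ∀ x y : Ω, (x = y ∨ Equiv.swap x y ∈ K) → (y = x ∨ Equiv.swap y x ∈ K) := by
      intro x y h
      rcases h with h | h
      · exact Or.inl h.symm
      · right; rw [Equiv.swap_comm]; exact h
    have Rtrans : ∀ x y z : Ω, (x = y ∨ Equiv.swap x y ∈ K) → (y = z ∨ Equiv.swap y z ∈ K) →
        (x = z ∨ Equiv.swap x z ∈ K) := by
      intro x y z h1 h2
      rcases h1 with h1 | h1
      · rw [h1]; exact h2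
      rcases h2 with h2 | h2
      · rw [← h2]; exact Or.inr h1
      by_cases hxz : x = z
      · exact Or.inl hxz
      by_cases hxy : x = y
      · rw [hxy]; exact Or.inr h2
      right
      have := Equiv.swap_mul_swap_mul_swap hxy hxz
      rw [Equiv.swap_comm z x] at this
      rw [← this]
      exact K.mul_mem (K.mul_mem h2 h1) h2
    have Rfib : ∀ x y : Ω, f x = f y → (x = y ∨ Equiv.swap x y ∈ K) := by
      intro x y h; exact Or.inr (hHK' (hswapH x y h))
    have Ru : ∀ x : Ω, (u = x ∨ Equiv.swap u x ∈ K) := by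
      intro x
      by_cases h1 : f x = f u
      · exact Rfib u x h1.symm
      by_cases h2 : f x = f v
      · exact Rtrans u v x (Or.inr hswK) (Rfib v x h2.symm)
      obtain ⟨h, hh1, hh2⟩ := exists_fiber_swap f a hf (f v) (f x) (fun h => h2 h.symm)
      have hhH : h ∈ H := by
        rw [hmem]
        intro p q
        rw [hh1, hh1]
        exact ((Equiv.swap (f v) (f x)).injective.eq_iff).symm
      have hu : h u = u := hh2 u huv (fun h => h1 h.symm)
      have hv : f (h v) = f x := by rw [hh1, Equiv.swap_apply_left]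
      have h3 : Equiv.swap (h u) (h v) ∈ K := by
        rw [Equiv.swap_apply_apply]
        exact K.mul_mem (K.mul_mem (hHK' hhH) hswK) (K.inv_mem (hHK' hhH))
      rw [hu] at h3
      exact Rtrans u (h v) x (Or.inr h3) (Rfib _ _ hv)
    rw [eq_top_iff, ← Equiv.Perm.closure_isSwap, Subgroup.closure_le]
    rintro σ ⟨x, y, hxy, rfl⟩
    rcases Rtrans x u y (Rsymm u x (Ru x)) (Ru y) with h | h
    · exact absurd h hxy
    · exact h

end Cfsg.Agent.S5905
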