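import Cfsg.Statements.S5910
import Mathlib

set_option autoImplicit false
open Cfsg

namespace Cfsg.Agent.S5910

abbrev V2 := ZMod 2 × ZMod 2
abbrev W3 := V2 × ZMod 2

theorem zmod2_ne : ∀ {a b : ZMod 2}, a ≠ b → b = a + 1 := by decide

theorem zmod2_cases : ∀ t : ZMod 2, t = 0 ∨ t = 1 := by decide

theorem char4 : ∀ a b c d : V2, a + b + c + d = 0 ↔
    ((a = b ∧ c = d) ∨ (a = c ∧ b = d) ∨ (a = d ∧ b = c) ∨
      (a ≠ b ∧ a ≠ c ∧ a ≠ d ∧ b ≠ c ∧ b ≠ d ∧ c ≠ d)) := by decide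

theorem sign_addRight2 : ∀ x : ZMod 2,
    Equiv.Perm.sign (Equiv.addRight x) = if x = 0 then (1 : ℤˣ) else -1 := by decide

set_option maxRecDepth 100000 in
theorem eps_sum : ∀ ε : V2 → ZMod 2, (∏ v : V2, (if ε v = 0 then (1 : ℤˣ) else -1)) = 1 →
    ∀ a b c d : V2, a + b + c + d = 0 → ε a + ε b + ε c + ε d = 0 := by decide

theorem prod_sum_zero (a b c d : V2) (s t u w : ZMod 2) :
    ((a,s) + (b,t) + (c,u) + (d,w) : W3) = 0 ↔ a + b + c + d = 0 ∧ s + t + u + w = 0 := by
  constructor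
  · intro h
    exact ⟨congrArg Prod.fst h, congrArg Prod.snd h⟩
  · rintro ⟨h1, h2⟩
    exact Prod.ext h1 h2

theorem affine_of_even (g' : Equiv.Perm W3)
    (hpart : ∀ w w' : W3, w.1 = w'.1 ↔ (g' w).1 = (g' w').1)
    (hsign : Equiv.Perm.sign g' = 1) :
    ∀ a b c d : W3, a + b + c + d = 0 ↔ g' a + g' b + g' c + g' d = 0 := by
  obtain ⟨π, hπ⟩ : ∃ π : V2 → V2, ∀ v, π v = (g' (v, 0)).1 := ⟨_, fun _ => rfl⟩
  obtain ⟨ε, hε⟩ : ∃ ε : V2 → ZMod 2, ∀ v, ε v = (g' (v, 0)).2 := ⟨_, fun _ => rfl⟩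
  have hπinj : Function.Injective π := by
    intro v v' h
    rw [hπ, hπ] at h
    exact (hpart (v,0) (v',0)).mpr h
  have hform : ∀ (v : V2) (t : ZMod 2), g' (v, t) = (π v, t + ε v) := by
    intro v t
    have h0 : g' (v, 0) = (π v, ε v) := by rw [hπ, hε]
    have h1 : g' (v, 1) = (π v, 1 + ε v) := by
      have hfst : (g' (v,1)).1 = π v := by
        rw [hπ]; exact (hpart (v,1) (v,0)).mp rfl
      have hne : g' (v,0) ≠ g' (v,1) := fun h => by
        have h' := g'.injective h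
        have h'' : (0 : ZMod 2) = 1 := congrArg Prod.snd h'
        exact absurd h'' (by decide)
      have hsnd : (g' (v,1)).2 = (g' (v,0)).2 + 1 := by
        apply zmod2_ne
        intro h
        apply hne
        apply Prod.ext
        · rw [hfst, hπ]
        · exact h
      apply Prod.ext
      · exact hfst
      · show (g' (v,1)).2 = 1 + ε v
        rw [hsnd, hε, add_comm]
    rcases zmod2_cases t with rfl | rfl
    · rw [zero_add]; exact h0
    · exact h1
  have hbij : Function.Bijective π := Finite.injective_iff_bijective.mp hπinj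
  have hdecomp : g' = (Equiv.prodCongrLeft (fun _ : ZMod 2 => Equiv.ofBijective π hbij)) *
      (Equiv.prodCongrRight (fun v : V2 => Equiv.addRight (ε v))) := by
    apply Equiv.ext
    rintro ⟨v, t⟩
    rw [hform, Equiv.Perm.mul_apply, Equiv.prodCongrRight_apply, Equiv.prodCongrLeft_apply]
    rfl
  have hεprod : (∏ v : V2, (if ε v = 0 then (1 : ℤˣ) else -1)) = 1 := by
    rw [hdecomp, Equiv.Perm.sign_mul, Equiv.Perm.sign_prodCongrLeft,
      Equiv.Perm.sign_prodCongrRight] at hsign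
    simp only [sign_addRight2] at hsign
    have h2 : (∏ _k : ZMod 2, Equiv.Perm.sign (Equiv.ofBijective π hbij)) = 1 := by
      rw [Finset.prod_const, Finset.card_univ, ZMod.card, Int.units_sq]
    rw [h2, one_mul] at hsign
    exact hsign
  have hii := eps_sum ε hεprod
  have hi : ∀ a b c d : V2, a + b + c + d = 0 ↔ π a + π b + π c + π d = 0 := by
    intro a b c d
    rw [char4, char4]
    simp only [hπinj.eq_iff, hπinj.ne_iff]
  rintro ⟨v1, t1⟩ ⟨v2, t2⟩ ⟨v3, t3⟩ ⟨v4, t4⟩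
  rw [hform, hform, hform, hform, prod_sum_zero, prod_sum_zero]
  constructor
  · rintro ⟨h1, h2⟩
    refine ⟨(hi _ _ _ _).mp h1, ?_⟩
    have h3 := hii _ _ _ _ h1
    have : t1 + ε v1 + (t2 + ε v2) + (t3 + ε v3) + (t4 + ε v4)
        = (t1 + t2 + t3 + t4) + (ε v1 + ε v2 + ε v3 + ε v4) := by ring
    rw [this, h2, h3, add_zero]
  · rintro ⟨h1, h2⟩
    have h1' := (hi _ _ _ _).mpr h1
    refine ⟨h1', ?_⟩
    have h3 := hii _ _ _ _ h1'
    have : t1 + t2 + t3 + t4 = (t1 + ε v1 + (t2 + ε v2) + (t3 + ε v3) + (t4 + ε v4))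
        - (ε v1 + ε v2 + ε v3 + ε v4) := by ring
    rw [this, h2, h3, sub_zero]

/-- the affine permutations with respect to a coordinatisation -/
def affSub {Ω : Type*} (e : Ω ≃ W3) : Subgroup (Equiv.Perm Ω) where
  carrier := {g | ∀ a b c d : Ω, e a + e b + e c + e d = 0 ↔
    e (g a) + e (g b) + e (g c) + e (g d) = 0}
  mul_mem' := by
    intro g h hg hh a b c d
    have h1 := hh a b c d
    have h2 := hg (h a) (h b) (h c) (h d)
    exact h1.trans h2
  one_mem' := fun a b c d => Iff.rfl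
  inv_mem' := by
    intro g hg a b c d
    have := hg (g⁻¹ a) (g⁻¹ b) (g⁻¹ c) (g⁻¹ d)
    simp only [Equiv.Perm.inv_def, Equiv.apply_symm_apply] at this
    exact this.symm

/-- the partition-preserving permutations -/
def partSub {Ω : Type*} (f : Ω → Fin 4) : Subgroup (Equiv.Perm Ω) where
  carrier := {g | ∀ x y : Ω, f x = f y ↔ f (g x) = f (g y)}
  mul_mem' := fun {g h} hg hh x y => (hh x y).trans (hg (h x) (h y))
  one_mem' := fun x y => Iff.rfl
  inv_mem' := by
    intro g hg x y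
    have := hg (g⁻¹ x) (g⁻¹ y)
    simp only [Equiv.Perm.inv_def, Equiv.apply_symm_apply] at this
    exact this.symm

theorem mem_affSub_of_even {Ω : Type*} [Fintype Ω] [DecidableEq Ω] (e : Ω ≃ W3)
    (g : Equiv.Perm Ω)
    (hpart : ∀ x y : Ω, (e x).1 = (e y).1 ↔ (e (g x)).1 = (e (g y)).1)
    (hsign : Equiv.Perm.sign g = 1) : g ∈ affSub e := by
  intro a b c d
  have key := affine_of_even (e.permCongr g) ?_ ?_ (e a) (e b) (e c) (e d)
  · simpa [Equiv.permCongr_apply] using key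
  · intro w w'
    have := hpart (e.symm w) (e.symm w')
    simpa [Equiv.permCongr_apply] using this
  · rw [Equiv.Perm.sign_permCongr]; exact hsign

theorem exists_coord {Ω : Type*} [Fintype Ω] (f : Ω → Fin 4)
    (hf : ∀ i : Fin 4, Nat.card {x : Ω // f x = i} = 2) :
    ∃ (e : Ω ≃ W3) (ι : Fin 4 ≃ V2), ∀ x, (e x).1 = ι (f x) := by
  classical
  have hc : ∀ i : Fin 4, Nonempty ({x : Ω // f x = i} ≃ ZMod 2) := fun i => by
    apply Finite.card_eq.mp
    rw [hf i, Nat.card_zmod]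
  have ι : Fin 4 ≃ V2 := Fintype.equivOfCardEq (by simp)
  refine ⟨(Equiv.sigmaFiberEquiv f).symm.trans ((Equiv.sigmaCongrRight fun i => (hc i).some).trans
    ((Equiv.sigmaEquivProd (Fin 4) (ZMod 2)).trans (Equiv.prodCongr ι (Equiv.refl _)))), ι, ?_⟩
  intro x
  rfl

theorem three_cycle_not_mem {Ω : Type*} [Fintype Ω] [DecidableEq Ω] (e : Ω ≃ W3) :
    ∃ c : Equiv.Perm Ω, Equiv.Perm.sign c = 1 ∧ c ∉ affSub e := by
  have hne : ∀ w w' : W3, w ≠ w' → e.symm w ≠ e.symm w' := fun w w' h => e.symm.injective.ne h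
  set p0 := e.symm ((0,0),0) with hp0
  set p1 := e.symm ((1,0),0) with hp1
  set p2 := e.symm ((0,1),0) with hp2
  set p3 := e.symm ((1,1),0) with hp3
  set q := e.symm ((0,0),1) with hq
  set r := e.symm ((1,0),1) with hr
  have h3q : p3 ≠ q := hne _ _ (by decide)
  have h3r : p3 ≠ r := hne _ _ (by decide)
  have hqr : q ≠ r := hne _ _ (by decide)
  have h03 : p0 ≠ p3 := hne _ _ (by decide)
  have h0q : p0 ≠ q := hne _ _ (by decide)
  have h0r : p0 ≠ r := hne _ _ (by decide)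
  have h13 : p1 ≠ p3 := hne _ _ (by decide)
  have h1q : p1 ≠ q := hne _ _ (by decide)
  have h1r : p1 ≠ r := hne _ _ (by decide)
  have h23 : p2 ≠ p3 := hne _ _ (by decide)
  have h2q : p2 ≠ q := hne _ _ (by decide)
  have h2r : p2 ≠ r := hne _ _ (by decide)
  refine ⟨Equiv.swap p3 q * Equiv.swap q r, ?_, ?_⟩
  · rw [Equiv.Perm.sign_mul, Equiv.Perm.sign_swap h3q, Equiv.Perm.sign_swap hqr]; decide
  · intro hc
    have hc0 : (Equiv.swap p3 q * Equiv.swap q r) p0 = p0 := by
      rw [Equiv.Perm.mul_apply, Equiv.swap_apply_of_ne_of_ne h0q h0r,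
        Equiv.swap_apply_of_ne_of_ne h03 h0q]
    have hc1 : (Equiv.swap p3 q * Equiv.swap q r) p1 = p1 := by
      rw [Equiv.Perm.mul_apply, Equiv.swap_apply_of_ne_of_ne h1q h1r,
        Equiv.swap_apply_of_ne_of_ne h13 h1q]
    have hc2 : (Equiv.swap p3 q * Equiv.swap q r) p2 = p2 := by
      rw [Equiv.Perm.mul_apply, Equiv.swap_apply_of_ne_of_ne h2q h2r,
        Equiv.swap_apply_of_ne_of_ne h23 h2q]
    have hc3 : (Equiv.swap p3 q * Equiv.swap q r) p3 = q := by
      rw [Equiv.Perm.mul_apply, Equiv.swap_apply_of_ne_of_ne h3q h3r, Equiv.swap_apply_left]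
    have h := (hc p0 p1 p2 p3).mp (by
      rw [hp0, hp1, hp2, hp3]
      simp only [Equiv.apply_symm_apply]
      decide)
    rw [hc0, hc1, hc2, hc3, hp0, hp1, hp2, hq] at h
    simp only [Equiv.apply_symm_apply] at h
    exact absurd h (by decide)

/-- the coordinate swap on `W3` -/
def Tswap : Equiv.Perm W3 where
  toFun w := ((w.1.1, w.2), w.1.2)
  invFun w := ((w.1.1, w.2), w.1.2)
  left_inv := fun _ => rfl
  right_inv := fun _ => rfl

theorem Tswap_add : ∀ a b : W3, Tswap (a + b) = Tswap a + Tswap b := by decide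

theorem Tswap_sign : Equiv.Perm.sign Tswap = 1 := by decide

theorem swap_elt {Ω : Type*} [Fintype Ω] [DecidableEq Ω] (e : Ω ≃ W3) :
    ∃ g : Equiv.Perm Ω, Equiv.Perm.sign g = 1 ∧ g ∈ affSub e ∧
      ¬ (∀ x y : Ω, (e x).1 = (e y).1 ↔ (e (g x)).1 = (e (g y)).1) := by
  have hg : ∀ x, e (e.symm.permCongr Tswap x) = Tswap (e x) := by
    intro x
    simp [Equiv.permCongr_apply]
  refine ⟨e.symm.permCongr Tswap, ?_, ?_, ?_⟩
  · rw [Equiv.Perm.sign_permCongr]; exact Tswap_sign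
  · intro a b c d
    rw [hg, hg, hg, hg, ← Tswap_add, ← Tswap_add, ← Tswap_add]
    have h0 : Tswap 0 = 0 := rfl
    constructor
    · intro h; rw [h, h0]
    · intro h; rw [← h0] at h; exact Tswap.injective h
  · intro h
    have := (h (e.symm ((0,1),0)) (e.symm ((0,1),1))).mp (by simp)
    rw [hg, hg] at this
    simp only [Equiv.apply_symm_apply] at this
    exact absurd this (by decide)

/-- Let Ω be a set with 8 elements and f : Ω → Fin 4 a labelling whose four fibres all have size 2 (a partition of the 8 points into 4 pairs). Then the group of even permutations preserving this partition, (S₂ ≀ S₄) ∩ A₈, is not a maximal subgroup of the alternating group A₈ (it lies in a subgroup isomorphic to the affine group AGL₃(2)). -/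
theorem result {Ω : Type*} [Fintype Ω] [DecidableEq Ω] (h8 : Fintype.card Ω = 8)
    (f : Ω → Fin 4) (hf : ∀ i : Fin 4, Nat.card {x : Ω // f x = i} = 2) :
    ¬ IsCoatom ((Subgroup.closure {g : Equiv.Perm Ω | ∀ x y : Ω, f x = f y ↔ f (g x) = f (g y)} ⊓ alternatingGroup Ω).subgroupOf (alternatingGroup Ω)) := by
  classical
  intro hco
  obtain ⟨e, ι, he⟩ := exists_coord f hf
  have hfe : ∀ x y : Ω, f x = f y ↔ (e x).1 = (e y).1 := fun x y => by
    rw [he, he, ι.injective.eq_iff]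
  have hSP : Subgroup.closure {g : Equiv.Perm Ω | ∀ x y : Ω, f x = f y ↔ f (g x) = f (g y)}
      ≤ partSub f := (Subgroup.closure_le _).mpr (fun g hg => hg)
  have hHK : Subgroup.closure {g : Equiv.Perm Ω | ∀ x y : Ω, f x = f y ↔ f (g x) = f (g y)}
      ⊓ alternatingGroup Ω ≤ affSub e ⊓ alternatingGroup Ω := by
    intro g hg
    obtain ⟨hg1, hg2⟩ := Subgroup.mem_inf.mp hg
    refine Subgroup.mem_inf.mpr ⟨?_, hg2⟩
    have hp : ∀ x y : Ω, f x = f y ↔ f (g x) = f (g y) := hSP hg1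
    apply mem_affSub_of_even e g
    · intro x y; rw [← hfe, ← hfe]; exact hp x y
    · exact Equiv.Perm.mem_alternatingGroup.mp hg2
  have hle : (Subgroup.closure {g : Equiv.Perm Ω | ∀ x y : Ω, f x = f y ↔ f (g x) = f (g y)}
      ⊓ alternatingGroup Ω).subgroupOf (alternatingGroup Ω)
      ≤ (affSub e ⊓ alternatingGroup Ω).subgroupOf (alternatingGroup Ω) :=
    fun x hx => Subgroup.mem_subgroupOf.mpr (hHK (Subgroup.mem_subgroupOf.mp hx))
  obtain ⟨g, hgs, hgK, hgP⟩ := swap_elt e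
  have hgalt : g ∈ alternatingGroup Ω := Equiv.Perm.mem_alternatingGroup.mpr hgs
  have hne : (Subgroup.closure {g : Equiv.Perm Ω | ∀ x y : Ω, f x = f y ↔ f (g x) = f (g y)}
      ⊓ alternatingGroup Ω).subgroupOf (alternatingGroup Ω)
      ≠ (affSub e ⊓ alternatingGroup Ω).subgroupOf (alternatingGroup Ω) := by
    intro heq
    have h1 : (⟨g, hgalt⟩ : alternatingGroup Ω) ∈
        (affSub e ⊓ alternatingGroup Ω).subgroupOf (alternatingGroup Ω) :=
      Subgroup.mem_subgroupOf.mpr (Subgroup.mem_inf.mpr ⟨hgK, hgalt⟩)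
    rw [← heq] at h1
    have h2 := (Subgroup.mem_inf.mp (Subgroup.mem_subgroupOf.mp h1)).1
    have hp : ∀ x y : Ω, f x = f y ↔ f (g x) = f (g y) := hSP h2
    apply hgP
    intro x y; rw [← hfe, ← hfe]; exact hp x y
  have htop := hco.2 _ (lt_of_le_of_ne hle hne)
  obtain ⟨c, hcs, hcK⟩ := three_cycle_not_mem e
  have hcalt : c ∈ alternatingGroup Ω := Equiv.Perm.mem_alternatingGroup.mpr hcs
  have h3 : (⟨c, hcalt⟩ : alternatingGroup Ω) ∈
      (affSub e ⊓ alternatingGroup Ω).subgroupOf (alternatingGroup Ω) := by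
    rw [htop]; exact Subgroup.mem_top _
  exact hcK (Subgroup.mem_inf.mp (Subgroup.mem_subgroupOf.mp h3)).1

end Cfsg.Agent.S5910
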