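import Cfsg.Statements.S5913

set_option autoImplicit false
open Cfsg

namespace Cfsg.Agent.S5913

/-- Let S be a non-abelian simple group and n a natural number. Every normal subgroup N of the direct power S^n (functions Fin n → S) is a subproduct: there is a set T of coordinates such that N consists exactly of the elements whose coordinates outside T are trivial. In particular the minimal normal subgroups of S^n are its n factors. -/
theorem result {S : Type*} [Group S] [IsSimpleGroup S] (hS : ¬ IsMulCommutative S) (n : ℕ)
    (N : Subgroup (Fin n → S)) [N.Normal] :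
    ∃ T : Finset (Fin n), ∀ x : Fin n → S, x ∈ N ↔ ∀ i, i ∉ T → x i = 1 := by
  classical
  refine ⟨Finset.univ.filter (fun i => ∃ x ∈ N, x i ≠ 1), fun x => ⟨fun hx i hi => ?_, fun hx => ?_⟩⟩
  · by_contra hne
    exact hi (Finset.mem_filter.mpr ⟨Finset.mem_univ _, x, hx, hne⟩)
  · -- center of S is trivial
    have hcenter : Subgroup.center S = ⊥ := by
      rcases IsSimpleGroup.eq_bot_or_eq_top_of_normal (Subgroup.center S) inferInstance with h | h
      · exact h
      · exfalso
        apply hS
        rw [isMulCommutative_iff]
        intro a b
        have hb : b ∈ Subgroup.center S := h ▸ Subgroup.mem_top b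
        exact (Subgroup.mem_center_iff.mp hb a)
    -- for i in T every mulSingle i s is in N
    have hsingle : ∀ i, (∃ y ∈ N, y i ≠ 1) → ∀ s : S, Pi.mulSingle i s ∈ N := by
      rintro i ⟨y, hy, hyi⟩ s
      have hnorm : (N.comap (MonoidHom.mulSingle (fun _ : Fin n => S) i)).Normal :=
        Subgroup.Normal.comap inferInstance _
      have hne : N.comap (MonoidHom.mulSingle (fun _ : Fin n => S) i) ≠ ⊥ := by
        intro hbot
        -- y i is not central so some commutator is nontrivial
        have hnc : y i ∉ Subgroup.center S := by
          rw [hcenter, Subgroup.mem_bot]; exact hyi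
        rw [Subgroup.mem_center_iff] at hnc
        push Not at hnc
        obtain ⟨t, ht⟩ := hnc
        have hmem : Pi.mulSingle i t * y * (Pi.mulSingle i t)⁻¹ * y⁻¹ ∈ N :=
          N.mul_mem (Subgroup.Normal.conj_mem inferInstance y hy _) (N.inv_mem hy)
        have heq : Pi.mulSingle i t * y * (Pi.mulSingle i t)⁻¹ * y⁻¹ =
            Pi.mulSingle i (t * y i * t⁻¹ * (y i)⁻¹) := by
          funext j
          by_cases hj : j = i
          · subst hj; simp
          · simp [Pi.mulSingle_eq_of_ne hj]
        rw [heq] at hmem
        have : t * y i * t⁻¹ * (y i)⁻¹ ∈ N.comap (MonoidHom.mulSingle (fun _ : Fin n => S) i) := hmem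
        rw [hbot, Subgroup.mem_bot] at this
        apply ht
        have h2 : t * y i = y i * t := by
          have := congrArg (fun z => z * y i * t) this
          simpa [mul_assoc] using this
        exact h2
      rcases IsSimpleGroup.eq_bot_or_eq_top_of_normal _ hnorm with h | h
      · exact absurd h hne
      · have : s ∈ N.comap (MonoidHom.mulSingle (fun _ : Fin n => S) i) := h ▸ Subgroup.mem_top s
        exact this
    rw [← Finset.noncommProd_mulSingle x]
    apply Subgroup.noncommProd_mem
    intro i _
    by_cases hi : ∃ y ∈ N, y i ≠ 1
    · exact hsingle i hi (x i)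
    · have : x i = 1 := hx i (by simpa using hi)
      rw [this, Pi.mulSingle_one]
      exact N.one_mem

end Cfsg.Agent.S5913
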