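import Cfsg.Statements.S5914

set_option autoImplicit false
open Cfsg

namespace Cfsg.Agent.S5914

set_option linter.style.haveILetI false

theorem consMulEquiv_exists (N : Type*) [Group N] (k : ℕ) :
    Nonempty ((N × (Fin k → N)) ≃* (Fin (k + 1) → N)) := by
  refine ⟨MulEquiv.mk' (Fin.consEquiv (fun _ => N)) ?_⟩
  intro x y
  funext i
  refine Fin.cases ?_ (fun j => ?_) i
  · simp [Fin.consEquiv]
  · simp [Fin.consEquiv]

theorem sup_mulEquiv_prod {G : Type*} [Group G] (M L : Subgroup G) (hM : M.Normal) (hL : L.Normal)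
    (h : M ⊓ L = ⊥) : Nonempty (↥(M ⊔ L) ≃* ↥M × ↥L) := by
  have hcomm : ∀ (m : ↥M) (l : ↥L), Commute (M.subtype m) (L.subtype l) := fun m l =>
    Subgroup.commute_of_normal_of_disjoint M L hM hL (disjoint_iff.mpr h) _ _ m.2 l.2
  have hf : Function.Injective (MonoidHom.noncommCoprod M.subtype L.subtype hcomm) := by
    rw [MonoidHom.noncommCoprod_injective]
    refine ⟨M.subtype_injective, L.subtype_injective, ?_⟩
    rw [Subgroup.range_subtype, Subgroup.range_subtype]
    exact disjoint_iff.mpr h
  have hrange : (MonoidHom.noncommCoprod M.subtype L.subtype hcomm).range = M ⊔ L := by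
    rw [MonoidHom.noncommCoprod_range, Subgroup.range_subtype, Subgroup.range_subtype]
  exact ⟨((MonoidHom.ofInjective hf).trans (MulEquiv.subgroupCongr hrange)).symm⟩

theorem forward {G : Type*} [Group G] [Finite G] [Nontrivial G]
    (hchar : ∀ H : Subgroup G, H.Characteristic → H = ⊥ ∨ H = ⊤) :
    ∃ (S : Type) (_ : Group S) (_ : IsSimpleGroup S) (n : ℕ), 1 ≤ n ∧ Nonempty (G ≃* (Fin n → S)) := by
  classical
  have hex : ∃ c : ℕ, ∃ N : Subgroup G, N.Normal ∧ N ≠ ⊥ ∧ Nat.card N = c :=
    ⟨_, ⊤, inferInstance, top_ne_bot, rfl⟩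
  obtain ⟨N, hNn, hN0, hNc⟩ := Nat.find_spec hex
  have hmin : ∀ M : Subgroup G, M.Normal → M ≠ ⊥ → Nat.card N ≤ Nat.card M := by
    intro M hM hM0
    rw [hNc]
    exact Nat.find_min' hex ⟨M, hM, hM0, rfl⟩
  have himg : ∀ ψ : G ≃* G, (N.map ψ.toMonoidHom).Normal ∧
      Nat.card (N.map ψ.toMonoidHom) = Nat.card N := by
    intro ψ
    refine ⟨hNn.map _ ψ.surjective, ?_⟩
    exact Subgroup.card_map_of_injective ψ.injective
  have hdich : ∀ (ψ : G ≃* G) (M : Subgroup G), M.Normal →
      N.map ψ.toMonoidHom ≤ M ∨ N.map ψ.toMonoidHom ⊓ M = ⊥ := by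
    intro ψ M hM
    by_cases h0 : N.map ψ.toMonoidHom ⊓ M = ⊥
    · exact Or.inr h0
    · left
      haveI := (himg ψ).1
      haveI := hM
      have hnorm : (N.map ψ.toMonoidHom ⊓ M).Normal := inferInstance
      have h1 := hmin _ hnorm h0
      rw [← (himg ψ).2] at h1
      have h2 : N.map ψ.toMonoidHom ⊓ M = N.map ψ.toMonoidHom :=
        Subgroup.eq_of_le_of_card_ge inf_le_left h1
      rw [← h2]; exact inf_le_right
  let PP : Subgroup G → Prop := fun M => M.Normal ∧ ∃ k : ℕ, Nonempty (↥M ≃* (Fin k → ↥N))
  have hbot : PP ⊥ := ⟨inferInstance, 0, ⟨MulEquiv.ofUnique⟩⟩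
  obtain ⟨M, -, hMmax⟩ := Finite.exists_le_maximal (p := PP) hbot
  obtain ⟨hMn, k, ⟨eM⟩⟩ := hMmax.prop
  have hall : ∀ ψ : G ≃* G, N.map ψ.toMonoidHom ≤ M := by
    intro ψ
    rcases hdich ψ M hMn with h | h
    · exact h
    · exfalso
      have hLn := (himg ψ).1
      obtain ⟨e1⟩ := sup_mulEquiv_prod M (N.map ψ.toMonoidHom) hMn hLn (by rw [inf_comm]; exact h)
      have eL : ↥N ≃* ↥(N.map ψ.toMonoidHom) := N.equivMapOfInjective ψ.toMonoidHom ψ.injective
      obtain ⟨e2⟩ := consMulEquiv_exists ↥N k
      have e3 : ↥(M ⊔ N.map ψ.toMonoidHom) ≃* (Fin (k + 1) → ↥N) :=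
        ((e1.trans (MulEquiv.prodCongr eM eL.symm)).trans MulEquiv.prodComm).trans e2
      haveI := hMn
      haveI := hLn
      have hP : PP (M ⊔ N.map ψ.toMonoidHom) := ⟨inferInstance, k + 1, ⟨e3⟩⟩
      have hle := hMmax.le_of_ge hP le_sup_left
      have hLM : N.map ψ.toMonoidHom ≤ M := le_trans le_sup_right hle
      have hL0 : N.map ψ.toMonoidHom = ⊥ := by
        rw [← h]; exact (inf_eq_left.mpr hLM).symm
      exact hN0 ((Subgroup.map_eq_bot_iff_of_injective N ψ.injective).mp hL0)
  have hK : (⨆ ψ : G ≃* G, N.map ψ.toMonoidHom) = ⊤ := by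
    have hKchar : (⨆ ψ : G ≃* G, N.map ψ.toMonoidHom).Characteristic := by
      rw [Subgroup.characteristic_iff_map_le]
      intro φ
      rw [Subgroup.map_iSup]
      apply iSup_le
      intro ψ
      rw [Subgroup.map_map]
      exact le_iSup (fun ψ : G ≃* G => N.map ψ.toMonoidHom) (ψ.trans φ)
    rcases hchar _ hKchar with h | h
    · exfalso
      have h1 : N ≤ ⨆ ψ : G ≃* G, N.map ψ.toMonoidHom := by
        have h2 := le_iSup (fun ψ : G ≃* G => N.map ψ.toMonoidHom) (MulEquiv.refl G)
        have h3 : N.map (MulEquiv.refl G).toMonoidHom = N := by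
          ext x; simp
        rw [h3] at h2
        exact h2
      rw [h] at h1
      exact hN0 (le_bot_iff.mp h1)
    · exact h
  have hMtop : M = ⊤ := by
    rw [eq_top_iff, ← hK]; exact iSup_le hall
  subst hMtop
  have eG : G ≃* (Fin k → ↥N) := Subgroup.topEquiv.symm.trans eM
  have hk : 1 ≤ k := by
    by_contra hk0
    have hk0' : k = 0 := by omega
    subst hk0'
    haveI : Subsingleton G := eG.toEquiv.subsingleton
    exact not_subsingleton G ‹_›
  haveI hNnt : Nontrivial ↥N := (Subgroup.nontrivial_iff_ne_bot N).mpr hN0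
  have hsimple : IsSimpleGroup ↥N := by
    refine { toNontrivial := hNnt, eq_bot_or_eq_top_of_normal := fun A hA => ?_ }
    by_contra hcon
    push Not at hcon
    obtain ⟨hA0, hAT⟩ := hcon
    let i0 : Fin k := ⟨0, hk⟩
    let ι : ↥N →* (Fin k → ↥N) := MonoidHom.mulSingle (fun _ => ↥N) i0
    have hι : Function.Injective ι := by
      intro a b hab
      have h1 := congrFun hab i0
      simpa [ι] using h1
    let B : Subgroup G := (A.map ι).map eG.symm.toMonoidHom
    have hBcard : Nat.card B = Nat.card A := by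
      rw [Subgroup.card_map_of_injective eG.symm.injective, Subgroup.card_map_of_injective hι]
    have hAιn : (A.map ι).Normal := by
      constructor
      rintro x ⟨a, ha, rfl⟩ g
      refine ⟨g i0 * a * (g i0)⁻¹, hA.conj_mem a ha (g i0), ?_⟩
      funext j
      by_cases hj : j = i0
      · subst hj; simp [ι]
      · simp [ι, Pi.mulSingle_eq_of_ne hj]
    have hBn : B.Normal := hAιn.map _ eG.symm.surjective
    have hB0 : B ≠ ⊥ := by
      intro hB
      have h1 : Nat.card B = 1 := by rw [hB]; exact Subgroup.card_bot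
      rw [hBcard] at h1
      exact hA0 (Subgroup.card_eq_one.mp h1)
    have h1 := hmin B hBn hB0
    rw [hBcard] at h1
    have h2 : Nat.card A < Nat.card ↥N := by
      by_contra h3
      push Not at h3
      exact hAT (Subgroup.eq_top_of_le_card A h3)
    omega
  haveI : Small.{0} ↥N := Small.mk' (Finite.equivFin ↥N)
  have eS : Shrink.{0} ↥N ≃* ↥N := Shrink.mulEquiv
  haveI := hsimple
  have hSs : IsSimpleGroup (Shrink.{0} ↥N) := eS.isSimpleGroup
  exact ⟨Shrink.{0} ↥N, inferInstance, hSs, k, hk,
    ⟨eG.trans (MulEquiv.piCongrRight (fun _ => eS.symm))⟩⟩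

theorem pi_char_simple (S : Type*) [Group S] [IsSimpleGroup S] (n : ℕ)
    (K : Subgroup (Fin n → S))
    (hK : ∀ φ : (Fin n → S) ≃* (Fin n → S), K.map φ.toMonoidHom ≤ K) :
    K = ⊥ ∨ K = ⊤ := by
  classical
  by_cases hK0 : K = ⊥
  · exact Or.inl hK0
  right
  have hKn : K.Normal := by
    constructor
    intro x hx g
    have h1 := hK (MulAut.conj g) (Subgroup.mem_map_of_mem _ hx)
    simpa using h1
  obtain ⟨h, hhK, hh1⟩ : ∃ h ∈ K, h ≠ 1 := by
    by_contra hcon
    push Not at hcon
    exact hK0 ((Subgroup.eq_bot_iff_forall K).mpr hcon)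
  obtain ⟨i, hi⟩ : ∃ i, h i ≠ 1 := by
    by_contra hcon
    push Not at hcon
    exact hh1 (funext hcon)
  have claim1 : ∃ (j : Fin n) (s : S), s ≠ 1 ∧ Pi.mulSingle j s ∈ K := by
    by_cases hcomm : ∀ a b : S, a * b = b * a
    · by_cases hn1 : ∃ j : Fin n, j ≠ i
      · obtain ⟨j, hj⟩ := hn1
        have hij : i ≠ j := fun h => hj h.symm
        let τ : (Fin n → S) ≃* (Fin n → S) :=
          { toFun := fun f => f * Pi.mulSingle j (f i)
            invFun := fun f => f * Pi.mulSingle j (f i)⁻¹
            left_inv := by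
              intro f
              funext k
              by_cases hk : k = j
              · subst hk
                simp [Pi.mulSingle_eq_of_ne hij]
              · simp [Pi.mulSingle_eq_of_ne hk]
            right_inv := by
              intro f
              funext k
              by_cases hk : k = j
              · subst hk
                simp [Pi.mulSingle_eq_of_ne hij]
              · simp [Pi.mulSingle_eq_of_ne hk]
            map_mul' := by
              intro f g
              funext k
              by_cases hk : k = j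
              · subst hk
                simp only [Pi.mul_apply, Pi.mulSingle_eq_same]
                rw [mul_assoc, mul_assoc, ← mul_assoc (g k), hcomm (g k) (f i), mul_assoc]
              · simp [Pi.mulSingle_eq_of_ne hk] }
        refine ⟨j, h i, hi, ?_⟩
        have h1 : τ h ∈ K := hK τ (Subgroup.mem_map_of_mem _ hhK)
        have h2 : τ h * h⁻¹ ∈ K := K.mul_mem h1 (K.inv_mem hhK)
        have h3 : τ h * h⁻¹ = Pi.mulSingle j (h i) := by
          show h * Pi.mulSingle j (h i) * h⁻¹ = Pi.mulSingle j (h i)
          funext k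
          simp only [Pi.mul_apply, Pi.inv_apply]
          rw [hcomm (h k), mul_assoc, mul_inv_cancel, mul_one]
        rw [← h3]; exact h2
      · push Not at hn1
        refine ⟨i, h i, hi, ?_⟩
        have h1 : Pi.mulSingle i (h i) = h := by
          funext k
          rw [hn1 k]; simp
        rw [h1]; exact hhK
    · push Not at hcomm
      have hcen : Subgroup.center S = ⊥ := by
        rcases IsSimpleGroup.eq_bot_or_eq_top_of_normal (Subgroup.center S) inferInstance with h1 | h1
        · exact h1
        · exfalso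
          obtain ⟨a, b, hab⟩ := hcomm
          have h2 : a ∈ Subgroup.center S := by rw [h1]; trivial
          exact hab ((Subgroup.mem_center_iff.mp h2 b).symm)
      have hnc : h i ∉ Subgroup.center S := by
        rw [hcen]; exact fun hc => hi (Subgroup.mem_bot.mp hc)
      rw [Subgroup.mem_center_iff] at hnc
      push Not at hnc
      obtain ⟨s, hs⟩ := hnc
      refine ⟨i, s * h i * s⁻¹ * (h i)⁻¹, ?_, ?_⟩
      · intro h1
        apply hs
        have h2 : s * h i * s⁻¹ = h i := mul_inv_eq_one.mp h1
        calc s * h i = s * h i * s⁻¹ * s := by group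
          _ = h i * s := by rw [h2]
      · have hc : Pi.mulSingle i s * h * (Pi.mulSingle i s)⁻¹ * h⁻¹ ∈ K :=
          K.mul_mem (hKn.conj_mem h hhK _) (K.inv_mem hhK)
        have h3 : Pi.mulSingle i (s * h i * s⁻¹ * (h i)⁻¹) =
            Pi.mulSingle i s * h * (Pi.mulSingle i s)⁻¹ * h⁻¹ := by
          funext k
          by_cases hk : k = i
          · subst hk; simp
          · simp [Pi.mulSingle_eq_of_ne hk]
        rw [h3]; exact hc
  obtain ⟨j, s, hs1, hsK⟩ := claim1
  have claim2 : ∀ t : S, Pi.mulSingle j t ∈ K := by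
    have hAn : (K.comap (MonoidHom.mulSingle (fun _ => S) j)).Normal := hKn.comap _
    rcases IsSimpleGroup.eq_bot_or_eq_top_of_normal _ hAn with h1 | h1
    · exfalso
      have h2 : s ∈ K.comap (MonoidHom.mulSingle (fun _ => S) j) := hsK
      rw [h1] at h2; exact hs1 (Subgroup.mem_bot.mp h2)
    · intro t
      have h2 : t ∈ K.comap (MonoidHom.mulSingle (fun _ => S) j) := by rw [h1]; trivial
      exact h2
  have claim3 : ∀ (j' : Fin n) (t : S), Pi.mulSingle j' t ∈ K := by
    intro j' t
    let σ : (Fin n → S) ≃* (Fin n → S) :=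
      { toFun := fun f k => f (Equiv.swap j j' k)
        invFun := fun f k => f (Equiv.swap j j' k)
        left_inv := by intro f; funext k; simp
        right_inv := by intro f; funext k; simp
        map_mul' := fun f g => rfl }
    have h1 : σ (Pi.mulSingle j t) ∈ K := hK σ (Subgroup.mem_map_of_mem _ (claim2 t))
    have h2 : σ (Pi.mulSingle j t) = Pi.mulSingle j' t := by
      funext k
      show (Pi.mulSingle j t : Fin n → S) (Equiv.swap j j' k) = (Pi.mulSingle j' t : Fin n → S) k
      by_cases hk : k = j'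
      · subst hk; simp
      · have hR : (Pi.mulSingle j' t : Fin n → S) k = 1 := by
          rw [Pi.mulSingle_apply, if_neg hk]
        have hne : Equiv.swap j j' k ≠ j := by
          intro h3
          apply hk
          have h4 := congrArg (Equiv.swap j j') h3
          simpa using h4
        have hL : (Pi.mulSingle j t : Fin n → S) (Equiv.swap j j' k) = 1 := by
          rw [Pi.mulSingle_apply, if_neg hne]
        rw [hL, hR]
    rw [← h2]; exact h1
  rw [eq_top_iff]
  intro f _
  exact Subgroup.pi_mem_of_mulSingle_mem f (fun i => claim3 i (f i))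

/-- A non-trivial finite group G is characteristically simple (its only characteristic subgroups are 1 and G) if and only if G is isomorphic to a direct power S^n (n ≥ 1) of some simple group S (possibly cyclic of prime order). -/
theorem result {G : Type*} [Group G] [Finite G] [Nontrivial G] :
    (∀ H : Subgroup G, H.Characteristic → H = ⊥ ∨ H = ⊤) ↔
    ∃ (S : Type) (_ : Group S) (_ : IsSimpleGroup S) (n : ℕ), 1 ≤ n ∧ Nonempty (G ≃* (Fin n → S)) := by
  constructor
  · exact forward
  · rintro ⟨S, instS, hS, n, hn, ⟨e⟩⟩ H hH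
    haveI := hS
    have hK : ∀ φ : (Fin n → S) ≃* (Fin n → S),
        (H.map e.toMonoidHom).map φ.toMonoidHom ≤ H.map e.toMonoidHom := by
      intro φ
      have h1 : H.map ((e.trans φ).trans e.symm).toMonoidHom = H :=
        (Subgroup.characteristic_iff_map_eq.mp hH) _
      apply le_of_eq
      calc (H.map e.toMonoidHom).map φ.toMonoidHom
          = (H.map ((e.trans φ).trans e.symm).toMonoidHom).map e.toMonoidHom := by
            rw [Subgroup.map_map, Subgroup.map_map]
            congr 1
            ext x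
            simp
        _ = H.map e.toMonoidHom := by rw [h1]
    rcases pi_char_simple S n _ hK with h | h
    · left; exact (Subgroup.map_eq_bot_iff_of_injective H e.injective).mp h
    · right
      rw [eq_top_iff]
      intro x _
      have h2 : e x ∈ H.map e.toMonoidHom := by rw [h]; trivial
      obtain ⟨y, hy, hxy⟩ := h2
      have h3 : y = x := e.injective hxy
      rw [← h3]; exact hy

end Cfsg.Agent.S5914
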