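import Cfsg.Statements.S5946

set_option autoImplicit false
open Cfsg

namespace Cfsg.Agent.S5946

/-- Let F ⊆ K be finite fields with [K : F] = n ≥ 2 and regard K as an n-dimensional F-vector space. The Singer group M ≤ GL_F(K) of multiplications by the non-zero elements of K is self-centralizing: every F-linear automorphism of K commuting with all of M lies in M. -/
theorem result {F K : Type*} [Field F] [Fintype F] [Field K] [Fintype K] [Algebra F K] (n : ℕ) (hn : 2 ≤ n) (hdim : Module.finrank F K = n) :
    Subgroup.centralizer (((Units.map ((Algebra.lmul F K : K →ₐ[F] Module.End F K) : K →* Module.End F K)).range : Subgroup (Module.End F K)ˣ) : Set (Module.End F K)ˣ) = (Units.map ((Algebra.lmul F K : K →ₐ[F] Module.End F K) : K →* Module.End F K)).range := by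
  classical
  apply le_antisymm
  · intro φ hφ
    rw [Subgroup.mem_centralizer_iff] at hφ
    -- φ commutes with lmul k for all units k
    have hlin : ∀ k : K, (φ : Module.End F K) k = k * (φ : Module.End F K) 1 := by
      intro k
      by_cases hk : k = 0
      · rw [hk]; simp
      · let u : Kˣ := Units.mk0 k hk
        have hu := hφ (Units.map ((Algebra.lmul F K : K →ₐ[F] Module.End F K) : K →* Module.End F K) u)
          (by rw [SetLike.mem_coe]; exact ⟨u, rfl⟩)
        have h2 := congrArg (fun ψ : (Module.End F K)ˣ => (ψ : Module.End F K) 1) hu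
        simp only [Units.val_mul, Units.coe_map, Module.End.mul_apply] at h2
        have h3 : ((Algebra.lmul F K : K →ₐ[F] Module.End F K) : K →* Module.End F K) (u : K) = LinearMap.mulLeft F k := rfl
        rw [h3] at h2
        simp only [LinearMap.mulLeft_apply, mul_one] at h2
        exact h2.symm
    have hne : (φ : Module.End F K) 1 ≠ 0 := by
      intro h0
      have h1 : (φ : Module.End F K) = 0 := by
        ext k
        rw [hlin k, h0, mul_zero]; rfl
      have h2 : ((φ⁻¹ : (Module.End F K)ˣ) : Module.End F K) * (φ : Module.End F K) = 1 := by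
        rw [← Units.val_mul, inv_mul_cancel]; rfl
      rw [h1, mul_zero] at h2
      have := congrArg (fun ψ : Module.End F K => ψ 1) h2
      simp at this
    refine ⟨Units.mk0 _ hne, ?_⟩
    apply Units.ext
    ext k
    simp only [Units.coe_map, Units.val_mk0]
    have h3 : ((Algebra.lmul F K : K →ₐ[F] Module.End F K) : K →* Module.End F K) ((φ : Module.End F K) 1) = LinearMap.mulLeft F ((φ : Module.End F K) 1) := rfl
    rw [h3, LinearMap.mulLeft_apply, hlin k, mul_comm]
  · intro φ hφ
    obtain ⟨u, rfl⟩ := hφ
    rw [Subgroup.mem_centralizer_iff]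
    intro ψ hψ
    obtain ⟨v, rfl⟩ := hψ
    rw [← map_mul, ← map_mul, mul_comm]

end Cfsg.Agent.S5946
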