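import Cfsg.Statements.S5947
import Mathlib
import Cfsg.Agent.Lib.Helper2.Zsig
import Cfsg.Agent.S2638

set_option autoImplicit false
open Cfsg

namespace Cfsg.Agent.S5947


open Polynomial

theorem pp_lemma {p f m : ℕ} (hp : p.Prime) (hp2 : p ≠ 2) (hf : 2 ≤ f) (h : p ^ f + 1 = 2 ^ m) :
    False := by
  have hpodd : Odd p := hp.eq_two_or_odd'.resolve_left hp2
  obtain ⟨r, hr, hrd, hrk⟩ := Cfsg.Agent.Lib.Helper2.Zsig.zsigmondy p (2 * f) hp.one_lt (by omega)
    (by rintro ⟨h1, -⟩; exact hp2 h1) (by rintro ⟨h1, -⟩; omega)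
  have hy : 1 ≤ p ^ f := Nat.one_le_pow _ _ hp.pos
  have e1 : p ^ (2 * f) - 1 = (p ^ f + 1) * (p ^ f - 1) := by
    have := Nat.sq_sub_sq (p ^ f) 1
    rw [one_pow, ← pow_mul, mul_comm f 2] at this
    exact this
  rw [e1] at hrd
  rcases (Nat.Prime.dvd_mul hr).1 hrd with h1 | h1
  · rw [h] at h1
    have h2 : r ∣ 2 := hr.dvd_of_dvd_pow h1
    have h3 : r = 2 := (Nat.prime_dvd_prime_iff_eq hr Nat.prime_two).1 h2
    apply hrk 1 (by omega) (by omega)
    rw [h3, pow_one]
    obtain ⟨c, hc⟩ := hpodd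
    exact ⟨c, by omega⟩
  · exact hrk f (by omega) (by omega) h1

theorem exists_root {F K : Type*} [Field F] [Field K] [Algebra F K] {μ : F[X]} {r : ℕ}
    (hr : 0 < r) (hμ : μ ∣ X ^ r - 1) (hdeg : 0 < μ.natDegree) (ζ : K) (hζ : orderOf ζ = r) :
    ∃ β : K, aeval β μ = 0 := by
  classical
  obtain ⟨ν, hν⟩ := hμ
  by_contra hno
  push Not at hno
  have hroot : ∀ i : ℕ, aeval (ζ ^ i) ν = 0 := by
    intro i
    have h1 : aeval (ζ ^ i) (X ^ r - 1 : F[X]) = 0 := by
      rw [map_sub, map_pow, aeval_X, map_one, ← pow_mul, mul_comm, pow_mul, ← hζ,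
        pow_orderOf_eq_one, one_pow, sub_self]
    rw [hν, map_mul] at h1
    exact (mul_eq_zero.1 h1).resolve_left (hno _)
  have e : (X ^ r - 1 : F[X]) = X ^ r - C 1 := by rw [C_1]
  have hXr : (X ^ r - 1 : F[X]) ≠ 0 := by rw [e]; exact X_pow_sub_C_ne_zero hr 1
  have hν0 : ν ≠ 0 := by rintro rfl; rw [mul_zero] at hν; exact hXr hν
  have hμ0 : μ ≠ 0 := by rintro rfl; rw [zero_mul] at hν; exact hXr hν
  have hdegsum : μ.natDegree + ν.natDegree = r := by
    rw [← natDegree_mul hμ0 hν0, ← hν, e, natDegree_X_pow_sub_C]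
  have hνK : (ν.map (algebraMap F K)) ≠ 0 := Polynomial.map_ne_zero hν0
  have hsub : (Finset.range r).image (fun i => ζ ^ i) ⊆
      (ν.map (algebraMap F K)).roots.toFinset := by
    intro y hy
    obtain ⟨i, -, rfl⟩ := Finset.mem_image.1 hy
    rw [Multiset.mem_toFinset, mem_roots hνK, IsRoot.def, eval_map_algebraMap]
    exact hroot i
  have hcard : ((Finset.range r).image (fun i => ζ ^ i)).card = r := by
    rw [Finset.card_image_of_injOn, Finset.card_range]
    intro i hi j hj hij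
    have hi' : i ∈ Set.Iio (orderOf ζ) := by
      rw [hζ]; exact Finset.mem_range.1 hi
    have hj' : j ∈ Set.Iio (orderOf ζ) := by
      rw [hζ]; exact Finset.mem_range.1 hj
    exact pow_injOn_Iio_orderOf hi' hj' hij
  have h2 := Finset.card_le_card hsub
  have h3 : (ν.map (algebraMap F K)).roots.toFinset.card ≤ ν.natDegree :=
    (Multiset.toFinset_card_le _).trans ((card_roots' _).trans natDegree_map_le)
  omega

theorem lm_apply {F K : Type*} [Field F] [Field K] [Algebra F K] (a b : K) :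
    Algebra.lmul F K a b = a * b := by simp

theorem lm_inj {F K : Type*} [Field F] [Field K] [Algebra F K] {a b : K}
    (h : Algebra.lmul F K a = Algebra.lmul F K b) : a = b := by
  have := congrArg (fun f => f 1) h
  simpa using this

/-- Let F ⊆ K be finite fields with |F| = q and [K : F] = n ≥ 2, regard K as an n-dimensional F-vector space, and let M ≤ GL_F(K) be the Singer group of multiplications by non-zero elements of K (cyclic of order q^n − 1). Assume (n, q) ≠ (6, 2), and that it is not the case that n = 2 with q a prime such that q + 1 is a power of 2. Then every abelian subgroup of GL_F(K) of order q^n − 1 is conjugate to M. -/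
theorem result {F K : Type*} [Field F] [Fintype F] [Field K] [Fintype K] [Algebra F K] (n : ℕ) (hn : 2 ≤ n) (hdim : Module.finrank F K = n)
    (hex1 : ¬ (n = 6 ∧ Fintype.card F = 2))
    (hex2 : ¬ (n = 2 ∧ (Fintype.card F).Prime ∧ ∃ a : ℕ, Fintype.card F + 1 = 2 ^ a))
    (U : Subgroup (Module.End F K)ˣ) (hU : IsMulCommutative U) (hcard : Nat.card U = Fintype.card K - 1) :
    ∃ g : (Module.End F K)ˣ, U.map (MulAut.conj g).toMonoidHom = (Units.map ((Algebra.lmul F K : K →ₐ[F] Module.End F K) : K →* Module.End F K)).range := by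
  classical
  have hfinE : Finite (Module.End F K) :=
    Finite.of_injective (fun f : Module.End F K => (f : K → K)) DFunLike.coe_injective
  obtain ⟨p, hpchar⟩ := CharP.exists F
  haveI := hpchar
  haveI : Fact p.Prime := ⟨CharP.char_is_prime F p⟩
  obtain ⟨f, hp, hq⟩ := FiniteField.card F p
  obtain ⟨q, hqdef⟩ : ∃ q : ℕ, Fintype.card F = q := ⟨_, rfl⟩
  rw [hqdef] at hq hex1 hex2
  have hq2 : 2 ≤ q := by rw [← hqdef]; exact Fintype.one_lt_card
  have hcardK : Fintype.card K = q ^ n := by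
    rw [← Nat.card_eq_fintype_card, Module.natCard_eq_pow_finrank (K := F) (V := K), hdim,
      Nat.card_eq_fintype_card, hqdef]
  have hz2 : ¬ (n = 2 ∧ ∃ m : ℕ, q + 1 = 2 ^ m) := by
    rintro ⟨hn2, m, hm⟩
    apply hex2
    refine ⟨hn2, ?_, m, hm⟩
    have hf1 : (f : ℕ) = 1 := by
      by_contra hf1
      have hf2 : 2 ≤ (f : ℕ) := by have := f.pos; omega
      have hp2 : p ≠ 2 := by
        rintro rfl
        rw [hq] at hm
        rcases m with _ | m
        · simp at hm
        · have h1 : 2 ∣ 2 ^ (f : ℕ) := dvd_pow_self 2 (by omega)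
          have h2 : 2 ∣ 2 ^ (m + 1) := dvd_pow_self 2 (by omega)
          omega
      rw [hq] at hm
      exact pp_lemma hp hp2 hf2 hm
    rw [hq, hf1, pow_one]
    exact hp
  obtain ⟨r, hr, hrd, hrk⟩ := Cfsg.Agent.Lib.Helper2.Zsig.zsigmondy q n hq2 (by omega)
    (by rintro ⟨h1, h2⟩; exact hex1 ⟨h2, h1⟩) hz2
  haveI : Fact r.Prime := ⟨hr⟩
  have hqn1 : 1 ≤ q ^ n := Nat.one_le_pow _ _ (by omega)
  have hrq : ¬ r ∣ q := by
    intro hd
    have h1 : r ∣ (q ^ n - 1) + 1 := by
      rw [Nat.sub_add_cancel hqn1]; exact dvd_pow hd (by omega)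
    have h2 : r ∣ 1 := (Nat.dvd_add_right hrd).1 h1
    exact hr.one_lt.ne' (Nat.dvd_one.1 h2)
  have hrp : r ≠ p := by
    rintro rfl
    apply hrq
    rw [hq]
    exact dvd_pow_self _ (by have := f.pos; omega)
  have hord : orderOf ((q : ℕ) : ZMod r) = n := by
    rw [orderOf_eq_iff (by omega)]
    constructor
    · have := (ZMod.natCast_eq_zero_iff (q ^ n - 1) r).2 hrd
      rw [Nat.cast_sub hqn1, Nat.cast_pow, Nat.cast_one, sub_eq_zero] at this
      exact this
    · intro k hkn hk0 hk1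
      apply hrk k hk0 hkn
      apply (ZMod.natCast_eq_zero_iff (q ^ k - 1) r).1
      rw [Nat.cast_sub (Nat.one_le_pow _ _ (by omega)), Nat.cast_pow, Nat.cast_one, hk1, sub_self]
  -- an element of order r in U
  have hUcard : r ∣ Nat.card U := by rw [hcard, hcardK]; exact hrd
  obtain ⟨x, hx⟩ := exists_prime_orderOf_dvd_card' r hUcard
  have hxo : orderOf (x : (Module.End F K)ˣ) = r := by rw [Subgroup.orderOf_coe]; exact hx
  obtain ⟨xE, hxE⟩ : ∃ xE : Module.End F K, xE = ((x : (Module.End F K)ˣ) : Module.End F K) :=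
    ⟨_, rfl⟩
  have hxr : xE ^ r = 1 := by
    have h1 : (x : (Module.End F K)ˣ) ^ r = 1 := by rw [← hxo]; exact pow_orderOf_eq_one _
    have h2 := congrArg (fun u : (Module.End F K)ˣ => (u : Module.End F K)) h1
    rw [hxE]
    simpa using h2
  have hx1 : xE ≠ 1 := by
    intro h
    have h1 : (x : (Module.End F K)ˣ) = 1 := Units.ext (hxE ▸ h)
    rw [h1, orderOf_one] at hxo
    exact hr.one_lt.ne hxo
  let b : Module.Basis (Fin n) F K := Module.finBasisOfFinrankEq F K hdim
  let Θ : Module.End F K ≃ₐ[F] Matrix (Fin n) (Fin n) F := LinearMap.toMatrixAlgEquiv b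
  have hΘr : (Θ xE) ^ r = 1 := by rw [← map_pow, hxr, map_one]
  have hΘ1 : Θ xE ≠ 1 := fun h => hx1 (Θ.injective (by rw [h, map_one]))
  obtain ⟨hirr', hdeg'⟩ := Cfsg.Agent.S2638.minpoly_irred hqdef (by omega) hr hrp hord
    (Θ xE) hΘr hΘ1
  have hmp : minpoly F (Θ xE) = minpoly F xE := minpoly.algEquiv_eq Θ xE
  rw [hmp] at hirr' hdeg'
  obtain ⟨μ, hμ⟩ : ∃ μ : F[X], μ = minpoly F xE := ⟨_, rfl⟩
  rw [← hμ] at hirr' hdeg'
  have haeval : aeval xE μ = 0 := hμ ▸ minpoly.aeval F xE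
  have hμdvd : μ ∣ X ^ r - 1 := by
    rw [hμ]
    apply minpoly.dvd
    rw [map_sub, map_pow, aeval_X, map_one, hxr, sub_self]
  have hKcard : r ∣ Nat.card Kˣ := by
    rw [Nat.card_units, Nat.card_eq_fintype_card, hcardK]; exact hrd
  obtain ⟨ζ, hζ⟩ := exists_prime_orderOf_dvd_card' r hKcard
  have hζ' : orderOf (ζ : K) = r := by rw [orderOf_units]; exact hζ
  obtain ⟨β, hβ⟩ := exists_root hr.pos hμdvd (by omega) (ζ : K) hζ'
  have hβr : β ^ r = 1 := by
    obtain ⟨c, hc⟩ := hμdvd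
    have : aeval β (X ^ r - 1 : F[X]) = 0 := by rw [hc, map_mul, hβ, zero_mul]
    rw [map_sub, map_pow, aeval_X, map_one] at this
    exact sub_eq_zero.1 this
  have hβ0 : β ≠ 0 := by
    rintro rfl
    rw [zero_pow hr.ne_zero] at hβr
    exact zero_ne_one hβr
  have hμ0 : μ ≠ 0 := hirr'.ne_zero
  haveI : Fact (Irreducible μ) := ⟨hirr'⟩
  haveI hfin : Module.Finite F (AdjoinRoot μ) := (AdjoinRoot.powerBasis hμ0).finite
  have hfr : Module.finrank F (AdjoinRoot μ) = n := by
    rw [(AdjoinRoot.powerBasis hμ0).finrank, AdjoinRoot.powerBasis_dim, hdeg']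
  have hker₁ : ∀ a ∈ Ideal.span {μ}, aeval xE a = 0 := by
    intro a ha
    obtain ⟨c, rfl⟩ := Ideal.mem_span_singleton.1 ha
    rw [map_mul, haeval, zero_mul]
  obtain ⟨yE, hyE⟩ : ∃ yE : Module.End F K, yE = Algebra.lmul F K β := ⟨_, rfl⟩
  have haeval₂ : aeval yE μ = 0 := by
    rw [hyE, aeval_algHom_apply, hβ, map_zero]
  have hker₂ : ∀ a ∈ Ideal.span {μ}, aeval yE a = 0 := by
    intro a ha
    obtain ⟨c, rfl⟩ := Ideal.mem_span_singleton.1 ha
    rw [map_mul, haeval₂, zero_mul]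
  let φ₁ : AdjoinRoot μ →ₐ[F] Module.End F K :=
    Ideal.Quotient.liftₐ (Ideal.span {μ}) (aeval xE) hker₁
  let φ₂ : AdjoinRoot μ →ₐ[F] Module.End F K :=
    Ideal.Quotient.liftₐ (Ideal.span {μ}) (aeval yE) hker₂
  have hφ₁mk : ∀ P : F[X], φ₁ (AdjoinRoot.mk μ P) = aeval xE P := fun P => rfl
  have hφ₂mk : ∀ P : F[X], φ₂ (AdjoinRoot.mk μ P) = aeval yE P := fun P => rfl
  have hφ₁root : φ₁ (AdjoinRoot.root μ) = xE := by
    rw [← AdjoinRoot.mk_X, hφ₁mk, aeval_X]
  have hφ₂root : φ₂ (AdjoinRoot.root μ) = yE := by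
    rw [← AdjoinRoot.mk_X, hφ₂mk, aeval_X]
  have mkT : ∀ φ : AdjoinRoot μ →ₐ[F] Module.End F K,
      ∃ T : AdjoinRoot μ ≃ₗ[F] K, ∀ l, T l = φ l 1 := by
    intro φ
    let T : AdjoinRoot μ →ₗ[F] K :=
      { toFun := fun l => φ l 1
        map_add' := fun a b => by rw [map_add, LinearMap.add_apply]
        map_smul' := fun c a => by rw [map_smul, LinearMap.smul_apply, RingHom.id_apply] }
    have hTapp : ∀ l, T l = φ l 1 := fun l => rfl
    have hTinj : Function.Injective T := by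
      rw [injective_iff_map_eq_zero]
      intro l hl
      by_contra hl0
      have h1 : φ l⁻¹ * φ l = 1 := by rw [← map_mul, inv_mul_cancel₀ hl0, map_one]
      have h2 : (1 : K) = (φ l⁻¹ * φ l) 1 := by rw [h1]; rfl
      have h3 : (φ l⁻¹ * φ l) 1 = φ l⁻¹ (T l) := rfl
      rw [h3, hl, map_zero] at h2
      exact one_ne_zero h2
    have hTsurj : Function.Surjective T :=
      (LinearMap.injective_iff_surjective_of_finrank_eq_finrank (by rw [hfr, hdim])).1 hTinj
    exact ⟨LinearEquiv.ofBijective T ⟨hTinj, hTsurj⟩, fun l => rfl⟩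
  obtain ⟨T₁, hT₁⟩ := mkT φ₁
  obtain ⟨T₂, hT₂⟩ := mkT φ₂
  obtain ⟨ge, hge⟩ : ∃ ge : K ≃ₗ[F] K, ge = T₁.symm.trans T₂ := ⟨_, rfl⟩
  have hgeT : ∀ l, ge (T₁ l) = T₂ l := by
    intro l
    rw [hge]
    simp
  have hkey : ∀ v : K, ge (xE v) = β * ge v := by
    intro v
    obtain ⟨l, rfl⟩ := T₁.surjective v
    have e1 : xE (T₁ l) = T₁ (AdjoinRoot.root μ * l) := by
      rw [hT₁, hT₁, map_mul, hφ₁root]; rfl
    rw [e1, hgeT, hgeT, hT₂, hT₂, map_mul, hφ₂root, hyE]
    exact lm_apply (F := F) _ _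
  let g : (Module.End F K)ˣ :=
    ⟨(ge : K →ₗ[F] K), (ge.symm : K →ₗ[F] K), by ext v; simp, by ext v; simp⟩
  have hgapp : ∀ v, ((g : (Module.End F K)ˣ) : Module.End F K) v = ge v := fun v => rfl
  obtain ⟨y, hy⟩ : ∃ y : (Module.End F K)ˣ, y =
    Units.map ((Algebra.lmul F K : K →ₐ[F] Module.End F K) : K →* Module.End F K)
      (Units.mk0 β hβ0) := ⟨_, rfl⟩
  have hyapp : ∀ v, ((y : (Module.End F K)ˣ) : Module.End F K) v = β * v := by
    intro v
    rw [hy]
    exact lm_apply _ _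
  have hgx : g * (x : (Module.End F K)ˣ) = y * g := by
    apply Units.ext
    apply LinearMap.ext
    intro v
    rw [Units.val_mul, Units.val_mul, Module.End.mul_apply, Module.End.mul_apply, hgapp, hgapp,
      hyapp, ← hxE, hkey]
  have hconj : MulAut.conj g (x : (Module.End F K)ˣ) = y := by
    rw [MulAut.conj_apply, hgx, mul_assoc, mul_inv_cancel, mul_one]
  have hyo : orderOf y = r := by
    rw [← hconj, MulEquiv.orderOf_eq]
    exact hxo
  let Θu : (Module.End F K)ˣ ≃* GL (Fin n) F :=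
    Units.mapEquiv (Θ : Module.End F K ≃* Matrix (Fin n) (Fin n) F)
  have hΘyo : orderOf (Θu y) = r := by rw [MulEquiv.orderOf_eq]; exact hyo
  have hS := Cfsg.Agent.S2638.result hqdef (by omega : 1 ≤ n) hr hrp hord (Θu y) hΘyo
  have hcent : Nat.card ↥(Subgroup.centralizer ({y} : Set (Module.End F K)ˣ)) = q ^ n - 1 := by
    rw [← hS.2]
    apply Nat.card_congr
    exact Equiv.subtypeEquiv Θu.toEquiv (fun u => by
      rw [Subgroup.mem_centralizer_singleton_iff, Subgroup.mem_centralizer_singleton_iff]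
      change _ ↔ Θu u * Θu y = Θu y * Θu u
      rw [← map_mul, ← map_mul, Θu.injective.eq_iff])
  have hUle : U.map (MulAut.conj g).toMonoidHom ≤
      Subgroup.centralizer ({y} : Set (Module.End F K)ˣ) := by
    rintro _ ⟨u, hu, rfl⟩
    rw [Subgroup.mem_centralizer_singleton_iff, ← hconj]
    change MulAut.conj g u * MulAut.conj g x = MulAut.conj g x * MulAut.conj g u
    rw [← map_mul, ← map_mul]
    congr 1
    have h1 : (⟨u, hu⟩ : U) * x = x * ⟨u, hu⟩ := hU.is_comm.comm _ _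
    exact congrArg Subtype.val h1
  have hMle : (Units.map ((Algebra.lmul F K : K →ₐ[F] Module.End F K) :
      K →* Module.End F K)).range ≤ Subgroup.centralizer ({y} : Set (Module.End F K)ˣ) := by
    rintro _ ⟨c, rfl⟩
    rw [Subgroup.mem_centralizer_singleton_iff, hy, ← map_mul, ← map_mul, mul_comm]
  have hMcard : Nat.card ↥(Units.map ((Algebra.lmul F K : K →ₐ[F] Module.End F K) :
      K →* Module.End F K)).range = q ^ n - 1 := by
    have hinj : Function.Injective (Units.map ((Algebra.lmul F K : K →ₐ[F] Module.End F K) :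
        K →* Module.End F K)) := by
      apply Units.map_injective
      intro a b h
      exact lm_inj h
    rw [← Nat.card_congr (MonoidHom.ofInjective hinj).toEquiv, Nat.card_units,
      Nat.card_eq_fintype_card, hcardK]
  have h1 : U.map (MulAut.conj g).toMonoidHom =
      Subgroup.centralizer ({y} : Set (Module.End F K)ˣ) :=
    Subgroup.eq_of_le_of_card_ge hUle (by
      rw [hcent, Subgroup.card_map_of_injective (MulAut.conj g).injective, hcard, hcardK])
  have h2 : (Units.map ((Algebra.lmul F K : K →ₐ[F] Module.End F K) :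
      K →* Module.End F K)).range = Subgroup.centralizer ({y} : Set (Module.End F K)ˣ) :=
    Subgroup.eq_of_le_of_card_ge hMle (by rw [hcent, hMcard])
  exact ⟨g, h1.trans h2.symm⟩


end Cfsg.Agent.S5947
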