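import Cfsg.Statements.S5952

set_option autoImplicit false
open Cfsg

namespace Cfsg.Agent.S5952


section S5952aux
set_option linter.unusedSectionVars false
variable {F V : Type*} [Field F] [AddCommGroup V] [Module F V] [FiniteDimensional F V]

/-- chain `B ≤ B ⊔ U 0 ≤ B ⊔ U 0 ⊔ U 1 ≤ ...` -/
def s5952_ch {s : ℕ} (U : Fin s → Submodule F V) (B : Submodule F V) : ℕ → Submodule F V
  | 0 => B
  | (k+1) => if h : k < s then s5952_ch U B k ⊔ U ⟨k, h⟩ else s5952_ch U B k

theorem s5952_ch_zero {s : ℕ} (U : Fin s → Submodule F V) (B : Submodule F V) :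
    s5952_ch U B 0 = B := rfl

theorem s5952_ch_succ {s : ℕ} (U : Fin s → Submodule F V) (B : Submodule F V) (k : ℕ) :
    s5952_ch U B (k+1) = if h : k < s then s5952_ch U B k ⊔ U ⟨k, h⟩ else s5952_ch U B k := rfl

theorem s5952_ch_mono {s : ℕ} (U : Fin s → Submodule F V) {B B' : Submodule F V} (h : B ≤ B')
    (k : ℕ) : s5952_ch U B k ≤ s5952_ch U B' k := by
  induction k with
  | zero => exact h
  | succ k ih =>
    rw [s5952_ch_succ, s5952_ch_succ]
    split_ifs with hk
    · exact sup_le_sup_right ih _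
    · exact ih

theorem s5952_ch_le_succ {s : ℕ} (U : Fin s → Submodule F V) (B : Submodule F V) (k : ℕ) :
    s5952_ch U B k ≤ s5952_ch U B (k+1) := by
  rw [s5952_ch_succ]; split_ifs with h
  · exact le_sup_left
  · exact le_rfl

theorem s5952_ch_le_of_le {s : ℕ} (U : Fin s → Submodule F V) (B : Submodule F V) {k k' : ℕ}
    (h : k ≤ k') : s5952_ch U B k ≤ s5952_ch U B k' := by
  induction h with
  | refl => exact le_rfl
  | step h ih => exact ih.trans (s5952_ch_le_succ U B _)

theorem s5952_U_le {s : ℕ} (U : Fin s → Submodule F V) (B : Submodule F V) (j : Fin s) :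
    U j ≤ s5952_ch U B (j.val + 1) := by
  rw [s5952_ch_succ, dif_pos j.isLt]; exact le_sup_right

theorem s5952_ch_inv (f : V →ₗ[F] V) {s : ℕ} (U : Fin s → Submodule F V)
    (hU : ∀ j, (U j).map f ≤ U j) {B : Submodule F V} (hB : B.map f ≤ B) (k : ℕ) :
    (s5952_ch U B k).map f ≤ s5952_ch U B k := by
  induction k with
  | zero => exact hB
  | succ k ih =>
    rw [s5952_ch_succ]
    split_ifs with hk
    · rw [Submodule.map_sup]; exact sup_le_sup ih (hU _)
    · exact ih

theorem s5952_ch_le_iSup {s : ℕ} (U : Fin s → Submodule F V) (E : Submodule F V) (k : ℕ)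
    (j : Fin s) (hkj : k ≤ j.val) :
    s5952_ch U E k ≤ ⨆ (o : Option (Fin s)) (_ : o ≠ some j), (o.elim E U) := by
  induction k with
  | zero =>
    rw [s5952_ch_zero]
    exact le_iSup₂_of_le (none : Option (Fin s)) (by simp) le_rfl
  | succ k ih =>
    rw [s5952_ch_succ]
    split_ifs with hk
    · refine sup_le (ih (by omega)) ?_
      refine le_iSup₂_of_le (some ⟨k, hk⟩) ?_ le_rfl
      intro h
      have h2 := congrArg Fin.val (Option.some.inj h)
      simp at h2
      omega
    · exact ih (by omega)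

theorem s5952_ch_finrank {s a : ℕ} (U : Fin s → Submodule F V) (E : Submodule F V)
    (hind : iSupIndep (fun o : Option (Fin s) => o.elim E U))
    (hUdim : ∀ j, Module.finrank F ↥(U j) = a) {B : Submodule F V} (hB : B ≤ E) (k : ℕ)
    (hk : k ≤ s) :
    Module.finrank F ↥(s5952_ch U B k) = Module.finrank F ↥B + a * k := by
  induction k with
  | zero => rw [s5952_ch_zero, Nat.mul_zero, Nat.add_zero]
  | succ k ih =>
    have hks : k < s := hk
    rw [s5952_ch_succ, dif_pos hks]
    have hdis : s5952_ch U B k ⊓ U ⟨k, hks⟩ = ⊥ := by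
      have h1 : s5952_ch U B k ≤ ⨆ (o : Option (Fin s)) (_ : o ≠ some ⟨k, hks⟩), (o.elim E U) :=
        (s5952_ch_mono U hB k).trans (s5952_ch_le_iSup U E k ⟨k, hks⟩ le_rfl)
      exact ((hind (some ⟨k, hks⟩)).symm.mono_left h1).eq_bot
    have h3 := Submodule.finrank_sup_add_finrank_inf_eq (s5952_ch U B k) (U ⟨k, hks⟩)
    rw [hdis, ih (by omega), hUdim] at h3
    simp only [finrank_bot] at h3
    rw [Nat.mul_succ]; omega

theorem s5952_fwd (f : V →ₗ[F] V) {s a : ℕ} (U : Fin s → Submodule F V)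
    (hUinv : ∀ j, (U j).map f ≤ U j) (hUdim : ∀ j, Module.finrank F ↥(U j) = a)
    (hUirr : ∀ j, ∀ W : Submodule F V, W ≤ U j → W.map f ≤ W → W = ⊥ ∨ W = U j)
    (E : Submodule F V) (hE : E.map f ≤ E)
    (hind : iSupIndep (fun o : Option (Fin s) => o.elim E U))
    (W : Submodule F V) (hW : W.map f ≤ W) (k : ℕ) (hk : k ≤ s) :
    ∃ t : ℕ, Module.finrank F ↥(W ⊓ s5952_ch U E k) = Module.finrank F ↥(W ⊓ E) + a * t := by
  induction k with
  | zero => exact ⟨0, by rw [s5952_ch_zero, Nat.mul_zero, Nat.add_zero]⟩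
  | succ k ih =>
    have hks : k < s := hk
    obtain ⟨t, ht⟩ := ih (by omega)
    rw [s5952_ch_succ, dif_pos hks]
    obtain ⟨Vk, hVk⟩ : ∃ Vk, Vk = s5952_ch U E k := ⟨_, rfl⟩
    obtain ⟨Uk, hUk⟩ : ∃ Uk, Uk = U ⟨k, hks⟩ := ⟨_, rfl⟩
    rw [← hVk] at ht
    rw [← hVk, ← hUk]
    obtain ⟨X, hX⟩ : ∃ X, X = W ⊓ (Vk ⊔ Uk) := ⟨_, rfl⟩
    rw [← hX]
    have hVkinv : Vk.map f ≤ Vk := by rw [hVk]; exact s5952_ch_inv f U hUinv hE k
    have hUkinv : Uk.map f ≤ Uk := by rw [hUk]; exact hUinv _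
    have hXW : X ≤ W := by rw [hX]; exact inf_le_left
    have hXle : X ≤ Vk ⊔ Uk := by rw [hX]; exact inf_le_right
    have hVUinv : (Vk ⊔ Uk).map f ≤ Vk ⊔ Uk := by
      rw [Submodule.map_sup]; exact sup_le_sup hVkinv hUkinv
    have hXinv : X.map f ≤ X := by
      rw [hX]
      exact le_inf ((Submodule.map_mono inf_le_left).trans hW)
        ((Submodule.map_mono inf_le_right).trans hVUinv)
    obtain ⟨Y, hY⟩ : ∃ Y, Y = Uk ⊓ (X ⊔ Vk) := ⟨_, rfl⟩
    have hYU : Y ≤ Uk := by rw [hY]; exact inf_le_left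
    have hXVinv : (X ⊔ Vk).map f ≤ X ⊔ Vk := by
      rw [Submodule.map_sup]; exact sup_le_sup hXinv hVkinv
    have hYinv : Y.map f ≤ Y := by
      rw [hY]
      exact le_inf ((Submodule.map_mono inf_le_left).trans hUkinv)
        ((Submodule.map_mono inf_le_right).trans hXVinv)
    have hdis : Vk ⊓ Uk = ⊥ := by
      have h1 : Vk ≤ ⨆ (o : Option (Fin s)) (_ : o ≠ some ⟨k, hks⟩), (o.elim E U) := by
        rw [hVk]; exact s5952_ch_le_iSup U E k ⟨k, hks⟩ le_rfl
      rw [hUk]
      exact ((hind (some ⟨k, hks⟩)).symm.mono_left h1).eq_bot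
    have hVY : Vk ⊔ Y = X ⊔ Vk := by
      rw [hY, ← sup_inf_assoc_of_le Uk (le_sup_right : Vk ≤ X ⊔ Vk)]
      exact inf_eq_right.mpr (sup_le hXle le_sup_left)
    have hVYdis : Vk ⊓ Y = ⊥ := by
      refine le_bot_iff.mp ?_
      rw [← hdis]; exact inf_le_inf_left _ hYU
    have hXV : X ⊓ Vk = W ⊓ Vk := by
      rw [hX, inf_assoc, inf_eq_right.mpr (le_sup_left : Vk ≤ Vk ⊔ Uk)]
    have e1 := Submodule.finrank_sup_add_finrank_inf_eq X Vk
    have e2 := Submodule.finrank_sup_add_finrank_inf_eq Vk Y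
    rw [hVY, hVYdis] at e2
    rw [hXV] at e1
    simp only [finrank_bot] at e2
    rcases hUirr ⟨k, hks⟩ Y (by rw [← hUk]; exact hYU) hYinv with h | h
    · refine ⟨t, ?_⟩
      rw [h] at e2; simp only [finrank_bot] at e2
      omega
    · refine ⟨t + 1, ?_⟩
      rw [h, hUdim] at e2
      rw [Nat.mul_succ]; omega

theorem s5952_exists_sub (E : Submodule F V) (r : ℕ) (hr : r ≤ Module.finrank F ↥E) :
    ∃ B : Submodule F V, B ≤ E ∧ Module.finrank F ↥B = r := by
  let b := Module.finBasis F ↥E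
  have h1 : LinearIndependent F (fun i : Fin r => b (Fin.castLE hr i)) :=
    b.linearIndependent.comp _ (Fin.castLE_injective hr)
  have hli : LinearIndependent F (fun i : Fin r => ((b (Fin.castLE hr i) : ↥E) : V)) :=
    h1.map' E.subtype (Submodule.ker_subtype E)
  refine ⟨Submodule.span F (Set.range (fun i : Fin r => ((b (Fin.castLE hr i) : ↥E) : V))), ?_, ?_⟩
  · rw [Submodule.span_le]; rintro _ ⟨i, rfl⟩; exact (b (Fin.castLE hr i)).2
  · rw [finrank_span_eq_card hli, Fintype.card_fin]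

end S5952aux

/-- Which dimensions of invariant subspaces a semisimple linear map has. Let `V` be a finite-dimensional vector space over a field `F` and `f` an invertible semisimple linear map of `V`. Suppose `V` is the internal direct sum of the fixed space `C_V(f)` (the eigenspace for 1) and subspaces `U_1, …, U_s`, each `f`-invariant of dimension `a ≥ 1` on which `f` acts irreducibly (no `f`-invariant subspaces other than 0 and `U_j`). Let `0 < m < dim V` and `ℓ = m mod a`. Then `f` leaves some `m`-dimensional subspace invariant if and only if `dim C_V(f) ≥ m`, or `a ≤ m` and `dim C_V(f) ≥ ℓ`. -/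
theorem result {F V : Type*} [Field F] [AddCommGroup V] [Module F V]
    [FiniteDimensional F V] (f : V →ₗ[F] V) (hf : Function.Bijective f) (hss : Module.End.IsSemisimple f)
    {s a : ℕ} (ha : 1 ≤ a) (U : Fin s → Submodule F V)
    (hUinv : ∀ j, (U j).map f ≤ U j) (hUdim : ∀ j, Module.finrank F ↥(U j) = a)
    (hUirr : ∀ j, ∀ W : Submodule F V, W ≤ U j → W.map f ≤ W → W = ⊥ ∨ W = U j)
    (hdec : DirectSum.IsInternal (fun o : Option (Fin s) => o.elim (Module.End.eigenspace f 1) U))
    (m : ℕ) (hm : 0 < m) (hmV : m < Module.finrank F V) :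
    (∃ W : Submodule F V, Module.finrank F ↥W = m ∧ W.map f ≤ W) ↔
    (m ≤ Module.finrank F ↥(Module.End.eigenspace f 1) ∨
      (a ≤ m ∧ m % a ≤ Module.finrank F ↥(Module.End.eigenspace f 1))) := by
  classical
  obtain ⟨E, hE⟩ : ∃ E, E = Module.End.eigenspace f 1 := ⟨_, rfl⟩
  rw [← hE] at hdec ⊢
  have hind := hdec.submodule_iSupIndep
  have htop := hdec.submodule_iSup_eq_top
  have hEfix : ∀ x ∈ E, f x = x := fun x hx => by
    rw [hE] at hx
    have h := Module.End.mem_eigenspace_iff.mp hx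
    rwa [one_smul] at h
  have hsubinv : ∀ B : Submodule F V, B ≤ E → B.map f ≤ B := by
    rintro B hB _ ⟨x, hx, rfl⟩
    rw [hEfix x (hB hx)]; exact hx
  have hEinv := hsubinv E le_rfl
  have hchtop : s5952_ch U E s = ⊤ := by
    rw [eq_top_iff, ← htop]
    refine iSup_le ?_
    rintro (_ | j)
    · exact (s5952_ch_le_of_le U E (Nat.zero_le s))
    · exact (s5952_U_le U E j).trans (s5952_ch_le_of_le U E j.isLt)
  have hV : Module.finrank F V = Module.finrank F ↥E + a * s := by
    have h := s5952_ch_finrank U E hind hUdim (le_refl E) s le_rfl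
    rw [hchtop, finrank_top] at h
    exact h
  constructor
  · rintro ⟨W, hWm, hWinv⟩
    obtain ⟨t, ht⟩ := s5952_fwd f U hUinv hUdim hUirr E hEinv hind W hWinv s le_rfl
    rw [hchtop, inf_top_eq, hWm] at ht
    have hle : Module.finrank F ↥(W ⊓ E) ≤ Module.finrank F ↥E := Submodule.finrank_mono inf_le_right
    rcases Nat.eq_zero_or_pos t with h0 | hpos
    · left; rw [h0] at ht; omega
    · right
      have h1 : a ≤ a * t := Nat.le_mul_of_pos_right a hpos
      refine ⟨by omega, ?_⟩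
      rw [ht, Nat.add_mul_mod_self_left]
      exact (Nat.mod_le _ _).trans hle
  · rintro (hle | ⟨ham, hmod⟩)
    · obtain ⟨B, hBE, hBr⟩ := s5952_exists_sub E m hle
      exact ⟨B, hBr, hsubinv B hBE⟩
    · have hdm := Nat.div_add_mod m a
      by_cases hq : m / a ≤ s
      · obtain ⟨B, hBE, hBr⟩ := s5952_exists_sub E (m % a) hmod
        refine ⟨s5952_ch U B (m / a), ?_, s5952_ch_inv f U hUinv (hsubinv B hBE) _⟩
        rw [s5952_ch_finrank U E hind hUdim hBE _ hq, hBr]; omega
      · have h1 : a * s ≤ a * (m / a) := Nat.mul_le_mul_left a (by omega)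
        have h2 : a * (m / a) ≤ m := Nat.mul_div_le m a
        obtain ⟨B, hBE, hBr⟩ := s5952_exists_sub E (m - a * s) (by omega)
        refine ⟨s5952_ch U B s, ?_, s5952_ch_inv f U hUinv (hsubinv B hBE) _⟩
        rw [s5952_ch_finrank U E hind hUdim hBE s le_rfl, hBr]; omega

end Cfsg.Agent.S5952
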